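import Cfsg.Agent.Golay.LeechHS
import Cfsg.Agent.Golay.LeechMcLData

/-! The 275 vectors of a McLaughlin pair, by orbit certificates. -/

set_option autoImplicit false
set_option maxRecDepth 20000

namespace Cfsg.Agent.Golay

open scoped Pointwise

/-- One letter of a word. -/
def opFun (op : Bool × ℕ × ℕ) (x : GolayPt → ℤ) : GolayPt → ℤ :=
  bif op.1 then orthStep op.2 x else fun i => (if op.2.2.testBit (idx i) then -1 else 1) * x (permFun op.2.1 i)

theorem opFun_elem {op : Bool × ℕ × ℕ} (hop : orthOK [op.2] = true) :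
    ∃ g : ↥Co0, g • hsX = hsX ∧ ∀ v : ↥leechLattice, ((g • v : ↥leechLattice) : GolayPt → ℤ) = opFun op v := by
  simp only [orthOK, List.all_cons, List.all_nil, Bool.and_eq_true, decide_eq_true_eq, Bool.not_eq_true',
    and_true] at hop
  obtain ⟨⟨⟨⟨⟨h1, h2⟩, h3⟩, h4⟩, h5⟩, h6⟩ := hop
  obtain ⟨hA, hC, hu, -⟩ := theta_ok
  have hp := permOf_apply (permOK_of_isAut h1)
  let m : ↥Co0 := monoEl 1 (one_mem _) (bset op.2.2) (bset_mem_supports h2) *
    monoEl (permOf op.2.1)⁻¹ (inv_mem (permOf_mem_M24 h1)) ∅ empty_mem_supports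
  let th : ↥Co0 := monoEl (permOf thetaPerm)⁻¹ (inv_mem (permOf_mem_M24 hA)) ∅ empty_mem_supports *
    (monoEl 1 (one_mem _) _ (bset_mem_supports hC) * etaEl)
  have hm : ∀ v : ↥leechLattice, ((m • v : ↥leechLattice) : GolayPt → ℤ) =
      fun i => (if op.2.2.testBit (idx i) then -1 else 1) * (v : GolayPt → ℤ) (permFun op.2.1 i) := fun v =>
    funext fun i => by
      simp only [m, mul_smul, monoEl_apply, signedPerm_eq, sgnOf, Finset.notMem_empty, if_false, one_mul,
        Equiv.Perm.inv_def, Equiv.symm_symm, mem_bset, hp]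
      rfl
  have hth : ∀ v : ↥leechLattice, ((th • v : ↥leechLattice) : GolayPt → ℤ) = thetaFun v := fun v =>
    funext fun i => by
      simp only [th]
      rw [mul_smul, mul_smul, monoEl_apply, signedPerm_eq, monoEl_apply, signedPerm_eq]
      simp only [sgnOf, Finset.notMem_empty, if_false, one_mul, Equiv.Perm.inv_def, Equiv.symm_symm, mem_bset,
        permOf_apply (permOK_of_isAut hA), thetaFun]
      rfl
  have hmX : m • hsX = hsX := Subtype.ext (funext fun i => by
    rw [hm]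
    show (if op.2.2.testBit (idx i) then -1 else 1) * uVec (permFun op.2.1 i) = uVec i
    have e : ∀ a, permFun op.2.1 a = a → (permFun op.2.1 i = a ↔ i = a) := fun a ha =>
      ⟨fun e => (permFun_bijective (permOK_of_isAut h1)).1 (e.trans ha.symm), fun e => e ▸ ha⟩
    simp only [uVec, fourVec, List.mem_cons, List.not_mem_nil, or_false, e _ h3, e _ h4]
    by_cases a : i = none
    · subst a; simp [h5]
    · by_cases b : i = pt 0
      · subst b; simp [h6]
      · simp [a, b])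
  cases hf : op.1
  · exact ⟨m, hmX, fun v => by rw [hm, opFun, hf]; rfl⟩
  · refine ⟨th * m, ?_, fun v => ?_⟩
    · rw [mul_smul, hmX]
      exact Subtype.ext ((hth hsX).trans (funext hu))
    · rw [mul_smul, hth, hm, opFun, hf]
      rfl

/-- Materialized values. -/
def matl (x : GolayPt → ℤ) : List ℤ := (List.range 24).map fun i => x (pt i)

/-- A vector from its values. -/
def listVec (l : List ℤ) : GolayPt → ℤ := fun i => l.getD (idx i) 0

theorem listVec_matl (x : GolayPt → ℤ) : listVec (matl x) = x := funext fun i => by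
  simp [listVec, matl, List.getD_eq_getElem?_getD, idx_lt i, pt_idx]

/-- A word applied to values. -/
def wordList (w : List (Bool × ℕ × ℕ)) (l : List ℤ) : List ℤ := w.foldl (fun l op => matl (opFun op (listVec l))) l

theorem wordList_matl : ∀ (w : List (Bool × ℕ × ℕ)) (x : GolayPt → ℤ),
    wordList w (matl x) = matl (w.foldl (fun y op => opFun op y) x)
  | [], _ => rfl
  | op :: w, x => by
    show wordList w (matl (opFun op (listVec (matl x)))) = _
    rw [listVec_matl, wordList_matl w]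
    rfl

theorem word_elem : ∀ (w : List (Bool × ℕ × ℕ)), (w.all fun op => orthOK [op.2]) = true →
    ∃ g : ↥Co0, g • hsX = hsX ∧ ∀ v : ↥leechLattice,
      ((g • v : ↥leechLattice) : GolayPt → ℤ) = w.foldl (fun y op => opFun op y) v
  | [], _ => ⟨1, one_smul _ _, fun v => by rw [one_smul]; rfl⟩
  | op :: w, h => by
    rw [List.all_cons, Bool.and_eq_true] at h
    obtain ⟨a, a1, a2⟩ := opFun_elem h.1
    obtain ⟨b, b1, b2⟩ := word_elem w h.2
    exact ⟨b * a, by rw [mul_smul, a1, b1], fun v => by rw [mul_smul, b2, a2]; rfl⟩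

/-- A packed vector. -/
def numVec (N : ℕ) : GolayPt → ℤ := fun i => (((N >>> (4 * idx i)) &&& 15 : ℕ) : ℤ) - 8

/-- Packing. -/
def packVec (x : GolayPt → ℤ) : ℕ := ((List.range 24).map fun i => (x (pt i) + 8).toNat * 16 ^ i).sum

/-- The generators fix the given vectors. -/
def gensOK (gens : List (List (Bool × ℕ × ℕ))) (fixd : List (GolayPt → ℤ)) : Bool :=
  gens.all fun w => (w.all fun op => orthOK [op.2]) && fixd.all fun x => wordList w (matl x) == matl x

/-- The table is a spanning tree. -/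
def treeOK (gens : List (List (Bool × ℕ × ℕ))) (tab : List (ℕ × ℕ × ℕ)) : Bool :=
  (List.range tab.length).all fun k =>
    packVec (numVec (tab.getD k (0, 0, 0)).1) == (tab.getD k (0, 0, 0)).1 && (k == 0 ||
      decide ((tab.getD k (0, 0, 0)).2.1 < k) &&
        wordList (gens.getD (tab.getD k (0, 0, 0)).2.2 [])
          (matl (numVec (tab.getD (tab.getD k (0, 0, 0)).2.1 (0, 0, 0)).1)) ==
          matl (numVec (tab.getD k (0, 0, 0)).1))

/-- Automorphisms fixing the given vectors. -/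
def FixAll (fixd : List ↥leechLattice) (g : ↥Co0) : Prop := g • hsX = hsX ∧ ∀ x ∈ fixd, g • x = x

theorem tree_reach {gens : List (List (Bool × ℕ × ℕ))} {fixd : List ↥leechLattice}
    {tab : List (ℕ × ℕ × ℕ)} (hg : gensOK gens (fixd.map Subtype.val) = true)
    (ht : treeOK gens tab = true) (root : ↥leechLattice)
    (hr : (root : GolayPt → ℤ) = numVec (tab.getD 0 (0, 0, 0)).1) :
    ∃ A : Set ↥leechLattice, A.ncard = (tab.map Prod.fst).dedup.length ∧
      ∀ a ∈ A, ∃ g, FixAll fixd g ∧ g • root = a := by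
  simp only [treeOK, List.all_eq_true, List.mem_range, Bool.and_eq_true, Bool.or_eq_true, beq_iff_eq,
    decide_eq_true_eq] at ht
  simp only [gensOK, List.all_eq_true, Bool.and_eq_true, beq_iff_eq, List.mem_map, forall_exists_index, and_imp,
    forall_apply_eq_imp_iff₂] at hg
  have hgen : ∀ j, ∃ g, FixAll fixd g ∧ ∀ v : ↥leechLattice,
      matl ((g • v : ↥leechLattice) : GolayPt → ℤ) = wordList (gens.getD j []) (matl v) := by
    intro j
    by_cases hj : j < gens.length
    · have hm : gens.getD j [] ∈ gens := by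
        simpa [List.getD_eq_getElem?_getD, hj] using List.getElem_mem hj
      obtain ⟨h1, h2⟩ := hg _ hm
      obtain ⟨g, g1, g2⟩ := word_elem (gens.getD j []) (List.all_eq_true.2 h1)
      refine ⟨g, ⟨g1, fun x hx => Subtype.ext ?_⟩, fun v => by rw [wordList_matl, g2]⟩
      rw [g2, ← listVec_matl (List.foldl _ _ _), ← wordList_matl, h2 x hx, listVec_matl]
    · refine ⟨1, ⟨one_smul _ _, fun x _ => one_smul _ _⟩, fun v => ?_⟩
      rw [one_smul, List.getD_eq_default _ _ (by omega)]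
      rfl
  have hreach : ∀ k < tab.length, ∃ g, FixAll fixd g ∧
      ((g • root : ↥leechLattice) : GolayPt → ℤ) = numVec (tab.getD k (0, 0, 0)).1 := by
    intro k
    induction k using Nat.strong_induction_on with
    | _ k ih =>
      intro hk
      rcases (ht k hk).2 with rfl | ⟨hlt, hstep⟩
      · exact ⟨1, ⟨one_smul _ _, fun x _ => one_smul _ _⟩, by rw [one_smul, hr]⟩
      obtain ⟨a, a1, a2⟩ := ih _ hlt (hlt.trans hk)
      obtain ⟨b, b1, b2⟩ := hgen (tab.getD k (0, 0, 0)).2.2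
      refine ⟨b * a, ⟨by rw [mul_smul, a1.1, b1.1], fun x hx => by rw [mul_smul, a1.2 x hx, b1.2 x hx]⟩, ?_⟩
      have := b2 (a • root)
      rw [a2, hstep] at this
      rw [mul_smul, ← listVec_matl ((b • a • root : ↥leechLattice) : GolayPt → ℤ), this, listVec_matl]
  classical
  obtain ⟨F, hF⟩ : ∃ F : Finset (GolayPt → ℤ), F = (tab.map Prod.fst).toFinset.image numVec := ⟨_, rfl⟩
  refine ⟨{a | (a : GolayPt → ℤ) ∈ F}, ?_, ?_⟩
  · have e : Subtype.val '' {a : ↥leechLattice | (a : GolayPt → ℤ) ∈ F} = ↑F := by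
      refine Set.Subset.antisymm (fun _ ⟨a, ha, e⟩ => e ▸ ha) fun x hx => ?_
      have hx' := hx
      rw [Finset.mem_coe, hF, Finset.mem_image] at hx
      obtain ⟨N, hN, rfl⟩ := hx
      obtain ⟨⟨N', r⟩, hp, rfl⟩ := List.mem_map.1 (List.mem_toFinset.1 hN)
      obtain ⟨k, hk, hke⟩ := List.getElem_of_mem hp
      obtain ⟨g, -, g2⟩ := hreach k hk
      rw [List.getD_eq_getElem _ _ hk, hke] at g2
      exact ⟨g • root, by simp only [Set.mem_ofPred_eq]; rw [g2]; exact hx', g2⟩
    rw [← Set.ncard_image_of_injective _ Subtype.coe_injective, e, Set.ncard_coe_finset, hF,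
      Finset.card_image_of_injOn, List.card_toFinset]
    intro N hN M hM hNM
    have hrt : ∀ N ∈ (tab.map Prod.fst).toFinset, packVec (numVec N) = N := fun N hN => by
      obtain ⟨⟨N', r⟩, hp, rfl⟩ := List.mem_map.1 (List.mem_toFinset.1 hN)
      obtain ⟨k, hk, hke⟩ := List.getElem_of_mem hp
      have := (ht k hk).1
      rwa [List.getD_eq_getElem _ _ hk, hke] at this
    rw [← hrt N hN, ← hrt M hM, hNM]
  · intro a ha
    rw [Set.mem_ofPred_eq, hF, Finset.mem_image] at ha
    obtain ⟨N, hN, hNa⟩ := ha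
    obtain ⟨⟨N', r⟩, hp, rfl⟩ := List.mem_map.1 (List.mem_toFinset.1 hN)
    obtain ⟨k, hk, hke⟩ := List.getElem_of_mem hp
    obtain ⟨g, g1, g2⟩ := hreach k hk
    rw [List.getD_eq_getElem _ _ hk, hke] at g2
    exact ⟨g, g1, Subtype.ext (g2.trans hNa)⟩

/-- The base vector. -/
def mclX : ↥leechLattice := ⟨fourVec [none, pt 1] 4, leechTest_sound (by decide +kernel)⟩

/-- A vector at inner product eight. -/
def mclY8 : ↥leechLattice := ⟨numVec (mclNear.getD 0 (0, 0, 0)).1, leechTest_sound (by decide +kernel)⟩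

/-- A vector at inner product sixteen. -/
def mclY16 : ↥leechLattice := ⟨numVec (mclFar.getD 0 (0, 0, 0)).1, leechTest_sound (by decide +kernel)⟩

theorem mclGens_ok : gensOK mclGens [(hsV : GolayPt → ℤ)] = true := by decide +kernel

theorem mclKGens_ok : gensOK mclKGens [(hsV : GolayPt → ℤ), (mclX : GolayPt → ℤ)] = true := by decide +kernel

theorem mclAll_ok : treeOK mclGens mclAll = true := by decide +kernel

theorem mclNear_ok : treeOK mclKGens mclNear = true := by decide +kernel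

theorem mclFar_ok : treeOK mclKGens mclFar = true := by decide +kernel

theorem mcl_lengths : (mclAll.map Prod.fst).dedup.length = 275 ∧ (mclNear.map Prod.fst).dedup.length = 112 ∧
    (mclFar.map Prod.fst).dedup.length = 162 ∧
    (mclX : GolayPt → ℤ) = numVec (mclAll.getD 0 (0, 0, 0)).1 := by decide +kernel

/-- The vectors of a pair. -/
def mclSet (u v : ↥leechLattice) : Set ↥leechLattice :=
  {x | sqNorm (x : GolayPt → ℤ) = 32 ∧ sqNorm ((u - x) : GolayPt → ℤ) = 32 ∧
    dotInt (v : GolayPt → ℤ) (x : GolayPt → ℤ) = 16}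

theorem mcl_mem_iff (x : ↥leechLattice) : x ∈ mclSet hsV hsX ↔ sqNorm (x : GolayPt → ℤ) = 32 ∧
    ∑ i, (x : GolayPt → ℤ) i = 24 - 4 * (x : GolayPt → ℤ) none ∧
    (x : GolayPt → ℤ) (pt 0) = 4 - (x : GolayPt → ℤ) none := by
  show (_ ∧ sqNorm (peakVec none 5 - (x : GolayPt → ℤ)) = 32 ∧ dotInt uVec _ = 16) ↔ _
  rw [sqNorm_sub', tgt_facts.2.2.2.2.2.1, dot_peak, uVec_dot]
  omega

theorem mcl_values : ∀ k ∈ List.range 11, sumVecFormula 32 (24 - 4 * ((k : ℤ) - 5))
    [(none, (k : ℤ) - 5), (pt 0, 4 - ((k : ℤ) - 5))] tab2 =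
    if k = 7 then 77 else if k = 8 then 176 else if k = 9 then 22 else 0 := by decide +kernel

theorem mcl_total : (mclSet hsV hsX).ncard = 275 := by
  classical
  have hfin : (mclSet hsV hsX).Finite := by
    refine Set.Finite.of_finite_image ((Set.Finite.pi (t := fun _ : GolayPt => Set.Icc (-8 : ℤ) 8)
      fun _ => Set.finite_Icc _ _).subset ?_) Subtype.coe_injective.injOn
    rintro _ ⟨x, hx, rfl⟩
    exact Set.mem_pi.2 fun i _ => abs_le.1 (abs_le_eight (x := (x : GolayPt → ℤ)) (by have := hx.1; omega) i)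
  obtain ⟨F, hF⟩ : ∃ F : Finset ↥leechLattice, F = hfin.toFinset := ⟨_, rfl⟩
  rw [Set.ncard_eq_toFinset_card _ hfin, ← hF,
    Finset.card_eq_sum_card_fiberwise (f := fun x : ↥leechLattice => (x : GolayPt → ℤ) none)
      (t := ((List.range 11).map fun k : ℕ => (k : ℤ) - 5).toFinset) (fun x hx => ?_),
    List.sum_toFinset _ ((List.nodup_range).map fun a b h => by simpa using h), List.map_map]
  · refine Eq.trans (congrArg List.sum (List.map_congr_left (g := fun k : ℕ => sumVecFormula 32 (24 - 4 * ((k : ℤ) - 5))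
      [(none, (k : ℤ) - 5), (pt 0, 4 - ((k : ℤ) - 5))] tab2) fun k hk => ?_)) ?_
    rotate_left
    · rw [List.map_congr_left mcl_values]
      decide +kernel
    simp only [Function.comp_apply]
    rw [List.mem_range] at hk
    rw [← pair_sum_census _ _ _ (by omega) (by omega), ← Set.ncard_coe_finset,
      ← Set.ncard_image_of_injective _ Subtype.coe_injective]
    congr 1
    ext y
    constructor
    · rintro ⟨x, hx, rfl⟩
      rw [Finset.mem_coe, Finset.mem_filter, hF, Set.Finite.mem_toFinset, mcl_mem_iff] at hx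
      obtain ⟨⟨h1, h2, h3⟩, h4⟩ := hx
      exact ⟨x.2, h1, h2.trans (by rw [h4]), h4, h3.trans (by rw [h4])⟩
    · rintro ⟨hy, h1, h2, h3, h4⟩
      refine ⟨⟨y, hy⟩, ?_, rfl⟩
      rw [Finset.mem_coe, Finset.mem_filter, hF, Set.Finite.mem_toFinset, mcl_mem_iff]
      exact ⟨⟨h1, by rw [h2]; simp only [h3], by simp only [h3, h4]⟩, h3⟩
  · rw [hF, Set.Finite.coe_toFinset, mcl_mem_iff] at hx
    have h1 : (x : GolayPt → ℤ) none ^ 2 ≤ sqNorm (x : GolayPt → ℤ) :=
      Finset.single_le_sum (f := fun j => (x : GolayPt → ℤ) j ^ 2) (fun j _ => sq_nonneg _) (Finset.mem_univ _)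
    have : -5 ≤ (x : GolayPt → ℤ) none ∧ (x : GolayPt → ℤ) none ≤ 5 := by constructor <;> nlinarith [hx.1]
    exact List.mem_toFinset.2 (List.mem_map.2 ⟨((x : GolayPt → ℤ) none + 5).toNat, List.mem_range.2 (by omega),
      by dsimp only; omega⟩)

theorem mclSet_transport {u v u' v' : ↥leechLattice} {g : ↥Co0} (g1 : g • u = u') (g2 : g • v = v')
    (x : ↥leechLattice) : x ∈ mclSet u v ↔ g • x ∈ mclSet u' v' := by
  have e : g • (u - x) = g • u - g • x := by rw [sub_eq_add_neg, co0_add, co0_neg', ← sub_eq_add_neg]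
  simp only [mclSet, Set.mem_ofPred_eq, ← g1, ← g2, co0_norm, co0_dot, ← AddSubgroup.coe_sub, ← e]

theorem mcl_roots : mclX ∈ mclSet hsV hsX ∧ mclY8 ∈ mclSet hsV hsX ∧ mclY16 ∈ mclSet hsV hsX ∧
    dotInt (mclX : GolayPt → ℤ) mclY8 = 8 ∧ dotInt (mclX : GolayPt → ℤ) mclY16 = 16 ∧
    (mclY16 : GolayPt → ℤ) ≠ mclX := by
  simp only [mcl_mem_iff]
  decide +kernel

theorem mcl_orbit : ∀ x ∈ mclSet hsV hsX, ∃ g : ↥Co0, g • hsV = hsV ∧ g • hsX = hsX ∧ g • mclX = x := by
  obtain ⟨A, hA, hreach⟩ := tree_reach (fixd := [hsV]) mclGens_ok mclAll_ok mclX mcl_lengths.2.2.2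
  have hsub : A ⊆ mclSet hsV hsX := fun a ha => by
    obtain ⟨g, ⟨g1, g2⟩, rfl⟩ := hreach a ha
    exact (mclSet_transport (g2 hsV (by simp)) g1 mclX).1 mcl_roots.1
  have heq : A = mclSet hsV hsX := Set.eq_of_subset_of_ncard_le hsub
    (by rw [mcl_total, hA, mcl_lengths.1]) (Set.finite_of_ncard_ne_zero (by rw [mcl_total]; norm_num))
  intro x hx
  obtain ⟨g, ⟨g1, g2⟩, e⟩ := hreach x (heq ▸ hx)
  exact ⟨g, g2 hsV (by simp), g1, e⟩

theorem mcl_suborbits :
    {y | y ∈ mclSet hsV hsX ∧ dotInt (mclX : GolayPt → ℤ) y = 8}.ncard = 112 ∧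
    {y | y ∈ mclSet hsV hsX ∧ y ≠ mclX ∧ dotInt (mclX : GolayPt → ℤ) y = 16}.ncard = 162 ∧
    ∀ y ∈ mclSet hsV hsX, y ≠ mclX → ∃ g : ↥Co0, g • hsV = hsV ∧ g • hsX = hsX ∧ g • mclX = mclX ∧
      ((dotInt (mclX : GolayPt → ℤ) y = 8 ∧ g • mclY8 = y) ∨
        (dotInt (mclX : GolayPt → ℤ) y = 16 ∧ g • mclY16 = y)) := by
  obtain ⟨A, hA, rA⟩ := tree_reach (fixd := [hsV, mclX]) mclKGens_ok mclNear_ok mclY8 rfl
  obtain ⟨B, hB, rB⟩ := tree_reach (fixd := [hsV, mclX]) mclKGens_ok mclFar_ok mclY16 rfl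
  rw [mcl_lengths.2.1] at hA
  rw [mcl_lengths.2.2.1] at hB
  obtain ⟨hX, h8, h16, d8, d16, hne⟩ := mcl_roots
  set S8 := {y | y ∈ mclSet hsV hsX ∧ dotInt (mclX : GolayPt → ℤ) y = 8}
  set S16 := {y | y ∈ mclSet hsV hsX ∧ y ≠ mclX ∧ dotInt (mclX : GolayPt → ℤ) y = 16}
  have hfin : (mclSet hsV hsX).Finite := Set.finite_of_ncard_ne_zero (by rw [mcl_total]; norm_num)
  have fA : A ⊆ S8 := fun a ha => by
    obtain ⟨g, ⟨g1, g2⟩, rfl⟩ := rA a ha
    refine ⟨(mclSet_transport (g2 hsV (by simp)) g1 _).1 h8, ?_⟩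
    have := co0_dot g mclX mclY8
    rw [g2 mclX (by simp)] at this
    exact this.trans d8
  have fB : B ⊆ S16 := fun a ha => by
    obtain ⟨g, ⟨g1, g2⟩, rfl⟩ := rB a ha
    refine ⟨(mclSet_transport (g2 hsV (by simp)) g1 _).1 h16, fun e => hne ?_, ?_⟩
    · exact congrArg Subtype.val (MulAction.injective g (e.trans (g2 mclX (by simp)).symm))
    · have := co0_dot g mclX mclY16
      rw [g2 mclX (by simp)] at this
      exact this.trans d16
  have f8 : S8.Finite := hfin.subset fun y h => h.1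
  have f16 : S16.Finite := hfin.subset fun y h => h.1
  have hdisj : Disjoint S8 S16 := Set.disjoint_left.2 fun y a b => by
    have := a.2.symm.trans b.2.2
    norm_num at this
  have hnot : mclX ∉ S8 ∪ S16 := by
    rintro (⟨-, h⟩ | ⟨-, h, -⟩)
    · rw [dotInt_self_eq, mclX] at h
      revert h
      decide +kernel
    · exact h rfl
  have hsub : insert mclX (S8 ∪ S16) ⊆ mclSet hsV hsX := by
    rintro y (rfl | ⟨h, -⟩ | ⟨h, -⟩)
    · exact hX
    · exact h
    · exact h
  have hle := Set.ncard_le_ncard hsub hfin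
  rw [mcl_total, Set.ncard_insert_of_notMem hnot (f8.union f16), Set.ncard_union_eq hdisj f8 f16] at hle
  have a1 := Set.ncard_le_ncard fA f8
  have b1 := Set.ncard_le_ncard fB f16
  rw [hA] at a1
  rw [hB] at b1
  have hall : insert mclX (S8 ∪ S16) = mclSet hsV hsX := Set.eq_of_subset_of_ncard_le hsub (by
    rw [mcl_total, Set.ncard_insert_of_notMem hnot (f8.union f16), Set.ncard_union_eq hdisj f8 f16]; omega) hfin
  have eA : A = S8 := Set.eq_of_subset_of_ncard_le fA (by rw [hA]; omega) f8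
  have eB : B = S16 := Set.eq_of_subset_of_ncard_le fB (by rw [hB]; omega) f16
  refine ⟨by omega, by omega, fun y hy hne => ?_⟩
  rw [← hall] at hy
  rcases hy with e | h | h
  · exact absurd e hne
  · obtain ⟨g, ⟨g1, g2⟩, e⟩ := rA y (eA ▸ h)
    exact ⟨g, g2 hsV (by simp), g1, g2 mclX (by simp), Or.inl ⟨h.2, e⟩⟩
  · obtain ⟨g, ⟨g1, g2⟩, e⟩ := rB y (eB ▸ h)
    exact ⟨g, g2 hsV (by simp), g1, g2 mclX (by simp), Or.inr ⟨h.2.2, e⟩⟩

theorem mcl_conj {u v : ↥leechLattice} (hu : sqNorm (u : GolayPt → ℤ) = 48)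
    (hv : sqNorm (v : GolayPt → ℤ) = 32 ∧ sqNorm ((u - v) : GolayPt → ℤ) = 32) :
    ∃ g : ↥Co0, g • u = hsV ∧ g • v = hsX := by
  obtain ⟨h, hh⟩ := co0_transitive (Or.inr (Or.inl rfl)) hu (w := hsV) tgt_facts.2.2.2.2.2.1
  have e : h • (u - v) = hsV - h • v := by rw [sub_eq_add_neg, co0_add, co0_neg', ← sub_eq_add_neg, hh]
  obtain ⟨k, k1, k2⟩ := decomp_transitive (u := hsV) (v := h • v) (v' := hsX) tgt_facts.2.2.2.2.2.1
    ⟨(co0_norm h v).trans hv.1, by rw [← AddSubgroup.coe_sub, ← e, co0_norm]; exact hv.2⟩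
    ⟨uVec_norm, by decide +kernel⟩
  exact ⟨k * h, by rw [mul_smul, hh, k1], by rw [mul_smul, k2]⟩

end Cfsg.Agent.Golay
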