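import Cfsg.Agent.Golay.LeechStab

/-! The stabilizers of a norm 48 vector, and of the pairs giving the groups of McLaughlin and Higman-Sims. -/

set_option autoImplicit false
set_option maxRecDepth 20000

namespace Cfsg.Agent.Golay

open scoped Pointwise symmDiff

/-- Stabilizers move with the vector. -/
noncomputable def stabConj1 {G α : Type*} [Group G] [MulAction G α] (g : G) (a : α) :
    ↥(MulAction.stabilizer G a) ≃* ↥(MulAction.stabilizer G (g • a)) :=
  ((MulAut.conj g).subgroupMap _).trans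
    (MulEquiv.subgroupCongr (MulAction.stabilizer_smul_eq_stabilizer_map_conj g a).symm)

/-- Peak vectors `(…, 1, t, 1, …)`. -/
def peakVec (p : GolayPt) (t : ℤ) : GolayPt → ℤ := fun i => if i = p then t else 1

theorem oddVec3_eq (p : GolayPt) : oddVec [p] [] = peakVec p (-3) := funext fun i => by simp [oddVec, peakVec]

theorem oddVec5_eq (p : GolayPt) : oddVec [] [p] = peakVec p 5 := funext fun i => by simp [oddVec, peakVec]

theorem mono_fix_peakVec (p : GolayPt) {t : ℤ} (ht : 1 < t ∨ t < -1) {v : ↥leechLattice}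
    (hv : (v : GolayPt → ℤ) = peakVec p t) (σ : Equiv.Perm GolayPt) (hσ : σ ∈ M24) (c : Finset GolayPt)
    (hc : c ∈ supports (golayCode : Set (GolayPt → ZMod 2))) :
    monoEl σ hσ c hc • v = v ↔ σ p = p ∧ c = ∅ := by
  rw [← mono_fix_peak (v := peakVec p t) (p := p) (fun i hi => by simp [peakVec, hi])
    (by simp only [peakVec, if_true]; omega) σ c, Subtype.ext_iff, monoEl_apply, hv]

theorem tgt_facts : peakVec none (-3) ∈ leechLattice ∧ peakVec none 5 ∈ leechLattice ∧
    peakVec (pt 0) (-3) ∈ leechLattice ∧ (fun i => -peakVec (pt 0) 5 i) ∈ leechLattice ∧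
    sqNorm (peakVec none (-3)) = 32 ∧ sqNorm (peakVec none 5) = 48 ∧ sqNorm (peakVec (pt 0) (-3)) = 32 ∧
    sqNorm (fun i => -peakVec (pt 0) 5 i) = 48 ∧ dotInt uVec (peakVec (pt 0) (-3)) = -8 ∧
    dotInt (peakVec none 5) (fun i => -peakVec (pt 0) 5 i) = -32 := by
  refine ⟨leechTest_sound (by decide +kernel), leechTest_sound (by decide +kernel),
    leechTest_sound (by decide +kernel), leechTest_sound (by decide +kernel), ?_⟩
  decide +kernel

/-- Two point stabilizer in the code automorphisms. -/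
abbrev S22 : Subgroup (Equiv.Perm GolayPt) :=
  M24 ⊓ MulAction.stabilizer (Equiv.Perm GolayPt) (none : GolayPt) ⊓
    MulAction.stabilizer (Equiv.Perm GolayPt) (pt 0)

/-- The element of order eleven in it. -/
noncomputable def el11 : ↥S22 :=
  ⟨permOf code11, ⟨permOf_mem_M24 code11_ok.1,
    (permOf_apply (permOK_of_isAut code11_ok.1) none).trans code11_ok.2.1⟩,
    (permOf_apply (permOK_of_isAut code11_ok.1) (pt 0)).trans code11_ok.2.2.1⟩

theorem S22_le : S22 ≤ M24 := fun _ h => h.1.1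

theorem el11_order : orderOf el11 = 11 := (Subgroup.orderOf_coe el11).symm.trans perm11_order

theorem none_ne_pt0 : (none : GolayPt) ≠ pt 0 := by decide

/-- A vector fixed by the element of order eleven: its values and inner products. -/
theorem el11_vals {w : ↥leechLattice} (hn : sqNorm (w : GolayPt → ℤ) = 64)
    (hfix : permHom S22 S22_le el11 • w = w) :
    ∃ a b c d : ℤ, a ^ 2 + b ^ 2 + 11 * c ^ 2 + 11 * d ^ 2 = 64 ∧
      (∀ (f : GolayPt → ℤ) (α β γ : ℤ), f none = α → f (pt 0) = β → (∀ i, i ≠ none → i ≠ pt 0 → f i = γ) →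
        dotInt f (w : GolayPt → ℤ) = α * a + β * b + 11 * γ * c + 11 * γ * d) ∧
      (a = 8 → b = 0 → c = 0 → d = 0 → w = e8 none) := by
  obtain ⟨x, hx, hsum⟩ := fixed_by_11 hfix
  refine ⟨x 0, x 1, x 2, x 3, ?_, fun f α β γ f0 f1 f2 => ?_, fun e0 e1 e2 e3 => ?_⟩
  · rw [← hn, sqNorm, hsum (fun _ t => t ^ 2) (fun j => x j ^ 2) fun i => by rw [hx]]
  · rw [dotInt, hsum (fun i t => f i * t)
      (fun j => (if j = 0 then α else if j = 1 then β else γ) * x j) fun i => ?_]
    · simp only [one_ne_zero, OfNat.ofNat_ne_zero, OfNat.ofNat_ne_one, if_true, if_false]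
      ring
    · rw [hx]
      rcases code11_orbits i with rfl | rfl | ⟨k, -, -, ec⟩ | ⟨k, -, -, ec⟩
      · simp [cls11, f0]
      · simp [cls11, none_ne_pt0.symm, f1]
      all_goals
        have h1 : i ≠ none := fun e => by subst e; simp [cls11] at ec
        have h2 : i ≠ pt 0 := fun e => by subst e; simp [cls11, none_ne_pt0.symm] at ec
        simp [ec, f2 i h1 h2]
  · refine Subtype.ext (funext fun i => ?_)
    rw [hx]
    rcases code11_orbits i with rfl | rfl | ⟨k, -, -, ec⟩ | ⟨k, -, -, ec⟩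
    · simp [cls11, e8, e0]
    · simp [cls11, e8, none_ne_pt0.symm, e1]
    all_goals
      have h1 : i ≠ none := fun e => by subst e; simp [cls11] at ec
      simp [ec, e8, h1, e2, e3]

theorem b_zero {a b c d : ℤ} (hsq : a ^ 2 + b ^ 2 + 11 * c ^ 2 + 11 * d ^ 2 = 64) (hb : (11 : ℤ) ∣ b) : b = 0 := by
  obtain ⟨k, rfl⟩ := hb
  have : k ^ 2 < 1 := by nlinarith [sq_nonneg a, sq_nonneg c, sq_nonneg d]
  have : k = 0 := by nlinarith [sq_nonneg k]
  simp [this]

theorem cd_zero {a b c d : ℤ} (hsq : a ^ 2 + b ^ 2 + 11 * c ^ 2 + 11 * d ^ 2 = 64) (ha : a = 8) : c = 0 ∧ d = 0 := by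
  subst ha
  exact ⟨pow_eq_zero_iff (n := 2) (by norm_num) |>.1 (by nlinarith [sq_nonneg b, sq_nonneg c, sq_nonneg d]),
    pow_eq_zero_iff (n := 2) (by norm_num) |>.1 (by nlinarith [sq_nonneg b, sq_nonneg c, sq_nonneg d])⟩

theorem mcl_simple : IsSimpleGroup ↥(MulAction.stabilizer ↥Co0 (⟨uVec, uVec_mem⟩ : ↥leechLattice) ⊓
      MulAction.stabilizer ↥Co0 (⟨peakVec (pt 0) (-3), tgt_facts.2.2.1⟩ : ↥leechLattice)) ∧
    Nat.card ↥(MulAction.stabilizer ↥Co0 (⟨uVec, uVec_mem⟩ : ↥leechLattice) ⊓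
      MulAction.stabilizer ↥Co0 (⟨peakVec (pt 0) (-3), tgt_facts.2.2.1⟩ : ↥leechLattice)) = 898128000 := by
  obtain ⟨-, -, hwm, -, -, -, hwn, -, hd, -⟩ := tgt_facts
  have hcard := pair_stab_card (v := (⟨uVec, uVec_mem⟩ : ↥leechLattice))
    (w := (⟨peakVec (pt 0) (-3), hwm⟩ : ↥leechLattice)) (n := 32) (t := -8) hwn hd
    (fun a h1 h2 => pairs_transitive (Or.inr rfl) uVec_norm hwn h1 hd h2)
  have hc := dot_count (n := 32) (by norm_num) (v := (⟨uVec, uVec_mem⟩ : ↥leechLattice)) uVec_norm (-2)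
  rw [sum_values.2.1] at hc
  simp only [Nat.cast_ofNat, show (4 : ℤ) * -2 = -8 by norm_num] at hc
  rw [hc, stab32_card uVec_norm] at hcard
  refine ⟨?_, by omega⟩
  haveI := Fact.mk (by norm_num : Nat.Prime 11)
  refine simple_stab _ S22 S22_le (M22_simple none_ne_pt0) (fun σ hσ c hc => ?_) (p := 11) el11 el11_order
    el11.2.1.2 (fun g hg hfix => ?_) (N := 898128000) (m := 443520) (k := 2025) (by omega)
    (M24_stab2_card none_ne_pt0) (by norm_num) (by norm_num) fun d hd hq => Or.inl ?_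
  · rw [Subgroup.mem_inf, MulAction.mem_stabilizer_iff, MulAction.mem_stabilizer_iff,
      mono_fix_peakVec (pt 0) (t := -3) (v := ⟨_, hwm⟩) (Or.inr (by norm_num)) rfl]
    constructor
    · rintro ⟨h1, h2, rfl⟩
      refine ⟨⟨⟨hσ, ?_⟩, h2⟩, rfl⟩
      show σ none = none
      have := congrFun ((monoEl_apply σ hσ ∅ hc _).symm.trans (congrArg Subtype.val h1)) (σ none)
      rw [signedPerm_eq, Equiv.symm_apply_apply] at this
      simp [uVec, fourVec, sgnOf] at this
      by_contra hne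
      exact none_ne_pt0 (σ.injective ((this hne).trans h2.symm))
    · rintro ⟨⟨⟨-, h1⟩, h2⟩, rfl⟩
      refine ⟨Subtype.ext (funext fun i => ?_), h2, rfl⟩
      rw [monoEl_apply, signedPerm_eq]
      simp only [sgnOf, Finset.notMem_empty, if_false, one_mul, uVec, fourVec, List.mem_cons, List.not_mem_nil,
        or_false, Equiv.symm_apply_eq, show σ none = none from h1, show σ (pt 0) = pt 0 from h2]
  · obtain ⟨g1, g2⟩ := hg
    have d1 := co0_dot g (⟨uVec, uVec_mem⟩ : ↥leechLattice) (e8 none)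
    have d2 := co0_dot g (⟨peakVec (pt 0) (-3), hwm⟩ : ↥leechLattice) (e8 none)
    rw [MulAction.mem_stabilizer_iff.1 g1, dotInt_e8] at d1
    rw [MulAction.mem_stabilizer_iff.1 g2, dotInt_e8] at d2
    have hn := (co0_norm g (e8 none)).trans (sqNorm_e8 none)
    obtain ⟨a, b, c, d, hsq, hdot, huse⟩ := el11_vals hn hfix
    rw [hdot uVec 4 4 0 rfl rfl (fun i h1 h2 => by simp [uVec, fourVec, h1, h2])] at d1
    rw [hdot _ 1 (-3) 1 rfl rfl (fun i _ h2 => by simp [peakVec, h2])] at d2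
    have v1 : uVec none = 4 := rfl
    have v2 : peakVec (pt 0) (-3) none = 1 := rfl
    simp only [v1, v2] at d1 d2
    obtain rfl := b_zero hsq (by omega)
    obtain ⟨rfl, rfl⟩ := cd_zero hsq (by omega)
    exact huse (by omega) rfl rfl rfl
  · refine eq_one_of_table (by norm_num) hd (fun q e hq h => ?_) hq
    have he : e < 12 := by
      by_contra hc'
      have := Nat.le_of_dvd (by norm_num) h
      have := Nat.pow_le_pow_left hq.two_le (e + 1)
      have := Nat.pow_le_pow_right (show 0 < 2 by norm_num) (show 13 ≤ e + 1 by omega)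
      omega
    rcases prime_235 hq (show q ∣ 2 ^ 0 * 3 ^ 4 * 5 ^ 2 from (dvd_pow_self q (by omega)).trans h) with
      rfl | rfl | rfl <;> interval_cases e <;> first | (norm_num; done) | norm_num at h

/-- The minimal vector completing the triangle of two norm 48 vectors. -/
theorem hs_third {v w : ↥leechLattice} (hv : sqNorm (v : GolayPt → ℤ) = 48) (hw : sqNorm (w : GolayPt → ℤ) = 48)
    (hvw : dotInt (v : GolayPt → ℤ) (w : GolayPt → ℤ) = -32) :
    sqNorm ((-(v + w) : ↥leechLattice) : GolayPt → ℤ) = 32 ∧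
      dotInt ((-(v + w) : ↥leechLattice) : GolayPt → ℤ) (v : GolayPt → ℤ) = -16 := by
  constructor
  · have : sqNorm ((-(v + w) : ↥leechLattice) : GolayPt → ℤ) = sqNorm ((v : GolayPt → ℤ) + (w : GolayPt → ℤ)) := by
      simp only [sqNorm, AddSubgroup.coe_neg, AddSubgroup.coe_add, Pi.neg_apply, neg_sq]
    rw [this, sqNorm_add', hv, hw, hvw]
    norm_num
  · have : dotInt ((-(v + w) : ↥leechLattice) : GolayPt → ℤ) (v : GolayPt → ℤ) =
        -(sqNorm (v : GolayPt → ℤ) + dotInt (v : GolayPt → ℤ) (w : GolayPt → ℤ)) := by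
      simp only [dotInt, sqNorm, AddSubgroup.coe_neg, AddSubgroup.coe_add, Pi.neg_apply, Pi.add_apply,
        ← Finset.sum_add_distrib, ← Finset.sum_neg_distrib]
      exact Finset.sum_congr rfl fun i _ => by ring
    rw [this, hv, hvw]
    norm_num

theorem hs_stab_eq {v w : ↥leechLattice} :
    MulAction.stabilizer ↥Co0 (-(v + w) : ↥leechLattice) ⊓ MulAction.stabilizer ↥Co0 v =
      MulAction.stabilizer ↥Co0 v ⊓ MulAction.stabilizer ↥Co0 w := by
  ext g
  simp only [Subgroup.mem_inf, MulAction.mem_stabilizer_iff, co0_neg', co0_add, neg_inj]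
  constructor
  · rintro ⟨h1, h2⟩
    rw [h2] at h1
    exact ⟨h2, add_left_cancel h1⟩
  · rintro ⟨h1, h2⟩
    rw [h1, h2]
    exact ⟨rfl, rfl⟩

theorem hs_card {v w : ↥leechLattice} (hv : sqNorm (v : GolayPt → ℤ) = 48) (hw : sqNorm (w : GolayPt → ℤ) = 48)
    (hvw : dotInt (v : GolayPt → ℤ) (w : GolayPt → ℤ) = -32) :
    Nat.card ↥(MulAction.stabilizer ↥Co0 v ⊓ MulAction.stabilizer ↥Co0 w) = 44352000 := by
  obtain ⟨hx, hxv⟩ := hs_third hv hw hvw
  have hcard := pair_stab_card (v := (-(v + w) : ↥leechLattice)) (w := v) (n := 48) (t := -16) hv hxv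
    (fun a h1 h2 => mixed_transitive hx hv h1 hxv h2)
  have hc := dot_count (n := 48) (by norm_num) (v := (-(v + w) : ↥leechLattice)) hx (-4)
  rw [sum_values.2.2.2] at hc
  simp only [Nat.cast_ofNat, show (4 : ℤ) * -4 = -16 by norm_num] at hc
  rw [hc, stab32_card hx, hs_stab_eq] at hcard
  omega

theorem hs_simple : IsSimpleGroup ↥(MulAction.stabilizer ↥Co0 (⟨peakVec none 5, tgt_facts.2.1⟩ : ↥leechLattice) ⊓
      MulAction.stabilizer ↥Co0 (⟨_, tgt_facts.2.2.2.1⟩ : ↥leechLattice)) := by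
  obtain ⟨-, hvm, -, hwm, -, hvn, -, hwn, -, hd⟩ := tgt_facts
  have hcard := hs_card (v := ⟨peakVec none 5, hvm⟩) (w := ⟨_, hwm⟩) hvn hwn hd
  haveI := Fact.mk (by norm_num : Nat.Prime 11)
  refine simple_stab _ S22 S22_le (M22_simple none_ne_pt0) (fun σ hσ c hc => ?_) (p := 11) el11 el11_order
    el11.2.1.2 (fun g hg hfix => ?_) (N := 44352000) (m := 443520) (k := 100) hcard
    (M24_stab2_card none_ne_pt0) (by norm_num) (by norm_num) fun d hd hq => Or.inl ?_
  · have hneg : ∀ i, (⟨_, hwm⟩ : ↥leechLattice).1 i = -peakVec (pt 0) 5 i := fun _ => rfl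
    rw [Subgroup.mem_inf, MulAction.mem_stabilizer_iff, MulAction.mem_stabilizer_iff,
      mono_fix_peakVec none (t := 5) (v := ⟨_, hvm⟩) (Or.inl (by norm_num)) rfl]
    have h2 : monoEl σ hσ c hc • (⟨_, hwm⟩ : ↥leechLattice) = ⟨_, hwm⟩ ↔ σ (pt 0) = pt 0 ∧ c = ∅ := by
      rw [← mono_fix_peak (v := peakVec (pt 0) 5) (p := pt 0) (fun i hi => by simp [peakVec, hi])
        (by simp [peakVec]) σ c, Subtype.ext_iff, monoEl_apply, funext_iff, funext_iff]
      refine forall_congr' fun i => ?_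
      rw [signedPerm_eq, signedPerm_eq, hneg, hneg, mul_neg, neg_inj]
    rw [h2]
    constructor
    · rintro ⟨⟨h1, rfl⟩, h3, -⟩
      exact ⟨⟨⟨hσ, h1⟩, h3⟩, rfl⟩
    · rintro ⟨⟨⟨-, h1⟩, h3⟩, rfl⟩
      exact ⟨⟨h1, rfl⟩, h3, rfl⟩
  · obtain ⟨g1, g2⟩ := hg
    have d1 := co0_dot g (⟨_, hvm⟩ : ↥leechLattice) (e8 none)
    have d2 := co0_dot g (⟨_, hwm⟩ : ↥leechLattice) (e8 none)
    rw [MulAction.mem_stabilizer_iff.1 g1, dotInt_e8] at d1
    rw [MulAction.mem_stabilizer_iff.1 g2, dotInt_e8] at d2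
    obtain ⟨a, b, c, d, hsq, hdot, huse⟩ := el11_vals ((co0_norm g (e8 none)).trans (sqNorm_e8 none)) hfix
    rw [hdot _ 5 1 1 rfl rfl (fun i h1 _ => by simp [peakVec, h1])] at d1
    rw [hdot _ (-1) (-5) (-1) rfl rfl (fun i _ h2 => by simp [peakVec, h2])] at d2
    have v1 : peakVec none 5 none = 5 := rfl
    have v2 : peakVec (pt 0) 5 none = 1 := rfl
    simp only [v1, v2] at d1 d2
    obtain rfl := b_zero hsq (by omega)
    obtain ⟨rfl, rfl⟩ := cd_zero hsq (by omega)
    exact huse (by omega) rfl rfl rfl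
  · refine eq_one_of_table (by norm_num) hd (fun q e hq h => ?_) hq
    have he : e < 6 := by
      by_contra hc'
      have := Nat.le_of_dvd (by norm_num) h
      have := Nat.pow_le_pow_left hq.two_le (e + 1)
      have := Nat.pow_le_pow_right (show 0 < 2 by norm_num) (show 7 ≤ e + 1 by omega)
      omega
    rcases prime_235 hq (show q ∣ 2 ^ 2 * 3 ^ 0 * 5 ^ 2 from (dvd_pow_self q (by omega)).trans h) with
      rfl | rfl | rfl <;> interval_cases e <;> first | (norm_num; done) | norm_num at h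

/-- Permutations fixing the point at infinity. -/
abbrev S23 : Subgroup (Equiv.Perm GolayPt) := M24 ⊓ MulAction.stabilizer (Equiv.Perm GolayPt) (none : GolayPt)

/-- The element of order 23 in it. -/
noncomputable def el23' : ↥S23 := ⟨_, shift_mem, rfl⟩

theorem peak_stab_simple {t : ℤ} (ht : 1 < t ∨ t < -1) (hm : peakVec none t ∈ leechLattice) {N k : ℕ}
    (hcard : Nat.card (MulAction.stabilizer ↥Co0 (⟨_, hm⟩ : ↥leechLattice)) = N) (hk : 10200960 * k = N)
    (hex : ¬ 23 ^ 2 ∣ N)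
    (harith : ∀ d, d ∣ k → (∀ q ∈ d.primeFactors, q ^ d.factorization q % 23 = 1) → d = 1 ∨
      ∀ K : Subgroup ↥(MulAction.stabilizer ↥Co0 (⟨_, hm⟩ : ↥leechLattice)), K.Normal → Nat.card K ≠ d) :
    IsSimpleGroup ↥(MulAction.stabilizer ↥Co0 (⟨_, hm⟩ : ↥leechLattice)) := by
  haveI := Fact.mk (by norm_num : Nat.Prime 23)
  refine simple_stab _ S23 inf_le_left (M23_simple none) (fun σ hσ c hc => ?_) (p := 23) el23'
    ((Subgroup.orderOf_coe el23').symm.trans shift_order) rfl (fun g hg hfix => ?_) hcard (M24_stab_card none) hk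
    hex harith
  · rw [MulAction.mem_stabilizer_iff, mono_fix_peakVec none (v := ⟨_, hm⟩) ht rfl]
    exact ⟨fun ⟨h1, h2⟩ => ⟨⟨hσ, h1⟩, h2⟩, fun ⟨⟨_, h1⟩, h2⟩ => ⟨h1, h2⟩⟩
  · rcases fixed_by_el23 ((co0_norm g (e8 none)).trans (sqNorm_e8 none)) hfix with e | e
    · exact e
    exfalso
    have d1 := co0_dot g (⟨_, hm⟩ : ↥leechLattice) (e8 none)
    rw [MulAction.mem_stabilizer_iff.1 hg, e] at d1
    have hneg : dotInt (peakVec none t) ((-e8 none : ↥leechLattice) : GolayPt → ℤ) =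
        -dotInt (peakVec none t) (e8 none : GolayPt → ℤ) := by
      simp only [dotInt, AddSubgroup.coe_neg, Pi.neg_apply, mul_neg, Finset.sum_neg_distrib]
    rw [hneg, dotInt_e8] at d1
    have : peakVec none t none = t := rfl
    simp only [this] at d1
    omega

theorem co3_simple : IsSimpleGroup ↥(MulAction.stabilizer ↥Co0 (⟨_, tgt_facts.2.1⟩ : ↥leechLattice)) := by
  refine peak_stab_simple (Or.inl (by norm_num)) tgt_facts.2.1 (stab48_card tgt_facts.2.2.2.2.2.1)
    (k := 48600) (by norm_num) (by norm_num) fun d hd hq => Or.inl ?_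
  refine eq_one_of_table (by norm_num) hd (fun q e hq h => ?_) hq
  have he : e < 15 := by
    by_contra hc'
    have := Nat.le_of_dvd (by norm_num) h
    have := Nat.pow_le_pow_left hq.two_le (e + 1)
    have := Nat.pow_le_pow_right (show 0 < 2 by norm_num) (show 16 ≤ e + 1 by omega)
    omega
  rcases prime_235 hq (show q ∣ 2 ^ 3 * 3 ^ 5 * 5 ^ 2 from (dvd_pow_self q (by omega)).trans h) with
    rfl | rfl | rfl <;> interval_cases e <;> first | (norm_num; done) | norm_num at h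

theorem co2_simple (hno : ∀ K : Subgroup ↥(MulAction.stabilizer ↥Co0 (⟨_, tgt_facts.1⟩ : ↥leechLattice)),
      K.Normal → Nat.card K ≠ 2048) :
    IsSimpleGroup ↥(MulAction.stabilizer ↥Co0 (⟨_, tgt_facts.1⟩ : ↥leechLattice)) := by
  refine peak_stab_simple (Or.inr (by norm_num)) tgt_facts.1 (stab32_card tgt_facts.2.2.2.2.1)
    (k := 4147200) (by norm_num) (by norm_num) fun d hd hq => ?_
  have hd0 : d ≠ 0 := fun h => by rw [h] at hd; norm_num at hd
  have hbound : ∀ q e : ℕ, q.Prime → q ^ (e + 1) ∣ 4147200 → q ^ (e + 1) % 23 = 1 → q = 2 ∧ e = 10 := by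
    intro q e hq h h1
    have he : e < 22 := by
      by_contra hc'
      have := Nat.le_of_dvd (by norm_num) h
      have := Nat.pow_le_pow_left hq.two_le (e + 1)
      have := Nat.pow_le_pow_right (show 0 < 2 by norm_num) (show 23 ≤ e + 1 by omega)
      omega
    rcases prime_235 hq (show q ∣ 2 ^ 11 * 3 ^ 4 * 5 ^ 2 from (dvd_pow_self q (by omega)).trans h) with
      rfl | rfl | rfl <;> interval_cases e <;> first | (norm_num at h; done) | (norm_num at h1; done) | exact ⟨rfl, rfl⟩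
  have hfac : ∀ q ∈ d.primeFactors, q = 2 ∧ d.factorization q = 11 := by
    intro q hq'
    obtain ⟨hp, hdvd, -⟩ := Nat.mem_primeFactors.1 hq'
    obtain ⟨e, he⟩ : ∃ e, d.factorization q = e + 1 :=
      ⟨_, (Nat.succ_pred (hp.factorization_pos_of_dvd hd0 hdvd).ne').symm⟩
    obtain ⟨rfl, rfl⟩ := hbound q e hp ((he ▸ Nat.ordProj_dvd d q).trans hd) (he ▸ hq q hq')
    exact ⟨rfl, he⟩
  by_cases h1 : d = 1
  · exact Or.inl h1
  right
  obtain ⟨q, hp, hdvd⟩ := Nat.exists_prime_and_dvd h1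
  have hmem : q ∈ d.primeFactors := Nat.mem_primeFactors.2 ⟨hp, hdvd, hd0⟩
  obtain ⟨rfl, h11⟩ := hfac q hmem
  have hd' : d = 2 ^ 11 := by
    have e := Nat.eq_prime_pow_of_unique_prime_dvd hd0 fun {r} hr hrd =>
      (hfac r (Nat.mem_primeFactors.2 ⟨hr, hrd, hd0⟩)).1
    rw [e, Nat.prime_two.factorization_pow, Finsupp.single_eq_same] at h11
    rw [e, h11]
  subst hd'
  simpa using hno

end Cfsg.Agent.Golay
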