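/-! Link data for norm 48 vectors of inner product `-16` with a minimal vector. -/

set_option autoImplicit false

namespace Cfsg.Agent.Golay

/-- Steps of case ('50', (0, 1)). -/
def bigLink1 : List (Nat × Nat) := [(984818244535754528103549039458486304, 4020100), (962013882273193320034431849871396192, 2552504), (976464109074284963924674464000036416, 3056414)]

/-- Steps of case ('Tn', (0, 1)). -/
def bigLink2 : List (Nat × Nat) := [(963579391940123285763543008046394656, 4147618), (984818244535754528103549039458486304, 6123266)]

/-- Steps of case ('T0', (1, 0)). -/
def bigLink3 : List (Nat × Nat) := [(975608548398663504372901216403141824, 6842656), (956933834665771048939563407780500768, 3237906)]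

end Cfsg.Agent.Golay
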