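import Cfsg.Agent.Golay.LeechOrth2
import Cfsg.Agent.Golay.LeechOrth3Data

/-! The stabilizer of a minimal vector on norm 48 vectors of inner product `-16` with it. -/

set_option autoImplicit false
set_option maxRecDepth 20000

namespace Cfsg.Agent.Golay

open scoped Pointwise

/-- Five special points. -/
def five : List GolayPt := [none, pt 0, pt 3, pt 4, pt 5]

/-- An odd vector prescribed on five points. -/
def fiveRep (a : List ℤ) (w : ℕ) : GolayPt → ℤ := fun i =>
  (if w.testBit (idx i) then -1 else 1) * (if i ∈ five then a.getD (five.idxOf i) 1 else 1)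

/-- Patterns occurring. -/
def fiveAll : List (List ℤ) :=
  let v : List ℤ := [1, -3, 5]
  v.flatMap fun a => v.flatMap fun b => v.flatMap fun c => v.flatMap fun d => v.map fun e => [a, b, c, d, e]

/-- The sum of squares, with the unit entries. -/
def fiveNorm (a : List ℤ) : ℤ := (a.map fun t => t ^ 2 - 1).sum

/-- The base vector. -/
def tgt48 : GolayPt → ℤ := fiveRep [5, 1, 1, 1, 1] sepWord

theorem five_cases : ∀ a ∈ fiveAll, ∀ w ∈ patWords, fiveNorm a = 24 →
    (a.getD 2 1 = 1 → a.getD 3 1 = 1) → (a.getD 3 1 = 1 → a.getD 4 1 = 1) →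
    (a.getD 3 1 ≠ 5 ∧ a.getD 4 1 ≠ 5) →
    (if w.testBit (idx none) then -1 else 1) * a.getD 0 1 + (if w.testBit (idx (pt 0)) then -1 else 1) * a.getD 1 1 =
      (-4 : ℤ) →
    (a = [5, 1, 1, 1, 1] ∧ w = sepWord) ∨ (a = [1, 5, 1, 1, 1] ∧ w = 16777215 ^^^ sepWord) ∨
      (a = [-3, 1, -3, -3, 1] ∧ w = 16777215 ^^^ sepWord) ∨ (a = [1, -3, -3, -3, 1] ∧ w = sepWord) := by
  decide +kernel

theorem big_links : orthOK bigLink1 = true ∧ orthOK bigLink2 = true ∧ orthOK bigLink3 = true ∧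
    (∀ i, bigLink1.foldl (fun x p => orthStep p x) (fiveRep [1, 5, 1, 1, 1] (16777215 ^^^ sepWord)) i = tgt48 i) ∧
    (∀ i, bigLink2.foldl (fun x p => orthStep p x) (fiveRep [-3, 1, -3, -3, 1] (16777215 ^^^ sepWord)) i = tgt48 i) ∧
    (∀ i, bigLink3.foldl (fun x p => orthStep p x) (fiveRep [1, -3, -3, -3, 1] sepWord) i = tgt48 i) := by
  decide +kernel

theorem fiveAll_mem : ∀ a ∈ ([1, -3, 5] : List ℤ), ∀ b ∈ ([1, -3, 5] : List ℤ), ∀ c ∈ ([1, -3, 5] : List ℤ),
    ∀ d ∈ ([1, -3, 5] : List ℤ), ∀ e ∈ ([1, -3, 5] : List ℤ), [a, b, c, d, e] ∈ fiveAll := by decide +kernel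

theorem five_idx : five.idxOf none = 0 ∧ five.idxOf (pt 0) = 1 ∧ none ∈ five ∧ pt 0 ∈ five := by decide +kernel

theorem odd_to_five {x : GolayPt → ℤ} (hx : x ∈ leechLattice) (hn : sqNorm x = 48)
    (hodd : ¬ ∀ i, (2 : ℤ) ∣ x i) :
    ∃ a ∈ fiveAll, ∃ w ∈ patWords, fiveNorm a = 24 ∧ (a.getD 2 1 = 1 → a.getD 3 1 = 1) ∧
      (a.getD 3 1 = 1 → a.getD 4 1 = 1) ∧ (a.getD 3 1 ≠ 5 ∧ a.getD 4 1 ≠ 5) ∧ URel x (fiveRep a w) := by
  classical
  obtain ⟨c, hc, f, -, hxf⟩ := exists_odd_class hx hodd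
  have hU : ∑ i, zUnit 1 (f i) = 3 := by
    have h := hn
    rw [hxf, odd_sqNorm] at h
    simp only [ite_self] at h
    omega
  have hz : ∀ i, f i = 0 ∨ f i = -1 ∨ f i = 1 := fun i => by
    have h1 : zUnit 1 (f i) ≤ 3 :=
      le_trans (Finset.single_le_sum (f := fun i => zUnit 1 (f i)) (fun _ _ => Nat.zero_le _) (Finset.mem_univ i))
        (by omega)
    have h2 := zUnit_cast 1 (f i)
    simp only [if_true] at h2
    have h3 : 2 * f i ^ 2 + f i ≤ 3 := by omega
    have h4 : -2 < f i := by by_contra; nlinarith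
    have h5 : f i < 2 := by by_contra; nlinarith
    omega
  obtain ⟨R, hR⟩ : ∃ R : Finset GolayPt, ∀ i, i ∈ R ↔ f i ≠ 0 ∧ i ≠ none ∧ i ≠ pt 0 :=
    ⟨Finset.univ.filter fun i => f i ≠ 0 ∧ i ≠ none ∧ i ≠ pt 0, fun i => by simp⟩
  have hun : ∀ i, f i ≠ 0 → 1 ≤ zUnit 1 (f i) := fun i hi => by
    rcases hz i with h | h | h <;> simp [h, zUnit] at hi ⊢
  have hRc : R.card ≤ 3 := by
    have h1 : ∑ _i ∈ R, 1 ≤ ∑ i, zUnit 1 (f i) :=
      le_trans (Finset.sum_le_sum fun i hi => hun i ((hR i).1 hi).1)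
        (Finset.sum_le_univ_sum_of_nonneg fun i => Nat.zero_le _)
    rw [Finset.sum_const, smul_eq_mul, mul_one] at h1
    omega
  have hfive : ∀ i, f i = 1 → ∀ j, j ≠ i → f j = 0 := fun i hi j hj => by
    by_contra hne
    have h2 : ∑ k ∈ ({i, j} : Finset GolayPt), zUnit 1 (f k) ≤ ∑ k, zUnit 1 (f k) :=
      Finset.sum_le_univ_sum_of_nonneg fun k => Nat.zero_le _
    rw [Finset.sum_pair hj.symm, hU, hi] at h2
    have := hun j hne
    rw [show zUnit 1 1 = 3 by decide] at h2
    omega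
  obtain ⟨l, hl⟩ : ∃ l : List GolayPt, l = [pt 3, pt 4, pt 5].take R.card := ⟨_, rfl⟩
  obtain ⟨σ, hσ, hmap⟩ := exists_mem_M24_list ([none, pt 0] ++ l) ([none, pt 0] ++ R.toList)
    (by rw [hl]; rcases (by omega : R.card = 0 ∨ R.card = 1 ∨ R.card = 2 ∨ R.card = 3) with h | h | h | h <;>
      rw [h] <;> decide +kernel)
    (List.nodup_append.2 ⟨by decide +kernel, R.nodup_toList, fun a ha b hb e => by
      have := (hR b).1 (Finset.mem_toList.1 hb)
      simp only [List.mem_cons, List.not_mem_nil, or_false] at ha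
      rcases ha with rfl | rfl
      · exact this.2.1 e.symm
      · exact this.2.2 e.symm⟩)
    (by simp [hl]; omega) (by simp [hl]; omega)
  rw [List.map_append] at hmap
  obtain ⟨m1, m2⟩ := List.append_inj hmap (by simp)
  simp only [List.map_cons, List.map_nil, List.cons.injEq, and_true] at m1
  obtain ⟨h1, h2⟩ := m1
  have hlR : ∀ i, i ∈ l ↔ σ i ∈ R := fun i => by
    rw [← Finset.mem_toList, ← m2, List.mem_map_of_injective σ.injective]
  have a0 := URel.perm hx hσ h1 h2
  obtain ⟨d, hd, g, -, hxg⟩ := exists_odd_class a0.mem (fun hall => hodd fun i => by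
    have := hall (σ.symm i); simpa using this)
  have hfg : ∀ i, g i = f (σ i) := fun i => by
    have e := congrFun hxg i
    beta_reduce at e
    rw [congrFun hxf (σ i)] at e
    simp only [sgnOf] at e
    split_ifs at e <;> omega
  have out : ∀ i, i ∉ five → g i = 0 := fun i hi => by
    by_contra hne
    rw [hfg] at hne
    have hm : σ i ∈ R := (hR _).2 ⟨hne, fun e => hi (by
      rw [show i = none from σ.injective (e.trans h1.symm)]; simp [five]), fun e => hi (by
      rw [show i = pt 0 from σ.injective (e.trans h2.symm)]; simp [five])⟩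
    have := (hlR i).2 hm
    rw [hl] at this
    exact hi (List.mem_cons_of_mem _ (List.mem_cons_of_mem _ (List.take_subset _ _ this)))
  obtain ⟨a, ha⟩ : ∃ a : List ℤ, a = five.map fun i => 1 + 4 * g i := ⟨_, rfl⟩
  have hget : ∀ k (hk : k < 5), a.getD k 1 = 1 + 4 * g (five.getD k none) := fun k hk => by
    subst ha
    interval_cases k <;> simp [five]
  have hmem : a ∈ fiveAll := by
    subst ha
    have hv : ∀ i, (1 + 4 * g i) ∈ ([1, -3, 5] : List ℤ) := fun i => by
      rw [hfg]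
      rcases hz (σ i) with h | h | h <;> simp [h]
    exact fiveAll_mem _ (hv none) _ (hv (pt 0)) _ (hv (pt 3)) _ (hv (pt 4)) _ (hv (pt 5))
  have hseg : (g (pt 3) = 0 → g (pt 4) = 0) ∧ (g (pt 4) = 0 → g (pt 5) = 0) ∧ g (pt 4) ≠ 1 ∧ g (pt 5) ≠ 1 := by
    have hin : ∀ i, i ≠ none → i ≠ pt 0 → (g i ≠ 0 ↔ i ∈ l) := fun i e1 e2 => by
      rw [hlR, hR, hfg]
      exact ⟨fun h => ⟨h, fun e => e1 (σ.injective (e.trans h1.symm)), fun e => e2 (σ.injective (e.trans h2.symm))⟩,
        fun h => h.1⟩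
    have a3 := hin (pt 3) (by decide) (by decide)
    have a4 := hin (pt 4) (by decide) (by decide)
    have a5 := hin (pt 5) (by decide) (by decide)
    have n34 : (pt 3 : GolayPt) ≠ pt 4 := by decide
    have n35 : (pt 3 : GolayPt) ≠ pt 5 := by decide
    have n45 : (pt 4 : GolayPt) ≠ pt 5 := by decide
    have hne5 : ∀ i j, i ≠ j → g j ≠ 0 → g i ≠ 1 := fun i j hij hj hi => by
      rw [hfg] at hi hj
      exact hj (hfive _ hi _ fun e => hij (σ.injective e).symm)
    rw [hl] at a3 a4 a5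
    rcases (by omega : R.card = 0 ∨ R.card = 1 ∨ R.card = 2 ∨ R.card = 3) with h | h | h | h <;>
      simp [h, n34.symm, n35.symm, n45.symm] at a3 a4 a5 <;>
      refine ⟨fun e => ?_, fun e => ?_, fun e => ?_, fun e => ?_⟩ <;>
      first | omega | exact hne5 (pt 4) (pt 3) n34.symm (by omega) e | exact hne5 (pt 5) (pt 3) n35.symm (by omega) e
  have hnorm : fiveNorm a = 24 := by
    have hn' : sqNorm (fun i => x (σ i)) = 48 := a0.norm.trans hn
    rw [hxg, odd_sqNorm] at hn'
    simp only [ite_self] at hn'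
    have hsum : ∑ i, zUnit 1 (g i) = (five.map fun i => zUnit 1 (g i)).sum := by
      rw [← List.sum_toFinset _ (by decide +kernel : five.Nodup)]
      exact (Finset.sum_subset (Finset.subset_univ _) fun i _ hi => by
        rw [out i (fun h => hi (List.mem_toFinset.2 h))]; simp [zUnit]).symm
    have hq : ∀ i, (1 + 4 * g i) ^ 2 - 1 = 8 * (zUnit 1 (g i) : ℤ) := fun i => by
      rw [zUnit_cast]; simp only [if_true]; ring
    subst ha
    rw [hsum] at hn'
    simp only [fiveNorm, five, List.map_cons, List.map_nil, List.sum_cons, List.sum_nil, hq] at hn' ⊢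
    push_cast at hn'
    omega
  obtain ⟨w, hw, hw1, hw0⟩ := patWords_ok.2 (decide (none ∈ d)) (decide (pt 0 ∈ d))
  have e1 : none ∉ symmDiff d (bset w) := by
    rw [Finset.mem_symmDiff, mem_bset, hw1, decide_eq_true_eq]; rintro (⟨h1, h2⟩ | ⟨h1, h2⟩) <;> exact h2 h1
  have e0 : pt 0 ∉ symmDiff d (bset w) := by
    rw [Finset.mem_symmDiff, mem_bset, hw0, decide_eq_true_eq]; rintro (⟨h1, h2⟩ | ⟨h1, h2⟩) <;> exact h2 h1
  have b := URel.sign a0.mem (symmDiff_mem_supports hd (bset_mem_supports (patWords_ok.1 w hw))) e1 e0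
  have e : (fun i => sgnOf (symmDiff d (bset w)) i * (fun j => x (σ j)) i) = fiveRep a w := funext fun i => by
    have hi := congrFun hxg i
    beta_reduce at hi ⊢
    have hv : (if i ∈ five then a.getD (five.idxOf i) 1 else 1) = 1 + 4 * g i := by
      by_cases h : i ∈ five
      · rw [if_pos h, hget _ (List.idxOf_lt_length_of_mem h), List.getD_eq_getElem _ _ (List.idxOf_lt_length_of_mem h),
          List.getElem_idxOf]
      · rw [if_neg h, out i h]; norm_num
    rw [hi, fiveRep, hv, ← mul_assoc]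
    refine congrArg (· * (1 + 4 * g i)) ?_
    by_cases g1 : i ∈ d <;> by_cases g2 : i ∈ bset w <;> simp [sgnOf, Finset.mem_symmDiff, g1, g2, ← mem_bset]
  rw [e] at b
  refine ⟨a, hmem, w, hw, hnorm, ?_, ?_, ?_, a0.trans b⟩
  · rw [hget 2 (by norm_num), hget 3 (by norm_num)]
    simp only [five, List.getD_cons_succ, List.getD_cons_zero]
    have := hseg.1
    omega
  · rw [hget 3 (by norm_num), hget 4 (by norm_num)]
    simp only [five, List.getD_cons_succ, List.getD_cons_zero]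
    have := hseg.2.1
    omega
  · rw [hget 3 (by norm_num), hget 4 (by norm_num)]
    simp only [five, List.getD_cons_succ, List.getD_cons_zero]
    have := hseg.2.2
    omega

theorem rel48_odd {x : GolayPt → ℤ} (hx : x ∈ leechLattice) (hn : sqNorm x = 48) (hd : dotInt uVec x = -16)
    (hodd : ¬ ∀ i, (2 : ℤ) ∣ x i) : URel x tgt48 := by
  obtain ⟨a, ha, w, hw, hA, h2, h3, h5, h⟩ := odd_to_five hx hn hodd
  have hdot := h.dot.trans hd
  rw [uVec_dot] at hdot
  have en : fiveRep a w none = (if w.testBit (idx none) then -1 else 1) * a.getD 0 1 := by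
    rw [fiveRep, if_pos five_idx.2.2.1, five_idx.1]
  have e0 : fiveRep a w (pt 0) = (if w.testBit (idx (pt 0)) then -1 else 1) * a.getD 1 1 := by
    rw [fiveRep, if_pos five_idx.2.2.2, five_idx.2.1]
  obtain ⟨l1, l2, l3, v1, v2, v3⟩ := big_links
  rcases five_cases a ha w hw hA h2 h3 h5 (by rw [← en, ← e0]; omega) with
    ⟨rfl, rfl⟩ | ⟨rfl, rfl⟩ | ⟨rfl, rfl⟩ | ⟨rfl, rfl⟩
  · exact h
  · have l := URel.link bigLink1 h.mem l1
    rw [funext v1] at l
    exact h.trans l
  · have l := URel.link bigLink2 h.mem l2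
    rw [funext v2] at l
    exact h.trans l
  · have l := URel.link bigLink3 h.mem l3
    rw [funext v3] at l
    exact h.trans l

theorem rel48 {x : GolayPt → ℤ} (hx : x ∈ leechLattice) (hn : sqNorm x = 48) (hd : dotInt uVec x = -16) :
    URel x tgt48 := by
  classical
  have hs : x none + x (pt 0) = -4 := by rw [uVec_dot] at hd; omega
  by_cases h2 : ∀ i, (2 : ℤ) ∣ x i
  swap
  · exact rel48_odd hx hn hd h2
  obtain ⟨c, hc, f, hfe, hxf⟩ := exists_even_class hx h2
  have hne : c ≠ ∅ := by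
    rintro rfl
    have hxi : ∀ i, x i = 4 * f i := fun i => by rw [hxf]; simp
    exact (fourdiv hx (fun i => ⟨f i, hxi i⟩)).2.1 hn
  have h8 : 8 ≤ c.card := by
    have := Finset.card_pos.2 (Finset.nonempty_iff_ne_empty.2 hne)
    rcases card_of_mem_supports hc with h | h | h | h | h <;> omega
  have h16 : c.card ≤ 16 := by
    have hn' := hn
    rw [hxf, even_sqNorm] at hn'
    omega
  obtain ⟨q, hq⟩ := (Finset.card_pos (s := (c.erase none).erase (pt 0))).1 (by
    have := Finset.pred_card_le_card_erase (a := none) (s := c)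
    have := Finset.pred_card_le_card_erase (a := pt 0) (s := c.erase none)
    omega)
  obtain ⟨r, hr⟩ := (Finset.card_pos (s := (cᶜ.erase none).erase (pt 0))).1 (by
    have := Finset.pred_card_le_card_erase (a := none) (s := cᶜ)
    have := Finset.pred_card_le_card_erase (a := pt 0) (s := cᶜ.erase none)
    rw [Finset.card_compl, card_golayPt] at *
    omega)
  simp only [Finset.mem_erase, Finset.mem_compl] at hq hr
  obtain ⟨σ, hσ, hmap⟩ := exists_mem_M24_list tet0 [none, pt 0, q, r] (by decide +kernel)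
    (by simp [hq.1.symm, hq.2.1.symm, hr.1.symm, hr.2.1.symm, (by decide : (none : GolayPt) ≠ pt 0)]
        intro e; exact hr.2.2 (e ▸ hq.2.2)) rfl (by simp [tet0])
  simp only [tet0, List.map_cons, List.map_nil, List.cons.injEq, and_true] at hmap
  obtain ⟨h1, h2', h3, h4⟩ := hmap
  have a := URel.perm hx hσ h1 h2'
  have b := a.trans (URel.theta a.mem)
  refine b.trans (rel48_odd b.mem (b.norm.trans hn) (b.dot.trans hd) (theta_odd (fun i => h2 _) ?_))
  have eq := congrFun hxf q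
  have er := congrFun hxf r
  rw [if_pos hq.2.2] at eq
  rw [if_neg hr.2.2] at er
  rw [h1, h2', h3, h4]
  omega

theorem mixed_transitive {v w w' : ↥leechLattice} (hv : sqNorm (v : GolayPt → ℤ) = 32)
    (hw : sqNorm (w : GolayPt → ℤ) = 48) (hw' : sqNorm (w' : GolayPt → ℤ) = 48)
    (hd : dotInt (v : GolayPt → ℤ) (w : GolayPt → ℤ) = -16)
    (hd' : dotInt (v : GolayPt → ℤ) (w' : GolayPt → ℤ) = -16) : ∃ g : ↥Co0, g • v = v ∧ g • w = w' := by
  have hu : sqNorm uVec = 32 := by decide +kernel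
  obtain ⟨h, hh⟩ := co0_transitive (Or.inl rfl) hv (w := (⟨uVec, uVec_mem⟩ : ↥leechLattice)) hu
  have hdot : ∀ z : ↥leechLattice, dotInt uVec ((h • z : ↥leechLattice) : GolayPt → ℤ) =
      dotInt (v : GolayPt → ℤ) (z : GolayPt → ℤ) := fun z => by
    have := co0_dot h v z
    rwa [hh] at this
  have r := rel48 (h • w).2 ((co0_norm h w).trans hw) ((hdot w).trans hd)
  have r' := rel48 (h • w').2 ((co0_norm h w').trans hw') ((hdot w').trans hd')
  obtain ⟨g, hg, a, ha, hga⟩ := r.trans r'.symm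
  obtain rfl : a = h • w := Subtype.ext ha
  refine ⟨h⁻¹ * g * h, ?_, ?_⟩
  · rw [mul_smul, mul_smul, hh, show g • (⟨uVec, uVec_mem⟩ : ↥leechLattice) = ⟨uVec, uVec_mem⟩ from
      Subtype.ext (hg _ rfl), ← hh, inv_smul_smul]
  · rw [mul_smul, mul_smul, show g • h • w = h • w' from Subtype.ext hga, inv_smul_smul]

/-- Norm 48 vectors with inner product `-32` are exchanged. -/
theorem exchange48 {v w : ↥leechLattice} (hv : sqNorm (v : GolayPt → ℤ) = 48) (hw : sqNorm (w : GolayPt → ℤ) = 48)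
    (hvw : dotInt (v : GolayPt → ℤ) (w : GolayPt → ℤ) = -32) : ∃ g : ↥Co0, g • v = w ∧ g • w = v := by
  obtain ⟨x, hx⟩ : ∃ x : ↥leechLattice, x = -(v + w) := ⟨_, rfl⟩
  have hc : (x : GolayPt → ℤ) = -((v : GolayPt → ℤ) + (w : GolayPt → ℤ)) := by rw [hx]; rfl
  have hxn : sqNorm (x : GolayPt → ℤ) = 32 := by
    rw [hc]
    have : ∀ y : GolayPt → ℤ, sqNorm (-y) = sqNorm y := fun y => by simp [sqNorm]
    rw [this, sqNorm_add', hv, hw, hvw]
    norm_num
  have hd : ∀ z : GolayPt → ℤ, dotInt (x : GolayPt → ℤ) z = -(dotInt (v : GolayPt → ℤ) z + dotInt (w : GolayPt → ℤ) z) := fun z => by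
    rw [hc]
    simp only [dotInt, ← Finset.sum_add_distrib, ← Finset.sum_neg_distrib]
    exact Finset.sum_congr rfl fun i _ => by simp only [Pi.neg_apply, Pi.add_apply]; ring
  have hwv : dotInt (w : GolayPt → ℤ) (v : GolayPt → ℤ) = -32 := by rw [← hvw]; simp only [dotInt, mul_comm]
  obtain ⟨g, g1, g2⟩ := mixed_transitive hxn hv hw
    (by rw [hd, dotInt_self_eq, hv, hwv]; norm_num) (by rw [hd, dotInt_self_eq, hvw, hw]; norm_num)
  refine ⟨g, g2, ?_⟩
  have e : w = -x - v := by rw [hx]; abel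
  conv_lhs => rw [e, sub_eq_add_neg, co0_add, co0_neg', co0_neg', g1, g2]
  rw [hx]
  abel

end Cfsg.Agent.Golay
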