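/-! Link data for minimal vectors of given inner product with a fixed one. -/

set_option autoImplicit false

namespace Cfsg.Agent.Golay

/-- Steps of case `N`. -/
def pairLinkN : List (Nat × Nat) := [(982895060226445428256370779064797440, 1686298), (981514309023183431887416778125530208, 7595298)]

/-- Steps of case `Z`. -/
def pairLinkZ : List (Nat × Nat) := [(963579391940123285763543008046394656, 7686798), (964530562373605897656240864477357760, 7259788)]

/-- Steps of case `A`. -/
def pairLinkA : List (Nat × Nat) := [(958681858618218605748420657512044032, 3026648), (964735874907301544382516550591195232, 1315526)]

/-- Steps of case `Z8`. -/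
def pairLinkZ8 : List (Nat × Nat) := [(979050305024688309244282827282459776, 6588684), (969953078944654453659550000132530688, 1584464)]

/-- Steps of case `T8`. -/
def pairLinkT8 : List (Nat × Nat) := [(984105661171244658193871760701699744, 1369154), (972322342345402753652524744515601504, 198058)]

end Cfsg.Agent.Golay
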