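import Cfsg.Agent.Golay.LeechOrth
import Cfsg.Agent.Golay.LeechOrth2Data

/-! The stabilizer of a minimal vector on minimal vectors of inner product `-16` and `-8` with it. -/

set_option autoImplicit false
set_option maxRecDepth 20000

namespace Cfsg.Agent.Golay

open scoped Pointwise

/-- Words realising the four membership patterns at two points. -/
def patWords : List ℕ := [0, sepWord, 16777215 ^^^ sepWord, 16777215]

/-- An odd vector with one triple. -/
def oddRep (p : GolayPt) (w : ℕ) : GolayPt → ℤ := fun i =>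
  (if w.testBit (idx i) then -1 else 1) * oddVec [p] [] i

theorem patWords_ok : (∀ w ∈ patWords, inC w = true) ∧
    ∀ b1 b0 : Bool, ∃ w ∈ patWords, w.testBit (idx none) = b1 ∧ w.testBit (idx (pt 0)) = b0 := by
  decide +kernel

theorem odd_shape32 {z : GolayPt → ℤ} (hz : z ∈ leechLattice) (hzn : sqNorm z = 32)
    (hzo : ¬ ∀ i, (2 : ℤ) ∣ z i) :
    ∃ c ∈ supports (golayCode : Set (GolayPt → ZMod 2)), ∃ p : GolayPt,
      ∀ i, z i = sgnOf c i * oddVec [p] [] i := by
  classical
  obtain ⟨c, hc, f, -, rfl⟩ := exists_odd_class hz hzo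
  rw [odd_sqNorm] at hzn
  simp only [ite_self] at hzn
  have hU : ∑ i, zUnit 1 (f i) = 1 := by omega
  obtain ⟨p, hp⟩ : ∃ p, zUnit 1 (f p) ≠ 0 := by
    by_contra hne
    simp only [not_exists, not_not] at hne
    rw [Finset.sum_eq_zero fun i _ => hne i] at hU
    omega
  have hzero : ∀ i, i ≠ p → zUnit 1 (f i) = 0 := fun i hi => by
    have h2 : ∑ k ∈ ({p, i} : Finset GolayPt), zUnit 1 (f k) ≤ ∑ k, zUnit 1 (f k) :=
      Finset.sum_le_univ_sum_of_nonneg fun k => Nat.zero_le _
    rw [Finset.sum_pair hi.symm, hU] at h2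
    omega
  have val : ∀ i, (zUnit 1 (f i) = 0 → f i = 0) ∧ (zUnit 1 (f i) = 1 → f i = -1) := fun i => by
    have h2 := zUnit_cast 1 (f i)
    simp only [if_true] at h2
    constructor <;> intro h <;> rw [h] at h2 <;> push_cast at h2
    · rcases mul_eq_zero.1 (show f i * (2 * f i + 1) = 0 by linarith) with h | h <;> omega
    · rcases mul_eq_zero.1 (show (f i + 1) * (2 * f i - 1) = 0 by linarith) with h | h <;> omega
  refine ⟨c, hc, p, fun i => ?_⟩
  have hp1 : zUnit 1 (f p) = 1 := by
    have := Finset.single_le_sum (f := fun i => zUnit 1 (f i)) (fun _ _ => Nat.zero_le _) (Finset.mem_univ p)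
    omega
  by_cases hi : i = p
  · subst hi
    simp [oddVec, (val i).2 hp1]
  · simp [oddVec, hi, (val i).1 (hzero i hi)]

theorem odd_to_rep {x : GolayPt → ℤ} (hx : x ∈ leechLattice) (hn : sqNorm x = 32) (hodd : ¬ ∀ i, (2 : ℤ) ∣ x i) :
    ∃ p ∈ [none, pt 0, pt 3], ∃ w ∈ patWords, URel x (oddRep p w) := by
  classical
  obtain ⟨c, hc, p, hxp⟩ := odd_shape32 hx hn hodd
  obtain ⟨σ, hσ, q, hq, h1, h2, h3⟩ : ∃ σ, σ ∈ M24 ∧ ∃ q ∈ [none, pt 0, pt 3],
      σ none = none ∧ σ (pt 0) = pt 0 ∧ σ q = p := by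
    by_cases h0 : p = none ∨ p = pt 0
    · exact ⟨1, one_mem _, p, by rcases h0 with rfl | rfl <;> simp, rfl, rfl, rfl⟩
    · simp only [not_or] at h0
      obtain ⟨σ, hσ, hmap⟩ := exists_mem_M24_list [none, pt 0, pt 3] [none, pt 0, p] (by decide +kernel)
        (by simp [Ne.symm h0.1, Ne.symm h0.2, (by decide : (none : GolayPt) ≠ pt 0)]) rfl (by simp)
      simp only [List.map_cons, List.map_nil, List.cons.injEq, and_true] at hmap
      exact ⟨σ, hσ, pt 3, by simp, hmap.1, hmap.2.1, hmap.2.2⟩
  have a := URel.perm hx hσ h1 h2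
  obtain ⟨d, hd, q', hzq⟩ := odd_shape32 a.mem (a.norm.trans hn) (fun hall => hodd fun i => by
    have := hall (σ.symm i); simpa using this)
  obtain rfl : q' = q := by
    by_contra hne
    have := hzq q
    beta_reduce at this
    rw [h3, hxp] at this
    simp [oddVec, sgnOf, Ne.symm hne] at this
    split_ifs at this <;> omega
  obtain ⟨w, hw, hw1, hw0⟩ := patWords_ok.2 (decide (none ∈ d)) (decide (pt 0 ∈ d))
  have e1 : none ∉ symmDiff d (bset w) := by
    rw [Finset.mem_symmDiff, mem_bset, hw1, decide_eq_true_eq]; tauto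
  have e0 : pt 0 ∉ symmDiff d (bset w) := by
    rw [Finset.mem_symmDiff, mem_bset, hw0, decide_eq_true_eq]; tauto
  have b := URel.sign a.mem (symmDiff_mem_supports hd (bset_mem_supports (patWords_ok.1 w hw))) e1 e0
  refine ⟨q', hq, w, hw, ?_⟩
  have e : (fun i => sgnOf (symmDiff d (bset w)) i * (fun j => x (σ j)) i) = oddRep q' w := funext fun i => by
    have := hzq i
    beta_reduce at this ⊢
    rw [this, oddRep, ← mul_assoc]
    congr 1
    by_cases g1 : i ∈ d <;> by_cases g2 : i ∈ bset w <;>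
      simp [sgnOf, Finset.mem_symmDiff, g1, g2, ← mem_bset]
  rw [e] at b
  exact a.trans b

/-- Target for inner product `-16`. -/
def tgt16 : GolayPt → ℤ := fun i => if i = none then -4 else if i = pt 1 then 4 else 0

/-- The other four-type vector. -/
def alt16 : GolayPt → ℤ := fun i => if i = pt 0 then -4 else if i = pt 1 then 4 else 0

/-- Target for inner product `-8`. -/
def tgt8 : GolayPt → ℤ := oddRep none 0

theorem pair_values : orthOK pairLinkN = true ∧ orthOK pairLinkZ = true ∧ orthOK pairLinkA = true ∧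
    orthOK pairLinkZ8 = true ∧ orthOK pairLinkT8 = true ∧
    leechTest tgt16 = true ∧ leechTest alt16 = true ∧
    (∀ i, pairLinkN.foldl (fun x p => orthStep p x) (oddRep none (16777215 ^^^ sepWord)) i = tgt16 i) ∧
    (∀ i, pairLinkZ.foldl (fun x p => orthStep p x) (oddRep (pt 0) sepWord) i = tgt16 i) ∧
    (∀ i, pairLinkA.foldl (fun x p => orthStep p x) alt16 i = tgt16 i) ∧
    (∀ i, pairLinkZ8.foldl (fun x p => orthStep p x) (oddRep (pt 0) 0) i = tgt8 i) ∧
    (∀ i, pairLinkT8.foldl (fun x p => orthStep p x) (oddRep (pt 3) 16777215) i = tgt8 i) ∧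
    (∀ p ∈ [none, pt 0, pt 3], ∀ w ∈ patWords,
      (dotInt uVec (oddRep p w) = -16 → (p = none ∧ w = 16777215 ^^^ sepWord) ∨ (p = pt 0 ∧ w = sepWord)) ∧
      (dotInt uVec (oddRep p w) = -8 → (p = none ∧ w = 0) ∨ (p = pt 0 ∧ w = 0) ∨ (p = pt 3 ∧ w = 16777215))) := by
  decide +kernel

theorem rel16_odd {x : GolayPt → ℤ} (hx : x ∈ leechLattice) (hn : sqNorm x = 32) (hd : dotInt uVec x = -16)
    (hodd : ¬ ∀ i, (2 : ℤ) ∣ x i) : URel x tgt16 := by
  obtain ⟨hN, hZ, -, -, -, -, -, vN, vZ, -, -, -, cases'⟩ := pair_values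
  obtain ⟨p, hp, w, hw, h⟩ := odd_to_rep hx hn hodd
  rcases (cases' p hp w hw).1 (h.dot.trans hd) with ⟨rfl, rfl⟩ | ⟨rfl, rfl⟩
  · have a := URel.link pairLinkN h.mem hN
    rw [funext vN] at a
    exact h.trans a
  · have a := URel.link pairLinkZ h.mem hZ
    rw [funext vZ] at a
    exact h.trans a

theorem rel8_odd {x : GolayPt → ℤ} (hx : x ∈ leechLattice) (hn : sqNorm x = 32) (hd : dotInt uVec x = -8)
    (hodd : ¬ ∀ i, (2 : ℤ) ∣ x i) : URel x tgt8 := by
  obtain ⟨-, -, -, hZ, hT, -, -, -, -, -, vZ, vT, cases'⟩ := pair_values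
  obtain ⟨p, hp, w, hw, h⟩ := odd_to_rep hx hn hodd
  rcases (cases' p hp w hw).2 (h.dot.trans hd) with ⟨rfl, rfl⟩ | ⟨rfl, rfl⟩ | ⟨rfl, rfl⟩
  · exact h
  · have a := URel.link pairLinkZ8 h.mem hZ
    rw [funext vZ] at a
    exact h.trans a
  · have a := URel.link pairLinkT8 h.mem hT
    rw [funext vT] at a
    exact h.trans a

/-- The twisted step makes an odd vector when the four sampled entries sum to 2 modulo 4. -/
theorem theta_odd {x : GolayPt → ℤ} (h : ∀ i, (2 : ℤ) ∣ x i)
    (hs : ¬ (4 : ℤ) ∣ x none + x (pt 0) + x (pt 1) + x (pt 2)) : ¬ ∀ i, (2 : ℤ) ∣ thetaFun x i := fun hall => by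
  have hval := hall none
  have hblk : Finset.univ.filter (fun j => blkOf j = 0) = ({none, pt 0, pt 1, pt 2} : Finset GolayPt) := by
    decide +kernel
  have hb1 : blkOf (pt 1) = 0 := by decide +kernel
  rw [thetaFun, theta_ok.2.2.2, etaFun, hb1, if_pos rfl, blkSum, hblk, Finset.sum_insert (by decide +kernel),
    Finset.sum_insert (by decide +kernel), Finset.sum_insert (by decide +kernel), Finset.sum_singleton] at hval
  have := h none
  have := h (pt 0)
  have := h (pt 1)
  have := h (pt 2)
  split_ifs at hval <;> omega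

theorem rel16 {x : GolayPt → ℤ} (hx : x ∈ leechLattice) (hn : sqNorm x = 32) (hd : dotInt uVec x = -16) :
    URel x tgt16 := by
  classical
  have hs : x none + x (pt 0) = -4 := by rw [uVec_dot] at hd; omega
  by_cases h2 : ∀ i, (2 : ℤ) ∣ x i
  swap
  · exact rel16_odd hx hn hd h2
  obtain ⟨c, hc, f, -, hxf⟩ := exists_even_class hx h2
  rcases Finset.eq_empty_or_nonempty c with rfl | hne
  · have hxi : ∀ i, x i = 4 * f i := fun i => by rw [hxf]; simp
    have hk : ∑ i, f i ^ 2 = 2 := by
      have : sqNorm x = 16 * ∑ i, f i ^ 2 := by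
        rw [sqNorm, Finset.mul_sum]
        exact Finset.sum_congr rfl fun i _ => by rw [hxi]; ring
      omega
    have hsmall : ∀ i, f i = 0 ∨ f i = 1 ∨ f i = -1 := fun i => by
      have : f i ^ 2 ≤ 2 := hk ▸ Finset.single_le_sum (fun j _ => sq_nonneg (f j)) (Finset.mem_univ i)
      have : -2 < f i := by by_contra; nlinarith
      have : f i < 2 := by by_contra; nlinarith
      omega
    obtain ⟨S, hS⟩ : ∃ S : Finset GolayPt, ∀ i, i ∈ S ↔ f i ≠ 0 :=
      ⟨Finset.univ.filter fun i => f i ≠ 0, fun i => by simp⟩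
    have hcard : (S.card : ℤ) = 2 := by
      rw [← hk, Finset.sum_congr rfl (g := fun i => if i ∈ S then (1 : ℤ) else 0) fun i _ => by
        rcases hsmall i with h | h | h <;> simp [h, hS]]
      simp
    have hf : f none + f (pt 0) = -1 := by rw [hxi, hxi] at hs; omega
    obtain ⟨o, ho, ho', hfo, hfo'⟩ : ∃ o, o ∈ [none, pt 0] ∧ ∃ o', f o = -1 ∧ f o' = 0 ∧
        ([none, pt 0] = [o, o'] ∨ [none, pt 0] = [o', o]) := by
      rcases hsmall none with h | h | h
      · exact ⟨pt 0, by simp, none, by omega, h, Or.inr rfl⟩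
      · exfalso
        have := hsmall (pt 0)
        omega
      · exact ⟨none, by simp, pt 0, h, by omega, Or.inl rfl⟩
    obtain ⟨hfo', hlist⟩ := hfo'
    obtain ⟨p, hp, hpo⟩ := Finset.exists_mem_ne (s := S) (by omega) o
    have hpn : p ≠ none ∧ p ≠ pt 0 := by
      rw [hS] at hp
      rcases hlist with e | e <;> simp only [List.cons.injEq, and_true] at e <;> obtain ⟨rfl, rfl⟩ := e <;>
        refine ⟨?_, ?_⟩ <;> rintro rfl <;> first | exact hpo rfl | exact hp hfo'
    have hrest : ∀ i, i ≠ o → i ≠ p → f i = 0 := fun i a b => by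
      by_contra hne
      have h3 : ({o, p, i} : Finset GolayPt).card ≤ S.card := Finset.card_le_card fun k hk => by
        simp only [Finset.mem_insert, Finset.mem_singleton] at hk
        rcases hk with rfl | rfl | rfl
        · exact (hS k).2 (by omega)
        · exact hp
        · exact (hS k).2 hne
      rw [Finset.card_insert_of_notMem (by simp [hpo.symm, Ne.symm a]), Finset.card_pair (Ne.symm b)] at h3
      omega
    obtain ⟨σ, hσ, hmap⟩ := exists_mem_M24_list [none, pt 0, pt 1] [none, pt 0, p] (by decide +kernel)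
      (by simp [hpn.1.symm, hpn.2.symm, (by decide : (none : GolayPt) ≠ pt 0)]) rfl (by simp)
    simp only [List.map_cons, List.map_nil, List.cons.injEq, and_true] at hmap
    obtain ⟨h1, h2', h3⟩ := hmap
    obtain ⟨d, hdm, hdp⟩ := exists_code_pattern (fun i => decide (i = pt 1 ∧ f p = -1))
    have hnd : none ∉ d := fun h => by
      have := of_decide_eq_true ((hdp none (by simp [tet0])).1 h)
      exact absurd this.1 (by decide)
    have h0d : pt 0 ∉ d := fun h => by
      have := of_decide_eq_true ((hdp (pt 0) (by simp [tet0])).1 h)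
      exact absurd this.1 (by decide)
    have a := URel.perm hx hσ h1 h2'
    have b := URel.sign a.mem hdm hnd h0d
    have hb : (fun i => sgnOf d i * (fun j => x (σ j)) i) = tgt16 ∨
        (fun i => sgnOf d i * (fun j => x (σ j)) i) = alt16 := by
      have hz : ∀ i, i ≠ none → i ≠ pt 0 → i ≠ pt 1 → x (σ i) = 0 := fun i g1 g2 g3 => by
        rw [hxi, hrest (σ i) ?_ ?_, mul_zero]
        · rcases hlist with e | e <;> simp only [List.cons.injEq, and_true] at e <;> obtain ⟨rfl, rfl⟩ := e <;>
            intro e' <;> first | exact g1 (σ.injective (e'.trans h1.symm)) | exact g2 (σ.injective (e'.trans h2'.symm))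
        · rw [← h3]; exact fun e' => g3 (σ.injective e')
      have hp1 : sgnOf d (pt 1) * x (σ (pt 1)) = 4 := by
        have this' := hdp (pt 1) (by simp [tet0])
        rw [decide_eq_true_eq] at this'
        rw [h3, hxi, sgnOf]
        rw [hS] at hp
        have := hsmall p
        split_ifs with hd1
        · have := (this'.1 hd1).2; omega
        · have : f p ≠ -1 := fun e => hd1 (this'.2 ⟨rfl, e⟩)
          omega
      rcases hlist with e | e <;> simp only [List.cons.injEq, and_true] at e <;> obtain ⟨rfl, rfl⟩ := e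
      · left
        funext i
        by_cases g1 : i = none
        · subst g1
          simp [tgt16, sgnOf, hnd, h1, hxi, hfo]
        by_cases g3 : i = pt 1
        · subst g3
          simpa [tgt16, g1] using hp1
        by_cases g2 : i = pt 0
        · subst g2
          simp [tgt16, sgnOf, h0d, h2', hxi, hfo', (by decide : (pt 0 : GolayPt) ≠ none), (by decide : (none : GolayPt) ≠ pt 0), (by decide : (pt 0 : GolayPt) ≠ pt 1), (by decide : (none : GolayPt) ≠ pt 1)]
        · simp [tgt16, g1, g3, hz i g1 g2 g3]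
      · right
        funext i
        by_cases g2 : i = pt 0
        · subst g2
          simp [alt16, sgnOf, h0d, h2', hxi, hfo]
        by_cases g3 : i = pt 1
        · subst g3
          simpa [alt16, g2] using hp1
        by_cases g1 : i = none
        · subst g1
          simp [alt16, sgnOf, hnd, h1, hxi, hfo', (by decide : (pt 0 : GolayPt) ≠ none), (by decide : (none : GolayPt) ≠ pt 0), (by decide : (pt 0 : GolayPt) ≠ pt 1), (by decide : (none : GolayPt) ≠ pt 1)]
        · simp [alt16, g2, g3, hz i g1 g2 g3]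
    rcases hb with e | e <;> rw [e] at b
    · exact a.trans b
    · obtain ⟨-, -, hA, -, -, -, -, -, -, vA, -⟩ := pair_values
      have l := URel.link pairLinkA b.mem hA
      rw [funext vA] at l
      exact (a.trans b).trans l
  · have h8 : 8 ≤ c.card := by
      have := Finset.card_pos.2 hne
      rcases card_of_mem_supports hc with h | h | h | h | h <;> omega
    have h16 : c.card ≤ 16 := by
      have hn' := hn
      rw [hxf, even_sqNorm] at hn'
      omega
    obtain ⟨q, hq⟩ := (Finset.card_pos (s := (c.erase none).erase (pt 0))).1 (by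
      have := Finset.pred_card_le_card_erase (a := none) (s := c)
      have := Finset.pred_card_le_card_erase (a := pt 0) (s := c.erase none)
      omega)
    obtain ⟨r, hr⟩ := (Finset.card_pos (s := (cᶜ.erase none).erase (pt 0))).1 (by
      have := Finset.pred_card_le_card_erase (a := none) (s := cᶜ)
      have := Finset.pred_card_le_card_erase (a := pt 0) (s := cᶜ.erase none)
      rw [Finset.card_compl, card_golayPt] at *
      omega)
    simp only [Finset.mem_erase, Finset.mem_compl] at hq hr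
    obtain ⟨σ, hσ, hmap⟩ := exists_mem_M24_list tet0 [none, pt 0, q, r] (by decide +kernel)
      (by simp [hq.1.symm, hq.2.1.symm, hr.1.symm, hr.2.1.symm, (by decide : (none : GolayPt) ≠ pt 0)]
          intro e; exact hr.2.2 (e ▸ hq.2.2)) rfl (by simp [tet0])
    simp only [tet0, List.map_cons, List.map_nil, List.cons.injEq, and_true] at hmap
    obtain ⟨h1, h2', h3, h4⟩ := hmap
    have a := URel.perm hx hσ h1 h2'
    have b := a.trans (URel.theta a.mem)
    refine b.trans (rel16_odd b.mem (b.norm.trans hn) (b.dot.trans hd) (theta_odd (fun i => h2 _) ?_))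
    beta_reduce
    have eq := congrFun hxf q
    have er := congrFun hxf r
    rw [if_pos hq.2.2] at eq
    rw [if_neg hr.2.2] at er
    rw [h1, h2', h3, h4]
    omega

theorem rel8 {x : GolayPt → ℤ} (hx : x ∈ leechLattice) (hn : sqNorm x = 32) (hd : dotInt uVec x = -8) :
    URel x tgt8 := by
  classical
  have hs : x none + x (pt 0) = -2 := by rw [uVec_dot] at hd; omega
  by_cases h2 : ∀ i, (2 : ℤ) ∣ x i
  swap
  · exact rel8_odd hx hn hd h2
  obtain ⟨c, hc, f, -, hxf⟩ := exists_even_class hx h2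
  have h16 : c.card ≤ 16 := by
    have hn' := hn
    rw [hxf, even_sqNorm] at hn'
    omega
  obtain ⟨T, hT, hTc⟩ := Finset.exists_subset_card_eq (s := (cᶜ.erase none).erase (pt 0)) (n := 2) (by
    have := Finset.pred_card_le_card_erase (a := none) (s := cᶜ)
    have := Finset.pred_card_le_card_erase (a := pt 0) (s := cᶜ.erase none)
    rw [Finset.card_compl, card_golayPt] at *
    omega)
  obtain ⟨q, r, hqr, rfl⟩ := Finset.card_eq_two.1 hTc
  have hq := hT (Finset.mem_insert_self q _)
  have hr := hT (Finset.mem_insert_of_mem (Finset.mem_singleton_self r))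
  simp only [Finset.mem_erase, Finset.mem_compl] at hq hr
  obtain ⟨σ, hσ, hmap⟩ := exists_mem_M24_list tet0 [none, pt 0, q, r] (by decide +kernel)
    (by simp [hq.1.symm, hq.2.1.symm, hr.1.symm, hr.2.1.symm, hqr, (by decide : (none : GolayPt) ≠ pt 0)]) rfl
    (by simp [tet0])
  simp only [tet0, List.map_cons, List.map_nil, List.cons.injEq, and_true] at hmap
  obtain ⟨h1, h2', h3, h4⟩ := hmap
  have a := URel.perm hx hσ h1 h2'
  have b := a.trans (URel.theta a.mem)
  refine b.trans (rel8_odd b.mem (b.norm.trans hn) (b.dot.trans hd) (theta_odd (fun i => h2 _) ?_))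
  beta_reduce
  have eq := congrFun hxf q
  have er := congrFun hxf r
  rw [if_neg hq.2.2] at eq
  rw [if_neg hr.2.2] at er
  rw [h1, h2', h3, h4]
  omega

theorem pairs_transitive {t : ℤ} (ht : t = -16 ∨ t = -8) {v w w' : ↥leechLattice}
    (hv : sqNorm (v : GolayPt → ℤ) = 32)
    (hw : sqNorm (w : GolayPt → ℤ) = 32) (hw' : sqNorm (w' : GolayPt → ℤ) = 32)
    (hd : dotInt (v : GolayPt → ℤ) (w : GolayPt → ℤ) = t) (hd' : dotInt (v : GolayPt → ℤ) (w' : GolayPt → ℤ) = t) :
    ∃ g : ↥Co0, g • v = v ∧ g • w = w' := by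
  have hu : sqNorm uVec = 32 := by decide +kernel
  obtain ⟨h, hh⟩ := co0_transitive (Or.inl rfl) hv (w := (⟨uVec, uVec_mem⟩ : ↥leechLattice)) hu
  have hdot : ∀ z : ↥leechLattice, dotInt uVec ((h • z : ↥leechLattice) : GolayPt → ℤ) =
      dotInt (v : GolayPt → ℤ) (z : GolayPt → ℤ) := fun z => by
    have := co0_dot h v z
    rwa [hh] at this
  obtain ⟨s, r, r'⟩ : ∃ s, URel ((h • w : ↥leechLattice) : GolayPt → ℤ) s ∧
      URel ((h • w' : ↥leechLattice) : GolayPt → ℤ) s := by
    rcases ht with rfl | rfl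
    · exact ⟨_, rel16 (h • w).2 ((co0_norm h w).trans hw) ((hdot w).trans hd),
        rel16 (h • w').2 ((co0_norm h w').trans hw') ((hdot w').trans hd')⟩
    · exact ⟨_, rel8 (h • w).2 ((co0_norm h w).trans hw) ((hdot w).trans hd),
        rel8 (h • w').2 ((co0_norm h w').trans hw') ((hdot w').trans hd')⟩
  obtain ⟨g, hg, a, ha, hga⟩ := r.trans r'.symm
  obtain rfl : a = h • w := Subtype.ext ha
  refine ⟨h⁻¹ * g * h, ?_, ?_⟩
  · rw [mul_smul, mul_smul, hh, show g • (⟨uVec, uVec_mem⟩ : ↥leechLattice) = ⟨uVec, uVec_mem⟩ from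
      Subtype.ext (hg _ rfl), ← hh, inv_smul_smul]
  · rw [mul_smul, mul_smul, show g • h • w = h • w' from Subtype.ext hga, inv_smul_smul]

end Cfsg.Agent.Golay
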