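import Cfsg.Agent.Golay.LeechPairCount
import Cfsg.Agent.Golay.LeechOrth2

/-! Configurations of two vectors of norm 32 and 48. -/

set_option autoImplicit false

namespace Cfsg.Agent.Golay

open scoped Pointwise

theorem sqNorm_sub' (v w : GolayPt → ℤ) : sqNorm (v - w) = sqNorm v + sqNorm w - 2 * dotInt v w := by
  simp only [sqNorm, dotInt, Finset.mul_sum, ← Finset.sum_add_distrib, ← Finset.sum_sub_distrib]
  exact Finset.sum_congr rfl fun i _ => by simp only [Pi.sub_apply]; ring

theorem ncard_transport (g : ↥Co0) (P Q : ↥leechLattice → Prop) (h : ∀ a, P a ↔ Q (g • a)) :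
    {a | P a}.ncard = {a | Q a}.ncard := by
  rw [← Set.ncard_image_of_injective {a | P a} (MulAction.injective g)]
  congr 1
  ext a
  exact ⟨fun ⟨b, hb, e⟩ => e ▸ (h b).1 hb, fun ha => ⟨g⁻¹ • a, (h _).2 (by rwa [smul_inv_smul]), smul_inv_smul _ _⟩⟩

theorem ncard_coe_leech (P : (GolayPt → ℤ) → Prop) :
    {a : ↥leechLattice | P a}.ncard = {x : GolayPt → ℤ | x ∈ leechLattice ∧ P x}.ncard := by
  rw [← Set.ncard_image_of_injective _ Subtype.coe_injective]
  congr 1
  ext x
  exact ⟨fun ⟨a, ha, e⟩ => e ▸ ⟨a.2, ha⟩, fun ⟨h1, h2⟩ => ⟨⟨x, h1⟩, h2, rfl⟩⟩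

theorem uVec_norm : sqNorm uVec = 32 := by decide +kernel

/-- Minimal and norm 48 vectors by inner product with a minimal vector. -/
theorem dot_count {n : ℕ} (hn : n ≤ 64) {v : ↥leechLattice} (hv : sqNorm (v : GolayPt → ℤ) = 32) (s : ℤ) :
    {w : ↥leechLattice | sqNorm (w : GolayPt → ℤ) = n ∧ dotInt (v : GolayPt → ℤ) (w : GolayPt → ℤ) = 4 * s}.ncard =
      sumFormula n s := by
  obtain ⟨g, hg⟩ := co0_transitive (Or.inl rfl) hv (w := (⟨uVec, uVec_mem⟩ : ↥leechLattice)) uVec_norm
  rw [ncard_transport g _ (fun a : ↥leechLattice => sqNorm (a : GolayPt → ℤ) = n ∧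
    (a : GolayPt → ℤ) none + (a : GolayPt → ℤ) (pt 0) = s) (fun a => ?_),
    ncard_coe_leech (fun x => sqNorm x = n ∧ x none + x (pt 0) = s), sum_census n hn]
  rw [co0_norm]
  refine and_congr_right fun _ => ?_
  have e := co0_dot g v a
  rw [hg] at e
  rw [← e, uVec_dot]
  omega

theorem min_pair_iff {u v : GolayPt → ℤ} (hu : sqNorm u = 48) (hv : sqNorm v = 32) :
    sqNorm (u - v) = 32 ↔ dotInt v (u - v) = -8 := by
  have h1 := sqNorm_sub' u v
  have h2 : dotInt v (u - v) = dotInt v u - sqNorm v := by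
    simp only [dotInt, sqNorm, ← Finset.sum_sub_distrib]
    exact Finset.sum_congr rfl fun i _ => by simp only [Pi.sub_apply]; ring
  have h3 : dotInt v u = dotInt u v := by simp only [dotInt, mul_comm]
  omega

/-- The decompositions of a norm 48 vector into two minimal vectors are conjugate under its stabilizer. -/
theorem decomp_transitive {u v v' : ↥leechLattice} (hu : sqNorm (u : GolayPt → ℤ) = 48)
    (hv : sqNorm (v : GolayPt → ℤ) = 32 ∧ sqNorm ((u - v) : GolayPt → ℤ) = 32)
    (hv' : sqNorm (v' : GolayPt → ℤ) = 32 ∧ sqNorm ((u - v') : GolayPt → ℤ) = 32) :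
    ∃ g : ↥Co0, g • u = u ∧ g • v = v' := by
  obtain ⟨h, h1⟩ := co0_transitive (Or.inl rfl) hv.1 hv'.1
  have a := (min_pair_iff hu hv.1).1 hv.2
  have b := (min_pair_iff hu hv'.1).1 hv'.2
  obtain ⟨k, k1, k2⟩ := pairs_transitive (Or.inr rfl) hv'.1 (w := h • (u - v)) (w' := u - v')
    (by rw [co0_norm]; exact hv.2) hv'.2 (by rw [← h1, co0_dot]; exact a) b
  refine ⟨k * h, ?_, by rw [mul_smul, h1, k1]⟩
  have : u = v + (u - v) := by abel
  conv_lhs => rw [this]
  rw [mul_smul, co0_add, h1, co0_add, k1, k2]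
  abel

/-- The number of decompositions. -/
theorem decomp_count {u : ↥leechLattice} (hu : sqNorm (u : GolayPt → ℤ) = 48) :
    {v : ↥leechLattice | sqNorm (v : GolayPt → ℤ) = 32 ∧ sqNorm ((u - v) : GolayPt → ℤ) = 32}.ncard = 552 := by
  classical
  have shell : ∀ n : ℕ, n ≤ 64 → {a : ↥leechLattice | sqNorm (a : GolayPt → ℤ) = n}.ncard = censusFormula allAbs n :=
    fun n hn => by rw [ncard_coe_leech (fun x => sqNorm x = n), shell_eq hn, census _ allAbs_small n hn]
  obtain ⟨A, hA⟩ : ∃ A : Finset ↥leechLattice, ∀ a, a ∈ A ↔ sqNorm (a : GolayPt → ℤ) = (32 : ℕ) :=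
    ⟨(Set.finite_of_ncard_ne_zero (s := {a : ↥leechLattice | sqNorm (a : GolayPt → ℤ) = (32 : ℕ)})
      (by rw [shell 32 (by norm_num), census_values.1]; norm_num)).toFinset, fun a => by simp⟩
  obtain ⟨B, hB⟩ : ∃ B : Finset ↥leechLattice, ∀ a, a ∈ B ↔ sqNorm (a : GolayPt → ℤ) = (48 : ℕ) :=
    ⟨(Set.finite_of_ncard_ne_zero (s := {a : ↥leechLattice | sqNorm (a : GolayPt → ℤ) = (48 : ℕ)})
      (by rw [shell 48 (by norm_num), census_values.2.1]; norm_num)).toFinset, fun a => by simp⟩
  have hAc : A.card = 196560 := by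
    rw [← census_values.1, ← shell 32 (by norm_num), ← Set.ncard_coe_finset]
    congr 1; ext a; simp [hA]
  have hBc : B.card = 16773120 := by
    rw [← census_values.2.1, ← shell 48 (by norm_num), ← Set.ncard_coe_finset]
    congr 1; ext a; simp [hB]
  let P : ↥leechLattice → ↥leechLattice → Prop := fun v x => sqNorm ((x - v) : GolayPt → ℤ) = 32
  have row : ∀ v ∈ A, (B.filter (P v)).card = 47104 := by
    intro v hv
    have hvn := (hA v).1 hv
    push_cast at hvn
    have hd := dot_count (n := 32) (by norm_num) hvn (-2)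
    rw [sum_values.2.1] at hd
    rw [← hd, ← Set.ncard_coe_finset, ← Set.ncard_image_of_injective _ (sub_left_injective (b := v))]
    congr 1
    ext w
    simp only [Set.mem_image, Finset.coe_filter, Set.mem_ofPred_eq, hB, P]
    constructor
    · rintro ⟨x, ⟨hx, hxv⟩, rfl⟩
      push_cast at hx ⊢
      exact ⟨hxv, (min_pair_iff hx hvn).1 hxv⟩
    · rintro ⟨hw, hdw⟩
      refine ⟨w + v, ⟨?_, ?_⟩, add_sub_cancel_right w v⟩
      · push_cast at hw ⊢
        rw [sqNorm_add', hw, hvn, show dotInt (w : GolayPt → ℤ) v = dotInt (v : GolayPt → ℤ) w by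
          simp only [dotInt, mul_comm], hdw]
        norm_num
      · rw [AddSubgroup.coe_add, add_sub_cancel_right]; exact hw
  have col : ∀ x ∈ B, (A.filter (fun v => P v x)).card =
      {v : ↥leechLattice | sqNorm (v : GolayPt → ℤ) = 32 ∧ sqNorm ((u - v) : GolayPt → ℤ) = 32}.ncard := by
    intro x hx
    obtain ⟨g, hg⟩ := co0_transitive (Or.inr (Or.inl rfl)) (by simpa using (hB x).1 hx) hu
    rw [← ncard_transport g (fun v : ↥leechLattice => sqNorm (v : GolayPt → ℤ) = 32 ∧ sqNorm ((x - v) : GolayPt → ℤ) = 32)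
      _ (fun v => ?_), ← Set.ncard_coe_finset]
    · congr 1; ext v; simp [hA, P]
    · have e : g • (x - v) = u - g • v := by
        rw [eq_sub_iff_add_eq, ← co0_add, sub_add_cancel, hg]
      rw [co0_norm, ← AddSubgroup.coe_sub, ← AddSubgroup.coe_sub, ← e, co0_norm]
  have key := Finset.sum_card_bipartiteAbove_eq_sum_card_bipartiteBelow (s := A) (t := B) P
  simp only [Finset.bipartiteAbove, Finset.bipartiteBelow] at key
  rw [Finset.sum_congr rfl row, Finset.sum_congr rfl col, Finset.sum_const, Finset.sum_const, hAc, hBc,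
    smul_eq_mul, smul_eq_mul] at key
  omega

/-- The stabilizer of a vector. -/
theorem stab_card {n : ℕ} (hn : n = 32 ∨ n = 48) {v : ↥leechLattice} (hv : sqNorm (v : GolayPt → ℤ) = n) :
    {a : ↥leechLattice | sqNorm (a : GolayPt → ℤ) = n}.ncard * Nat.card (MulAction.stabilizer ↥Co0 v) =
      Nat.card ↥Co0 := by
  have horb : MulAction.orbit ↥Co0 v = {a : ↥leechLattice | sqNorm (a : GolayPt → ℤ) = n} := by
    ext a
    constructor
    · rintro ⟨g, rfl⟩
      exact (co0_norm g _).trans hv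
    · intro ha
      refine co0_transitive ?_ hv ha
      rcases hn with rfl | rfl
      · exact Or.inl rfl
      · exact Or.inr (Or.inl rfl)
  rw [Subgroup.card_eq_card_quotient_mul_card_subgroup (MulAction.stabilizer ↥Co0 v),
    ← Nat.card_congr (MulAction.orbitEquivQuotientStabilizer ↥Co0 v), Nat.card_coe_set_eq, horb]

end Cfsg.Agent.Golay
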