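import Mathlib

/-! Simplicity from a simple subgroup containing a self-normalizing element of prime order. -/

set_option autoImplicit false

namespace Cfsg.Agent.Golay

variable {G : Type*} [Group G] [Finite G]

theorem zpowers_conj_gen {p : ℕ} [Fact p.Prime] {a b : G} (ha : orderOf a = p) (hb : orderOf b = p)
    (hexact : ¬ p ^ 2 ∣ Nat.card G) : ∃ g : G, ∃ k : ℕ, g * b * g⁻¹ = a ^ k := by
  have hp : p.Prime := Fact.out
  have hfac : (Nat.card G).factorization p = 1 := by
    have h0 : Nat.card G ≠ 0 := Nat.card_pos.ne'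
    have h1 := Nat.Prime.factorization_pos_of_dvd hp h0 (ha ▸ orderOf_dvd_natCard a)
    by_contra hne
    exact hexact ((Nat.Prime.pow_dvd_iff_le_factorization hp h0).2 (by omega))
  let Pa : Sylow p G := Sylow.ofCard (Subgroup.zpowers a) (by rw [Nat.card_zpowers, ha, hfac, pow_one])
  let Pb : Sylow p G := Sylow.ofCard (Subgroup.zpowers b) (by rw [Nat.card_zpowers, hb, hfac, pow_one])
  obtain ⟨g, hg⟩ := MulAction.exists_smul_eq G Pb Pa
  have hmem : g * b * g⁻¹ ∈ (Pa : Subgroup G) := by
    rw [← hg, Sylow.coe_subgroup_smul]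
    exact Subgroup.smul_mem_pointwise_smul _ _ _ (Subgroup.mem_zpowers b)
  obtain ⟨k, hk⟩ := (mem_powers_iff_mem_zpowers.2 hmem : g * b * g⁻¹ ∈ Submonoid.powers a)
  exact ⟨g, k, hk.symm⟩

theorem pow_gen {p : ℕ} [Fact p.Prime] {a b g : G} {k : ℕ} (ha : orderOf a = p) (hb : orderOf b = p)
    (h : g * b * g⁻¹ = a ^ k) : ∃ m : ℕ, (a ^ k) ^ m = a := by
  refine exists_pow_eq_self_of_coprime ?_
  rw [ha]
  refine Nat.Coprime.symm ((Nat.Prime.coprime_iff_not_dvd Fact.out).2 fun hd => ?_)
  obtain ⟨m, rfl⟩ := hd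
  rw [pow_mul, show a ^ p = 1 by rw [← ha]; exact pow_orderOf_eq_one _, one_pow, conj_eq_one_iff] at h
  rw [h, orderOf_one] at hb
  exact (Fact.out : p.Prime).ne_one hb.symm

variable {H : Subgroup G} {p : ℕ} [Fact p.Prime] {y : G}

/-- Hypotheses: `y` of order `p` in `H`, normalized only inside `H`, with `p` dividing the order once. -/
structure LocalData (H : Subgroup G) (p : ℕ) (y : G) : Prop where
  mem : y ∈ H
  order : orderOf y = p
  exact' : ¬ p ^ 2 ∣ Nat.card G
  loc : ∀ z : G, z * y * z⁻¹ ∈ Subgroup.zpowers y → z ∈ H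

theorem top_of_le (D : LocalData H p y) (N : Subgroup G) [hN : N.Normal] (hHN : H ≤ N) : N = ⊤ := by
  refine eq_top_iff.2 fun g _ => ?_
  have hyN := hHN D.mem
  have hy' : g * y * g⁻¹ ∈ N := hN.conj_mem _ hyN g
  have hexN : ¬ p ^ 2 ∣ Nat.card N := fun h => D.exact' (h.trans (Subgroup.card_subgroup_dvd_card N))
  have o1 : orderOf (⟨y, hyN⟩ : N) = p := by rw [← Subgroup.orderOf_coe]; exact D.order
  have o2 : orderOf (⟨g * y * g⁻¹, hy'⟩ : N) = p := by
    rw [← Subgroup.orderOf_coe]
    show orderOf (g * y * g⁻¹) = p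
    rw [← D.order]
    exact MulEquiv.orderOf_eq (MulAut.conj g) y
  obtain ⟨n, k, hk⟩ := zpowers_conj_gen o1 o2 hexN
  have e := congrArg Subtype.val hk
  simp only [Subgroup.coe_mul, InvMemClass.coe_inv, SubmonoidClass.coe_pow] at e
  have hz : (n : G) * g ∈ H := D.loc _ (by
    rw [show (n : G) * g * y * ((n : G) * g)⁻¹ = (n : G) * (g * y * g⁻¹) * (n : G)⁻¹ by group, e]
    exact Subgroup.pow_mem _ (Subgroup.mem_zpowers y) k)
  simpa using mul_mem (inv_mem n.2) (hHN hz)

theorem card_dvd_index (N : Subgroup G) [N.Normal] (hbot : N ⊓ H = ⊥) : Nat.card N ∣ H.index := by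
  have h1 := Subgroup.relIndex_sup_right (H := H) (K := N)
  have h2 : N.relIndex H = Nat.card H := by
    rw [← Subgroup.inf_relIndex_right, hbot, Subgroup.relIndex_bot_left]
  have h3 : Nat.card N * N.relIndex (H ⊔ N) = Nat.card ↥(H ⊔ N : Subgroup G) := by
    rw [← Subgroup.relIndex_bot_left, ← Subgroup.relIndex_bot_left]
    exact Subgroup.relIndex_mul_relIndex _ _ _ bot_le le_sup_right
  rw [h1, h2] at h3
  have h4 := Subgroup.card_subgroup_dvd_card (H ⊔ N)
  rw [← h3, ← Subgroup.card_mul_index H, mul_comm (Nat.card N)] at h4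
  exact Nat.dvd_of_mul_dvd_mul_left Nat.card_pos h4

theorem sylow_fixed_free (D : LocalData H p y) (N : Subgroup G) [hN : N.Normal] (hbot : N ⊓ H = ⊥)
    {q : ℕ} (hq : q.Prime) : q ^ (Nat.card N).factorization q % p = 1 := by
  haveI := Fact.mk hq
  have hp : p.Prime := Fact.out
  have hpN : ¬ p ∣ Nat.card N := fun h => by
    obtain ⟨b, hb⟩ := exists_prime_orderOf_dvd_card' p h
    have hb' : orderOf (b : G) = p := by rwa [Subgroup.orderOf_coe]
    obtain ⟨g, k, hk⟩ := zpowers_conj_gen D.order hb' D.exact'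
    obtain ⟨m, hm⟩ := pow_gen D.order hb' hk
    have : y ∈ N ⊓ H := ⟨by rw [← hm, ← hk]; exact Subgroup.pow_mem _ (hN.conj_mem _ b.2 g) m, D.mem⟩
    rw [hbot, Subgroup.mem_bot] at this
    have := D.order
    rw [‹y = 1›, orderOf_one] at this
    exact hp.ne_one this.symm
  obtain ⟨Q⟩ : Nonempty (Sylow q N) := inferInstance
  let QG : Subgroup G := (Q : Subgroup N).map N.subtype
  have hdvd : p ∣ Nat.card (Subgroup.normalizer (QG : Set G)) := by
    have h1 := Subgroup.relIndex_sup_right (H := Subgroup.normalizer (QG : Set G)) (K := N)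
    rw [Sylow.normalizer_sup_eq_top Q, Subgroup.relIndex_top_right] at h1
    have h2 : N.relIndex (Subgroup.normalizer (QG : Set G)) ∣ Nat.card (Subgroup.normalizer (QG : Set G)) :=
      Subgroup.index_dvd_card _
    rw [← h1] at h2
    refine dvd_trans ?_ h2
    have h3 : p ∣ Nat.card N * N.index := by
      rw [Subgroup.card_mul_index]; exact D.order ▸ orderOf_dvd_natCard y
    exact (Nat.Prime.dvd_mul hp).1 h3 |>.resolve_left hpN
  obtain ⟨b, hb⟩ := exists_prime_orderOf_dvd_card' p hdvd
  have hb' : orderOf (b : G) = p := by rwa [Subgroup.orderOf_coe]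
  obtain ⟨g, k, hk⟩ := zpowers_conj_gen D.order hb' D.exact'
  obtain ⟨m, hm⟩ := pow_gen D.order hb' hk
  let Q' : Subgroup G := QG.map (MulAut.conj g).toMonoidHom
  have hel : y ∈ Subgroup.normalizer (Q' : Set G) := by
    rw [← hm, ← hk]
    refine Subgroup.pow_mem _ ?_ m
    have := Subgroup.mem_map_of_mem (MulAut.conj g).toMonoidHom b.2
    rw [Subgroup.map_normalizer_eq_of_bijective] at this
    · exact this
    · exact (MulAut.conj g).bijective
  have he : Nat.card Q' = q ^ (Nat.card N).factorization q := by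
    rw [Subgroup.card_map_of_injective (MulAut.conj g).injective,
      Subgroup.card_map_of_injective N.subtype_injective, Sylow.card_eq_multiplicity]
  let φ : Subgroup.zpowers y →* MulAut Q' :=
    (Q'.normalizerMonoidHom).comp (Subgroup.inclusion (Subgroup.zpowers_le.2 hel))
  letI : MulAction (Subgroup.zpowers y) Q' := MulAction.compHom Q' φ
  have hpg : IsPGroup p (Subgroup.zpowers y) :=
    IsPGroup.of_card (n := 1) (by rw [Nat.card_zpowers, D.order, pow_one])
  have hmod := hpg.card_modEq_card_fixedPoints Q'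
  have hfix : MulAction.fixedPoints (Subgroup.zpowers y) Q' = {1} := by
    ext x
    have hact : ∀ (z : Subgroup.zpowers y) (x : Q'), ((z • x : Q') : G) = (z : G) * (x : G) * (z : G)⁻¹ :=
      fun z x => rfl
    constructor
    · intro hx
      have h := congrArg Subtype.val (hx ⟨y, Subgroup.mem_zpowers _⟩)
      rw [hact, mul_inv_eq_iff_eq_mul] at h
      have hH : (x : G) ∈ H := D.loc _ (by
        rw [← h, mul_inv_cancel_right]
        exact Subgroup.mem_zpowers y)
      have hN' : (x : G) ∈ N := by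
        obtain ⟨a, ⟨c, -, hc⟩, e'⟩ := x.2
        rw [← e', ← hc]
        exact hN.conj_mem _ c.2 g
      have : (x : G) ∈ N ⊓ H := ⟨hN', hH⟩
      rw [hbot, Subgroup.mem_bot] at this
      exact Set.mem_singleton_iff.2 (Subtype.ext this)
    · intro hx z
      rw [Set.mem_singleton_iff.1 hx]
      exact Subtype.ext (by rw [hact]; simp)
  rw [hfix, Nat.card_coe_set_eq, Set.ncard_singleton, he, Nat.ModEq] at hmod
  rw [hmod, Nat.mod_eq_of_lt hp.one_lt]

/-- The criterion, with one allowed exceptional order. -/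
theorem simple_of_local [IsSimpleGroup H] (D : LocalData H p y)
    (harith : ∀ d ∈ H.index.divisors, (∀ q ∈ d.primeFactors, q ^ d.factorization q % p = 1) → d = 1 ∨
      ∀ N : Subgroup G, N.Normal → Nat.card N = d → N ⊓ H ≠ ⊥) : IsSimpleGroup G := by
  have hp : p.Prime := Fact.out
  haveI : Nontrivial G := ⟨⟨y, 1, fun e => hp.ne_one (by rw [← D.order, e, orderOf_one])⟩⟩
  refine ⟨fun N hN => ?_⟩
  haveI := hN
  have hn : (N.subgroupOf H).Normal := hN.subgroupOf H
  rcases hn.eq_bot_or_eq_top with h | h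
  · left
    have hbot : N ⊓ H = ⊥ := by
      rw [Subgroup.subgroupOf_eq_bot] at h
      exact h.eq_bot
    have hd := card_dvd_index N hbot
    rcases harith _ (Nat.mem_divisors.2 ⟨hd, Subgroup.index_ne_zero_of_finite⟩)
      (fun q hq => sylow_fixed_free D N hbot (Nat.prime_of_mem_primeFactors hq)) with e | e
    · exact Subgroup.eq_bot_of_card_eq N e
    · exact absurd hbot (e N hN rfl)
  · right
    exact top_of_le D N (Subgroup.subgroupOf_eq_top.1 h)

end Cfsg.Agent.Golay
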