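import Cfsg.Agent.Golay.LeechCo1
import Cfsg.Agent.Golay.LeechPairs
import Cfsg.Agent.Golay.LeechOrth3
import Cfsg.Agent.Golay.LocalSimple

/-! Stabilizers of one or two short vectors and their monomial subgroups. -/

set_option autoImplicit false
set_option maxRecDepth 20000

namespace Cfsg.Agent.Golay

open scoped Pointwise symmDiff

/-- Permutations of the code as automorphisms of the lattice. -/
def permHom (S : Subgroup (Equiv.Perm GolayPt)) (hS : S ≤ M24) : ↥S →* ↥Co0 where
  toFun σ := monoEl σ (hS σ.2) ∅ empty_mem_supports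
  map_one' := monoEl_one
  map_mul' a b := by
    rw [monoEl_mul]
    exact monoEl_congr rfl (by simp)

theorem permHom_injective (S : Subgroup (Equiv.Perm GolayPt)) (hS : S ≤ M24) :
    Function.Injective (permHom S hS) :=
  fun a b h => Subtype.ext (monoEl_injective (hσ := hS a.2) (hσ' := hS b.2)
    (hc := empty_mem_supports) (hc' := empty_mem_supports) h).1

/-- A vector equal to one off `p`. -/
theorem mono_fix_peak {v : GolayPt → ℤ} {p : GolayPt} (hv : ∀ i, i ≠ p → v i = 1)
    (hp : v p ≠ 1 ∧ v p ≠ -1 ∧ v p ≠ 0) (σ : Equiv.Perm GolayPt) (c : Finset GolayPt) :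
    signedPerm σ c v = v ↔ σ p = p ∧ c = ∅ := by
  constructor
  · intro h
    have h' : ∀ i, sgnOf c i * v (σ.symm i) = v i := fun i => by rw [← signedPerm_eq, h]
    have hσ : σ.symm p = p := by
      by_contra hne
      have := h' p
      rw [hv _ hne, sgnOf] at this
      split_ifs at this <;> simp at this
      · exact hp.2.1 this.symm
      · exact hp.1 this.symm
    refine ⟨((Equiv.symm_apply_eq σ).1 hσ).symm, Finset.eq_empty_of_forall_notMem fun i hi => ?_⟩
    have := h' i
    rw [sgnOf, if_pos hi] at this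
    by_cases hip : i = p
    · subst hip
      rw [hσ] at this
      have := hp.2.2
      omega
    · have hne : σ.symm i ≠ p := fun e => hip (σ.symm.injective (e.trans hσ.symm))
      rw [hv _ hne, hv _ hip] at this
      omega
  · rintro ⟨hσ, rfl⟩
    funext i
    rw [signedPerm_eq, sgnOf, if_neg (Finset.notMem_empty i), one_mul]
    by_cases hip : i = p
    · subst hip
      rw [(Equiv.symm_apply_eq σ).2 hσ.symm]
    · have hne : σ.symm i ≠ p := fun e => hip (by rw [← σ.apply_symm_apply i, e, hσ])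
      rw [hv _ hne, hv _ hip]

theorem index_subgroupOf {G : Subgroup ↥Co0} {N m k : ℕ} (hcard : Nat.card G = N)
    (hH : Nat.card ↥(crossH.subgroupOf G) = m) (hk : m * k = N) (hm : m ≠ 0) :
    (crossH.subgroupOf G).index = k := by
  have := Subgroup.card_mul_index (crossH.subgroupOf G)
  rw [hH, hcard, ← hk] at this
  exact Nat.eq_of_mul_eq_mul_left (Nat.pos_of_ne_zero hm) this

/-- Simplicity of a stabilizer from its monomial subgroup. -/
theorem simple_stab (G : Subgroup ↥Co0) (S : Subgroup (Equiv.Perm GolayPt)) (hS : S ≤ M24)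
    (hsimple : IsSimpleGroup ↥S)
    (hmono : ∀ (σ : Equiv.Perm GolayPt) (hσ : σ ∈ M24) (c : Finset GolayPt)
      (hc : c ∈ supports (golayCode : Set (GolayPt → ZMod 2))), monoEl σ hσ c hc ∈ G ↔ σ ∈ S ∧ c = ∅)
    {p : ℕ} [Fact p.Prime] (s : ↥S) (hs : orderOf s = p) (hsn : (s : Equiv.Perm GolayPt) none = none)
    (huniq : ∀ g ∈ G, permHom S hS s • g • e8 none = g • e8 none → g • e8 none = e8 none)
    {N m k : ℕ} (hcard : Nat.card G = N) (hScard : Nat.card S = m) (hk : m * k = N) (hex : ¬ p ^ 2 ∣ N)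
    (harith : ∀ d, d ∣ k → (∀ q ∈ d.primeFactors, q ^ d.factorization q % p = 1) → d = 1 ∨
      ∀ K : Subgroup ↥G, K.Normal → Nat.card K ≠ d) : IsSimpleGroup ↥G := by
  haveI := co0_finite
  haveI := hsimple
  have hm0 : m ≠ 0 := hScard ▸ Nat.card_pos.ne'
  have hrange : (permHom S hS).range = crossH ⊓ G := by
    refine le_antisymm ?_ ?_
    · rintro _ ⟨σ, rfl⟩
      exact ⟨monoEl_crossFix σ (hS σ.2) ∅ empty_mem_supports, (hmono σ (hS σ.2) ∅ empty_mem_supports).2 ⟨σ.2, rfl⟩⟩
    · rintro g ⟨hg, hgG⟩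
      obtain ⟨σ, hσ, c, hc, rfl⟩ := exists_mono_of_crossFix hg
      obtain ⟨h1, h2⟩ := (hmono σ hσ c hc).1 hgG
      exact ⟨⟨σ, h1⟩, monoEl_congr (hσ := hS h1) (hc := empty_mem_supports) rfl h2.symm⟩
  have e : ↥(crossH.subgroupOf G) ≃* ↥S :=
    ((MulEquiv.subgroupCongr (Subgroup.inf_subgroupOf_right crossH G).symm).trans
      (Subgroup.subgroupOfEquivOfLe inf_le_right)).trans
      ((MulEquiv.subgroupCongr hrange.symm).trans (MonoidHom.ofInjective (permHom_injective S hS)).symm)
  haveI : IsSimpleGroup ↥(crossH.subgroupOf G) := MulEquiv.isSimpleGroup e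
  have hy : permHom S hS s ∈ crossH ⊓ G := hrange ▸ ⟨s, rfl⟩
  let y : ↥G := ⟨permHom S hS s, hy.2⟩
  have hfix : permHom S hS s • e8 none = e8 none :=
    (monoEl_e8 (s : Equiv.Perm GolayPt) (hS s.2) ∅ empty_mem_supports).2 ⟨hsn, Finset.notMem_empty _⟩
  have hord : orderOf y = p := by
    rw [← Subgroup.orderOf_coe, ← hs]
    exact orderOf_injective _ (permHom_injective S hS) s
  have D : LocalData (crossH.subgroupOf G) p y := by
    refine ⟨hy.1, hord, hcard ▸ hex, fun z hz => ?_⟩
    obtain ⟨n, hn⟩ := Subgroup.mem_zpowers_iff.1 hz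
    have hn' : (z : ↥Co0) * permHom S hS s * (z : ↥Co0)⁻¹ = permHom S hS s ^ n := by
      simpa [y] using (congrArg Subtype.val hn).symm
    have hpow : permHom S hS s ^ n • e8 none = e8 none :=
      MulAction.mem_stabilizer_iff.1 (Subgroup.zpow_mem _ (MulAction.mem_stabilizer_iff.2 hfix) n)
    have hw : permHom S hS s • (z : ↥Co0)⁻¹ • e8 none = (z : ↥Co0)⁻¹ • e8 none := by
      conv_rhs => rw [← hpow, ← hn']
      simp only [mul_smul, inv_smul_smul]
    have := huniq _ (inv_mem z.2) hw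
    exact inv_mem_iff.1 (crossFix_of_fix rfl this : (z : ↥Co0)⁻¹ ∈ crossH)
  have hidx := index_subgroupOf hcard ((Nat.card_congr e.toEquiv).trans hScard) hk hm0
  refine simple_of_local D fun d hd hq => ?_
  rw [hidx, Nat.mem_divisors] at hd
  exact (harith d hd.1 hq).imp_right fun h K hK hKd => absurd hKd (h K hK)

theorem eq_one_of_table {k d p : ℕ} (hk : k ≠ 0) (hd : d ∣ k)
    (table : ∀ q e : ℕ, q.Prime → q ^ (e + 1) ∣ k → q ^ (e + 1) % p ≠ 1)
    (h : ∀ q ∈ d.primeFactors, q ^ d.factorization q % p = 1) : d = 1 := by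
  by_contra hne
  obtain ⟨q, hq, hqd⟩ := Nat.exists_prime_and_dvd hne
  have hd0 : d ≠ 0 := fun h0 => hk (Nat.eq_zero_of_zero_dvd (h0 ▸ hd))
  obtain ⟨e, he⟩ : ∃ e, d.factorization q = e + 1 :=
    ⟨_, (Nat.succ_pred (hq.factorization_pos_of_dvd hd0 hqd).ne').symm⟩
  have h1 := h q (Nat.mem_primeFactors.2 ⟨hq, hqd, hd0⟩)
  rw [he] at h1
  exact table q e hq ((he ▸ Nat.ordProj_dvd d q).trans hd) h1

theorem prime_235 {a b c q : ℕ} (hq : q.Prime) (h : q ∣ 2 ^ a * 3 ^ b * 5 ^ c) :
    q = 2 ∨ q = 3 ∨ q = 5 := by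
  rcases (Nat.Prime.dvd_mul hq).1 h with h | h
  · rcases (Nat.Prime.dvd_mul hq).1 h with h | h
    · exact Or.inl ((Nat.prime_dvd_prime_iff_eq hq Nat.prime_two).1 (hq.dvd_of_dvd_pow h))
    · exact Or.inr (Or.inl ((Nat.prime_dvd_prime_iff_eq hq Nat.prime_three).1 (hq.dvd_of_dvd_pow h)))
  · exact Or.inr (Or.inr ((Nat.prime_dvd_prime_iff_eq hq Nat.prime_five).1 (hq.dvd_of_dvd_pow h)))

/-- Stabilizers of a pair move with the pair. -/
noncomputable def stabInfConj {G α : Type*} [Group G] [MulAction G α] (g : G) (a b : α) :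
    ↥(MulAction.stabilizer G a ⊓ MulAction.stabilizer G b) ≃*
      ↥(MulAction.stabilizer G (g • a) ⊓ MulAction.stabilizer G (g • b)) :=
  ((MulAut.conj g).subgroupMap _).trans (MulEquiv.subgroupCongr (by
    rw [MulAction.stabilizer_smul_eq_stabilizer_map_conj, MulAction.stabilizer_smul_eq_stabilizer_map_conj]
    exact Subgroup.map_inf _ _ _ (MulAut.conj g).injective))

theorem stab32_card {v : ↥leechLattice} (hv : sqNorm (v : GolayPt → ℤ) = 32) :
    Nat.card (MulAction.stabilizer ↥Co0 v) = 42305421312000 := by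
  have h := stab_card (n := 32) (Or.inl rfl) hv
  rw [ncard_coe_leech (fun x => sqNorm x = ((32 : ℕ) : ℤ)), shell_eq (by norm_num),
    census _ allAbs_small 32 (by norm_num), census_values.1, co0_card] at h
  omega

theorem stab48_card {v : ↥leechLattice} (hv : sqNorm (v : GolayPt → ℤ) = 48) :
    Nat.card (MulAction.stabilizer ↥Co0 v) = 495766656000 := by
  have h := stab_card (n := 48) (Or.inr rfl) hv
  rw [ncard_coe_leech (fun x => sqNorm x = ((48 : ℕ) : ℤ)), shell_eq (by norm_num),
    census _ allAbs_small 48 (by norm_num), census_values.2.1, co0_card] at h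
  omega

/-- Orbit and stabilizer for a second vector. -/
theorem pair_stab_card {v w : ↥leechLattice} {n t : ℤ} (hw : sqNorm (w : GolayPt → ℤ) = n)
    (hvw : dotInt (v : GolayPt → ℤ) (w : GolayPt → ℤ) = t)
    (htrans : ∀ a : ↥leechLattice, sqNorm (a : GolayPt → ℤ) = n →
      dotInt (v : GolayPt → ℤ) (a : GolayPt → ℤ) = t → ∃ g : ↥Co0, g • v = v ∧ g • w = a) :
    {a : ↥leechLattice | sqNorm (a : GolayPt → ℤ) = n ∧ dotInt (v : GolayPt → ℤ) (a : GolayPt → ℤ) = t}.ncard *
      Nat.card ↥(MulAction.stabilizer ↥Co0 v ⊓ MulAction.stabilizer ↥Co0 w) =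
      Nat.card (MulAction.stabilizer ↥Co0 v) := by
  have horb : MulAction.orbit ↥(MulAction.stabilizer ↥Co0 v) w =
      {a : ↥leechLattice | sqNorm (a : GolayPt → ℤ) = n ∧ dotInt (v : GolayPt → ℤ) (a : GolayPt → ℤ) = t} := by
    ext a
    constructor
    · rintro ⟨g, rfl⟩
      refine ⟨(co0_norm (g : ↥Co0) w).trans hw, ?_⟩
      have := co0_dot (g : ↥Co0) v w
      rw [MulAction.mem_stabilizer_iff.1 g.2] at this
      exact this.trans hvw
    · rintro ⟨h1, h2⟩
      obtain ⟨g, g1, g2⟩ := htrans a h1 h2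
      exact ⟨⟨g, g1⟩, g2⟩
  have e : MulAction.stabilizer ↥(MulAction.stabilizer ↥Co0 v) w =
      (MulAction.stabilizer ↥Co0 v ⊓ MulAction.stabilizer ↥Co0 w).subgroupOf (MulAction.stabilizer ↥Co0 v) := by
    ext g
    exact ⟨fun h => ⟨g.2, h⟩, fun h => h.2⟩
  rw [Subgroup.card_eq_card_quotient_mul_card_subgroup (MulAction.stabilizer ↥(MulAction.stabilizer ↥Co0 v) w),
    ← Nat.card_congr (MulAction.orbitEquivQuotientStabilizer _ w), Nat.card_coe_set_eq, horb, e,
    Nat.card_congr (Subgroup.subgroupOfEquivOfLe inf_le_left).toEquiv]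

/-- Packed code of a permutation of order eleven fixing two points. -/
def code11 : ℕ := 962631622793591913328458108205584640

/-- Orbit labels of that permutation. -/
def cls11 (i : GolayPt) : ℕ :=
  if i = none then 0 else if i = pt 0 then 1 else if (7678246 : ℕ).testBit (idx i) then 2 else 3

theorem code11_ok : isAut code11 = true ∧ permFun code11 none = none ∧ permFun code11 (pt 0) = pt 0 ∧
    (∀ i, ((permFun code11)^[11]) i = i) ∧ permFun code11 (pt 1) ≠ pt 1 := by decide +kernel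

theorem code11_orbits : ∀ i, i = none ∨ i = pt 0 ∨
    (∃ k < 11, (permFun code11)^[k] (pt 1) = i ∧ cls11 i = 2) ∨
    ∃ k < 11, (permFun code11)^[k] (pt 3) = i ∧ cls11 i = 3 := by decide +kernel

theorem cls11_facts : Finset.univ.image cls11 = {0, 1, 2, 3} ∧
    (Finset.univ.filter fun i => cls11 i = 0).card = 1 ∧ (Finset.univ.filter fun i => cls11 i = 1).card = 1 ∧
    (Finset.univ.filter fun i => cls11 i = 2).card = 11 ∧ (Finset.univ.filter fun i => cls11 i = 3).card = 11 := by
  decide +kernel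

theorem perm11_pow_apply (k : ℕ) (i : GolayPt) : (permOf code11 ^ k) i = (permFun code11)^[k] i := by
  induction k generalizing i with
  | zero => rfl
  | succ k ih =>
    rw [pow_succ, Equiv.Perm.mul_apply, Function.iterate_succ_apply, ih,
      permOf_apply (permOK_of_isAut code11_ok.1)]

theorem perm11_order : orderOf (permOf code11) = 11 := by
  haveI := Fact.mk (by norm_num : Nat.Prime 11)
  obtain ⟨h1, -, -, h4, h5⟩ := code11_ok
  refine orderOf_eq_prime (Equiv.ext fun i => ?_) fun h => h5 ?_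
  · rw [perm11_pow_apply, h4]; rfl
  · rw [← permOf_apply (permOK_of_isAut h1), h]; rfl

/-- A vector fixed by the element of order eleven has four values. -/
theorem fixed_by_11 {v : ↥leechLattice}
    (h : monoEl (permOf code11) (permOf_mem_M24 code11_ok.1) ∅ empty_mem_supports • v = v) :
    ∃ x : ℕ → ℤ, (∀ i, (v : GolayPt → ℤ) i = x (cls11 i)) ∧
      ∀ f : GolayPt → ℤ → ℤ, ∀ g : ℕ → ℤ, (∀ i, f i ((v : GolayPt → ℤ) i) = g (cls11 i)) →
        ∑ i, f i ((v : GolayPt → ℤ) i) = g 0 + g 1 + 11 * g 2 + 11 * g 3 := by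
  obtain ⟨w, hw⟩ : ∃ w : GolayPt → ℤ, (v : GolayPt → ℤ) = w := ⟨_, rfl⟩
  have hstep : ∀ i, w (permFun code11 i) = w i := fun i => by
    have := congrFun (congrArg (fun a : ↥leechLattice => (a : GolayPt → ℤ)) h) (permOf code11 i)
    simp only [monoEl_apply] at this
    rw [signedPerm_eq, hw, Equiv.symm_apply_apply, permOf_apply (permOK_of_isAut code11_ok.1)] at this
    simpa [sgnOf] using this.symm
  have hk : ∀ k i, w ((permFun code11)^[k] i) = w i := fun k => by
    induction k with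
    | zero => intro i; rfl
    | succ k ih => intro i; rw [Function.iterate_succ_apply', hstep, ih]
  refine ⟨fun j => if j = 0 then w none else if j = 1 then w (pt 0) else if j = 2 then w (pt 1) else w (pt 3),
    fun i => ?_, fun f g hfg => ?_⟩
  · rw [hw]
    rcases code11_orbits i with rfl | rfl | ⟨k, -, e, ec⟩ | ⟨k, -, e, ec⟩
    · simp [cls11]
    · simp [cls11, show pt 0 ≠ none by decide]
    · rw [ec, ← e, hk]; simp
    · rw [ec, ← e, hk]; simp
  · obtain ⟨e, n0, n1, n2, n3⟩ := cls11_facts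
    rw [Finset.sum_congr rfl fun i _ => hfg i, Finset.sum_comp g cls11, e]
    simp only [Finset.sum_insert, Finset.mem_insert, Finset.mem_singleton, Finset.sum_singleton,
      Nat.reduceEqDiff, or_self, not_false_eq_true, n0, n1, n2, n3, nsmul_eq_mul, Nat.cast_ofNat, Nat.cast_one,
      one_mul]
    ring

end Cfsg.Agent.Golay
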