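import Cfsg.Agent.Golay.HSGraph

/-! Counting automorphisms of the point-block graph. -/

set_option autoImplicit false
set_option linter.unusedSectionVars false
open Cfsg
open scoped Pointwise

namespace Cfsg.Agent.Golay

variable {α : Type*} [Fintype α] [DecidableEq α] {B : Set (Finset α)}

theorem pointBlock_transitive (hα : Fintype.card α = 22) (hB : IsSteinerSystem 3 6 B) :
    ∃ H : Subgroup (pointBlockGraph B ≃g pointBlockGraph B), IsHS H ∧ ∀ x y, ∃ g ∈ H, g x = y := by
  obtain ⟨i⟩ := steiner22_iso hα hsPt_card hB hsBlocks_steiner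
  obtain ⟨j⟩ := hsGraph_model
  let k := i.trans j
  let C : (hsGraph ≃g hsGraph) ≃* (pointBlockGraph B ≃g pointBlockGraph B) :=
    { toFun := fun g => k.trans (g.trans k.symm)
      invFun := fun g => k.symm.trans (g.trans k)
      left_inv := fun g => RelIso.ext fun x => by simp
      right_inv := fun g => RelIso.ext fun x => by simp
      map_mul' := fun g h => RelIso.ext fun x => by simp }
  obtain ⟨H, ⟨h1, h2⟩, htr⟩ := hsGraph_group
  refine ⟨H.map C.toMonoidHom, ⟨?_, ?_⟩, fun x y => ?_⟩
  · haveI := h1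
    exact MulEquiv.isSimpleGroup (H.equivMapOfInjective C.toMonoidHom C.injective).symm
  · rw [← Nat.card_congr (H.equivMapOfInjective C.toMonoidHom C.injective).toEquiv, h2]
  · obtain ⟨g, hg, hgx⟩ := htr (k x) (k y)
    refine ⟨C g, ⟨g, hg, rfl⟩, ?_⟩
    show k.symm (g (k x)) = y
    rw [hgx]; simp

theorem pointBlock_aut_card (hα : Fintype.card α = 22) (hB : IsSteinerSystem 3 6 B)
    (hcard : Nat.card (setSystemAut B) = 887040) :
    Nat.card (pointBlockGraph B ≃g pointBlockGraph B) = 88704000 := by
  classical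
  obtain ⟨H, -, htr⟩ := pointBlock_transitive hα hB
  choose g _hg hg using htr none
  let pb : setSystemAut B → B ≃ B := fun σ =>
    { toFun := fun b => ⟨σ.1 • b.1, setSystemAut_maps σ.2 b.2⟩
      invFun := fun b => ⟨σ.1⁻¹ • b.1, setSystemAut_maps (inv_mem σ.2) b.2⟩
      left_inv := fun b => Subtype.ext (inv_smul_smul _ _)
      right_inv := fun b => Subtype.ext (smul_inv_smul _ _) }
  have hmem : ∀ (σ : Equiv.Perm α) (a : α) (b : Finset α), σ a ∈ σ • b ↔ a ∈ b := fun σ a b =>
    Finset.smul_mem_smul_finset_iff σ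
  let T : setSystemAut B → (pointBlockGraph B ≃g pointBlockGraph B) := fun σ =>
    ⟨(Equiv.sumCongr σ.1 (pb σ)).optionCongr, fun {p q} => by
      have key : ∀ p q, pointBlockRel B ((Equiv.sumCongr σ.1 (pb σ)).optionCongr p)
          ((Equiv.sumCongr σ.1 (pb σ)).optionCongr q) ↔ pointBlockRel B p q := by
        rintro (_ | a | b) (_ | a' | b') <;>
          simp [pb, pointBlockRel, hmem, Finset.smul_finset_def, Finset.disjoint_image (σ.1.injective)]
      simp only [pointBlockGraph, SimpleGraph.fromRel_adj, key, (Equiv.injective _).ne_iff]⟩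
  have hTn : ∀ σ, T σ none = none := fun σ => rfl
  have hTl : ∀ σ a, T σ (some (Sum.inl a)) = some (Sum.inl (σ.1 a)) := fun σ a => rfl
  -- stabiliser of the extra vertex
  have hnone : ∀ x, (pointBlockGraph B).Adj none x ↔ ∃ a, x = some (Sum.inl a) := by
    rintro (_ | a | b) <;> simp [pointBlockGraph, pointBlockRel]
  have hinc : ∀ a (b : B), (pointBlockGraph B).Adj (some (Sum.inl a)) (some (Sum.inr b)) ↔ a ∈ b.1 := fun a b => by
    simp [pointBlockGraph, pointBlockRel]
  have hstab : ∀ f : pointBlockGraph B ≃g pointBlockGraph B, f none = none → ∃ σ, f = T σ := by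
    intro f hf
    have hpt : ∀ a, ∃ a', f (some (Sum.inl a)) = some (Sum.inl a') := fun a =>
      (hnone _).1 (hf ▸ f.map_rel_iff.2 ((hnone _).2 ⟨a, rfl⟩))
    choose s hs using hpt
    have hsinj : Function.Injective s := fun a a' e => by
      have := f.injective ((hs a).trans (e ▸ (hs a').symm))
      simpa using this
    let σ : Equiv.Perm α := Equiv.ofBijective s (Finite.injective_iff_bijective.1 hsinj)
    have hblk : ∀ b : B, ∃ c : B, f (some (Sum.inr b)) = some (Sum.inr c) ∧ c.1 = σ • b.1 := fun b => by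
      rcases hfb : f (some (Sum.inr b)) with _ | a' | c
      · have := f.injective (hfb.trans hf.symm); simp at this
      · obtain ⟨a, ha⟩ := (Equiv.ofBijective s (Finite.injective_iff_bijective.1 hsinj)).surjective a'
        have ha' : s a = a' := ha
        have := f.injective (hfb.trans (ha' ▸ (hs a).symm)); simp at this
      · refine ⟨c, rfl, Finset.ext fun a' => ?_⟩
        obtain ⟨a, rfl⟩ := σ.surjective a'
        rw [hmem, ← hinc, ← hinc a b, ← f.map_rel_iff (a := some (Sum.inl a)) (b := some (Sum.inr b)), hfb, hs]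
        rfl
    have hσ : σ ∈ setSystemAut B := mem_setSystemAut fun b hb => by
      obtain ⟨c, -, e⟩ := hblk ⟨b, hb⟩
      exact e ▸ c.2
    refine ⟨⟨σ, hσ⟩, RelIso.ext ?_⟩
    rintro (_ | a | b)
    · exact hf
    · exact hs a
    · obtain ⟨c, hc, e⟩ := hblk b
      rw [hc]
      exact congrArg (fun z => some (Sum.inr z)) (Subtype.ext e : c = pb ⟨σ, hσ⟩ b)
  have hbij : Function.Bijective fun p : Option (α ⊕ B) × setSystemAut B => (T p.2).trans (g p.1) := by
    refine ⟨?_, fun f => ?_⟩
    · rintro ⟨w, σ⟩ ⟨w', σ'⟩ e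
      have h0 := congrArg (fun f : pointBlockGraph B ≃g pointBlockGraph B => f none) e
      simp only [RelIso.trans_apply, hTn, hg] at h0
      subst h0
      have hσ : σ = σ' := Subtype.ext (Equiv.ext fun a => by
        have h1 := congrArg (fun f : pointBlockGraph B ≃g pointBlockGraph B => f (some (Sum.inl a))) e
        simp only [RelIso.trans_apply, hTl] at h1
        simpa using (g w).injective h1)
      rw [hσ]
    · obtain ⟨σ, hσ⟩ := hstab (f.trans (g (f none)).symm) (by
        rw [RelIso.trans_apply, RelIso.symm_apply_eq, hg])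
      refine ⟨(f none, σ), RelIso.ext fun x => ?_⟩
      simp [← hσ]
  haveI : Finite B := Subtype.finite
  have h := ncard_blocks hB
  rw [hα, show Nat.choose 22 3 = 77 * Nat.choose 6 3 by decide +kernel] at h
  have h77 : Nat.card B = 77 := by
    rw [Nat.card_coe_set_eq]
    exact Nat.eq_of_mul_eq_mul_right (Nat.choose_pos (by norm_num)) h
  rw [← Nat.card_eq_of_bijective _ hbij, Nat.card_prod, hcard, Finite.card_option, Nat.card_sum,
    Nat.card_eq_fintype_card, hα, h77]

end Cfsg.Agent.Golay
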