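import Cfsg.Agent.Golay.SteinerUnique
import Cfsg.Agent.Golay.Mathieu

/-! Automorphism groups of the large Witt systems. -/

set_option autoImplicit false
set_option maxRecDepth 20000
set_option linter.unusedSectionVars false
open Cfsg
open scoped Pointwise

namespace Cfsg.Agent.Golay

theorem mem_setSystemAut {β : Type*} [Finite β] [DecidableEq β] {B : Set (Finset β)} {g : Equiv.Perm β}
    (h : ∀ b ∈ B, g • b ∈ B) : g ∈ setSystemAut B :=
  MulAction.mem_stabilizer_iff.2 (Set.eq_of_subset_of_ncard_le (by rintro _ ⟨b, hb, rfl⟩; exact h b hb)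
    (le_of_eq (Set.ncard_image_of_injective _ (MulAction.injective g)).symm) (Set.toFinite _))

theorem setSystemAut_maps {β : Type*} [DecidableEq β] {B : Set (Finset β)} {g : Equiv.Perm β}
    (h : g ∈ setSystemAut B) {b : Finset β} (hb : b ∈ B) : g • b ∈ B := by
  rw [← MulAction.mem_stabilizer_iff.1 h]
  exact Set.smul_mem_smul_set hb

theorem mem_M24_of_octads {σ : Equiv.Perm GolayPt} (h : ∀ o ∈ octads, σ • o ∈ octads) : σ ∈ M24 := by
  rw [mem_M24_iff_rows]
  intro r hr
  refine octad_subset_supports (h _ ?_)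
  obtain ⟨h1, h2⟩ := (by decide +kernel : ∀ r ∈ rows, inC r = true ∧ pc r = 8) r hr
  exact octad_bset h1 h2

/-- The group of the model: it fixes `X` pointwise and preserves the completions of `X`. -/
def modelGroup (X : Finset GolayPt) : Subgroup (Equiv.Perm GolayPt) :=
  setSystemAut (stModel X) ⊓ fixingSubgroup (Equiv.Perm GolayPt) (X : Set GolayPt)

theorem mem_fixing {X : Finset GolayPt} {g : Equiv.Perm GolayPt} :
    g ∈ fixingSubgroup (Equiv.Perm GolayPt) (X : Set GolayPt) ↔ ∀ x ∈ X, g x = x := by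
  simp [mem_fixingSubgroup_iff]

theorem smul_finset_fixed {X : Finset GolayPt} {g : Equiv.Perm GolayPt} (h : ∀ x ∈ X, g x = x) : g • X = X := by
  refine Finset.eq_of_subset_of_card_le (fun y hy => ?_) (by rw [Finset.card_smul_finset])
  obtain ⟨x, hx, rfl⟩ := Finset.mem_smul_finset.1 hy
  rwa [Equiv.Perm.smul_def, h x hx]

theorem smul_stModel {X Y : Finset GolayPt} {g : Equiv.Perm GolayPt} (hg : g ∈ M24) (h : g • X = Y)
    {s : Finset GolayPt} (hs : s ∈ stModel X) : g • s ∈ stModel Y := by
  subst h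
  exact ⟨(Finset.disjoint_image g.injective).2 hs.1, by
    rw [← Finset.smul_finset_union]; exact smul_mem_octads hg hs.2⟩

theorem modelGroup_of_M24 {X : Finset GolayPt} {g : Equiv.Perm GolayPt} (hg : g ∈ M24)
    (h : ∀ x ∈ X, g x = x) : g ∈ modelGroup X :=
  ⟨mem_setSystemAut fun _ hs => smul_stModel hg (smul_finset_fixed h) hs, mem_fixing.2 h⟩

section model
variable {α : Type*} [Fintype α] [DecidableEq α] {B : Set (Finset α)} {X : Finset GolayPt} {f : α → GolayPt}
  (hf : Function.Injective f) (hX : ∀ q, q ∈ X ↔ q ∉ Set.range f) (hB : (fun b => b.image f) '' B = stModel X)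

/-- The points outside `X`. -/
noncomputable def modelEquiv : α ≃ {q : GolayPt // q ∉ X} :=
  Equiv.ofBijective (fun a => ⟨f a, fun h => (hX _).1 h ⟨a, rfl⟩⟩)
    ⟨fun a b e => hf (congrArg Subtype.val e), fun q => by
      obtain ⟨a, ha⟩ : q.1 ∈ Set.range f := by
        by_contra h; exact q.2 ((hX _).2 h)
      exact ⟨a, Subtype.ext ha⟩⟩

/-- Extension of a permutation of the labels. -/
noncomputable def extPerm : Equiv.Perm α →* Equiv.Perm GolayPt :=
  Equiv.Perm.extendDomainHom (modelEquiv hf hX)

theorem extPerm_apply (σ : Equiv.Perm α) (a : α) : extPerm hf hX σ (f a) = f (σ a) :=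
  Equiv.Perm.extendDomain_apply_image σ (modelEquiv hf hX) a

theorem extPerm_fix (σ : Equiv.Perm α) {x : GolayPt} (hx : x ∈ X) : extPerm hf hX σ x = x :=
  Equiv.Perm.extendDomain_apply_not_subtype σ (modelEquiv hf hX) (fun h : x ∉ X => h hx)

theorem extPerm_image (σ : Equiv.Perm α) (b : Finset α) :
    extPerm hf hX σ • b.image f = (σ • b).image f := by
  rw [Finset.smul_finset_def, Finset.smul_finset_def, Finset.image_image, Finset.image_image]
  exact Finset.image_congr fun a _ => extPerm_apply hf hX σ a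

include hB in
theorem extPerm_mem_iff (σ : Equiv.Perm α) : extPerm hf hX σ ∈ modelGroup X ↔ σ ∈ setSystemAut B := by
  refine ⟨fun h => mem_setSystemAut fun b hb => ?_, fun h => ⟨mem_setSystemAut ?_, mem_fixing.2 fun x hx => extPerm_fix hf hX σ hx⟩⟩
  · obtain ⟨c, hc, e⟩ : extPerm hf hX σ • b.image f ∈ (fun b => b.image f) '' B := by
      rw [hB]; exact setSystemAut_maps h.1 (hB.subset ⟨b, hb, rfl⟩)
    rw [extPerm_image] at e
    rwa [← Finset.image_injective hf e]
  · intro s hs
    rw [← hB] at hs ⊢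
    obtain ⟨b, hb, rfl⟩ := hs
    exact ⟨σ • b, setSystemAut_maps h hb, (extPerm_image hf hX σ b).symm⟩

/-- The automorphism group of the system is the group of the model. -/
noncomputable def autEquiv : setSystemAut B ≃* modelGroup X :=
  MulEquiv.ofBijective (((extPerm hf hX).comp (setSystemAut B).subtype).codRestrict (modelGroup X)
    fun σ => (extPerm_mem_iff hf hX hB σ.1).2 σ.2)
  ⟨fun σ τ e => Subtype.ext (Equiv.Perm.extendDomainHom_injective (modelEquiv hf hX) (congrArg Subtype.val e)),
    fun g => by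
      have hfix := mem_fixing.1 g.2.2
      have hg : ∀ q, q ∉ X ↔ g.1 q ∉ X := fun q => not_congr ⟨fun h => by rwa [hfix q h], fun h => by
        have e := hfix _ h
        exact g.1.injective e ▸ h⟩
      let σ : Equiv.Perm α := (modelEquiv hf hX).symm.permCongr (g.1.subtypePerm fun q => (hg q).symm)
      have e : extPerm hf hX σ = g.1 := by
        refine Equiv.ext fun q => ?_
        by_cases hq : q ∈ X
        · rw [extPerm_fix hf hX σ hq, hfix q hq]
        · obtain ⟨a, rfl⟩ : q ∈ Set.range f := by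
            by_contra h; exact hq ((hX _).2 h)
          rw [extPerm_apply]
          have h1 : modelEquiv hf hX (σ a) = g.1.subtypePerm (fun q => (hg q).symm) (modelEquiv hf hX a) := by
            simp [σ]
          exact congrArg Subtype.val h1
      exact ⟨⟨σ, (extPerm_mem_iff hf hX hB σ).1 (e ▸ g.2)⟩, Subtype.ext e⟩⟩

theorem autEquiv_coe (σ : setSystemAut B) : (autEquiv hf hX hB σ : Equiv.Perm GolayPt) = extPerm hf hX σ.1 := rfl

include hf hX hB in
theorem model_trans {t : ℕ} (ht : X.card + t ≤ 5) : MulAction.IsMultiplyPretransitive (setSystemAut B) α t := by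
  refine MulAction.isMultiplyPretransitive_iff.2 fun {x y} => ?_
  have nd : ∀ x : Fin t ↪ α, (X.toList ++ List.ofFn fun i => f (x i)).Nodup := fun x => by
    refine List.nodup_append'.2 ⟨Finset.nodup_toList X, List.nodup_ofFn.2 (hf.comp x.injective), ?_⟩
    intro q hq hq'
    rw [Finset.mem_toList] at hq
    obtain ⟨i, rfl⟩ := List.mem_ofFn.1 hq'
    exact (hX _).1 hq ⟨_, rfl⟩
  obtain ⟨g, hg, hm⟩ := exists_mem_M24_list _ _ (nd x) (nd y) (by simp) (by simpa using ht)
  rw [List.map_append] at hm
  obtain ⟨h1, h2⟩ := List.append_inj hm (by simp)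
  have hfix : ∀ q ∈ X, g q = q := fun q hq =>
    (List.map_eq_map_iff.1 (h1.trans (List.map_id _).symm)) q (Finset.mem_toList.2 hq)
  refine ⟨(autEquiv hf hX hB).symm ⟨g, modelGroup_of_M24 hg hfix⟩, DFunLike.ext _ _ fun i => hf ?_⟩
  have e := congrArg (fun k : modelGroup X => (k : Equiv.Perm GolayPt) (f (x i)))
    ((autEquiv hf hX hB).apply_symm_apply ⟨g, modelGroup_of_M24 hg hfix⟩)
  simp only [autEquiv_coe, extPerm_apply] at e
  rw [List.map_ofFn] at h2
  exact e.trans (congrFun (List.ofFn_injective h2) i)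

end model

theorem M24_eq_modelGroup : modelGroup ∅ = M24 := by
  ext g
  refine ⟨fun h => mem_M24_of_octads fun o ho => ?_, fun h => modelGroup_of_M24 h (by simp)⟩
  rw [← stModel_empty] at ho ⊢
  exact setSystemAut_maps h.1 ho

theorem mem_M24_of_model_A {g : Equiv.Perm GolayPt} (hg : g ∈ setSystemAut (stModel {ptA})) (hA : g ptA = ptA) :
    g ∈ M24 := by
  have thru : ∀ h : Equiv.Perm GolayPt, h ∈ setSystemAut (stModel {ptA}) → h ptA = ptA →
      ∀ o ∈ octads, ptA ∈ o → h • o ∈ octads := by
    intro h hh hA o ho hAo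
    obtain ⟨-, ho'⟩ := setSystemAut_maps hh (show o.erase ptA ∈ stModel {ptA} from
      ⟨Finset.disjoint_singleton_right.2 (Finset.notMem_erase _ _), by
        rwa [← Finset.insert_eq, Finset.insert_erase hAo]⟩)
    have e : {ptA} ∪ h • o.erase ptA = h • o := by
      conv_rhs => rw [← Finset.insert_erase hAo, Finset.insert_eq, Finset.smul_finset_union,
        Finset.smul_finset_singleton, Equiv.Perm.smul_def, hA]
    rwa [e] at ho'
  refine mem_M24_of_octads fun o ho => ?_
  by_cases hAo : ptA ∈ o
  · exact thru g hg hA o ho hAo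
  have hA' : g⁻¹ ptA = ptA := by
    conv_lhs => rw [← hA]
    simp
  refine split24 ?_ (by rw [Finset.card_smul_finset]; exact ho.2) fun o' ho' hAo' => ?_
  · rw [← Finset.inv_smul_mem_iff, Equiv.Perm.smul_def, hA']; exact hAo
  · rw [← smul_inv_smul g o', ← Finset.smul_finset_inter, Finset.card_smul_finset]
    exact even_card_inter (octad_subset_supports ho) (octad_subset_supports (thru _ (inv_mem hg) hA' o' ho' hAo'))

theorem M23_eq_modelGroup : modelGroup {ptA} = M24 ⊓ MulAction.stabilizer (Equiv.Perm GolayPt) ptA := by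
  ext g
  rw [Subgroup.mem_inf, MulAction.mem_stabilizer_iff (a := ptA), Equiv.Perm.smul_def]
  refine ⟨fun h => ?_, fun h => modelGroup_of_M24 h.1 (by simp [h.2])⟩
  have hA : g ptA = ptA := mem_fixing.1 h.2 _ (Finset.mem_singleton_self _)
  exact ⟨mem_M24_of_model_A h.1 hA, hA⟩

/-- The completions by the first point avoiding the second. -/
def classA : Set (Finset GolayPt) := {s | s ∈ stModel {ptA} ∧ ptB ∉ s}

/-- The completions by the second point avoiding the first. -/
def classB : Set (Finset GolayPt) := {s | s ∈ stModel {ptB} ∧ ptA ∉ s}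

theorem class_disjoint {s : Finset GolayPt} (h : s ∈ classA ∨ s ∈ classB) : Disjoint s {ptA, ptB} := by
  rw [Finset.disjoint_insert_right, Finset.disjoint_singleton_right]
  rcases h with ⟨⟨hd, -⟩, h⟩ | ⟨⟨hd, -⟩, h⟩
  · exact ⟨Finset.disjoint_singleton_right.1 hd, h⟩
  · exact ⟨h, Finset.disjoint_singleton_right.1 hd⟩

theorem model22_fixed {g : Equiv.Perm GolayPt} (hg : g ∈ modelGroup {ptA, ptB}) {s : Finset GolayPt}
    (hs : s ∈ classA) : g • s ∈ classA ∨ g • s ∈ classB := by
  have hfix := mem_fixing.1 hg.2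
  have hd := class_disjoint (Or.inl hs)
  have hgd : Disjoint (g • s) {ptA, ptB} := by
    rw [← smul_finset_fixed hfix]; exact (Finset.disjoint_image g.injective).2 hd
  have h7 : s.card = 7 := by
    have := card_octad hs.1.2
    rw [Finset.card_union_of_disjoint hs.1.1.symm, Finset.card_singleton] at this
    omega
  refine (split23 hgd (by rw [Finset.card_smul_finset, h7]) fun o ho hAo hBo => ?_).imp
    (fun h => ⟨h, fun hb => Finset.disjoint_left.1 hgd hb (by simp)⟩)
    (fun h => ⟨h, fun hb => Finset.disjoint_left.1 hgd hb (by simp)⟩)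
  -- the octad through both points pulls back
  have hu : ({ptA, ptB} : Finset GolayPt) ∪ (o \ {ptA, ptB}) = o :=
    Finset.union_sdiff_of_subset (by simp [Finset.insert_subset_iff, hAo, hBo])
  obtain ⟨hd', ho'⟩ := setSystemAut_maps (inv_mem hg.1) (show o \ {ptA, ptB} ∈ stModel {ptA, ptB} from
    ⟨Finset.sdiff_disjoint, by rw [hu]; exact ho⟩)
  have hpre : g⁻¹ • o ∈ octads := by
    have hgi := smul_finset_fixed (g := g⁻¹) (X := {ptA, ptB}) (fun x hx => by
      conv_lhs => rw [← hfix x hx]
      simp)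
    have e : {ptA, ptB} ∪ g⁻¹ • (o \ {ptA, ptB}) = g⁻¹ • o := by
      conv_rhs => rw [← hu, Finset.smul_finset_union, hgi]
    rwa [e] at ho'
  rw [← smul_inv_smul g o, ← Finset.smul_finset_inter, Finset.card_smul_finset]
  have he := even_card_inter (octad_subset_supports hs.1.2) (octad_subset_supports hpre)
  have hmem : ptA ∈ g⁻¹ • o := Finset.mem_smul_finset.2 ⟨ptA, hAo, by
    rw [Equiv.Perm.smul_def]
    conv_lhs => rw [← hfix ptA (by simp)]
    simp⟩
  rw [Finset.union_inter_distrib_right, Finset.singleton_inter_of_mem hmem,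
    Finset.card_union_of_disjoint (Finset.disjoint_singleton_left.2 fun h =>
      Finset.disjoint_left.1 hd (Finset.mem_inter.1 h).1 (by simp)), Finset.card_singleton] at he
  rw [Nat.odd_iff]
  rw [Nat.even_iff] at he
  omega

theorem model22_classA {g : Equiv.Perm GolayPt} (hg : g ∈ modelGroup {ptA, ptB}) :
    g ∈ M24 ∨ ∀ s ∈ classA, g • s ∈ classB := by
  have hfix := mem_fixing.1 hg.2
  by_cases h : ∀ s ∈ classA, g • s ∈ classA
  · left
    refine mem_M24_of_model_A (mem_setSystemAut fun s hs => ?_) (hfix ptA (by simp))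
    by_cases hB : ptB ∈ s
    · have hsd : ptA ∉ s := Finset.disjoint_singleton_right.1 hs.1
      obtain ⟨hd', ho'⟩ := setSystemAut_maps hg.1 (show s.erase ptB ∈ stModel {ptA, ptB} from
        ⟨by simp [Finset.disjoint_insert_right, hsd], by
          rw [Finset.insert_union, ← Finset.insert_eq, Finset.insert_erase hB, Finset.insert_eq]; exact hs.2⟩)
      refine ⟨Finset.disjoint_singleton_right.2 fun h' => ?_, ?_⟩
      · rw [← Finset.inv_smul_mem_iff, Equiv.Perm.smul_def] at h'
        have e : g⁻¹ ptA = ptA := by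
          conv_lhs => rw [← hfix ptA (by simp)]
          simp
        exact hsd (e ▸ h')
      · have e : {ptA, ptB} ∪ g • s.erase ptB = {ptA} ∪ g • s := by
          conv_rhs => rw [← Finset.insert_erase hB, Finset.smul_finset_insert, Equiv.Perm.smul_def,
            hfix ptB (by simp), Finset.insert_eq ptB, ← Finset.union_assoc, ← Finset.insert_eq]
        rwa [e] at ho'
    · exact (h s ⟨hs, hB⟩).1
  · right
    push Not at h
    obtain ⟨t, ht, hn⟩ := h
    intro s hs
    refine (model22_fixed hg hs).resolve_left fun hA => ?_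
    have htB := (model22_fixed hg ht).resolve_left hn
    have hev := split_even hA.1 htB.1 (class_disjoint (Or.inl hA)) (class_disjoint (Or.inr htB))
    rw [← Finset.smul_finset_inter, Finset.card_smul_finset] at hev
    have he := even_card_inter (octad_subset_supports hs.1.2) (octad_subset_supports ht.1.2)
    rw [← Finset.union_inter_distrib_left, Finset.card_union_of_disjoint
      (Finset.disjoint_singleton_left.2 fun h =>
        Finset.disjoint_singleton_right.1 hs.1.1 (Finset.mem_inter.1 h).1), Finset.card_singleton] at he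
    rw [Nat.even_iff] at he hev
    omega

/-- The outer element: it exchanges the two classes. -/
theorem exists_outer : ∃ u ∈ modelGroup {ptA, ptB}, u ∉ M24 ∧ ∀ s ∈ classB, u • s ∈ classA := by
  obtain ⟨g, hg, hgA, hgB⟩ := exists_swapAB
  have hgAB : g • ({ptA, ptB} : Finset GolayPt) = {ptA, ptB} := by
    rw [Finset.smul_finset_insert, Finset.smul_finset_singleton, Equiv.Perm.smul_def, Equiv.Perm.smul_def,
      hgA, hgB, Finset.pair_comm]
  have hsw : ∀ s : Finset GolayPt, Disjoint s {ptA, ptB} → Equiv.swap ptA ptB • s = s := by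
    intro s hs
    refine smul_finset_fixed fun x hx => Equiv.swap_apply_of_ne_of_ne ?_ ?_ <;>
      exact fun e => Finset.disjoint_left.1 hs hx (by simp [e])
  refine ⟨g * Equiv.swap ptA ptB, ⟨mem_setSystemAut fun s hs => ?_, mem_fixing.2 fun x hx => ?_⟩, ?_, fun s hs => ?_⟩
  · rw [mul_smul, hsw s hs.1]; exact smul_stModel hg hgAB hs
  · simp only [Finset.mem_insert, Finset.mem_singleton] at hx
    rcases hx with rfl | rfl <;> simp [Equiv.Perm.mul_apply, hgA, hgB]
  · intro h
    have hsw' : Equiv.swap ptA ptB ∈ M24 := by simpa using mul_mem (inv_mem hg) h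
    obtain ⟨h1, h2, h3, h4⟩ :=
      (by decide +kernel : inC 4196943 = true ∧ pc 4196943 = 8 ∧ (4196943 : ℕ).testBit 22 = true ∧ (4196943 : ℕ).testBit 23 = false)
    have hBo : ptB ∈ bset 4196943 := mem_bset.2 h3
    have hAo : ptA ∉ bset 4196943 := fun e => by
      have := mem_bset.1 e
      rw [show idx ptA = 23 from rfl, h4] at this
      exact Bool.false_ne_true this
    have ho := octad_bset h1 h2
    have hsub : (bset 4196943).erase ptB ⊆ bset 4196943 ∩ Equiv.swap ptA ptB • bset 4196943 := fun q hq => by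
      rw [Finset.mem_erase] at hq
      refine Finset.mem_inter.2 ⟨hq.2, Finset.mem_smul_finset.2 ⟨q, hq.2, ?_⟩⟩
      exact Equiv.swap_apply_of_ne_of_ne (fun e => hAo (e ▸ hq.2)) hq.1
    have e := octad_eq_of_five_le ho (smul_mem_octads hsw' ho) (le_trans (by
      rw [Finset.card_erase_of_mem hBo, card_octad ho]; norm_num) (Finset.card_le_card hsub))
    exact hAo (e.symm ▸ Finset.mem_smul_finset.2 ⟨ptB, hBo, Equiv.swap_apply_right _ _⟩)
  · rw [mul_smul, hsw s (class_disjoint (Or.inr hs))]
    refine ⟨smul_stModel hg (by rw [Finset.smul_finset_singleton, Equiv.Perm.smul_def, hgB]) hs.1, fun h => hs.2 ?_⟩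
    rw [← Finset.inv_smul_mem_iff, Equiv.Perm.smul_def] at h
    have e : g⁻¹ ptB = ptA := by
      rw [← hgA]; simp
    rwa [e] at h

theorem M22_eq_inf : modelGroup {ptA, ptB} ⊓ M24 =
    M24 ⊓ MulAction.stabilizer (Equiv.Perm GolayPt) ptA ⊓ MulAction.stabilizer (Equiv.Perm GolayPt) ptB := by
  ext g
  simp only [Subgroup.mem_inf, MulAction.mem_stabilizer_iff, Equiv.Perm.smul_def]
  constructor
  · rintro ⟨h, hg⟩
    exact ⟨⟨hg, mem_fixing.1 h.2 _ (by simp)⟩, mem_fixing.1 h.2 _ (by simp)⟩
  · rintro ⟨⟨hg, hA⟩, hB⟩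
    refine ⟨modelGroup_of_M24 hg fun x hx => ?_, hg⟩
    simp only [Finset.mem_insert, Finset.mem_singleton] at hx
    rcases hx with rfl | rfl <;> assumption

theorem M22_index : (M24.subgroupOf (modelGroup {ptA, ptB})).index = 2 := by
  obtain ⟨u, hu, hu', huB⟩ := exists_outer
  refine Subgroup.index_eq_two_iff.2 ⟨⟨u, hu⟩⁻¹, fun b => ?_⟩
  simp only [Subgroup.mem_subgroupOf, Subgroup.coe_mul, Subgroup.coe_inv]
  by_cases hb : (b : Equiv.Perm GolayPt) ∈ M24
  · refine Or.inr ⟨hb, fun h => hu' ?_⟩
    simpa using mul_mem (inv_mem h) hb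
  · refine Or.inl ⟨?_, hb⟩
    have hmaps : ∀ s ∈ classA, (b.1)⁻¹ • s ∈ classB :=
      (model22_classA (inv_mem b.2)).resolve_left fun h => hb (by simpa using inv_mem h)
    have h2 : ∀ s ∈ classA, (u * (b.1)⁻¹) • s ∈ classA := fun s hs => by rw [mul_smul]; exact huB _ (hmaps s hs)
    have h3 : u * (b.1)⁻¹ ∈ M24 := by
      refine (model22_classA (mul_mem hu (inv_mem b.2))).resolve_right fun h => ?_
      obtain ⟨o, ho, hA, hB⟩ : ∃ o ∈ octads, ptA ∈ o ∧ ptB ∉ o := by
        refine ⟨bset 8391797, octad_bset (by decide +kernel) (by decide +kernel), mem_bset.2 (by decide +kernel), ?_⟩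
        rw [mem_bset]; decide +kernel
      have hs : o.erase ptA ∈ classA := ⟨⟨Finset.disjoint_singleton_right.2 (Finset.notMem_erase _ _), by
        rwa [← Finset.insert_eq, Finset.insert_erase hA]⟩, fun h => hB (Finset.mem_of_mem_erase h)⟩
      obtain ⟨hd1, h1⟩ := h2 _ hs |>.1
      obtain ⟨⟨hd2, h1'⟩, -⟩ := h _ hs
      have he := even_card_inter (octad_subset_supports h1) (octad_subset_supports h1')
      have hc : ((u * (b.1)⁻¹) • o.erase ptA).card = 7 := by
        rw [Finset.card_smul_finset, Finset.card_erase_of_mem hA, card_octad ho]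
      rw [← Finset.inter_union_distrib_right, Finset.card_union_of_disjoint (Finset.disjoint_of_subset_left
          Finset.inter_subset_left hd1.symm), hc, Finset.singleton_inter_of_notMem (by simp [ptA_ne_ptB]),
        Finset.card_empty] at he
      exact (by decide : ¬ Even (0 + 7)) he
    simpa using inv_mem h3

end Cfsg.Agent.Golay
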