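import Cfsg.Agent.Golay.Dodecad
import Cfsg.Agent.Golay.LeaderData
import Cfsg.Prelude.Def_SporadicCombinatorics

/-! Counting facts for octads and dodecads, cosets of the code, sextets and trios. -/

set_option autoImplicit false

namespace Cfsg.Agent.Golay

open scoped Pointwise

/-! ### Intersection numbers -/

theorem inter_octads {o o' : Finset GolayPt} (ho : o ∈ octads) (ho' : o' ∈ octads) (hne : o ≠ o') :
    (o ∩ o').card = 0 ∨ (o ∩ o').card = 2 ∨ (o ∩ o').card = 4 := by
  have h5 : ¬ 5 ≤ (o ∩ o').card := fun h => hne (octad_eq_of_five_le ho ho' h)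
  obtain ⟨k, hk⟩ := even_card_inter ho.1 ho'.1
  omega

theorem inter_octad_dodecad {o d : Finset GolayPt} (ho : o ∈ octads) (hd : d ∈ dodecads) :
    (o ∩ d).card = 2 ∨ (o ∩ d).card = 4 ∨ (o ∩ d).card = 6 := by
  have hs := card_of_mem_supports (symmDiff_mem_supports ho.1 hd.1)
  have hc := card_symmDiff_add (s := o) (t := d)
  rw [card_octad ho, card_dodecad hd] at hc
  have h8 : (o ∩ d).card ≤ 8 :=
    (Finset.card_le_card Finset.inter_subset_left).trans_eq (card_octad ho)
  omega

theorem inter_dodecads {d d' : Finset GolayPt} (hd : d ∈ dodecads) (hd' : d' ∈ dodecads)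
    (hne : d' ≠ d) : (d ∩ d').card = 0 ∨ (d ∩ d').card = 4 ∨ (d ∩ d').card = 6 ∨ (d ∩ d').card = 8 := by
  have hs := card_of_mem_supports (symmDiff_mem_supports hd.1 hd'.1)
  have hc := card_symmDiff_add (s := d) (t := d')
  rw [card_dodecad hd, card_dodecad hd'] at hc
  have h12 : (d ∩ d').card ≠ 12 := by
    intro h
    apply hne
    have h1 : d ∩ d' = d := Finset.eq_of_subset_of_card_le Finset.inter_subset_left
      (by rw [h, card_dodecad hd])
    have h2 : d ∩ d' = d' := Finset.eq_of_subset_of_card_le Finset.inter_subset_right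
      (by rw [h, card_dodecad hd'])
    exact h2.symm.trans h1
  omega

theorem pc_inter (s : Finset GolayPt) (m : ℕ) : (s ∩ bset m).card = pc (mask s &&& m) := by
  rw [← card_bset, bset_and, bset_mask]

/-- Number of octads with a given intersection size with a dodecad. -/
theorem ncard_octad_inter_dodecad {d : Finset GolayPt} (hd : d ∈ dodecads) (k : ℕ) :
    {o : Finset GolayPt | o ∈ octads ∧ (o ∩ d).card = k}.ncard
      = countB (fun i => pc (encode i) == 8 && pc (encode i &&& sqMask) == k) 12 0 := by
  obtain ⟨g, hg, rfl⟩ := exists_mem_M24_sqMask hd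
  have himg : {o : Finset GolayPt | o ∈ octads ∧ (o ∩ g • bset sqMask).card = k}
      = (fun o => g • o) '' {o : Finset GolayPt | o ∈ octads ∧ (o ∩ bset sqMask).card = k} := by
    ext o
    simp only [Set.mem_image, Set.mem_ofPred_eq]
    constructor
    · rintro ⟨ho, hk⟩
      refine ⟨g⁻¹ • o, ⟨smul_mem_octads (inv_mem hg) ho, ?_⟩, smul_inv_smul g o⟩
      rwa [← Finset.card_smul_finset g, Finset.smul_finset_inter, smul_inv_smul]
    · rintro ⟨o, ⟨ho, hk⟩, rfl⟩
      exact ⟨smul_mem_octads hg ho, by rwa [← Finset.smul_finset_inter, Finset.card_smul_finset]⟩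
  rw [himg, Set.ncard_image_of_injective _ (MulAction.injective g),
    ncard_supports_filter (fun n => pc n == 8 && pc (n &&& sqMask) == k) _
      (fun s => by simp [mem_octads_iff, pc_inter, and_assoc])]

/-- Number of dodecads with a given intersection size with a dodecad. -/
theorem ncard_dodecad_inter_dodecad {d : Finset GolayPt} (hd : d ∈ dodecads) (k : ℕ) :
    {d' : Finset GolayPt | d' ∈ dodecads ∧ (d ∩ d').card = k}.ncard
      = countB (fun i => pc (encode i) == 12 && pc (encode i &&& sqMask) == k) 12 0 := by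
  obtain ⟨g, hg, rfl⟩ := exists_mem_M24_sqMask hd
  have himg : {o : Finset GolayPt | o ∈ dodecads ∧ (g • bset sqMask ∩ o).card = k}
      = (fun o => g • o) '' {o : Finset GolayPt | o ∈ dodecads ∧ (o ∩ bset sqMask).card = k} := by
    ext o
    simp only [Set.mem_image, Set.mem_ofPred_eq]
    constructor
    · rintro ⟨ho, hk⟩
      refine ⟨g⁻¹ • o, ⟨smul_mem_dodecads (inv_mem hg) ho, ?_⟩, smul_inv_smul g o⟩
      rwa [← Finset.card_smul_finset g, Finset.smul_finset_inter, smul_inv_smul, Finset.inter_comm]
    · rintro ⟨o, ⟨ho, hk⟩, rfl⟩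
      refine ⟨smul_mem_dodecads hg ho, ?_⟩
      rwa [← Finset.smul_finset_inter, Finset.card_smul_finset, Finset.inter_comm]
  rw [himg, Set.ncard_image_of_injective _ (MulAction.injective g),
    ncard_supports_filter (fun n => pc n == 12 && pc (n &&& sqMask) == k) _
      (fun s => by simp [mem_dodecads_iff, pc_inter, and_assoc])]

/-! ### Cosets of the code -/

/-- Syndrome of a mask. -/
def synd (n : ℕ) : ℕ := (n ^^^ encode n) >>> 12

theorem synd_xor (a b : ℕ) : synd (a ^^^ b) = synd a ^^^ synd b := by
  simp only [synd, encode, encAux_xor, ← Nat.shiftRight_xor_distrib]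
  congr 1
  simp [Nat.xor_assoc, Nat.xor_left_comm]

theorem inC_iff_synd {n : ℕ} : inC n = true ↔ synd n = 0 := by
  rw [inC, beq_iff_eq, synd, Nat.shiftRight_eq_div_pow]
  constructor
  · intro h; simp [h]
  · intro h
    rw [Nat.div_eq_zero_iff] at h
    have hlt : n ^^^ encode n < 2 ^ 12 := h.resolve_left (by norm_num)
    have hlow : (n ^^^ encode n) % 2 ^ 12 = 0 := by
      rw [Nat.xor_mod_two_pow, show encode n % 2 ^ 12 = n % 2 ^ 12 by
        rw [← encode_mod n]; exact encode_low (Nat.mod_lt _ (by norm_num))]
      simp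
    rw [Nat.mod_eq_of_lt hlt] at hlow
    exact (Nat.xor_eq_zero_iff.1 hlow).symm

/-- Check of one block of leaders starting at syndrome `s`. -/
def leadFrom : List ℕ → ℕ → Bool
  | [], _ => true
  | w :: ws, s => (synd w == s && decide (pc w ≤ 4) && decide (w < 16777216)) && leadFrom ws (s + 1)

theorem leadFrom_spec : ∀ (l : List ℕ) (s : ℕ), leadFrom l s = true →
    ∀ i, i < l.length → ∃ w, synd w = s + i ∧ pc w ≤ 4 ∧ w < 2 ^ 24
  | [], s, _, i, hi => by simp at hi
  | w :: ws, s, h, i, hi => by
    simp only [leadFrom, Bool.and_eq_true, beq_iff_eq, decide_eq_true_eq] at h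
    obtain ⟨⟨⟨h1, h2⟩, h3⟩, h4⟩ := h
    cases i with
    | zero => exact ⟨w, h1, h2, h3⟩
    | succ i =>
      obtain ⟨x, hx⟩ := leadFrom_spec ws (s + 1) h4 i (by simpa using hi)
      exact ⟨x, by rw [hx.1]; omega, hx.2⟩

theorem leaders_ok : ((List.range 32).all fun j =>
    let l := leaders.getD j []
    l.length == 128 && leadFrom l (128 * j)) = true := by decide +kernel

theorem exists_leader {s : ℕ} (hs : s < 4096) : ∃ w, synd w = s ∧ pc w ≤ 4 ∧ w < 2 ^ 24 := by
  have h := List.all_eq_true.1 leaders_ok (s / 128) (List.mem_range.2 (by omega))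
  simp only [Bool.and_eq_true, beq_iff_eq] at h
  obtain ⟨w, h1, h2⟩ := leadFrom_spec _ _ h.2 (s % 128) (by rw [h.1]; exact Nat.mod_lt _ (by norm_num))
  exact ⟨w, by rw [h1]; omega, h2⟩

/-- Every set is congruent to a set of size at most four modulo the code. -/
theorem exists_small_congr (s : Finset GolayPt) :
    ∃ t : Finset GolayPt, t.card ≤ 4 ∧
      symmDiff s t ∈ supports (golayCode : Set (GolayPt → ZMod 2)) := by
  have hlt : synd (mask s) < 4096 := by
    rw [synd, Nat.shiftRight_eq_div_pow, Nat.div_lt_iff_lt_mul (by norm_num)]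
    exact Nat.xor_lt_two_pow (mask_lt s) (encode_lt _)
  obtain ⟨w, hw, hw4, hwlt⟩ := exists_leader hlt
  refine ⟨bset w, by rw [card_bset]; exact hw4, ?_⟩
  rw [← bset_mask s, ← bset_xor]
  exact bset_mem_supports (inC_iff_synd.2 (by rw [synd_xor, hw, Nat.xor_self]))

/-- Two congruent sets of size at most four are equal or disjoint tetrads forming an octad. -/
theorem congr_small {s t : Finset GolayPt} (hs : s.card ≤ 4) (ht : t.card ≤ 4)
    (h : symmDiff s t ∈ supports (golayCode : Set (GolayPt → ZMod 2))) :
    s = t ∨ (s.card = 4 ∧ t.card = 4 ∧ Disjoint s t ∧ s ∪ t ∈ octads) := by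
  have hc := card_symmDiff_add (s := s) (t := t)
  rcases eq_or_ne (symmDiff s t).card 0 with h0 | h0
  · left
    rw [Finset.card_eq_zero] at h0
    exact symmDiff_eq_bot.1 h0
  · right
    have h8 := card_of_mem_supports h
    have hi : (s ∩ t).card = 0 := by omega
    have hd : Disjoint s t := Finset.disjoint_iff_inter_eq_empty.2 (Finset.card_eq_zero.1 hi)
    refine ⟨by omega, by omega, hd, ?_⟩
    have e : symmDiff s t = s ∪ t := hd.symmDiff_eq_sup
    rw [← e]
    exact ⟨h, by omega⟩

/-! ### Sextets -/

/-- The tetrads congruent to a given one. -/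
noncomputable def partners (t : Finset GolayPt) : Finset (Finset GolayPt) :=
  (Set.toFinite {u : Finset GolayPt | u.card = 4 ∧
    symmDiff t u ∈ supports (golayCode : Set (GolayPt → ZMod 2))}).toFinset

theorem mem_partners {t u : Finset GolayPt} :
    u ∈ partners t ↔ u.card = 4 ∧ symmDiff t u ∈ supports (golayCode : Set (GolayPt → ZMod 2)) := by
  simp [partners]

theorem self_mem_partners {t : Finset GolayPt} (ht : t.card = 4) : t ∈ partners t := by
  rw [mem_partners, symmDiff_self]; exact ⟨ht, empty_mem_supports⟩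

theorem partners_pair {t u v : Finset GolayPt} (hu : u ∈ partners t) (hv : v ∈ partners t)
    (huv : u ≠ v) : Disjoint u v ∧ u ∪ v ∈ octads := by
  rw [mem_partners] at hu hv
  have h := symmDiff_mem_supports hu.2 hv.2
  rw [symmDiff_symmDiff_symmDiff_comm, symmDiff_self, bot_symmDiff] at h
  exact ((congr_small hu.1.le hv.1.le h).resolve_left huv).2.2

/-- The congruent tetrads cover all points. -/
theorem partners_cover {t : Finset GolayPt} (ht : t.card = 4) (x : GolayPt) :
    ∃ u ∈ partners t, x ∈ u := by
  by_cases hx : x ∈ t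
  · exact ⟨t, self_mem_partners ht, hx⟩
  obtain ⟨o, ho, hso⟩ := exists_octad_of_five (insert x t)
    (by rw [Finset.card_insert_of_notMem hx, ht])
  rw [Finset.insert_subset_iff] at hso
  refine ⟨o \ t, mem_partners.2 ⟨?_, ?_⟩, Finset.mem_sdiff.2 ⟨hso.1, hx⟩⟩
  · rw [Finset.card_sdiff_of_subset hso.2, card_octad ho, ht]
  · have : symmDiff t (o \ t) = o := by
      rw [(Finset.disjoint_sdiff).symmDiff_eq_sup]
      exact Finset.union_sdiff_of_subset hso.2
    rw [this]; exact ho.1

theorem partners_biUnion {t : Finset GolayPt} (ht : t.card = 4) :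
    (partners t).biUnion id = Finset.univ := by
  ext x
  simpa using partners_cover ht x

theorem partners_card {t : Finset GolayPt} (ht : t.card = 4) : (partners t).card = 6 := by
  have h : ((partners t).biUnion id).card = 24 := by
    rw [partners_biUnion ht, Finset.card_univ, card_golayPt]
  have h2 : ((partners t).biUnion id).card = (partners t).card * 4 := by
    refine (Finset.card_biUnion ?_).trans (Finset.sum_const_nat ?_)
    · intro u hu v hv huv; exact (partners_pair hu hv huv).1
    · intro u hu; exact (mem_partners.1 hu).1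
  omega

theorem partners_mem_sextets {t : Finset GolayPt} (ht : t.card = 4) : partners t ∈ sextets :=
  ⟨partners_card ht, fun _ hu => (mem_partners.1 hu).1,
    fun _ hu _ hv huv => (partners_pair hu hv huv).2⟩

theorem sextet_eq_partners {S : Finset (Finset GolayPt)} (hS : S ∈ sextets) {t : Finset GolayPt}
    (ht : t ∈ S) : S = partners t := by
  obtain ⟨hS6, hS4, hSo⟩ := hS
  refine Finset.eq_of_subset_of_card_le (fun u hu => ?_) ?_
  · refine mem_partners.2 ⟨hS4 u hu, ?_⟩
    by_cases e : t = u
    · subst e; rw [symmDiff_self]; exact empty_mem_supports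
    · have ho := hSo t ht u hu e
      have h1 := Finset.card_union_add_card_inter t u
      rw [card_octad ho, hS4 t ht, hS4 u hu] at h1
      have hd : Disjoint t u :=
        Finset.disjoint_iff_inter_eq_empty.2 (Finset.card_eq_zero.1 (by omega))
      rw [hd.symmDiff_eq_sup]; exact ho.1
  · rw [partners_card (hS4 t ht), hS6]

theorem existsUnique_sextet {t : Finset GolayPt} (ht : t.card = 4) :
    ∃! S : Finset (Finset GolayPt), S ∈ sextets ∧ t ∈ S :=
  ⟨partners t, ⟨partners_mem_sextets ht, self_mem_partners ht⟩,
    fun _ h => sextet_eq_partners h.1 h.2⟩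

theorem sextets_ncard : sextets.ncard = 1771 := by
  classical
  set X := (Set.toFinite sextets).toFinset with hX
  have hU : X.biUnion id = (Finset.univ : Finset GolayPt).powersetCard 4 := by
    ext t
    simp only [Finset.mem_biUnion, id_eq, Finset.mem_powersetCard, Finset.subset_univ, true_and, hX,
      Set.Finite.mem_toFinset]
    exact ⟨fun ⟨S, hS, ht⟩ => hS.2.1 t ht,
      fun ht => ⟨partners t, partners_mem_sextets ht, self_mem_partners ht⟩⟩
  have h := congrArg Finset.card hU
  rw [Finset.card_biUnion (fun S hS S' hS' hne => by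
      rw [Function.onFun, Finset.disjoint_left]
      intro t ht ht'
      exact hne ((sextet_eq_partners (by simpa [hX] using hS) ht).trans
        (sextet_eq_partners (by simpa [hX] using hS') ht').symm)),
    Finset.sum_congr rfl (g := fun _ => 6) (fun S hS => (by
      have : S ∈ sextets := by simpa [hX] using hS
      exact this.1)), Finset.sum_const, Finset.card_powersetCard, Finset.card_univ, card_golayPt,
    smul_eq_mul] at h
  rw [Set.ncard_eq_toFinset_card _ (Set.toFinite sextets), ← hX]
  have e : Nat.choose 24 4 = 10626 := by decide +kernel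
  omega

/-! ### Trios -/

theorem third_octad {o o' : Finset GolayPt} (ho : o ∈ octads) (ho' : o' ∈ octads)
    (hd : Disjoint o o') : (o ∪ o')ᶜ ∈ octads := by
  refine ⟨?_, ?_⟩
  · apply compl_mem_supports
    have := symmDiff_mem_supports ho.1 ho'.1
    rwa [hd.symmDiff_eq_sup] at this
  · rw [Finset.card_compl, Finset.card_union_of_disjoint hd, card_octad ho, card_octad ho',
      card_golayPt]

theorem octad_ne_of_disjoint {o o' : Finset GolayPt} (ho : o ∈ octads) (hd : Disjoint o o') :
    o ≠ o' := by
  rintro rfl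
  have h8 := card_octad ho
  rw [disjoint_self.1 hd] at h8
  exact absurd h8 (by simp)

theorem trio_eq {T : Finset (Finset GolayPt)} (hT : T ∈ trios) {o o' : Finset GolayPt} (ho : o ∈ T)
    (ho' : o' ∈ T) (hne : o ≠ o') : T = {o, o', (o ∪ o')ᶜ} := by
  obtain ⟨h3, hoct, hdis⟩ := hT
  obtain ⟨x, hx, hxo, hxo'⟩ : ∃ x ∈ T, x ≠ o ∧ x ≠ o' := by
    by_contra h
    push Not at h
    have hsub : T ⊆ {o, o'} := by
      intro x hx
      simp only [Finset.mem_insert, Finset.mem_singleton]
      exact or_iff_not_imp_left.2 (h x hx)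
    have := Finset.card_le_card hsub
    rw [Finset.card_pair hne] at this
    omega
  have hc : x = (o ∪ o')ᶜ := by
    have ho8 := third_octad (hoct o ho) (hoct o' ho') (hdis o ho o' ho' hne)
    refine Finset.eq_of_subset_of_card_le ?_ (by rw [card_octad (hoct x hx), card_octad ho8])
    intro p hp
    simp only [Finset.mem_compl, Finset.mem_union, not_or]
    exact ⟨fun h => Finset.disjoint_left.1 (hdis x hx o ho hxo) hp h,
      fun h => Finset.disjoint_left.1 (hdis x hx o' ho' hxo') hp h⟩
  subst hc
  refine (Finset.eq_of_subset_of_card_le ?_ ?_).symm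
  · simp only [Finset.insert_subset_iff, Finset.singleton_subset_iff]
    exact ⟨ho, ho', hx⟩
  · rw [h3, Finset.card_insert_of_notMem (by
        simp only [Finset.mem_insert, Finset.mem_singleton, not_or]; exact ⟨hne, Ne.symm hxo⟩),
      Finset.card_insert_of_notMem (by rw [Finset.mem_singleton]; exact Ne.symm hxo'),
      Finset.card_singleton]

theorem base_octad_disjoint_count :
    countB (fun i => pc (encode i) == 8 && pc (encode i &&& 9347075) == 0) 12 0 = 30 := by
  decide +kernel

theorem disjoint_octads_ncard {o : Finset GolayPt} (ho : o ∈ octads) :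
    {o' : Finset GolayPt | o' ∈ octads ∧ Disjoint o o'}.ncard = 30 := by
  obtain ⟨g, hg, rfl⟩ := M24_octad_transitive octad_base ho
  have himg : {o' : Finset GolayPt | o' ∈ octads ∧ Disjoint (g • bset 9347075) o'}
      = (fun x => g • x) '' {o' : Finset GolayPt | o' ∈ octads ∧ Disjoint (bset 9347075) o'} := by
    ext o'
    simp only [Set.mem_image, Set.mem_ofPred_eq]
    constructor
    · rintro ⟨ho', hd⟩
      refine ⟨g⁻¹ • o', ⟨smul_mem_octads (inv_mem hg) ho', ?_⟩, smul_inv_smul g o'⟩
      rw [Finset.disjoint_iff_inter_eq_empty] at hd ⊢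
      rw [← Finset.card_eq_zero, ← Finset.card_smul_finset g, Finset.smul_finset_inter, smul_inv_smul,
        hd, Finset.card_empty]
    · rintro ⟨x, ⟨hx, hd⟩, rfl⟩
      refine ⟨smul_mem_octads hg hx, ?_⟩
      rw [Finset.disjoint_iff_inter_eq_empty] at hd ⊢
      rw [← Finset.smul_finset_inter, hd, Finset.smul_finset_empty]
  rw [himg, Set.ncard_image_of_injective _ (MulAction.injective g),
    ncard_supports_filter (fun n => pc n == 8 && pc (n &&& 9347075) == 0) _ (fun s => by
      simp only [Set.mem_ofPred_eq, mem_octads_iff, Finset.disjoint_iff_inter_eq_empty,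
        ← Finset.card_eq_zero, Finset.inter_comm (bset 9347075), pc_inter, Bool.and_eq_true,
        beq_iff_eq, and_assoc])]
  exact base_octad_disjoint_count

theorem trios_ncard : trios.ncard = 3795 := by
  classical
  set X := (Set.toFinite trios).toFinset with hX
  set O := (Set.toFinite octads).toFinset with hO
  have hO759 : O.card = 759 := by
    rw [hO, ← Set.ncard_eq_toFinset_card _ (Set.toFinite octads), octads_ncard]
  have hU : X.biUnion (fun T => T.offDiag) = (O ×ˢ O).filter fun p => Disjoint p.1 p.2 := by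
    ext ⟨o, o'⟩
    simp only [Finset.mem_biUnion, Finset.mem_offDiag, Finset.mem_filter, Finset.mem_product, hX, hO,
      Set.Finite.mem_toFinset]
    constructor
    · rintro ⟨T, hT, ho, ho', hne⟩
      exact ⟨⟨hT.2.1 o ho, hT.2.1 o' ho'⟩, hT.2.2 o ho o' ho' hne⟩
    · rintro ⟨⟨ho, ho'⟩, hd⟩
      have hne := octad_ne_of_disjoint ho hd
      have h3 := third_octad ho ho' hd
      have hd1 : Disjoint o (o ∪ o')ᶜ := disjoint_compl_right.mono_left Finset.subset_union_left
      have hd2 : Disjoint o' (o ∪ o')ᶜ := disjoint_compl_right.mono_left Finset.subset_union_right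
      have n1 := octad_ne_of_disjoint ho hd1
      have n2 := octad_ne_of_disjoint ho' hd2
      refine ⟨{o, o', (o ∪ o')ᶜ}, ⟨?_, ?_, ?_⟩, by simp, by simp, hne⟩
      · rw [Finset.card_insert_of_notMem (by
            simp only [Finset.mem_insert, Finset.mem_singleton, not_or]; exact ⟨hne, n1⟩),
          Finset.card_insert_of_notMem (by rw [Finset.mem_singleton]; exact n2),
          Finset.card_singleton]
      · intro x hx
        simp only [Finset.mem_insert, Finset.mem_singleton] at hx
        rcases hx with rfl | rfl | rfl <;> assumption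
      · intro x hx y hy hxy
        simp only [Finset.mem_insert, Finset.mem_singleton] at hx hy
        rcases hx with rfl | rfl | rfl <;> rcases hy with rfl | rfl | rfl <;>
          first | exact absurd rfl hxy | exact hd | exact hd.symm | exact hd1 | exact hd1.symm |
            exact hd2 | exact hd2.symm
  have h := congrArg Finset.card hU
  have hL : (X.biUnion fun T => T.offDiag).card = X.card * 6 := by
    rw [Finset.card_biUnion, Finset.sum_congr rfl (g := fun _ => 6), Finset.sum_const, smul_eq_mul]
    · intro T hT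
      have : T ∈ trios := by simpa [hX] using hT
      rw [Finset.offDiag_card, this.1]
    · intro T hT T' hT' hne
      rw [Function.onFun, Finset.disjoint_left]
      rintro ⟨o, o'⟩ h h'
      rw [Finset.mem_offDiag] at h h'
      exact hne ((trio_eq (by simpa [hX] using hT) h.1 h.2.1 h.2.2).trans
        (trio_eq (by simpa [hX] using hT') h'.1 h'.2.1 h'.2.2).symm)
  have hR : ((O ×ˢ O).filter fun p => Disjoint p.1 p.2).card = 759 * 30 := by
    rw [Finset.card_filter, Finset.sum_product, Finset.sum_congr rfl (g := fun _ => 30),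
      Finset.sum_const, smul_eq_mul, hO759]
    intro o ho
    rw [← Finset.card_filter, ← disjoint_octads_ncard (o := o) (by simpa [hO] using ho),
      ← Set.ncard_coe_finset]
    congr 1
    ext o'
    simp [hO]
  rw [hL, hR] at h
  rw [Set.ncard_eq_toFinset_card _ (Set.toFinite trios), ← hX]
  omega

end Cfsg.Agent.Golay
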