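import Cfsg.Agent.M24Orbits.Framework

/-! Data for the dodecad stabiliser: triples outside, quartets. -/

set_option autoImplicit false

namespace Cfsg.Agent.Golay

set_option maxRecDepth 20000 in
/-- Generated data. -/
def m11Gens : List ℕ := [217738452793986892849639044478536960, 902390643304036692163552068839181600]

set_option maxRecDepth 20000 in
/-- Generated data. -/
def m11Root : ℕ := 5933

set_option maxRecDepth 20000 in
/-- Generated data. -/
def m11Tree : OrbTree := (.node 0 (.node 0 (.node 0 (.node 0 (.node 0 (.node 1 (.node 0 (.node 0 (.node 1 (.node 0 (.node 0 .nil (.node 1 (.node 1 .nil .nil) .nil)) (.node 1 (.node 0 (.node 1 .nil .nil) (.node 1 .nil .nil)) .nil)) .nil) (.node 1 (.node 0 (.node 0 (.node 0 (.node 1 .nil .nil) .nil) (.node 1 (.node 1 .nil .nil) .nil)) .nil) .nil)) (.node 1 (.node 0 (.node 0 (.node 0 (.node 1 .nil .nil) (.node 1 (.node 1 .nil .nil) .nil)) .nil) (.node 1 (.node 1 .nil .nil) .nil)) .nil)) .nil) (.node 1 (.node 0 (.node 0 (.node 0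 (.node 0 (.node 1 (.node 1 (.node 0 (.node 1 .nil .nil) .nil) .nil) .nil) (.node 1 (.node 0 .nil (.node 1 .nil .nil)) .nil)) (.node 1 (.node 0 (.node 0 (.node 0 .nil .nil) (.node 1 (.node 1 (.node 1 .nil .nil) .nil) .nil)) (.node 1 (.node 0 (.node 0 .nil .nil) .nil) .nil)) .nil)) (.node 1 (.node 0 (.node 0 (.node 0 .nil (.node 1 (.node 0 .nil .nil) .nil)) (.node 1 (.node 0 (.node 0 .nil (.node 1 .nil .nil)) (.node 1 (.node 0 (.node 1 .nil .nil) (.node 1 .nil .nil)) .nil)) .nil)) (.node 1 (.node 0 (.node 0 (.node 0 (.node 0 .nil .nil) (.node 1 (.node 0 .nil (.node 1 .nil .nil)) .nil)) .nil) (.node 1 (.node 0 (.node 0 .nil .nil) (.node 1 .nil .nil)) .nil)) .nil)) .nil)) (.node 1 (.node 0 (.node 0 (.node 0 (.node 1 (.node 0 .nil (.node 1 .nil .nil)) .nil) (.node 1 (.node 0 (.node 1 .nil .nil) .nil) .nil)) (.node 1 (.node 0 .nil (.node 1 (.node 0 (.node 0 .nil (.node 1 .nil .nil)) (.node 1 .nil .nil)) .nil)) .nil)) (.node 1 (.node 0 (.node 1 (.node 0 (.node 1 .nil .nil) .nil)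 .nil) (.node 1 (.node 0 (.node 1 (.node 0 .nil .nil) .nil) .nil) .nil)) .nil)) .nil)) .nil)) (.node 1 (.node 0 (.node 0 (.node 0 (.node 0 (.node 0 (.node 1 (.node 1 .nil .nil) .nil) (.node 1 (.node 0 (.node 0 .nil (.node 1 (.node 0 .nil .nil) .nil)) (.node 1 (.node 0 (.node 0 .nil (.node 1 .nil .nil)) (.node 1 .nil .nil)) .nil)) .nil)) (.node 1 (.node 0 (.node 0 (.node 0 (.node 1 .nil .nil) .nil) .nil) (.node 1 (.node 0 .nil .nil) .nil)) .nil)) (.node 1 (.node 0 (.node 0 (.node 1 .nil .nil) .nil) (.node 1 (.node 0 (.node 0 (.node 0 .nil (.node 1 .nil .nil)) (.node 1 .nil .nil)) (.node 1 (.node 1 (.node 0 .nil .nil) .nil) .nil)) .nil)) .nil)) (.node 1 (.node 0 (.node 1 (.node 0 (.node 0 .nil (.node 1 (.node 0 (.node 0 .nil .nil) (.node 1 (.node 1 .nil .nil) .nil)) .nil)) (.node 1 (.node 0 (.node 1 (.node 1 .nil .nil) .nil) (.node 1 .nil .nil)) .nil)) .nil) (.node 1 (.node 0 (.node 0 (.node 0 .nil (.node 1 (.node 0 (.node 0 .nil .nil) (.node 1 .nil .nil)) .nil)) (.node 1 (.node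 0 (.node 0 .nil .nil) (.node 1 .nil .nil)) .nil)) (.node 1 (.node 0 (.node 1 (.node 0 (.node 1 .nil .nil) (.node 1 (.node 1 .nil .nil) .nil)) .nil) (.node 1 (.node 0 .nil .nil) .nil)) .nil)) .nil)) .nil)) (.node 1 (.node 0 (.node 0 (.node 0 (.node 0 (.node 0 (.node 1 .nil .nil) (.node 1 (.node 1 .nil .nil) .nil)) (.node 1 (.node 0 (.node 0 (.node 0 .nil (.node 1 .nil .nil)) .nil) (.node 1 (.node 0 .nil (.node 1 .nil .nil)) .nil)) .nil)) (.node 1 (.node 0 .nil (.node 1 .nil .nil)) .nil)) (.node 1 (.node 0 (.node 0 (.node 0 (.node 0 .nil .nil) (.node 1 (.node 1 (.node 1 (.node 0 .nil .nil) .nil) .nil) .nil)) (.node 1 (.node 0 (.node 1 .nil .nil) .nil) .nil)) (.node 1 (.node 0 (.node 0 .nil (.node 1 (.node 1 .nil .nil) .nil)) (.node 1 (.node 0 (.node 1 (.node 0 .nil .nil) .nil) .nil) .nil)) .nil)) .nil)) (.node 1 (.node 0 (.node 0 (.node 0 (.node 0 (.node 0 (.node 1 .nil .nil) .nil) (.node 1 (.node 0 .nil (.node 1 (.node 1 .nil .nil) .nil)) .nil)) (.node 1 (.node 0 (.node 1 .nil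 .nil) (.node 1 (.node 1 (.node 0 .nil .nil) .nil) .nil)) .nil)) (.node 1 (.node 0 (.node 0 (.node 0 .nil (.node 1 (.node 1 .nil .nil) .nil)) (.node 1 (.node 1 (.node 0 .nil .nil) .nil) .nil)) .nil) .nil)) (.node 1 (.node 0 (.node 0 (.node 1 (.node 0 (.node 0 .nil .nil) .nil) .nil) .nil) .nil) .nil)) .nil)) .nil)) .nil)) (.node 1 (.node 0 (.node 0 (.node 0 (.node 0 (.node 0 (.node 1 .nil .nil) (.node 1 (.node 0 (.node 1 .nil .nil) .nil) .nil)) .nil) (.node 1 (.node 0 (.node 0 (.node 1 (.node 1 (.node 1 (.node 0 .nil .nil) .nil) .nil) .nil) .nil) .nil) .nil)) (.node 1 (.node 0 (.node 0 (.node 0 (.node 0 (.node 0 .nil .nil) .nil) (.node 1 (.node 1 (.node 1 (.node 1 .nil .nil) .nil) .nil) .nil)) (.node 1 (.node 0 (.node 0 (.node 1 .nil .nil) (.node 1 (.node 0 (.node 0 .nil .nil) (.node 1 (.node 0 .nil .nil) .nil)) .nil)) (.node 1 (.node 0 (.node 1 (.node 0 (.node 0 .nil .nil) .nil) .nil) (.node 1 .nil .nil)) .nil)) .nil)) (.node 1 (.node 0 (.node 0 (.node 0 .nil .nil) (.node 1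 .nil .nil)) (.node 1 (.node 0 (.node 0 (.node 0 (.node 1 .nil .nil) (.node 1 (.node 0 .nil .nil) .nil)) (.node 1 (.node 0 (.node 0 .nil (.node 1 (.node 0 .nil .nil) .nil)) .nil) .nil)) (.node 1 (.node 0 .nil .nil) .nil)) .nil)) .nil)) .nil)) (.node 1 (.node 0 (.node 0 (.node 1 (.node 1 (.node 0 (.node 0 (.node 0 (.node 1 .nil .nil) (.node 1 .nil .nil)) (.node 1 (.node 0 .nil (.node 1 (.node 0 .nil .nil) .nil)) .nil)) (.node 1 (.node 0 (.node 1 (.node 0 .nil .nil) .nil) .nil) .nil)) .nil) .nil) (.node 1 (.node 0 (.node 0 (.node 0 (.node 0 .nil .nil) (.node 1 (.node 0 .nil (.node 1 (.node 1 (.node 0 .nil .nil) .nil) .nil)) .nil)) (.node 1 (.node 0 (.node 0 .nil (.node 1 (.node 0 .nil .nil) .nil)) (.node 1 (.node 0 (.node 0 .nil (.node 1 .nil .nil)) (.node 1 (.node 0 .nil .nil) .nil)) .nil)) .nil)) (.node 1 (.node 0 (.node 0 (.node 0 .nil .nil) .nil) .nil) .nil)) .nil)) (.node 1 (.node 0 (.node 1 (.node 0 (.node 1 (.node 0 .nil (.node 1 (.node 0 .nil (.node 1 .nil .nil)) .nil))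 .nil) (.node 1 (.node 0 (.node 0 (.node 0 .nil .nil) (.node 1 (.node 0 .nil (.node 1 (.node 1 .nil .nil) .nil)) .nil)) (.node 1 (.node 1 .nil .nil) .nil)) .nil)) .nil) (.node 1 (.node 0 (.node 0 (.node 0 (.node 0 (.node 0 .nil .nil) (.node 1 (.node 0 (.node 0 .nil .nil) (.node 1 (.node 1 .nil .nil) .nil)) .nil)) (.node 1 (.node 1 (.node 0 (.node 0 .nil .nil) .nil) .nil) .nil)) (.node 1 (.node 0 (.node 0 .nil .nil) (.node 1 (.node 1 .nil .nil) .nil)) .nil)) .nil) .nil)) .nil)) .nil)) .nil)) (.node 1 (.node 0 (.node 0 (.node 0 (.node 0 (.node 0 (.node 1 (.node 0 .nil (.node 1 (.node 1 (.node 0 .nil (.node 1 .nil .nil)) .nil) .nil)) .nil) .nil) (.node 1 (.node 0 (.node 0 (.node 0 .nil .nil) (.node 1 (.node 0 .nil .nil) .nil)) .nil) .nil)) (.node 1 (.node 0 (.node 0 (.node 0 (.node 0 (.node 0 .nil .nil) (.node 1 (.node 0 .nil (.node 1 .nil .nil)) .nil)) (.node 1 (.node 0 (.node 0 (.node 1 .nil .nil) (.node 1 .nil .nil)) (.node 1 (.node 0 (.node 0 .nil .nil) (.node 1 (.node 0 .nil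 (.node 1 .nil .nil)) .nil)) .nil)) .nil)) (.node 1 (.node 1 (.node 0 (.node 1 .nil .nil) (.node 1 .nil .nil)) .nil) .nil)) (.node 1 (.node 0 (.node 0 (.node 1 (.node 0 .nil (.node 1 (.node 1 (.node 1 .nil .nil) .nil) .nil)) .nil) (.node 1 (.node 1 (.node 0 (.node 0 (.node 1 .nil .nil) .nil) (.node 1 (.node 0 (.node 1 .nil .nil) (.node 1 .nil .nil)) .nil)) .nil) .nil)) (.node 1 (.node 0 (.node 0 (.node 0 (.node 1 .nil .nil) (.node 1 (.node 0 .nil (.node 1 .nil .nil)) .nil)) (.node 1 (.node 0 (.node 1 (.node 1 (.node 0 .nil .nil) .nil) .nil) .nil) .nil)) (.node 1 (.node 0 (.node 0 .nil .nil) .nil) .nil)) .nil)) .nil)) .nil)) (.node 1 (.node 0 (.node 0 (.node 0 (.node 0 (.node 1 (.node 0 (.node 0 .nil (.node 1 .nil .nil)) (.node 1 .nil .nil)) .nil) (.node 1 (.node 0 (.node 0 (.node 1 .nil .nil) .nil) (.node 1 (.node 0 (.node 1 .nil .nil) (.node 1 (.node 0 .nil .nil) .nil)) .nil)) .nil)) (.node 1 (.node 0 (.node 0 (.node 0 .nil (.node 1 (.node 0 .nil .nil) .nil)) (.node 1 (.node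 0 .nil (.node 1 .nil .nil)) .nil)) (.node 1 (.node 0 (.node 0 (.node 0 .nil .nil) (.node 1 (.node 1 (.node 1 .nil .nil) .nil) .nil)) (.node 1 (.node 0 (.node 0 (.node 0 .nil .nil) .nil) (.node 1 .nil .nil)) .nil)) .nil)) .nil)) (.node 1 (.node 0 (.node 0 (.node 0 (.node 0 (.node 1 .nil .nil) .nil) (.node 1 (.node 1 (.node 1 .nil .nil) .nil) .nil)) (.node 1 (.node 0 (.node 0 (.node 1 .nil .nil) .nil) (.node 1 (.node 1 (.node 0 (.node 1 .nil .nil) (.node 1 .nil .nil)) .nil) .nil)) .nil)) (.node 1 (.node 0 (.node 0 (.node 0 .nil .nil) (.node 1 (.node 1 .nil .nil) .nil)) .nil) .nil)) .nil)) (.node 1 (.node 0 (.node 0 (.node 0 (.node 0 (.node 0 .nil (.node 1 .nil .nil)) .nil) (.node 1 (.node 0 (.node 0 .nil (.node 1 (.node 0 .nil (.node 1 .nil .nil)) .nil)) .nil) .nil)) (.node 1 (.node 0 (.node 0 (.node 0 .nil .nil) (.node 1 .nil .nil)) (.node 1 (.node 0 (.node 1 (.node 0 .nil .nil) .nil) (.node 1 (.node 0 (.node 0 .nil .nil) (.node 1 .nil .nil)) .nil)) .nil)) .nil)) (.node 1 (.node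 0 (.node 0 (.node 0 (.node 0 .nil (.node 1 .nil .nil)) (.node 1 (.node 0 .nil .nil) .nil)) (.node 1 (.node 0 (.node 0 (.node 0 (.node 0 .nil .nil) .nil) (.node 1 (.node 1 .nil .nil) .nil)) (.node 1 .nil .nil)) .nil)) (.node 1 (.node 0 (.node 0 (.node 0 .nil .nil) .nil) .nil) .nil)) .nil)) .nil)) .nil)) (.node 1 (.node 0 (.node 0 (.node 0 (.node 0 (.node 1 (.node 0 (.node 0 .nil .nil) (.node 1 (.node 0 (.node 0 (.node 1 .nil .nil) .nil) (.node 1 .nil .nil)) .nil)) .nil) (.node 1 (.node 0 (.node 0 (.node 0 .nil (.node 1 .nil .nil)) (.node 1 .nil .nil)) (.node 1 (.node 0 (.node 1 (.node 0 .nil .nil) .nil) (.node 1 (.node 0 .nil .nil) .nil)) .nil)) .nil)) (.node 1 (.node 0 (.node 0 (.node 1 (.node 1 .nil .nil) .nil) (.node 1 (.node 0 (.node 0 .nil (.node 1 .nil .nil)) (.node 1 (.node 0 (.node 0 (.node 1 (.node 0 .nil .nil) .nil) .nil) (.node 1 (.node 0 .nil (.node 1 .nil .nil)) .nil)) .nil)) .nil)) (.node 1 (.node 0 (.node 1 (.node 0 (.node 0 (.node 0 .nil .nil) .nil) .nil) .nil)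 (.node 1 (.node 0 (.node 1 .nil .nil) (.node 1 .nil .nil)) .nil)) .nil)) .nil)) (.node 1 (.node 0 (.node 0 (.node 0 (.node 1 (.node 1 (.node 0 .nil (.node 1 .nil .nil)) .nil) .nil) (.node 1 .nil .nil)) (.node 1 (.node 1 (.node 0 (.node 1 .nil .nil) (.node 1 .nil .nil)) .nil) .nil)) (.node 1 (.node 0 (.node 1 (.node 0 (.node 0 .nil .nil) (.node 1 (.node 0 (.node 1 .nil .nil) (.node 1 .nil .nil)) .nil)) .nil) (.node 1 (.node 0 (.node 0 .nil (.node 1 (.node 0 (.node 0 (.node 0 .nil .nil) .nil) (.node 1 (.node 1 .nil .nil) .nil)) .nil)) (.node 1 (.node 0 (.node 0 .nil .nil) .nil) .nil)) .nil)) .nil)) .nil)) (.node 1 (.node 0 (.node 0 (.node 0 (.node 0 (.node 0 (.node 1 (.node 1 (.node 1 .nil .nil) .nil) .nil) .nil) (.node 1 (.node 0 (.node 1 .nil .nil) .nil) .nil)) (.node 1 (.node 0 (.node 0 (.node 0 (.node 0 .nil (.node 1 .nil .nil)) (.node 1 .nil .nil)) (.node 1 (.node 1 (.node 0 .nil .nil) .nil) .nil)) (.node 1 (.node 0 (.node 0 .nil (.node 1 (.node 1 .nil .nil) .nil)) .nil)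 .nil)) .nil)) (.node 1 (.node 0 (.node 0 (.node 0 (.node 0 .nil .nil) (.node 1 .nil .nil)) (.node 1 (.node 0 (.node 0 .nil .nil) (.node 1 (.node 0 .nil (.node 1 .nil .nil)) .nil)) .nil)) (.node 1 (.node 0 (.node 0 (.node 1 (.node 1 .nil .nil) .nil) (.node 1 (.node 0 .nil (.node 1 (.node 0 (.node 1 .nil .nil) .nil) .nil)) .nil)) (.node 1 (.node 0 .nil (.node 1 .nil .nil)) .nil)) .nil)) .nil)) (.node 1 (.node 0 (.node 0 (.node 0 (.node 0 (.node 0 (.node 1 .nil .nil) .nil) .nil) (.node 1 (.node 0 (.node 0 .nil (.node 1 (.node 0 (.node 0 .nil .nil) .nil) .nil)) (.node 1 (.node 0 (.node 0 .nil .nil) (.node 1 (.node 0 .nil (.node 1 .nil .nil)) .nil)) .nil)) .nil)) (.node 1 (.node 1 (.node 1 (.node 1 .nil .nil) .nil) .nil) .nil)) .nil) .nil)) .nil)) .nil)) .nil)) (.node 1 (.node 0 (.node 0 (.node 0 (.node 0 (.node 0 (.node 1 (.node 0 (.node 0 (.node 0 (.node 1 .nil .nil) (.node 1 (.node 1 (.node 0 .nil .nil) .nil) .nil)) .nil) (.node 1 (.node 0 .nil (.node 1 .nil .nil)) .nil)) .nil)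 (.node 1 (.node 0 (.node 0 (.node 0 (.node 1 (.node 0 .nil (.node 1 .nil .nil)) .nil) .nil) (.node 1 (.node 0 (.node 0 (.node 1 (.node 0 .nil .nil) .nil) (.node 1 (.node 1 .nil .nil) .nil)) .nil) .nil)) (.node 1 (.node 0 (.node 1 (.node 0 .nil .nil) .nil) (.node 1 (.node 0 (.node 0 (.node 0 .nil .nil) .nil) .nil) .nil)) .nil)) .nil)) (.node 1 (.node 0 (.node 0 (.node 0 (.node 0 .nil (.node 1 (.node 0 (.node 0 (.node 0 .nil .nil) .nil) (.node 1 (.node 0 .nil .nil) .nil)) .nil)) (.node 1 (.node 0 .nil (.node 1 (.node 1 (.node 1 (.node 0 .nil .nil) .nil) .nil) .nil)) .nil)) (.node 1 (.node 0 (.node 0 (.node 0 .nil (.node 1 (.node 0 .nil .nil) .nil)) (.node 1 (.node 1 (.node 0 (.node 1 .nil .nil) (.node 1 .nil .nil)) .nil) .nil)) (.node 1 (.node 0 (.node 0 (.node 0 .nil .nil) (.node 1 .nil .nil)) (.node 1 (.node 0 (.node 1 .nil .nil) (.node 1 .nil .nil)) .nil)) .nil)) .nil)) .nil) .nil)) (.node 1 (.node 0 (.node 0 (.node 0 (.node 0 (.node 0 (.node 1 (.node 0 .nil (.node 1 (.node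 1 .nil .nil) .nil)) .nil) (.node 1 (.node 0 .nil (.node 1 (.node 1 .nil .nil) .nil)) .nil)) .nil) (.node 1 (.node 0 (.node 0 (.node 1 .nil .nil) (.node 1 .nil .nil)) (.node 1 (.node 0 (.node 0 (.node 0 .nil .nil) .nil) (.node 1 (.node 1 .nil .nil) .nil)) .nil)) .nil)) (.node 1 (.node 0 (.node 0 (.node 0 (.node 0 .nil .nil) (.node 1 (.node 1 (.node 1 .nil .nil) .nil) .nil)) .nil) (.node 1 (.node 0 (.node 0 .nil (.node 1 (.node 1 (.node 1 .nil .nil) .nil) .nil)) (.node 1 .nil .nil)) .nil)) .nil)) (.node 1 (.node 0 (.node 0 (.node 0 (.node 0 (.node 0 .nil (.node 1 .nil .nil)) (.node 1 (.node 0 (.node 0 .nil (.node 1 .nil .nil)) .nil) .nil)) (.node 1 (.node 0 (.node 1 (.node 0 .nil .nil) .nil) .nil) .nil)) (.node 1 (.node 0 (.node 0 .nil .nil) (.node 1 (.node 0 .nil (.node 1 (.node 1 (.node 0 .nil .nil) .nil) .nil)) .nil)) .nil)) (.node 1 (.node 0 (.node 0 (.node 0 (.node 0 (.node 0 .nil .nil) (.node 1 .nil .nil)) (.node 1 (.node 1 (.node 0 .nil (.node 1 .nil .nil)) .nil) .nil))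 (.node 1 (.node 0 (.node 1 (.node 0 (.node 0 .nil .nil) (.node 1 (.node 0 .nil .nil) .nil)) .nil) (.node 1 (.node 0 .nil (.node 1 .nil .nil)) .nil)) .nil)) (.node 1 .nil .nil)) .nil)) .nil)) .nil)) (.node 1 (.node 0 (.node 0 (.node 0 (.node 0 (.node 0 (.node 1 (.node 0 (.node 0 (.node 1 .nil .nil) .nil) (.node 1 .nil .nil)) .nil) (.node 1 (.node 0 (.node 0 .nil (.node 1 (.node 0 .nil (.node 1 .nil .nil)) .nil)) (.node 1 (.node 0 .nil (.node 1 .nil .nil)) .nil)) .nil)) (.node 1 (.node 0 (.node 0 (.node 0 .nil (.node 1 .nil .nil)) .nil) (.node 1 (.node 0 (.node 0 (.node 0 .nil .nil) (.node 1 .nil .nil)) (.node 1 (.node 0 .nil (.node 1 .nil .nil)) .nil)) .nil)) .nil)) (.node 1 (.node 0 (.node 0 (.node 0 (.node 0 (.node 1 .nil .nil) .nil) (.node 1 (.node 0 .nil .nil) .nil)) .nil) (.node 1 (.node 0 (.node 0 (.node 0 (.node 1 .nil .nil) .nil) (.node 1 (.node 0 (.node 1 .nil .nil) (.node 1 (.node 0 .nil .nil) .nil)) .nil)) (.node 1 (.node 0 (.node 1 (.node 1 .nil .nil) .nil) (.node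 1 .nil .nil)) .nil)) .nil)) .nil)) (.node 1 (.node 0 (.node 0 (.node 0 (.node 0 (.node 0 .nil .nil) (.node 1 .nil .nil)) (.node 1 (.node 0 .nil (.node 1 (.node 1 .nil .nil) .nil)) .nil)) (.node 1 (.node 0 (.node 0 (.node 0 (.node 0 .nil .nil) (.node 1 .nil .nil)) (.node 1 (.node 1 .nil .nil) .nil)) (.node 1 (.node 0 (.node 0 (.node 1 .nil .nil) (.node 1 (.node 0 .nil .nil) .nil)) (.node 1 .nil .nil)) .nil)) .nil)) (.node 1 (.node 0 (.node 0 (.node 1 .nil .nil) (.node 1 (.node 0 .nil (.node 1 .nil .nil)) .nil)) (.node 1 (.node 0 (.node 0 (.node 0 .nil (.node 1 .nil .nil)) (.node 1 .nil .nil)) (.node 1 (.node 0 (.node 0 .nil .nil) .nil) .nil)) .nil)) .nil)) .nil)) (.node 1 (.node 0 (.node 0 (.node 0 (.node 0 (.node 0 (.node 1 .nil .nil) (.node 1 .nil .nil)) (.node 1 (.node 0 (.node 0 .nil .nil) (.node 1 (.node 0 .nil (.node 1 .nil .nil)) .nil)) .nil)) (.node 1 (.node 1 .nil .nil) .nil)) (.node 1 (.node 0 (.node 0 (.node 0 (.node 0 .nil .nil) (.node 1 (.node 0 (.node 0 .nil .nil)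 (.node 1 (.node 0 .nil .nil) .nil)) .nil)) (.node 1 (.node 0 .nil (.node 1 (.node 1 (.node 0 .nil .nil) .nil) .nil)) .nil)) (.node 1 (.node 0 (.node 1 .nil .nil) (.node 1 (.node 0 .nil (.node 1 (.node 0 (.node 0 (.node 0 .nil .nil) .nil) .nil) .nil)) .nil)) .nil)) .nil)) (.node 1 (.node 0 (.node 1 .nil .nil) (.node 1 (.node 0 (.node 0 .nil .nil) .nil) .nil)) .nil)) .nil)) .nil)) (.node 1 (.node 0 (.node 0 (.node 0 (.node 0 (.node 0 (.node 1 (.node 0 (.node 0 .nil .nil) .nil) .nil) (.node 1 (.node 0 (.node 1 .nil .nil) (.node 1 (.node 0 (.node 0 (.node 0 .nil .nil) .nil) .nil) .nil)) .nil)) (.node 1 (.node 0 (.node 0 (.node 1 (.node 1 .nil .nil) .nil) (.node 1 (.node 1 (.node 0 .nil .nil) .nil) .nil)) (.node 1 (.node 0 (.node 0 (.node 0 (.node 0 .nil (.node 1 .nil .nil)) .nil) (.node 1 (.node 1 (.node 0 .nil (.node 1 .nil .nil)) .nil) .nil)) (.node 1 (.node 0 (.node 0 (.node 0 .nil .nil) (.node 1 .nil .nil)) (.node 1 (.node 0 .nil .nil) .nil)) .nil)) .nil)) .nil)) (.node 1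 (.node 0 (.node 1 (.node 0 (.node 0 (.node 0 .nil .nil) (.node 1 (.node 0 .nil .nil) .nil)) (.node 1 (.node 0 (.node 1 (.node 1 .nil .nil) .nil) (.node 1 (.node 0 .nil .nil) .nil)) .nil)) .nil) (.node 1 (.node 0 (.node 0 .nil (.node 1 (.node 1 .nil .nil) .nil)) (.node 1 (.node 0 .nil (.node 1 .nil .nil)) .nil)) .nil)) .nil)) (.node 1 (.node 0 (.node 0 (.node 0 (.node 0 (.node 1 (.node 0 .nil .nil) .nil) (.node 1 (.node 1 (.node 0 .nil .nil) .nil) .nil)) (.node 1 (.node 0 (.node 0 (.node 1 (.node 0 .nil .nil) .nil) (.node 1 (.node 1 (.node 0 .nil .nil) .nil) .nil)) (.node 1 (.node 1 .nil .nil) .nil)) .nil)) (.node 1 (.node 0 (.node 0 (.node 0 (.node 0 .nil .nil) (.node 1 (.node 0 .nil .nil) .nil)) (.node 1 (.node 0 (.node 0 .nil .nil) (.node 1 (.node 0 (.node 1 .nil .nil) (.node 1 (.node 0 .nil .nil) .nil)) .nil)) .nil)) (.node 1 (.node 0 (.node 0 .nil (.node 1 (.node 0 .nil (.node 1 .nil .nil)) .nil)) (.node 1 (.node 0 (.node 0 (.node 0 .nil (.node 1 (.node 0 .nil .nil) .nil))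 .nil) (.node 1 (.node 0 .nil .nil) .nil)) .nil)) .nil)) .nil)) (.node 1 (.node 0 (.node 0 (.node 0 (.node 0 (.node 0 .nil .nil) .nil) (.node 1 (.node 0 (.node 1 (.node 0 .nil .nil) .nil) (.node 1 .nil .nil)) .nil)) (.node 1 (.node 0 (.node 0 .nil (.node 1 (.node 0 .nil .nil) .nil)) (.node 1 (.node 0 (.node 1 .nil .nil) (.node 1 (.node 0 (.node 0 .nil .nil) (.node 1 .nil .nil)) .nil)) .nil)) .nil)) (.node 1 (.node 0 (.node 0 (.node 0 (.node 0 .nil (.node 1 .nil .nil)) .nil) (.node 1 (.node 0 (.node 0 (.node 1 .nil .nil) .nil) (.node 1 (.node 0 .nil (.node 1 .nil .nil)) .nil)) .nil)) (.node 1 (.node 0 (.node 0 (.node 0 .nil .nil) .nil) .nil) .nil)) .nil)) .nil)) .nil)) (.node 1 (.node 0 (.node 0 (.node 0 (.node 0 (.node 0 (.node 1 .nil .nil) .nil) (.node 1 (.node 0 (.node 1 (.node 0 .nil .nil) .nil) (.node 1 (.node 0 (.node 0 (.node 0 .nil .nil) (.node 1 (.node 0 .nil .nil) .nil)) (.node 1 (.node 0 .nil (.node 1 .nil .nil)) .nil)) .nil)) .nil)) (.node 1 (.node 0 (.node 0 (.node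 0 .nil .nil) (.node 1 (.node 0 .nil .nil) .nil)) (.node 1 (.node 0 .nil .nil) .nil)) .nil)) (.node 1 (.node 0 (.node 0 (.node 1 (.node 0 .nil (.node 1 (.node 0 (.node 1 (.node 1 .nil .nil) .nil) (.node 1 .nil .nil)) .nil)) .nil) (.node 1 (.node 0 (.node 0 .nil (.node 1 (.node 0 (.node 1 .nil .nil) .nil) .nil)) (.node 1 (.node 0 (.node 0 (.node 1 .nil .nil) (.node 1 .nil .nil)) (.node 1 (.node 0 .nil (.node 1 (.node 0 .nil .nil) .nil)) .nil)) .nil)) .nil)) (.node 1 (.node 0 (.node 0 (.node 0 (.node 0 .nil .nil) (.node 1 .nil .nil)) (.node 1 (.node 0 (.node 0 (.node 1 .nil .nil) .nil) (.node 1 (.node 0 .nil (.node 1 (.node 1 .nil .nil) .nil)) .nil)) .nil)) (.node 1 (.node 0 (.node 1 (.node 0 (.node 0 .nil .nil) (.node 1 (.node 1 .nil .nil) .nil)) .nil) (.node 1 (.node 0 .nil .nil) .nil)) .nil)) .nil)) .nil)) (.node 1 (.node 0 (.node 0 (.node 0 (.node 0 (.node 0 .nil .nil) (.node 1 (.node 0 (.node 0 .nil .nil) (.node 1 (.node 0 (.node 1 .nil .nil) .nil) .nil)) .nil)) (.node 1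 (.node 0 (.node 0 .nil .nil) (.node 1 (.node 0 (.node 0 .nil (.node 1 (.node 0 (.node 0 .nil .nil) .nil) .nil)) (.node 1 (.node 1 (.node 0 .nil .nil) .nil) .nil)) .nil)) .nil)) (.node 1 (.node 0 (.node 1 (.node 0 (.node 0 .nil (.node 1 (.node 1 .nil .nil) .nil)) (.node 1 (.node 0 (.node 0 (.node 0 .nil .nil) .nil) .nil) .nil)) .nil) (.node 1 (.node 0 (.node 0 (.node 0 (.node 1 .nil .nil) .nil) (.node 1 .nil .nil)) .nil) .nil)) .nil)) .nil) .nil)) .nil)) .nil)) .nil))

set_option maxRecDepth 20000 in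
/-- Generated data. -/
def s72Gens : List ℕ := [629863500390412654982178157189269536, 891385682027558266148352467872712736]

set_option maxRecDepth 20000 in
/-- Generated data. -/
def s72Root : ℕ := 5

set_option maxRecDepth 20000 in
/-- Generated data. -/
def s72Tree : OrbTree := (.node 0 (.node 0 (.node 0 .nil (.node 1 (.node 1 .nil .nil) .nil)) (.node 1 .nil .nil)) (.node 1 (.node 0 (.node 0 (.node 0 .nil .nil) (.node 1 .nil .nil)) .nil) .nil))

set_option maxRecDepth 20000 in
/-- Generated data. -/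
def hexList : List ℕ := [343, 591, 797, 858, 4127, 4430, 4441, 4691, 4700, 4875, 4886, 4933, 8285, 8478, 8523, 8731, 8790, 8967, 9036, 9041, 12359, 12378, 12557, 12563, 12628, 12814, 12821, 12873, 13080, 13122, 65627, 65807, 65884, 66078, 66133, 66323, 66374, 66377, 69709, 69718, 69909, 69914, 69955, 70151, 70169, 70218, 70412, 70480, 73751, 73806, 74009, 74053, 74066, 74253, 74307, 74328, 74506, 74516, 77835, 77852, 77905, 78086, 78152, 78354, 78404, 78593, 262238, 262427, 262477, 262679, 262745, 262926, 262979, 262996, 266315, 266325, 266503, 266524, 266578, 266765, 266778, 266822, 267025, 267080, 270351, 270419, 270613, 270662, 270680, 270876, 270917, 270922, 271113, 271122, 274454, 274457, 274508, 274698, 274753, 274947, 275024, 275204, 327709, 327751, 327958, 328010, 328017, 328203, 328268, 328274, 328453, 328472, 331790, 331795, 331864, 332041, 332100, 332308, 332353, 332546, 335898, 335945, 335956, 336131, 336140, 336390, 336401, 336704, 339973, 340034, 340240, 340488]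

set_option maxRecDepth 20000 in
/-- Generated data. -/
def hexOct : List ℕ := [1065303, 4196943, 10486557, 525274, 5279, 2232654, 39257, 8524371, 21116, 1053483, 4231958, 530245, 663645, 10558, 8398155, 57883, 2106966, 140167, 1090380, 4203377, 45159, 5255258, 4223245, 2634003, 8401364, 8925710, 1063445, 2110153, 145176, 31554, 2162811, 622863, 4261212, 1245726, 99029, 69395, 8455014, 213833, 9506893, 596054, 201013, 8474906, 4264387, 2183687, 4788761, 104010, 72588, 3216208, 12656663, 90318, 1122713, 2173253, 237906, 75309, 1647171, 8464984, 6365962, 615188, 210955, 2207772, 95313, 1127686, 602472, 78514, 4403780, 8499969, 8683614, 4587803, 262637, 786999, 1312345, 280334, 2392899, 396116, 806987, 6557781, 8657159, 1839388, 267634, 430605, 2365978, 1315526, 283537, 12849992, 3416079, 272595, 304405, 4989254, 2384216, 4465308, 8675909, 402026, 797449, 9708306, 421910, 8663097, 277580, 307594, 1454401, 4470275, 832080, 2372388, 346141, 459847, 2425238, 1378634, 9240913, 8716939,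 2949708, 4538962, 5571333, 361272, 4526126, 1413139, 463064, 2430217, 381252, 8721940, 334433, 987906, 861210, 4563017, 1384564, 352547, 8855820, 371206, 2564625, 337856, 864389, 10825794, 4536592, 1405448]

set_option maxRecDepth 20000 in
/-- Generated data. -/
def dodPts : List ℕ := [0, 1, 2, 3, 4, 6, 8, 9, 12, 13, 16, 18]

set_option maxRecDepth 20000 in
/-- Generated data. -/
def tri3List : List ℕ := [7, 11, 19, 67, 259, 515, 4099, 8195, 65539, 262147, 13, 21, 69, 261, 517, 4101, 8197, 65541, 262149, 25, 73, 265, 521, 4105, 8201, 65545, 262153, 81, 273, 529, 4113, 8209, 65553, 262161, 321, 577, 4161, 8257, 65601, 262209, 769, 4353, 8449, 65793, 262401, 4609, 8705, 66049, 262657, 12289, 69633, 266241, 73729, 270337, 327681, 14, 22, 70, 262, 518, 4102, 8198, 65542, 262150, 26, 74, 266, 522, 4106, 8202, 65546, 262154, 82, 274, 530, 4114, 8210, 65554, 262162, 322, 578, 4162, 8258, 65602, 262210, 770, 4354, 8450, 65794, 262402, 4610, 8706, 66050, 262658, 12290, 69634, 266242,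 73730, 270338, 327682, 28, 76, 268, 524, 4108, 8204, 65548, 262156, 84, 276, 532, 4116, 8212, 65556, 262164, 324, 580, 4164, 8260, 65604, 262212, 772, 4356, 8452, 65796, 262404, 4612, 8708, 66052, 262660, 12292, 69636, 266244, 73732, 270340, 327684, 88, 280, 536, 4120, 8216, 65560, 262168, 328, 584, 4168, 8264, 65608, 262216, 776, 4360, 8456, 65800, 262408, 4616, 8712, 66056, 262664, 12296, 69640, 266248, 73736, 270344, 327688, 336, 592, 4176, 8272, 65616, 262224, 784, 4368, 8464, 65808, 262416, 4624, 8720, 66064, 262672, 12304, 69648, 266256, 73744, 270352, 327696, 832, 4416, 8512, 65856, 262464, 4672, 8768, 66112, 262720, 12352, 69696, 266304, 73792, 270400, 327744, 4864, 8960, 66304, 262912, 12544, 69888, 266496, 73984, 270592, 327936, 12800, 70144, 266752, 74240, 270848, 328192, 77824, 274432, 331776, 335872]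

set_option maxRecDepth 20000 in
/-- Generated data. -/
def quartList : List (List ℕ) := [[7, 336, 70144, 270344], [7, 584, 73744, 266496], [7, 4120, 8960, 327744], [7, 12352, 65800, 262672], [11, 580, 77824, 262416], [11, 4116, 8512, 328192], [11, 4864, 65616, 270340], [11, 8720, 65796, 266304], [13, 578, 12544, 327696], [13, 784, 69696, 270338], [13, 4114, 74240, 262464], [13, 8272, 65794, 266752], [14, 577, 8464, 331776], [14, 4113, 73792, 262912], [14, 4416, 66064, 270337], [14, 12800, 65793, 262224], [19, 324, 8712, 331776], [19, 4108, 66304, 270400], [19, 4672, 73732, 262408], [19, 12544, 65608, 262660], [21, 322, 12800, 327688], [21, 776, 73730, 266304], [21, 4106, 66112, 270592], [21, 8264, 69888, 262658], [22, 321, 66056, 274432], [22, 4105, 8768, 327936], [22, 4864, 73729, 262216], [22, 8456, 69696, 262657], [25, 772, 65602, 274432], [25, 4102, 73984, 262720], [25, 4416, 8706, 327684], [25, 8260, 70144, 262402], [26, 832, 4101, 335872], [26, 8452, 65601, 266752],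 [26, 8705, 69888, 262212], [26, 12352, 66052, 262401], [28, 769, 77824, 262210], [28, 4099, 65856, 270848], [28, 4672, 8450, 327681], [28, 8257, 66050, 266496], [67, 276, 74240, 266248], [67, 524, 69888, 270352], [67, 4624, 8456, 327684], [67, 12292, 65560, 262912], [69, 274, 69640, 270848], [69, 522, 73984, 266256], [69, 4864, 8216, 327682], [69, 12290, 66064, 262408], [70, 273, 73736, 266752], [70, 521, 69648, 270592], [70, 4360, 8720, 327681], [70, 12289, 66304, 262168], [73, 518, 4368, 335872], [73, 8212, 66304, 266242], [73, 8450, 69636, 262672], [73, 12800, 65554, 262404], [74, 517, 12304, 327936], [74, 784, 73732, 266241], [74, 4356, 65553, 270848], [74, 8449, 70144, 262164], [76, 515, 65808, 274432], [76, 4354, 8209, 328192], [76, 4624, 73730, 262401], [76, 8960, 69633, 262162], [81, 262, 77824, 262664], [81, 4360, 66052, 270338], [81, 4610, 8204, 327936], [81, 8960, 65546, 266244], [82, 261, 12296, 328192], [82, 776, 69636, 270337], [82, 4609, 73984, 262156], [82,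 8708, 65545, 266496], [84, 259, 4616, 335872], [84, 8201, 69634, 262912], [84, 8706, 65800, 266241], [84, 12544, 66049, 262154], [88, 770, 8197, 331776], [88, 4353, 74240, 262150], [88, 4612, 65539, 270592], [88, 12290, 65796, 262657], [259, 8264, 66064, 266244], [259, 8708, 69696, 262168], [259, 12304, 65548, 262720], [261, 536, 73792, 266242], [261, 4672, 65546, 270352], [261, 8706, 69648, 262216], [262, 4168, 8705, 327696], [262, 4624, 65545, 270400], [262, 8216, 66112, 266241], [265, 532, 8258, 331776], [265, 4176, 65542, 270848], [265, 4610, 73744, 262212], [265, 12292, 66112, 262162], [266, 592, 65541, 274432], [266, 4164, 74240, 262161], [266, 4609, 8212, 327744], [266, 8257, 69648, 262660], [268, 529, 4162, 335872], [268, 8210, 70144, 262209], [268, 8768, 65539, 266256], [268, 12289, 65616, 262658], [273, 524, 12290, 327744], [273, 4168, 66050, 270340], [273, 8768, 69636, 262154], [274, 584, 12289, 327684], [274, 4612, 73792, 262153], [274, 8204, 66049, 266304], [276,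 521, 12352, 327682], [276, 4610, 65608, 270337], [276, 8202, 69633, 262720], [280, 517, 69634, 270400], [280, 578, 73729, 266244], [280, 4161, 8198, 328192], [280, 12800, 65604, 262147], [321, 4120, 73732, 262658], [321, 4612, 8202, 327696], [321, 8720, 69634, 262156], [322, 536, 69633, 270340], [322, 4108, 73744, 262657], [322, 8201, 66052, 266256], [324, 4106, 73729, 262672], [324, 4609, 65560, 270338], [324, 12304, 66050, 262153], [328, 530, 77824, 262149], [328, 4102, 66049, 270352], [328, 4113, 8708, 327682], [328, 8195, 65556, 266752], [336, 522, 12292, 327681], [336, 4105, 73730, 262660], [336, 8705, 65548, 266242], [515, 4176, 8452, 327688], [515, 4360, 73792, 262164], [515, 8216, 69636, 262464], [517, 4416, 73736, 262162], [517, 8450, 65616, 266248], [518, 8272, 69633, 262408], [518, 8449, 65560, 266304], [518, 12296, 65856, 262161], [521, 4354, 73732, 262224], [521, 8210, 65856, 266244], [522, 4353, 65556, 270400], [522, 8209, 69696, 262404], [524, 4176, 73729, 262402],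 [524, 8512, 65554, 266241], [529, 8202, 65604, 266496], [529, 8512, 69640, 262150], [529, 12292, 65794, 262216], [530, 4161, 65548, 270592], [530, 4356, 8201, 327744], [530, 8260, 65793, 266248], [532, 4168, 73984, 262147], [532, 4354, 65601, 270344], [532, 12289, 65546, 262464], [536, 4164, 8195, 327936], [536, 12544, 65542, 262209], [577, 4114, 65800, 270340], [577, 4356, 73730, 262168], [577, 12296, 65556, 262402], [578, 4113, 65796, 270344], [578, 8212, 69640, 262401], [580, 4120, 65794, 270337], [580, 4353, 8210, 327688], [580, 8456, 65553, 266242], [584, 4116, 65793, 270338], [584, 8452, 69634, 262161], [592, 4099, 73736, 262404], [592, 4108, 8449, 327682], [592, 8198, 69888, 262153], [769, 4106, 8272, 327684], [769, 4164, 65554, 270344], [769, 8198, 65608, 266256], [770, 4105, 65604, 270352], [770, 4116, 73736, 262209], [770, 12352, 65553, 262156], [772, 4114, 8264, 327681], [772, 4161, 73744, 262154], [772, 8195, 69640, 262224], [776, 4099, 8260, 327696], [776, 12304,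 65601, 262150], [784, 4102, 8257, 327688], [784, 12296, 65539, 262212], [832, 8204, 69648, 262147], [832, 8209, 65542, 266248], [832, 12290, 65545, 262164], [4099, 8464, 66052, 262216], [4101, 8258, 65808, 262664], [4101, 8456, 66050, 262224], [4101, 8720, 65608, 262402], [4102, 8712, 65616, 262401], [4105, 8452, 66064, 262210], [4106, 8708, 65808, 262209], [4108, 8706, 65601, 262416], [4113, 8450, 66056, 262212], [4114, 8449, 65604, 262664], [4116, 8705, 65602, 262408], [4120, 8258, 66049, 262404], [4161, 8712, 65794, 262164], [4162, 8197, 66056, 262416], [4162, 8216, 65793, 262660], [4162, 8960, 65556, 262153], [4164, 8464, 65545, 262658], [4168, 8210, 65541, 262912], [4176, 8202, 66304, 262149], [4353, 8204, 65602, 262672], [4354, 8768, 65560, 262149], [4356, 8272, 66056, 262147], [4360, 8197, 65554, 262720], [4368, 8195, 66112, 262156], [4368, 8260, 65546, 262657], [4368, 8712, 65541, 262210], [4416, 8212, 65539, 262664], [4609, 8264, 65542, 262416], [4610, 8512, 65541,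 262168], [4612, 8209, 65800, 262210], [4616, 8198, 65553, 262464], [4616, 8257, 65796, 262162], [4616, 8464, 65602, 262149], [4624, 8197, 65856, 262154], [4672, 8201, 65808, 262150], [4864, 8258, 65548, 262161]]

set_option maxRecDepth 20000 in
/-- Generated data. -/
def quartGens : List ℕ := [588813138781238021371903384654825728, 318661538010404625678066562008428749]

set_option maxRecDepth 20000 in
/-- Generated data. -/
def quartTree : OrbTree := (.node 0 (.node 0 (.node 0 (.node 1 (.node 0 (.node 1 (.node 0 (.node 1 (.node 0 (.node 1 .nil .nil) .nil) .nil) (.node 1 (.node 0 .nil (.node 1 .nil .nil)) .nil)) .nil) (.node 1 (.node 0 (.node 0 (.node 1 .nil .nil) (.node 1 (.node 0 .nil .nil) .nil)) .nil) .nil)) .nil) (.node 1 (.node 0 (.node 0 (.node 0 .nil (.node 1 (.node 1 (.node 0 .nil .nil) .nil) .nil)) (.node 1 (.node 0 (.node 0 .nil (.node 1 (.node 1 (.node 1 .nil .nil) .nil) .nil)) (.node 1 (.node 0 .nil (.node 1 (.node 0 .nil .nil) .nil)) .nil)) .nil)) (.node 1 (.node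 0 (.node 0 (.node 0 (.node 1 (.node 0 (.node 0 .nil .nil) (.node 1 .nil .nil)) .nil) .nil) (.node 1 (.node 0 .nil (.node 1 (.node 1 .nil .nil) .nil)) .nil)) .nil) .nil)) .nil)) (.node 1 (.node 0 (.node 1 (.node 0 (.node 1 (.node 0 (.node 0 (.node 0 .nil (.node 1 .nil .nil)) (.node 1 .nil .nil)) (.node 1 (.node 0 .nil (.node 1 (.node 0 .nil .nil) .nil)) .nil)) .nil) (.node 1 (.node 0 (.node 1 (.node 0 .nil .nil) .nil) (.node 1 (.node 0 .nil (.node 1 .nil .nil)) .nil)) .nil)) .nil) (.node 1 (.node 0 (.node 0 (.node 0 .nil (.node 1 (.node 0 (.node 0 .nil .nil) (.node 1 (.node 0 (.node 0 .nil .nil) (.node 1 .nil .nil)) .nil)) .nil)) (.node 1 (.node 0 (.node 1 (.node 0 (.node 0 .nil .nil) (.node 1 .nil .nil)) .nil) (.node 1 (.node 0 (.node 1 .nil .nil) (.node 1 (.node 1 .nil .nil) .nil)) .nil)) .nil)) (.node 1 (.node 0 (.node 0 (.node 0 .nil .nil) (.node 1 (.node 0 .nil (.node 1 (.node 0 (.node 1 .nil .nil) (.node 1 .nil .nil)) .nil)) .nil)) (.node 1 (.node 0 (.node 0 (.node 0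 (.node 1 .nil .nil) (.node 1 (.node 0 .nil (.node 1 .nil .nil)) .nil)) (.node 1 (.node 0 (.node 0 .nil .nil) .nil) .nil)) (.node 1 (.node 0 (.node 1 .nil .nil) .nil) .nil)) .nil)) .nil)) .nil)) .nil)) (.node 1 (.node 0 (.node 0 (.node 0 (.node 1 (.node 0 .nil (.node 1 (.node 0 .nil (.node 1 (.node 0 .nil .nil) .nil)) .nil)) .nil) (.node 1 (.node 0 (.node 0 (.node 0 .nil (.node 1 (.node 1 .nil .nil) .nil)) (.node 1 (.node 0 (.node 0 .nil .nil) (.node 1 (.node 0 (.node 1 .nil .nil) (.node 1 (.node 1 .nil .nil) .nil)) .nil)) .nil)) (.node 1 (.node 0 .nil (.node 1 (.node 0 .nil (.node 1 (.node 1 .nil .nil) .nil)) .nil)) .nil)) .nil)) (.node 1 (.node 0 (.node 0 (.node 0 (.node 1 (.node 0 .nil (.node 1 .nil .nil)) .nil) (.node 1 (.node 0 .nil .nil) .nil)) (.node 1 (.node 0 (.node 0 (.node 1 .nil .nil) (.node 1 (.node 0 .nil .nil) .nil)) (.node 1 (.node 0 (.node 1 (.node 0 .nil .nil) .nil) .nil) .nil)) .nil)) (.node 1 (.node 0 (.node 0 (.node 0 .nil (.node 1 (.node 1 .nil .nil) .nil))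 (.node 1 (.node 0 (.node 0 (.node 1 .nil .nil) .nil) (.node 1 .nil .nil)) .nil)) (.node 1 (.node 0 .nil (.node 1 .nil .nil)) .nil)) .nil)) .nil)) (.node 1 (.node 0 (.node 0 (.node 0 (.node 1 (.node 1 (.node 0 (.node 1 .nil .nil) .nil) .nil) .nil) .nil) (.node 1 (.node 0 (.node 0 (.node 1 .nil .nil) (.node 1 (.node 1 (.node 1 .nil .nil) .nil) .nil)) (.node 1 (.node 0 (.node 1 .nil .nil) (.node 1 (.node 0 .nil (.node 1 (.node 0 (.node 0 .nil (.node 1 .nil .nil)) .nil) .nil)) .nil)) .nil)) .nil)) (.node 1 (.node 0 (.node 1 .nil .nil) (.node 1 (.node 0 (.node 0 (.node 0 (.node 1 .nil .nil) (.node 1 (.node 0 .nil .nil) .nil)) (.node 1 (.node 0 .nil .nil) .nil)) (.node 1 (.node 0 (.node 1 (.node 0 .nil (.node 1 .nil .nil)) .nil) .nil) .nil)) .nil)) .nil)) .nil)) .nil))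

set_option maxRecDepth 20000 in
/-- Generated data. -/
def quartStGens : List ℕ := [236844494123016412474898338330808582, 648333854287683318471619050160291905]

set_option maxRecDepth 20000 in
/-- Generated data. -/
def quartPart0 : M24Orbits.Part := (.nil, [7, 336, 70144, 270344], 144, 1)

set_option maxRecDepth 20000 in
/-- Generated data. -/
def quartPart1 : M24Orbits.Part := ((.node 0 (.node 0 (.node 1 (.node 1 .nil .nil) .nil) (.node 1 (.node 1 .nil .nil) .nil)) (.node 1 (.node 0 (.node 0 .nil (.node 1 .nil .nil)) (.node 1 .nil .nil)) .nil)), [7, 584, 73744, 266496], 54, 12)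

set_option maxRecDepth 20000 in
/-- Generated data. -/
def quartPart2 : M24Orbits.Part := ((.node 0 (.node 0 (.node 1 (.node 0 (.node 0 (.node 1 (.node 0 .nil .nil) .nil) (.node 1 (.node 0 .nil .nil) .nil)) .nil) .nil) .nil) (.node 1 (.node 0 (.node 0 (.node 1 (.node 1 (.node 0 .nil .nil) .nil) .nil) (.node 1 (.node 0 (.node 0 (.node 1 .nil .nil) (.node 1 .nil .nil)) (.node 1 .nil .nil)) .nil)) (.node 1 (.node 0 (.node 0 .nil (.node 1 (.node 1 .nil .nil) .nil)) .nil) .nil)) .nil)), [11, 4864, 65616, 270340], 56, 27)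

set_option maxRecDepth 20000 in
/-- Generated data. -/
def quartPart3 : M24Orbits.Part := ((.node 0 (.node 0 (.node 1 (.node 0 (.node 0 (.node 1 (.node 0 (.node 1 (.node 0 .nil (.node 1 .nil .nil)) .nil) (.node 1 .nil .nil)) .nil) (.node 1 (.node 1 .nil .nil) .nil)) (.node 1 (.node 0 (.node 0 .nil (.node 1 (.node 0 .nil .nil) .nil)) .nil) .nil)) .nil) (.node 1 (.node 0 (.node 0 (.node 1 (.node 1 .nil .nil) .nil) .nil) (.node 1 (.node 0 (.node 0 (.node 1 (.node 1 (.node 0 .nil .nil) .nil) .nil) (.node 1 (.node 0 (.node 0 (.node 1 (.node 1 .nil .nil) .nil) (.node 1 (.node 1 .nil .nil) .nil)) (.node 1 .nil .nil)) .nil)) .nil) .nil)) .nil)) (.node 1 (.node 0 (.node 0 (.node 1 (.node 0 (.node 1 (.node 1 (.node 0 .nil .nil) .nil) .nil) (.node 1 (.node 0 .nil .nil) .nil)) .nil) (.node 1 (.node 0 (.node 0 (.node 1 (.node 1 .nil .nil) .nil) (.node 1 (.node 0 .nil (.node 1 .nil .nil)) .nil)) .nil) .nil)) (.node 1 (.node 0 (.node 0 (.node 1 (.node 0 (.node 1 (.node 0 .nil (.node 1 .nil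 .nil)) .nil) (.node 1 (.node 0 (.node 1 .nil .nil) .nil) .nil)) .nil) (.node 1 (.node 0 (.node 1 (.node 1 .nil .nil) .nil) (.node 1 .nil .nil)) .nil)) .nil) .nil)) .nil)), [11, 580, 77824, 262416], 48, 72)

set_option maxRecDepth 20000 in
/-- Generated data. -/
def quartPart4 : M24Orbits.Part := ((.node 0 (.node 0 (.node 1 (.node 0 (.node 0 (.node 1 (.node 0 (.node 1 (.node 0 (.node 1 (.node 0 .nil (.node 1 .nil .nil)) .nil) (.node 1 .nil .nil)) .nil) (.node 1 (.node 0 (.node 1 .nil .nil) .nil) .nil)) .nil) (.node 1 (.node 0 (.node 0 (.node 1 (.node 1 (.node 0 .nil .nil) .nil) .nil) (.node 1 (.node 0 (.node 0 (.node 1 .nil .nil) (.node 1 .nil .nil)) (.node 1 .nil .nil)) .nil)) (.node 1 (.node 0 (.node 1 .nil .nil) .nil) .nil)) .nil)) (.node 1 .nil .nil)) .nil) (.node 1 (.node 0 (.node 1 (.node 0 (.node 0 .nil (.node 1 (.node 0 (.node 0 .nil (.node 1 (.node 1 (.node 0 .nil .nil) .nil) .nil)) (.node 1 (.node 0 .nil .nil) .nil)) .nil)) (.node 1 (.node 0 (.node 0 (.node 1 (.node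 0 .nil .nil) .nil) (.node 1 (.node 1 .nil .nil) .nil)) .nil) .nil)) .nil) (.node 1 (.node 0 (.node 0 (.node 1 (.node 0 .nil (.node 1 (.node 0 (.node 1 .nil .nil) .nil) .nil)) .nil) (.node 1 (.node 0 (.node 0 (.node 1 (.node 1 (.node 0 .nil .nil) .nil) .nil) (.node 1 .nil .nil)) (.node 1 .nil .nil)) .nil)) .nil) .nil)) .nil)) (.node 1 (.node 0 (.node 0 (.node 1 (.node 0 .nil (.node 1 (.node 0 (.node 1 .nil .nil) .nil) .nil)) .nil) (.node 1 (.node 0 (.node 0 (.node 1 (.node 1 (.node 0 (.node 1 .nil .nil) .nil) .nil) .nil) (.node 1 (.node 0 (.node 0 (.node 1 .nil .nil) .nil) (.node 1 (.node 0 .nil .nil) .nil)) .nil)) (.node 1 (.node 0 (.node 0 (.node 1 (.node 0 (.node 1 .nil .nil) .nil) .nil) (.node 1 (.node 1 .nil .nil) .nil)) .nil) .nil)) .nil)) (.node 1 (.node 0 (.node 0 (.node 1 (.node 0 .nil (.node 1 (.node 0 (.node 1 .nil .nil) .nil) .nil)) .nil) (.node 1 (.node 1 .nil .nil) .nil)) .nil) .nil)) .nil)), [11, 8720, 65796, 266304], 32, 108)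


/-- Search tree of the hexads. -/
def hexTree : M24Orbits.KeyTree := (.node 262238 (.node 66078 (.node 8790 (.node 4700 (.node 4127 (.node 797 (.node 591 (.node 343 .leaf .leaf) .leaf) (.node 858 .leaf .leaf)) (.node 4441 (.node 4430 .leaf .leaf) (.node 4691 .leaf .leaf))) (.node 8285 (.node 4886 (.node 4875 .leaf .leaf) (.node 4933 .leaf .leaf)) (.node 8523 (.node 8478 .leaf .leaf) (.node 8731 .leaf .leaf)))) (.node 12814 (.node 12378 (.node 9041 (.node 9036 (.node 8967 .leaf .leaf) .leaf) (.node 12359 .leaf .leaf)) (.node 12563 (.node 12557 .leaf .leaf) (.node 12628 .leaf .leaf))) (.node 13122 (.node 12873 (.node 12821 .leaf .leaf) (.node 13080 .leaf .leaf)) (.node 65807 (.node 65627 .leaf .leaf) (.node 65884 .leaf .leaf))))) (.node 74009 (.node 69955 (.node 69709 (.node 66374 (.node 66323 (.node 66133 .leaf .leaf) .leaf) (.node 66377 .leaf .leaf)) (.node 69909 (.node 69718 .leaf .leaf) (.node 69914 .leaf .leaf))) (.node 70412 (.node 70169 (.node 70151 .leaf .leaf) (.node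 70218 .leaf .leaf)) (.node 73751 (.node 70480 .leaf .leaf) (.node 73806 .leaf .leaf)))) (.node 77835 (.node 74307 (.node 74066 (.node 74053 .leaf .leaf) (.node 74253 .leaf .leaf)) (.node 74506 (.node 74328 .leaf .leaf) (.node 74516 .leaf .leaf))) (.node 78152 (.node 77905 (.node 77852 .leaf .leaf) (.node 78086 .leaf .leaf)) (.node 78404 (.node 78354 .leaf .leaf) (.node 78593 .leaf .leaf)))))) (.node 274947 (.node 267080 (.node 266325 (.node 262926 (.node 262679 (.node 262477 (.node 262427 .leaf .leaf) .leaf) (.node 262745 .leaf .leaf)) (.node 262996 (.node 262979 .leaf .leaf) (.node 266315 .leaf .leaf))) (.node 266765 (.node 266524 (.node 266503 .leaf .leaf) (.node 266578 .leaf .leaf)) (.node 266822 (.node 266778 .leaf .leaf) (.node 267025 .leaf .leaf)))) (.node 270922 (.node 270662 (.node 270419 (.node 270351 .leaf .leaf) (.node 270613 .leaf .leaf)) (.node 270876 (.node 270680 .leaf .leaf) (.node 270917 .leaf .leaf))) (.node 274457 (.node 271122 (.node 271113 .leaf .leaf)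 (.node 274454 .leaf .leaf)) (.node 274698 (.node 274508 .leaf .leaf) (.node 274753 .leaf .leaf))))) (.node 332100 (.node 328268 (.node 327958 (.node 327709 (.node 275204 (.node 275024 .leaf .leaf) .leaf) (.node 327751 .leaf .leaf)) (.node 328017 (.node 328010 .leaf .leaf) (.node 328203 .leaf .leaf))) (.node 331790 (.node 328453 (.node 328274 .leaf .leaf) (.node 328472 .leaf .leaf)) (.node 331864 (.node 331795 .leaf .leaf) (.node 332041 .leaf .leaf)))) (.node 336140 (.node 335898 (.node 332353 (.node 332308 .leaf .leaf) (.node 332546 .leaf .leaf)) (.node 335956 (.node 335945 .leaf .leaf) (.node 336131 .leaf .leaf))) (.node 339973 (.node 336401 (.node 336390 .leaf .leaf) (.node 336704 .leaf .leaf)) (.node 340240 (.node 340034 .leaf .leaf) (.node 340488 .leaf .leaf)))))))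

/-- The partners of each triple. -/
def triNbrLists : List (List ℕ) := [[4120, 584, 65800, 270344, 336, 262672, 73744, 12352, 327744, 8960, 266496, 70144], [4116, 580, 65796, 270340, 65616, 262416, 8720, 8512, 266304, 4864, 328192, 77824], [4108, 324, 262660, 73732, 65608, 262408, 8712, 4672, 270400, 66304, 12544, 331776], [524, 276, 12292, 327684, 65560, 8456, 266248, 4624, 270352, 262912, 69888, 74240], [65548, 84, 8708, 266244, 262168, 8264, 4616, 66064, 12304, 262720, 69696, 335872], [76, 262164, 8452, 69636, 8216, 4360, 327688, 4176, 65808, 262464, 73792, 274432], [28, 8260, 262404, 66052, 262216, 776, 73736, 592, 8464, 327696, 65856, 270848], [262156, 65556, 4164, 772, 536, 328, 69640, 262224, 4368, 66112, 327936, 266752], [268, 8212, 262212, 4612, 88, 262664, 12296, 784, 266256, 4416, 8768, 270592], [8204, 532, 65604, 4356, 280, 4168, 66056, 8272, 69648, 832, 73984, 12800], [4114, 578, 65794, 270338, 8272, 784, 327696, 262464, 69696, 12544, 266752, 74240], [4106, 322,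 262658, 73730, 8264, 776, 327688, 66112, 266304, 69888, 270592, 12800], [522, 274, 12290, 327682, 8216, 262408, 69640, 66064, 266256, 4864, 73984, 270848], [65546, 82, 8706, 266242, 536, 262216, 12296, 69648, 270352, 4672, 73792, 328192], [74, 262162, 8450, 69634, 280, 266248, 73736, 65616, 12304, 4416, 270400, 327936], [26, 8258, 262402, 66050, 65608, 8456, 262664, 262224, 65808, 8720, 832, 335872], [262154, 65554, 4162, 770, 88, 4360, 66056, 262416, 4624, 65856, 262720, 331776], [266, 8210, 262210, 4610, 262168, 4168, 8712, 592, 4368, 8512, 262912, 274432], [8202, 530, 65602, 4354, 65560, 328, 4616, 4176, 8464, 8768, 66304, 77824], [4102, 65602, 262402, 8706, 8260, 772, 327684, 4416, 262720, 73984, 70144, 274432], [518, 65554, 8450, 266242, 8212, 262404, 69636, 4368, 262672, 66304, 12800, 335872], [65542, 262162, 8258, 4610, 532, 262212, 12292, 4176, 73744, 66112, 270848, 331776], [70, 8210, 4354, 327682, 276, 266244, 73732, 262224, 69648, 65856, 12352, 270592], [22, 262210,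 770, 73730, 65604, 8452, 262660, 336, 66064, 270352, 8768, 327936], [262150, 530, 322, 69634, 84, 4356, 66052, 65808, 266256, 4672, 327744, 262912], [262, 82, 262658, 12290, 262164, 4164, 8708, 8464, 4624, 832, 270400, 266496], [8198, 274, 4162, 66050, 65556, 324, 4612, 592, 12304, 73792, 8960, 69888], [262, 65546, 4610, 270338, 8204, 66052, 266244, 4360, 262664, 8960, 327936, 77824], [70, 262154, 66050, 12290, 524, 69636, 270340, 4168, 73736, 8768, 327744, 266752], [262150, 8202, 4162, 65794, 268, 65604, 12292, 262216, 69640, 8512, 266496, 335872], [14, 578, 8450, 327682, 262212, 65796, 8708, 328, 66056, 270344, 73792, 262912], [65542, 522, 262210, 4354, 76, 262404, 4612, 65800, 266248, 832, 69696, 328192], [8198, 74, 770, 266242, 262156, 580, 4356, 8456, 4616, 262464, 12352, 270848], [518, 266, 8258, 69634, 65548, 4164, 8452, 584, 12296, 65856, 4864, 74240], [22, 8202, 262658, 69634, 262156, 4612, 73732, 4120, 66056, 8720, 327696, 274432], [14, 4114, 262402, 73730, 65556,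 4356, 270340, 262168, 65800, 12296, 8464, 331776], [8198, 262154, 530, 65794, 65548, 262164, 772, 280, 8712, 73744, 270592, 328192], [4102, 266, 262162, 66050, 28, 65796, 262660, 4616, 327688, 784, 69648, 266496], [262150, 26, 4354, 8706, 4108, 532, 8452, 776, 270344, 262416, 12304, 266752], [65542, 4106, 8210, 770, 268, 4116, 8708, 536, 73736, 65808, 12544, 70144], [8198, 4106, 65554, 262210, 28, 4164, 327684, 65608, 270344, 8272, 266256, 77824], [262150, 522, 8210, 65602, 8204, 65556, 580, 88, 327688, 262672, 270400, 74240], [518, 74, 4114, 327682, 4108, 262164, 65604, 65560, 262664, 592, 266304, 70144], [14, 530, 4162, 270338, 4116, 8260, 262660, 8216, 584, 266248, 262224, 12800], [4102, 26, 578, 73730, 76, 8212, 66052, 8712, 69640, 65616, 4624, 12352], [65542, 266, 82, 270338, 262156, 8212, 324, 65560, 8264, 262416, 327744, 73984], [262, 26, 65602, 266242, 65548, 4116, 262212, 4168, 262408, 336, 327696, 69888], [4102, 262154, 274, 8258, 8204, 84, 262404, 4120, 328, 270352,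 266304, 12544], [22, 65546, 322, 12290, 4108, 8260, 65796, 88, 8456, 4368, 73744, 69696], [70, 65546, 274, 262658, 268, 532, 327684, 262168, 584, 65616, 262464, 66304], [518, 8202, 262162, 322, 76, 276, 270340, 536, 262408, 8272, 262720, 8960], [262, 74, 65554, 8706, 524, 84, 73732, 8216, 65800, 784, 8512, 66112], [22, 4106, 578, 262402, 524, 324, 266244, 280, 262216, 4176, 262672, 4864], [14, 82, 65794, 4610, 276, 580, 69636, 4120, 65608, 776, 66064, 4416], [70, 522, 4114, 8450, 28, 772, 12292, 8264, 4360, 336, 8720, 4672], [4113, 577, 65793, 270337, 262224, 8464, 66064, 4416, 73792, 262912, 12800, 331776], [4105, 321, 262657, 73729, 262216, 8456, 66056, 8768, 69696, 4864, 327936, 274432], [521, 273, 12289, 327681, 262168, 4360, 73736, 8720, 69648, 66304, 270592, 266752], [65545, 81, 8705, 266241, 8216, 4168, 262664, 4624, 327696, 66112, 270400, 77824], [73, 262161, 8449, 69633, 65560, 262408, 12296, 8272, 4368, 65856, 266304, 335872], [25, 8257, 262401, 66049, 328, 8712,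 327688, 65616, 784, 270352, 262720, 73984], [262153, 65553, 4161, 769, 280, 65608, 4616, 592, 266256, 262464, 69888, 328192], [265, 8209, 262209, 4609, 536, 8264, 266248, 4176, 262416, 832, 12544, 270848], [8201, 529, 65601, 4353, 88, 776, 69640, 65808, 12304, 8512, 4672, 74240], [4101, 65601, 262401, 8705, 262212, 8452, 66052, 832, 12352, 69888, 266752, 335872], [517, 65553, 8449, 266241, 262164, 4356, 73732, 784, 12304, 327936, 70144, 270848], [65541, 262161, 8257, 4609, 8212, 4164, 262660, 592, 69648, 327744, 74240, 274432], [69, 8209, 4353, 327681, 65556, 262404, 12292, 336, 266256, 69696, 270400, 73984], [21, 262209, 769, 73729, 324, 8708, 327684, 8272, 65808, 262672, 66112, 270592], [262149, 529, 321, 69633, 276, 65604, 4612, 4176, 327696, 262720, 66304, 266496], [261, 81, 262657, 12289, 532, 8260, 266244, 4368, 270352, 262464, 4672, 8960], [8197, 273, 4161, 66049, 84, 772, 69636, 4624, 73744, 65856, 8768, 12544], [261, 65545, 4609, 270337, 262156, 8708, 69636, 776,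 12296, 266496, 73984, 328192], [69, 262153, 66049, 12289, 8204, 4612, 327684, 584, 69640, 266304, 73792, 270848], [262149, 8201, 4161, 65793, 65548, 8260, 4356, 328, 266248, 327744, 270592, 77824], [13, 577, 8449, 327681, 65604, 772, 270340, 8264, 65800, 262664, 262464, 74240], [65541, 521, 262209, 4353, 268, 580, 266244, 4168, 327688, 65856, 262912, 70144], [8197, 73, 769, 266241, 524, 4164, 262404, 4360, 270344, 8512, 262720, 12800], [517, 265, 8257, 69633, 76, 65796, 12292, 4616, 73736, 4416, 66112, 8960], [21, 8201, 262657, 69633, 4108, 66052, 270340, 536, 327688, 266256, 73744, 12800], [13, 4113, 262401, 73729, 8212, 65796, 266244, 280, 69640, 270344, 327696, 12544], [8197, 262153, 529, 65793, 268, 65556, 262660, 8216, 66056, 262416, 8960, 335872], [4101, 265, 262161, 66049, 65548, 532, 262404, 4120, 262664, 65808, 4864, 331776], [262149, 25, 4353, 8705, 8204, 4116, 772, 262408, 4616, 8464, 262672, 274432], [65541, 4105, 8209, 769, 28, 8452, 4612, 65800, 8712, 4368, 66064,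 77824], [8197, 4105, 65553, 262209, 262156, 4116, 65604, 88, 73736, 270352, 12352, 331776], [262149, 521, 8209, 65601, 76, 532, 73732, 65560, 270344, 262224, 8768, 328192], [517, 73, 4113, 327681, 28, 262212, 69636, 66056, 266248, 65616, 262672, 4672], [13, 529, 4161, 270337, 262164, 580, 12292, 4120, 262216, 8712, 8272, 266752], [4101, 25, 577, 73729, 524, 65556, 8260, 65608, 12296, 4176, 8720, 70144], [65541, 265, 81, 270337, 8204, 276, 262212, 262168, 65608, 73744, 8512, 327936], [261, 25, 65601, 266241, 4108, 84, 327684, 262216, 65800, 262416, 69648, 4416], [4101, 262153, 273, 8257, 28, 324, 270340, 4168, 8456, 262224, 12304, 266496], [21, 65545, 321, 12289, 268, 4164, 73732, 4120, 8264, 65616, 8464, 69888], [69, 65545, 273, 262657, 524, 262164, 65796, 88, 262408, 66064, 832, 327744], [517, 8201, 262161, 321, 262156, 84, 8452, 280, 584, 8720, 270400, 262912], [261, 73, 65553, 8705, 65548, 8212, 580, 536, 8456, 336, 73792, 66304], [21, 4105, 577, 262401, 76, 4356, 262660,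 262168, 776, 336, 4624, 266304], [13, 81, 65793, 4609, 4116, 324, 66052, 65560, 584, 4360, 784, 69696], [69, 521, 4113, 8449, 4108, 276, 8708, 8216, 328, 592, 12352, 4864], [4099, 8257, 769, 327681, 262210, 8450, 66050, 65856, 4672, 266496, 270848, 77824], [515, 8209, 262401, 69633, 262162, 4354, 73730, 65808, 4624, 8960, 328192, 274432], [65539, 529, 262209, 12289, 8210, 4162, 262658, 65616, 266256, 8768, 70144, 335872], [67, 273, 266241, 73729, 65554, 262402, 12290, 4176, 270352, 8512, 327744, 69888], [19, 65601, 8449, 262657, 322, 8706, 327682, 592, 262416, 73744, 270400, 66304], [262147, 81, 4353, 66049, 274, 65602, 4610, 262672, 69648, 832, 266304, 327936], [259, 262161, 4161, 8705, 530, 8258, 266242, 336, 12304, 262720, 4864, 270592], [8195, 65553, 321, 4609, 82, 770, 69634, 4368, 8720, 66112, 12352, 73984], [259, 8201, 66049, 266241, 262154, 8706, 69634, 65800, 4616, 262912, 12544, 335872], [67, 521, 69633, 270337, 8202, 4610, 327682, 65608, 266248, 262720, 12352, 74240],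 [262147, 265, 65601, 12289, 65546, 8258, 4354, 4168, 270344, 262464, 73984, 331776], [11, 262209, 65793, 8705, 65602, 770, 270338, 584, 262408, 73736, 8512, 328192], [65539, 73, 262401, 4609, 266, 578, 266242, 262664, 69640, 4416, 327744, 66304], [8195, 262153, 577, 4353, 522, 4162, 262402, 328, 12296, 270400, 8960, 266752], [515, 65545, 4161, 8449, 74, 65794, 12290, 4360, 8712, 832, 73792, 70144], [19, 262153, 4609, 73729, 4106, 66050, 270338, 65560, 8712, 262672, 12304, 331776], [11, 65553, 4353, 270337, 8210, 65794, 266242, 4120, 8456, 327688, 262416, 77824], [8195, 65545, 262161, 769, 266, 65554, 262658, 536, 270344, 8464, 327936, 74240], [4099, 25, 65793, 262657, 65546, 530, 262402, 776, 266248, 4368, 327696, 70144], [262147, 4105, 529, 8449, 8202, 4114, 770, 280, 262664, 270352, 266496, 12800], [65539, 265, 4113, 8705, 26, 8450, 4610, 66056, 12296, 784, 73744, 69888], [8195, 25, 4161, 327681, 262154, 4114, 65602, 8264, 69640, 262224, 73744, 274432], [262147, 8201, 65553,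 577, 74, 530, 73730, 262168, 66056, 8272, 327744, 270848], [515, 4105, 262161, 65601, 26, 262210, 69634, 584, 327688, 4176, 66064, 266752], [11, 4113, 8257, 262657, 262162, 578, 12290, 88, 4616, 270344, 8720, 266304], [4099, 73, 8209, 66049, 522, 65554, 8258, 4120, 73736, 592, 69696, 12800], [65539, 262153, 8209, 321, 8202, 274, 262210, 88, 65800, 327696, 73792, 270592], [259, 65545, 4113, 262209, 4106, 82, 327682, 262168, 328, 65808, 69696, 266496], [4099, 8201, 81, 262401, 26, 322, 270338, 262216, 4360, 8464, 266256, 12352], [19, 4105, 8257, 65793, 266, 4162, 73730, 8216, 65608, 336, 69648, 12544], [67, 265, 529, 327681, 522, 262162, 65794, 65560, 262216, 336, 66112, 262912], [515, 73, 273, 270337, 262154, 82, 8450, 8216, 776, 262672, 262464, 8768], [259, 521, 81, 73729, 65546, 8210, 578, 280, 8264, 66064, 65856, 8960], [19, 521, 321, 266241, 74, 4354, 262658, 4120, 262408, 262224, 784, 4672], [11, 273, 577, 69633, 4114, 322, 66050, 536, 4168, 65800, 65616, 4864], [67, 25,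 769, 12289, 4106, 274, 8706, 584, 8456, 8272, 4624, 4416], [65539, 8197, 4353, 262657, 262150, 770, 12290, 65796, 4612, 270592, 74240, 331776], [262147, 517, 4161, 73729, 8198, 578, 69634, 65604, 266244, 270400, 12800, 328192], [8195, 261, 262209, 69633, 65542, 322, 266242, 4164, 270340, 73792, 12544, 327936], [7, 321, 66049, 270337, 8258, 65794, 262658, 580, 262404, 73732, 327744, 8960], [515, 69, 65793, 266241, 262, 4162, 327682, 262660, 69636, 262464, 66112, 4864], [67, 262149, 8449, 4609, 518, 4354, 270338, 324, 12292, 8768, 266304, 262912], [259, 65541, 577, 12289, 70, 4610, 73730, 4356, 8708, 8512, 69696, 66304], [8195, 262149, 4113, 66049, 4102, 530, 327682, 65556, 8708, 270352, 266752, 77824], [7, 262161, 65793, 12289, 274, 69634, 270338, 4116, 8452, 327684, 73744, 266496], [262147, 65541, 273, 8705, 262, 8210, 66050, 532, 270340, 327696, 262912, 73984], [259, 21, 4609, 327681, 65542, 4114, 262658, 772, 266244, 262416, 66064, 69888], [19, 4101, 769, 270337, 8198, 262402,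 4610, 276, 262660, 8720, 266256, 12544], [4099, 261, 529, 73729, 22, 65794, 8706, 66052, 12292, 8464, 69648, 4864], [4099, 21, 65601, 270337, 262150, 82, 73730, 8260, 69636, 12304, 327696, 266304], [515, 8197, 81, 327681, 70, 65554, 270338, 262164, 66052, 8720, 262720, 73792], [67, 4101, 65553, 262657, 22, 66050, 266242, 580, 327684, 262224, 4624, 69696], [7, 8209, 577, 266241, 4114, 262210, 8706, 84, 4612, 270340, 262672, 12352], [19, 69, 8705, 69633, 518, 65602, 12290, 4116, 73732, 8272, 66064, 4672], [259, 262149, 65553, 8257, 8198, 262162, 65602, 84, 65796, 8464, 262464, 335872], [19, 65541, 4161, 262401, 4102, 262210, 65794, 262164, 324, 65616, 4368, 331776], [262147, 8197, 4113, 321, 22, 4162, 8450, 262212, 4356, 8272, 262416, 274432], [65539, 4101, 81, 8449, 262, 4114, 8258, 8212, 65604, 65808, 4416, 77824], [65539, 261, 262161, 577, 518, 82, 262402, 65556, 262212, 784, 65856, 328192], [8195, 69, 529, 262401, 262150, 274, 578, 8212, 772, 262224, 8512, 270848], [67,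 517, 8209, 65793, 65542, 530, 8450, 276, 8260, 65616, 832, 74240], [4099, 517, 273, 262209, 70, 262162, 770, 4116, 262404, 592, 4416, 266752], [7, 4113, 65601, 769, 65554, 578, 4354, 532, 4164, 65796, 336, 70144], [515, 21, 8257, 4353, 4102, 8210, 322, 580, 8452, 4176, 784, 12800], [7, 4105, 8705, 327681, 522, 266242, 73730, 65548, 262660, 12292, 270344, 70144], [4099, 65541, 262153, 8449, 8198, 266, 327682, 4108, 262404, 73736, 69888, 274432], [515, 262149, 265, 73729, 65542, 8202, 262402, 524, 8452, 327688, 66304, 270848], [262147, 13, 769, 69633, 518, 4106, 65794, 4356, 327684, 262408, 66056, 266752], [11, 517, 262401, 12289, 4102, 8450, 262658, 268, 270340, 8712, 266248, 4864], [8195, 4101, 521, 65793, 14, 4354, 66050, 772, 73732, 8456, 69640, 12800], [65539, 13, 8257, 266241, 4102, 74, 270338, 262212, 73732, 12296, 327688, 69696], [8195, 65541, 73, 262657, 518, 65546, 262210, 262156, 8260, 8712, 66112, 335872], [4099, 262149, 65545, 577, 14, 65602, 262658, 4164, 66052,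 262216, 4616, 331776], [515, 4101, 8201, 262209, 262150, 4106, 8258, 76, 8708, 262664, 4672, 274432], [11, 8197, 65601, 4609, 65542, 4162, 8706, 4108, 580, 8264, 66056, 77824], [67, 8197, 65545, 262401, 262, 262154, 73730, 76, 327684, 8456, 65856, 270400], [11, 4101, 321, 327681, 70, 262402, 69634, 262156, 65796, 65608, 4360, 266304], [259, 69, 4105, 270337, 14, 262210, 12290, 8452, 266244, 8264, 262408, 4416], [7, 73, 4353, 73729, 4106, 65602, 8450, 8204, 324, 69636, 65800, 12352], [259, 517, 262153, 65601, 262150, 74, 66050, 65548, 324, 776, 262720, 327936], [262147, 261, 521, 8257, 70, 266, 8706, 8204, 262660, 262216, 832, 270592], [65539, 69, 8201, 769, 8198, 522, 322, 268, 66052, 65608, 8768, 73984], [7, 265, 4161, 262657, 262154, 322, 4610, 4108, 262212, 772, 584, 266496], [67, 261, 4105, 66049, 4102, 65546, 770, 524, 65604, 328, 4672, 69888], [4099, 13, 321, 8705, 262, 8202, 578, 8260, 4612, 4168, 776, 12544], [262147, 4101, 65545, 8209, 65542, 26, 12290, 8204, 262164,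 266248, 69648, 335872], [65539, 517, 25, 270337, 14, 262162, 8706, 8212, 327684, 262664, 73736, 66064], [11, 65541, 529, 266241, 262150, 65554, 4610, 524, 4116, 262168, 69640, 328192], [4099, 8197, 521, 262161, 518, 262154, 8210, 28, 266244, 12296, 4624, 270848], [515, 13, 65553, 12289, 8198, 65546, 4114, 532, 69636, 8216, 4616, 74240], [19, 261, 8201, 327681, 262150, 65546, 8450, 28, 73732, 262408, 65808, 270352], [65539, 262149, 4105, 273, 22, 262154, 4354, 268, 69636, 65560, 266256, 327936], [8195, 21, 265, 266241, 262, 4106, 262162, 262156, 12292, 8216, 4368, 270592], [259, 8197, 25, 69633, 4102, 8202, 65554, 65548, 276, 4360, 12304, 73984], [7, 521, 65553, 262401, 26, 770, 327682, 262156, 276, 66052, 65800, 262672], [259, 13, 8209, 262657, 22, 522, 270338, 262404, 8708, 262168, 8456, 784], [11, 21, 8449, 66049, 518, 274, 73730, 8204, 65796, 65560, 776, 8720], [515, 261, 262153, 4113, 14, 274, 266242, 262164, 4612, 536, 4360, 262912], [19, 517, 65545, 4353, 262, 522, 69634,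 4108, 65556, 280, 4624, 66304], [7, 8201, 273, 4609, 266, 530, 12290, 524, 8212, 4356, 4120, 8960], [11, 69, 262161, 73729, 22, 8258, 327682, 65548, 270340, 8216, 262216, 65616], [7, 262153, 81, 69633, 65546, 262162, 4162, 76, 65556, 266244, 4120, 327744], [19, 262149, 73, 12289, 70, 8202, 266242, 4108, 8212, 262168, 4176, 270400], [67, 65541, 8201, 4113, 14, 8210, 69634, 84, 12292, 65560, 4168, 73792], [19, 13, 262209, 66049, 65542, 262154, 578, 84, 262660, 536, 65608, 327696], [67, 21, 262153, 8705, 8198, 26, 262658, 524, 262212, 8264, 592, 270352], [7, 65545, 529, 8257, 8202, 82, 66050, 28, 65604, 8708, 584, 73744], [262147, 69, 25, 4609, 4102, 522, 82, 262156, 532, 4168, 266256, 262720], [65539, 21, 521, 4161, 70, 4106, 530, 65548, 4612, 88, 69648, 66112], [8195, 517, 4105, 81, 22, 74, 4610, 8204, 4164, 536, 12304, 8768], [262147, 21, 73, 65793, 14, 65554, 322, 65604, 262404, 280, 327688, 262224], [7, 25, 262209, 8449, 74, 8210, 262402, 268, 262164, 8260, 270344, 336],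 [8195, 13, 273, 65601, 70, 26, 65794, 65556, 8452, 328, 73736, 8272], [67, 13, 262161, 4353, 262150, 266, 4114, 276, 4164, 88, 266248, 262464], [4099, 69, 265, 65553, 65542, 74, 274, 28, 4356, 69640, 4176, 65856], [11, 261, 8209, 4161, 8198, 82, 4354, 76, 4116, 280, 12296, 8512], [11, 262149, 81, 769, 262, 530, 262210, 28, 580, 328, 262664, 262416], [515, 65541, 25, 321, 22, 266, 65602, 76, 772, 66056, 592, 65808], [19, 8197, 265, 577, 14, 8258, 770, 532, 324, 88, 8712, 8464], [259, 4101, 73, 529, 518, 26, 4162, 268, 84, 4616, 4368, 832]]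

end Cfsg.Agent.Golay
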