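import Cfsg.Agent.Golay.Orbits

/-! Generated data: orbit forest of dodecads, transversals in the dodecad stabilizer. -/

set_option autoImplicit false

namespace Cfsg.Agent.Golay

set_option maxRecDepth 20000 in
/-- Orbit forest of dodecads under the three standard generators. -/
def dodTree : OrbTree := (.node 0 (.node 0 (.node 0 (.node 0 (.node 0 (.node 0 (.node 0 (.node 0 (.node 0 (.node 1 .nil .nil) (.node 1 .nil .nil)) (.node 1 (.node 0 (.node 2 .nil .nil) (.node 2 .nil .nil)) (.node 2 (.node 0 (.node 1 (.node 0 .nil .nil) (.node 2 .nil .nil)) .nil) .nil))) (.node 1 (.node 0 (.node 0 (.node 0 (.node 1 .nil .nil) (.node 1 .nil .nil)) (.node 1 .nil (.node 2 (.node 2 (.node 2 .nil .nil) .nil) .nil))) .nil) .nil)) (.node 1 (.node 0 (.node 0 (.node 0 (.node 0 (.node 0 .nil .nil) (.node 2 .nil .nil)) (.node 1 (.node 2 (.node 2 .nil .nil) .nil) (.node 2 (.node 0 .nil (.node 2 .nil .nil)) .nil))) (.node 1 (.node 2 (.node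 2 (.node 0 .nil .nil) .nil) .nil) (.node 2 (.node 2 (.node 0 (.node 2 .nil .nil) (.node 2 .nil .nil)) .nil) .nil))) (.node 2 (.node 0 (.node 0 (.node 0 (.node 0 .nil .nil) (.node 1 .nil (.node 2 (.node 2 .nil .nil) .nil))) (.node 1 (.node 0 (.node 2 .nil .nil) .nil) (.node 2 (.node 2 (.node 0 (.node 2 .nil .nil) .nil) .nil) .nil))) (.node 2 (.node 2 (.node 0 .nil (.node 2 .nil .nil)) .nil) .nil)) .nil)) (.node 2 (.node 0 (.node 0 (.node 1 .nil .nil) (.node 1 (.node 0 .nil (.node 2 (.node 0 (.node 2 .nil .nil) (.node 2 (.node 2 .nil .nil) .nil)) .nil)) (.node 2 (.node 0 (.node 2 .nil .nil) (.node 2 (.node 0 .nil (.node 2 .nil .nil)) .nil)) .nil))) (.node 2 (.node 0 (.node 0 .nil (.node 1 .nil .nil)) (.node 2 (.node 0 (.node 0 .nil (.node 1 (.node 0 .nil .nil) (.node 2 .nil .nil))) (.node 2 (.node 0 .nil .nil) .nil)) .nil)) .nil)) .nil))) (.node 1 (.node 0 (.node 0 (.node 0 (.node 0 (.node 0 .nil (.node 1 (.node 2 .nil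 .nil) (.node 2 .nil .nil))) (.node 1 (.node 0 (.node 2 .nil .nil) .nil) (.node 2 (.node 0 (.node 2 .nil .nil) (.node 2 .nil .nil)) .nil))) (.node 1 (.node 0 .nil (.node 2 (.node 0 (.node 0 .nil .nil) .nil) .nil)) (.node 2 (.node 2 (.node 0 .nil .nil) .nil) .nil))) (.node 1 .nil (.node 2 (.node 0 (.node 0 (.node 1 (.node 0 (.node 2 .nil .nil) .nil) .nil) (.node 1 (.node 2 (.node 2 .nil .nil) .nil) (.node 2 (.node 0 .nil (.node 2 .nil .nil)) .nil))) (.node 2 (.node 2 (.node 0 (.node 1 .nil .nil) .nil) .nil) .nil)) .nil))) (.node 2 (.node 0 (.node 0 (.node 0 (.node 1 (.node 2 .nil .nil) (.node 2 (.node 2 .nil .nil) .nil)) (.node 1 .nil (.node 2 .nil .nil))) (.node 1 (.node 0 (.node 1 .nil .nil) (.node 2 (.node 0 .nil (.node 2 (.node 2 .nil .nil) .nil)) .nil)) (.node 2 (.node 2 (.node 0 (.node 1 .nil .nil) (.node 2 (.node 2 .nil .nil) .nil)) .nil) .nil))) (.node 2 (.node 0 (.node 1 (.node 0 (.node 0 .nil .nil) .nil) (.node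 2 .nil .nil)) (.node 2 (.node 0 (.node 1 .nil .nil) .nil) .nil)) .nil)) .nil)) (.node 2 (.node 0 (.node 0 (.node 0 (.node 0 .nil (.node 1 (.node 0 .nil .nil) .nil)) (.node 1 (.node 0 (.node 0 .nil (.node 1 .nil .nil)) (.node 2 .nil .nil)) (.node 2 (.node 0 (.node 0 (.node 0 .nil .nil) (.node 1 (.node 2 (.node 0 .nil .nil) .nil) (.node 2 .nil .nil))) (.node 2 .nil .nil)) .nil))) (.node 1 (.node 0 (.node 0 (.node 0 (.node 1 .nil .nil) .nil) (.node 1 (.node 2 .nil .nil) (.node 2 .nil .nil))) (.node 2 (.node 0 (.node 0 .nil (.node 1 (.node 2 (.node 2 .nil .nil) .nil) (.node 2 (.node 2 .nil .nil) .nil))) (.node 2 (.node 0 (.node 1 .nil .nil) (.node 2 (.node 0 .nil .nil) .nil)) .nil)) .nil)) (.node 2 (.node 0 (.node 0 (.node 0 (.node 1 .nil .nil) (.node 1 (.node 0 .nil .nil) (.node 2 .nil .nil))) (.node 1 (.node 2 .nil .nil) (.node 2 (.node 2 .nil .nil) .nil))) (.node 2 (.node 0 (.node 0 (.node 0 .nil .nil) (.node 1 (.node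 2 .nil .nil) (.node 2 (.node 2 .nil .nil) .nil))) (.node 2 (.node 2 .nil .nil) .nil)) .nil)) .nil))) (.node 2 (.node 0 (.node 0 (.node 2 (.node 0 .nil .nil) .nil) (.node 1 (.node 0 .nil (.node 2 (.node 0 (.node 2 .nil .nil) (.node 2 .nil .nil)) .nil)) (.node 2 (.node 0 (.node 1 .nil (.node 2 .nil .nil)) (.node 2 (.node 0 .nil (.node 2 .nil .nil)) .nil)) .nil))) (.node 2 (.node 0 (.node 0 (.node 0 (.node 1 .nil .nil) (.node 1 (.node 0 .nil .nil) .nil)) (.node 1 (.node 0 (.node 0 .nil .nil) (.node 2 (.node 0 .nil .nil) .nil)) (.node 2 (.node 0 .nil .nil) .nil))) .nil) .nil)) .nil)) .nil))) (.node 1 (.node 0 (.node 0 (.node 0 (.node 0 (.node 1 .nil (.node 2 (.node 2 .nil .nil) .nil)) (.node 1 (.node 0 (.node 0 (.node 2 .nil .nil) .nil) .nil) (.node 2 .nil .nil))) (.node 1 (.node 0 (.node 0 (.node 0 .nil (.node 1 (.node 0 .nil .nil) .nil)) (.node 1 .nil (.node 2 (.node 0 (.node 0 .nil (.node 1 .nil .nil)) .nil) .nil)))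 (.node 2 (.node 2 (.node 0 .nil (.node 2 (.node 2 .nil .nil) .nil)) .nil) .nil)) (.node 2 (.node 0 (.node 0 (.node 0 (.node 2 .nil .nil) .nil) (.node 1 .nil .nil)) (.node 2 (.node 0 (.node 1 .nil (.node 2 .nil .nil)) (.node 2 (.node 2 .nil .nil) .nil)) .nil)) .nil))) (.node 1 .nil .nil)) (.node 2 (.node 0 (.node 0 (.node 0 (.node 1 .nil (.node 2 .nil .nil)) (.node 1 (.node 0 (.node 0 (.node 1 .nil (.node 2 .nil .nil)) .nil) (.node 2 (.node 2 (.node 0 .nil (.node 2 .nil .nil)) .nil) .nil)) (.node 2 (.node 0 .nil (.node 2 (.node 0 .nil (.node 2 .nil .nil)) .nil)) .nil))) (.node 1 (.node 0 (.node 2 .nil .nil) (.node 2 (.node 0 (.node 0 .nil (.node 1 .nil (.node 2 (.node 2 .nil .nil) .nil))) (.node 2 (.node 0 .nil (.node 2 (.node 2 .nil .nil) .nil)) .nil)) .nil)) (.node 2 (.node 2 (.node 0 (.node 0 .nil (.node 1 (.node 2 .nil .nil) (.node 2 (.node 0 (.node 0 .nil .nil) .nil) .nil))) (.node 2 (.node 2 .nil .nil) .nil)) .nil)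 .nil))) (.node 2 (.node 0 (.node 0 .nil (.node 2 (.node 0 (.node 2 .nil .nil) .nil) .nil)) (.node 2 (.node 0 (.node 0 (.node 1 (.node 2 (.node 0 .nil .nil) .nil) (.node 2 (.node 0 .nil .nil) .nil)) (.node 1 (.node 0 .nil .nil) (.node 2 (.node 2 .nil .nil) .nil))) (.node 2 .nil .nil)) .nil)) .nil)) .nil)) (.node 2 (.node 0 (.node 0 (.node 0 (.node 0 (.node 1 (.node 2 (.node 0 (.node 0 (.node 0 .nil .nil) .nil) .nil) .nil) (.node 2 .nil .nil)) (.node 1 (.node 2 (.node 2 (.node 0 .nil .nil) .nil) .nil) (.node 2 (.node 0 (.node 2 (.node 0 .nil .nil) .nil) (.node 2 (.node 0 .nil .nil) .nil)) .nil))) (.node 1 (.node 2 (.node 0 .nil .nil) .nil) (.node 2 (.node 2 (.node 0 (.node 0 .nil .nil) (.node 2 (.node 2 .nil .nil) .nil)) .nil) .nil))) (.node 1 (.node 0 (.node 0 (.node 0 (.node 1 .nil (.node 2 .nil .nil)) .nil) (.node 2 .nil .nil)) (.node 2 (.node 0 (.node 0 (.node 0 .nil (.node 2 .nil .nil)) (.node 1 (.node 0 (.node 0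 .nil .nil) (.node 2 (.node 0 .nil .nil) .nil)) (.node 2 (.node 0 (.node 0 .nil .nil) .nil) .nil))) (.node 2 (.node 0 (.node 0 .nil (.node 1 (.node 2 .nil .nil) (.node 2 .nil .nil))) (.node 2 (.node 0 (.node 2 .nil .nil) .nil) .nil)) .nil)) .nil)) (.node 2 (.node 0 (.node 0 (.node 0 (.node 0 (.node 1 .nil .nil) .nil) (.node 2 .nil .nil)) (.node 1 (.node 0 (.node 0 .nil (.node 1 .nil (.node 2 .nil .nil))) (.node 2 (.node 2 .nil .nil) .nil)) (.node 2 (.node 0 (.node 1 (.node 0 .nil .nil) (.node 2 .nil .nil)) (.node 2 (.node 2 .nil .nil) .nil)) .nil))) (.node 2 (.node 0 (.node 0 (.node 0 (.node 2 .nil .nil) (.node 1 (.node 2 .nil .nil) (.node 2 .nil .nil))) (.node 1 (.node 0 (.node 2 .nil .nil) (.node 2 .nil .nil)) (.node 2 .nil .nil))) (.node 2 (.node 0 (.node 0 .nil .nil) .nil) .nil)) .nil)) .nil))) (.node 2 (.node 0 (.node 0 (.node 0 (.node 0 (.node 0 .nil (.node 1 (.node 0 .nil .nil) .nil)) (.node 1 (.node 0 .nil .nil)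 (.node 2 (.node 0 .nil (.node 2 .nil .nil)) .nil))) (.node 1 (.node 0 (.node 0 (.node 2 .nil .nil) (.node 2 .nil .nil)) (.node 2 (.node 0 .nil .nil) .nil)) (.node 2 .nil .nil))) (.node 1 (.node 0 (.node 0 (.node 0 .nil (.node 2 (.node 0 .nil .nil) .nil)) (.node 2 (.node 0 (.node 0 .nil .nil) .nil) .nil)) (.node 2 (.node 0 .nil (.node 2 (.node 0 (.node 1 .nil .nil) .nil) .nil)) .nil)) (.node 2 (.node 0 (.node 0 .nil (.node 1 (.node 0 (.node 0 .nil .nil) .nil) (.node 2 .nil .nil))) (.node 2 (.node 0 (.node 0 (.node 2 .nil .nil) (.node 1 .nil (.node 2 .nil .nil))) .nil) .nil)) .nil))) (.node 2 (.node 0 (.node 1 .nil .nil) (.node 2 (.node 0 (.node 0 .nil (.node 1 .nil .nil)) .nil) .nil)) .nil)) .nil)) .nil))) (.node 1 (.node 0 (.node 0 (.node 0 (.node 0 (.node 0 (.node 0 .nil (.node 1 (.node 0 (.node 1 .nil .nil) (.node 2 .nil .nil)) (.node 2 .nil .nil))) (.node 1 (.node 0 (.node 0 (.node 2 .nil .nil) (.node 1 (.node 2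 .nil .nil) (.node 2 .nil .nil))) (.node 2 (.node 0 .nil (.node 2 .nil .nil)) .nil)) (.node 2 (.node 0 (.node 0 (.node 0 .nil .nil) (.node 1 .nil .nil)) (.node 2 (.node 2 .nil .nil) .nil)) .nil))) (.node 1 .nil .nil)) (.node 1 (.node 2 (.node 0 (.node 0 .nil (.node 1 .nil (.node 2 (.node 0 (.node 2 .nil .nil) (.node 2 .nil .nil)) .nil))) (.node 2 (.node 2 .nil .nil) .nil)) .nil) (.node 2 (.node 0 (.node 0 (.node 1 (.node 0 .nil (.node 2 .nil .nil)) (.node 2 (.node 0 (.node 0 .nil .nil) (.node 2 .nil .nil)) .nil)) (.node 1 (.node 2 (.node 0 (.node 2 (.node 0 .nil .nil) .nil) .nil) .nil) (.node 2 .nil .nil))) (.node 2 (.node 0 (.node 1 (.node 0 (.node 0 .nil .nil) .nil) (.node 2 (.node 2 .nil .nil) .nil)) (.node 2 (.node 0 (.node 1 (.node 2 .nil .nil) (.node 2 .nil .nil)) .nil) .nil)) .nil)) .nil))) (.node 1 (.node 2 (.node 0 (.node 0 (.node 0 (.node 0 .nil .nil) (.node 2 (.node 2 .nil .nil) .nil)) (.node 1 (.node 0 (.node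 0 (.node 1 .nil .nil) (.node 1 (.node 2 .nil .nil) (.node 2 .nil .nil))) (.node 2 .nil .nil)) (.node 2 (.node 0 .nil .nil) .nil))) (.node 2 (.node 2 (.node 0 (.node 0 (.node 0 .nil .nil) (.node 1 (.node 0 .nil .nil) .nil)) (.node 2 (.node 0 .nil .nil) .nil)) .nil) .nil)) .nil) (.node 2 (.node 0 (.node 0 (.node 0 (.node 1 (.node 2 .nil .nil) (.node 2 (.node 0 (.node 0 .nil .nil) .nil) .nil)) (.node 1 (.node 2 .nil .nil) (.node 2 (.node 0 (.node 0 .nil .nil) (.node 2 (.node 2 .nil .nil) .nil)) .nil))) (.node 1 (.node 0 (.node 0 (.node 0 (.node 0 .nil .nil) (.node 2 .nil .nil)) (.node 1 (.node 2 (.node 2 .nil .nil) .nil) (.node 2 (.node 2 .nil .nil) .nil))) (.node 2 (.node 0 .nil (.node 2 .nil .nil)) .nil)) (.node 2 (.node 2 (.node 0 (.node 1 (.node 0 (.node 0 .nil .nil) (.node 2 .nil .nil)) (.node 2 (.node 2 .nil .nil) .nil)) .nil) .nil) .nil))) (.node 2 (.node 0 (.node 0 (.node 0 .nil (.node 1 (.node 2 (.node 2 .nil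 .nil) .nil) (.node 2 (.node 0 (.node 0 .nil .nil) (.node 2 .nil .nil)) .nil))) (.node 1 (.node 0 (.node 0 .nil .nil) .nil) .nil)) (.node 2 (.node 0 (.node 0 (.node 0 .nil (.node 1 (.node 0 .nil (.node 2 .nil .nil)) (.node 2 .nil .nil))) (.node 1 .nil (.node 2 .nil .nil))) (.node 2 (.node 0 (.node 1 (.node 2 .nil .nil) (.node 2 .nil .nil)) .nil) .nil)) .nil)) .nil)) .nil))) (.node 2 (.node 0 (.node 0 (.node 0 (.node 1 (.node 0 (.node 0 .nil (.node 2 .nil .nil)) .nil) .nil) (.node 1 (.node 0 (.node 1 .nil (.node 2 .nil .nil)) (.node 2 (.node 0 (.node 0 .nil (.node 2 .nil .nil)) (.node 2 (.node 0 .nil .nil) .nil)) .nil)) (.node 2 (.node 2 (.node 0 (.node 1 .nil .nil) (.node 2 .nil .nil)) .nil) .nil))) (.node 1 (.node 0 (.node 0 (.node 2 (.node 0 (.node 2 .nil .nil) .nil) .nil) (.node 1 (.node 2 .nil .nil) (.node 2 (.node 0 (.node 1 (.node 0 .nil (.node 2 .nil .nil)) (.node 2 .nil .nil)) (.node 2 .nil .nil)) .nil))) (.node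 2 (.node 0 (.node 1 (.node 0 (.node 0 .nil (.node 1 .nil .nil)) .nil) (.node 2 .nil .nil)) (.node 2 (.node 0 (.node 0 .nil (.node 1 .nil .nil)) (.node 2 (.node 0 .nil (.node 2 (.node 0 .nil .nil) .nil)) .nil)) .nil)) .nil)) (.node 2 (.node 0 (.node 0 (.node 0 .nil (.node 1 (.node 0 (.node 0 .nil .nil) (.node 2 .nil .nil)) (.node 2 .nil .nil))) (.node 1 (.node 0 (.node 0 .nil (.node 1 .nil .nil)) (.node 2 .nil .nil)) (.node 2 (.node 0 (.node 0 .nil .nil) .nil) .nil))) (.node 2 (.node 0 (.node 0 (.node 0 .nil (.node 1 .nil .nil)) (.node 1 (.node 0 .nil (.node 2 .nil .nil)) (.node 2 .nil .nil))) (.node 2 (.node 0 (.node 0 .nil .nil) (.node 2 (.node 0 (.node 1 .nil .nil) .nil) .nil)) .nil)) .nil)) .nil))) (.node 2 (.node 0 (.node 0 (.node 0 (.node 0 .nil (.node 1 (.node 2 (.node 2 .nil .nil) .nil) (.node 2 (.node 2 .nil .nil) .nil))) (.node 1 (.node 0 .nil .nil) (.node 2 (.node 2 .nil .nil) .nil))) (.node 1 (.node 0 (.node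 0 (.node 1 (.node 0 .nil .nil) .nil) (.node 1 .nil (.node 2 (.node 0 (.node 0 .nil (.node 2 .nil .nil)) .nil) .nil))) .nil) (.node 2 (.node 0 (.node 1 .nil (.node 2 (.node 0 .nil (.node 2 .nil .nil)) .nil)) (.node 2 (.node 2 (.node 0 .nil (.node 2 (.node 0 .nil .nil) .nil)) .nil) .nil)) .nil))) (.node 2 (.node 0 (.node 1 (.node 0 (.node 0 .nil (.node 2 .nil .nil)) (.node 2 (.node 0 (.node 1 .nil .nil) (.node 2 .nil .nil)) .nil)) (.node 2 (.node 0 (.node 2 (.node 2 .nil .nil) .nil) (.node 2 (.node 0 .nil .nil) .nil)) .nil)) (.node 2 (.node 0 (.node 0 (.node 1 .nil (.node 2 .nil .nil)) (.node 1 .nil (.node 2 (.node 0 .nil .nil) .nil))) .nil) .nil)) .nil)) .nil)) .nil)) (.node 2 (.node 0 (.node 0 (.node 0 (.node 0 (.node 2 (.node 0 .nil .nil) .nil) (.node 1 (.node 0 (.node 2 .nil .nil) (.node 2 (.node 0 (.node 1 .nil .nil) .nil) .nil)) (.node 2 (.node 0 (.node 0 (.node 0 .nil (.node 1 (.node 0 .nil .nil) .nil)) (.node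 1 (.node 2 .nil .nil) (.node 2 .nil .nil))) (.node 2 .nil .nil)) .nil))) (.node 1 (.node 0 (.node 0 (.node 1 (.node 2 .nil .nil) (.node 2 .nil .nil)) (.node 1 (.node 2 (.node 0 .nil .nil) .nil) (.node 2 .nil .nil))) (.node 2 (.node 0 (.node 0 (.node 0 .nil .nil) (.node 1 (.node 2 .nil .nil) (.node 2 (.node 2 (.node 0 .nil .nil) .nil) .nil))) (.node 2 (.node 0 (.node 1 .nil .nil) (.node 2 (.node 2 (.node 0 (.node 1 .nil .nil) .nil) .nil) .nil)) .nil)) .nil)) (.node 2 (.node 0 (.node 0 (.node 1 .nil .nil) (.node 1 (.node 0 (.node 0 .nil (.node 1 .nil .nil)) (.node 2 (.node 0 (.node 0 (.node 0 .nil .nil) .nil) (.node 2 .nil .nil)) .nil)) (.node 2 (.node 2 (.node 0 (.node 1 .nil .nil) .nil) .nil) .nil))) (.node 2 (.node 0 (.node 1 (.node 2 .nil .nil) (.node 2 (.node 0 .nil .nil) .nil)) (.node 2 (.node 0 (.node 0 (.node 0 .nil .nil) (.node 2 .nil .nil)) (.node 2 .nil .nil)) .nil)) .nil)) .nil))) (.node 1 (.node 0 (.node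 2 (.node 0 (.node 1 .nil .nil) (.node 2 (.node 0 (.node 2 (.node 2 .nil .nil) .nil) (.node 2 .nil .nil)) .nil)) .nil) (.node 2 (.node 0 (.node 0 (.node 0 (.node 1 (.node 2 .nil .nil) (.node 2 .nil .nil)) .nil) (.node 1 (.node 0 .nil (.node 2 (.node 2 .nil .nil) .nil)) (.node 2 (.node 0 (.node 1 .nil .nil) (.node 2 (.node 0 .nil .nil) .nil)) .nil))) (.node 2 .nil .nil)) .nil)) (.node 2 (.node 0 (.node 0 (.node 2 (.node 2 (.node 0 .nil .nil) .nil) .nil) (.node 1 (.node 0 (.node 1 .nil (.node 2 (.node 0 (.node 1 .nil .nil) .nil) .nil)) (.node 2 (.node 0 (.node 0 .nil (.node 1 .nil (.node 2 .nil .nil))) (.node 2 (.node 2 (.node 2 .nil .nil) .nil) .nil)) .nil)) (.node 2 (.node 2 (.node 0 (.node 0 (.node 1 .nil .nil) .nil) (.node 2 (.node 0 .nil (.node 2 .nil .nil)) .nil)) .nil) .nil))) (.node 2 (.node 0 (.node 0 (.node 0 (.node 1 (.node 0 .nil .nil) .nil) (.node 1 .nil (.node 2 .nil .nil))) (.node 1 (.node 0 (.node 0 (.node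 2 .nil .nil) (.node 1 .nil (.node 2 .nil .nil))) (.node 2 (.node 2 .nil .nil) .nil)) (.node 2 (.node 0 .nil (.node 2 (.node 0 .nil .nil) .nil)) .nil))) .nil) .nil)) .nil))) (.node 2 (.node 0 (.node 0 (.node 0 (.node 0 (.node 1 .nil (.node 2 (.node 2 .nil .nil) .nil)) (.node 1 (.node 2 (.node 2 .nil .nil) .nil) (.node 2 (.node 2 (.node 2 .nil .nil) .nil) .nil))) .nil) (.node 2 (.node 0 (.node 0 (.node 0 (.node 0 (.node 2 .nil .nil) (.node 1 .nil .nil)) (.node 1 (.node 2 .nil .nil) (.node 2 (.node 0 .nil (.node 2 .nil .nil)) .nil))) (.node 1 (.node 2 (.node 0 .nil (.node 2 .nil .nil)) .nil) (.node 2 (.node 2 .nil .nil) .nil))) (.node 2 (.node 0 (.node 0 (.node 1 .nil .nil) (.node 2 (.node 2 (.node 0 .nil .nil) .nil) .nil)) (.node 2 (.node 0 (.node 1 (.node 0 .nil .nil) .nil) .nil) .nil)) .nil)) .nil)) (.node 2 (.node 0 (.node 0 (.node 0 (.node 1 (.node 0 .nil .nil) .nil) (.node 1 (.node 2 .nil .nil) (.node 2 (.node 0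 (.node 1 .nil (.node 2 .nil .nil)) .nil) .nil))) (.node 1 (.node 2 (.node 2 .nil .nil) .nil) (.node 2 (.node 0 (.node 0 (.node 1 .nil .nil) (.node 1 .nil .nil)) (.node 2 (.node 0 (.node 1 (.node 0 .nil (.node 2 .nil .nil)) (.node 2 .nil .nil)) .nil) .nil)) .nil))) (.node 2 (.node 0 (.node 0 (.node 0 (.node 1 .nil .nil) (.node 1 (.node 2 .nil .nil) (.node 2 (.node 0 (.node 1 .nil .nil) .nil) .nil))) (.node 1 (.node 0 .nil .nil) .nil)) .nil) .nil)) .nil)) .nil)) .nil))) (.node 1 (.node 0 (.node 0 (.node 0 (.node 0 (.node 0 (.node 0 (.node 0 .nil (.node 1 (.node 0 (.node 0 .nil (.node 1 .nil .nil)) .nil) .nil)) (.node 1 (.node 0 .nil (.node 2 (.node 0 (.node 0 .nil .nil) .nil) .nil)) (.node 2 .nil .nil))) (.node 1 (.node 0 (.node 0 (.node 0 (.node 1 .nil .nil) .nil) (.node 2 (.node 2 .nil .nil) .nil)) (.node 2 (.node 0 (.node 0 .nil (.node 2 .nil .nil)) (.node 2 .nil .nil)) .nil)) (.node 2 (.node 0 (.node 1 (.node 0 .nil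 .nil) .nil) (.node 2 (.node 0 (.node 2 .nil .nil) .nil) .nil)) .nil))) (.node 1 (.node 0 (.node 0 (.node 0 (.node 0 (.node 0 .nil (.node 1 .nil .nil)) .nil) (.node 1 .nil (.node 2 .nil .nil))) (.node 2 .nil .nil)) .nil) .nil)) (.node 1 (.node 0 (.node 0 (.node 0 (.node 1 (.node 2 (.node 0 .nil .nil) .nil) (.node 2 .nil .nil)) (.node 1 (.node 0 (.node 1 .nil (.node 2 (.node 2 .nil .nil) .nil)) (.node 2 (.node 0 (.node 1 .nil .nil) (.node 2 (.node 2 .nil .nil) .nil)) .nil)) (.node 2 (.node 2 (.node 2 .nil .nil) .nil) .nil))) (.node 1 (.node 2 (.node 0 (.node 1 .nil .nil) .nil) .nil) (.node 2 (.node 0 (.node 2 (.node 0 (.node 1 .nil .nil) (.node 2 .nil .nil)) .nil) .nil) .nil))) (.node 2 (.node 0 (.node 1 .nil (.node 2 .nil .nil)) (.node 2 (.node 2 (.node 0 (.node 0 .nil (.node 2 .nil .nil)) (.node 2 .nil .nil)) .nil) .nil)) .nil)) (.node 2 (.node 0 (.node 1 (.node 0 (.node 0 (.node 2 (.node 0 .nil .nil) .nil) (.node 2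 .nil .nil)) (.node 2 (.node 2 (.node 0 (.node 0 .nil (.node 1 .nil (.node 2 .nil .nil))) .nil) .nil) .nil)) (.node 2 (.node 2 (.node 0 (.node 1 (.node 0 .nil .nil) .nil) (.node 2 (.node 0 .nil (.node 2 .nil .nil)) .nil)) .nil) .nil)) (.node 2 (.node 0 (.node 0 (.node 0 .nil (.node 1 (.node 0 .nil (.node 2 .nil .nil)) (.node 2 .nil .nil))) (.node 1 (.node 2 (.node 0 (.node 0 .nil .nil) .nil) .nil) (.node 2 (.node 0 .nil .nil) .nil))) (.node 2 (.node 0 (.node 0 .nil .nil) (.node 2 .nil .nil)) .nil)) .nil)) .nil))) (.node 1 (.node 2 (.node 0 (.node 0 (.node 0 (.node 0 (.node 1 .nil (.node 2 (.node 2 .nil .nil) .nil)) (.node 1 .nil (.node 2 (.node 0 .nil .nil) .nil))) (.node 1 (.node 0 (.node 0 .nil (.node 1 .nil .nil)) (.node 2 .nil .nil)) (.node 2 (.node 0 (.node 0 .nil (.node 1 .nil .nil)) .nil) .nil))) (.node 1 (.node 0 (.node 0 (.node 2 .nil .nil) (.node 1 .nil (.node 2 .nil .nil))) (.node 2 (.node 0 (.node 0 .nil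 .nil) (.node 2 .nil .nil)) .nil)) (.node 2 (.node 0 (.node 1 (.node 0 .nil (.node 2 .nil .nil)) (.node 2 (.node 0 .nil .nil) .nil)) (.node 2 (.node 0 (.node 0 .nil (.node 1 .nil .nil)) .nil) .nil)) .nil))) (.node 2 (.node 0 (.node 0 (.node 0 (.node 0 .nil (.node 1 .nil .nil)) (.node 2 .nil .nil)) (.node 1 (.node 0 (.node 0 .nil .nil) (.node 2 (.node 2 .nil .nil) .nil)) (.node 2 (.node 0 (.node 1 (.node 0 .nil .nil) (.node 2 (.node 2 .nil .nil) .nil)) (.node 2 (.node 0 (.node 1 .nil .nil) .nil) .nil)) .nil))) (.node 2 (.node 2 .nil .nil) .nil)) .nil)) .nil) (.node 2 (.node 0 (.node 0 (.node 0 (.node 0 (.node 0 .nil (.node 2 .nil .nil)) (.node 1 (.node 2 (.node 0 (.node 1 .nil .nil) .nil) .nil) (.node 2 (.node 0 (.node 0 .nil (.node 1 (.node 0 .nil .nil) .nil)) .nil) .nil))) (.node 1 (.node 0 (.node 1 .nil .nil) (.node 2 .nil .nil)) (.node 2 (.node 0 (.node 0 .nil (.node 2 .nil .nil)) (.node 2 (.node 2 (.node 2 .nil .nil)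 .nil) .nil)) .nil))) (.node 1 (.node 0 (.node 0 (.node 2 (.node 0 .nil .nil) .nil) (.node 1 (.node 2 (.node 0 .nil .nil) .nil) (.node 2 (.node 2 (.node 2 .nil .nil) .nil) .nil))) (.node 2 (.node 2 (.node 0 (.node 2 (.node 0 .nil .nil) .nil) (.node 2 (.node 0 .nil .nil) .nil)) .nil) .nil)) (.node 2 (.node 0 (.node 1 (.node 0 (.node 2 .nil .nil) .nil) (.node 2 (.node 2 (.node 0 .nil .nil) .nil) .nil)) (.node 2 (.node 0 (.node 2 (.node 0 (.node 2 .nil .nil) .nil) .nil) (.node 2 (.node 0 (.node 0 .nil (.node 1 (.node 0 .nil .nil) .nil)) .nil) .nil)) .nil)) .nil))) (.node 2 (.node 0 (.node 0 (.node 0 (.node 1 (.node 0 .nil (.node 2 .nil .nil)) (.node 2 .nil .nil)) (.node 1 (.node 2 .nil .nil) (.node 2 (.node 0 .nil .nil) .nil))) (.node 1 (.node 0 (.node 0 (.node 0 .nil (.node 1 .nil .nil)) (.node 1 .nil .nil)) (.node 2 (.node 0 (.node 0 .nil (.node 2 .nil .nil)) (.node 2 .nil .nil)) .nil)) (.node 2 (.node 0 (.node 1 .nil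 (.node 2 .nil .nil)) (.node 2 .nil .nil)) .nil))) (.node 2 (.node 0 (.node 0 (.node 0 (.node 1 .nil (.node 2 .nil .nil)) (.node 1 (.node 0 .nil .nil) .nil)) (.node 1 (.node 2 (.node 2 .nil .nil) .nil) (.node 2 (.node 0 (.node 1 .nil .nil) (.node 2 .nil .nil)) .nil))) (.node 2 (.node 0 (.node 0 (.node 0 .nil .nil) (.node 1 (.node 0 .nil .nil) .nil)) .nil) .nil)) .nil)) .nil)) .nil))) (.node 2 (.node 0 (.node 0 (.node 0 (.node 0 (.node 0 (.node 1 (.node 0 .nil .nil) (.node 2 .nil .nil)) (.node 1 .nil .nil)) (.node 1 (.node 0 (.node 1 .nil .nil) .nil) .nil)) (.node 1 (.node 0 (.node 2 (.node 0 (.node 1 .nil .nil) .nil) .nil) (.node 2 (.node 0 (.node 1 .nil (.node 2 (.node 0 .nil .nil) .nil)) .nil) .nil)) (.node 2 (.node 0 (.node 0 (.node 1 (.node 0 .nil .nil) (.node 2 .nil .nil)) (.node 1 (.node 0 (.node 1 .nil .nil) (.node 2 .nil .nil)) (.node 2 (.node 0 .nil .nil) .nil))) .nil) .nil))) (.node 1 (.node 0 (.node 0 (.node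 0 (.node 1 .nil (.node 2 .nil .nil)) (.node 2 (.node 2 .nil .nil) .nil)) (.node 1 (.node 2 (.node 0 .nil .nil) .nil) (.node 2 (.node 0 (.node 1 .nil .nil) .nil) .nil))) (.node 2 (.node 0 (.node 1 (.node 2 (.node 2 .nil .nil) .nil) (.node 2 (.node 2 (.node 0 (.node 0 .nil .nil) (.node 2 .nil .nil)) .nil) .nil)) (.node 2 (.node 0 (.node 2 (.node 2 .nil .nil) .nil) (.node 2 (.node 2 .nil .nil) .nil)) .nil)) .nil)) (.node 2 (.node 0 (.node 0 (.node 0 (.node 1 .nil .nil) (.node 1 (.node 0 (.node 0 .nil .nil) (.node 2 .nil .nil)) (.node 2 .nil .nil))) (.node 1 (.node 0 (.node 2 (.node 2 .nil .nil) .nil) (.node 2 (.node 0 .nil (.node 2 (.node 2 .nil .nil) .nil)) .nil)) (.node 2 (.node 0 (.node 0 .nil .nil) (.node 2 (.node 0 (.node 1 .nil .nil) (.node 2 .nil .nil)) .nil)) .nil))) (.node 2 (.node 0 (.node 0 (.node 1 (.node 2 .nil .nil) (.node 2 .nil .nil)) (.node 2 (.node 2 (.node 0 .nil .nil) .nil) .nil)) (.node 2 (.node 0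 (.node 0 (.node 1 .nil .nil) (.node 2 .nil .nil)) (.node 2 (.node 0 (.node 0 .nil .nil) .nil) .nil)) .nil)) .nil)) .nil))) (.node 2 (.node 0 (.node 0 (.node 0 (.node 0 (.node 0 (.node 1 .nil .nil) (.node 1 (.node 2 .nil .nil) (.node 2 (.node 0 .nil (.node 2 .nil .nil)) .nil))) (.node 1 (.node 2 (.node 0 (.node 2 .nil .nil) (.node 2 (.node 0 .nil .nil) .nil)) .nil) (.node 2 (.node 0 (.node 0 .nil (.node 1 .nil .nil)) (.node 2 (.node 0 .nil .nil) .nil)) .nil))) (.node 1 (.node 2 (.node 0 .nil .nil) .nil) (.node 2 (.node 0 (.node 1 (.node 0 .nil .nil) (.node 2 (.node 2 .nil .nil) .nil)) (.node 2 (.node 0 (.node 2 .nil .nil) (.node 2 (.node 0 .nil .nil) .nil)) .nil)) .nil))) (.node 1 (.node 0 (.node 0 (.node 1 (.node 2 (.node 2 .nil .nil) .nil) (.node 2 (.node 2 .nil .nil) .nil)) (.node 1 (.node 2 (.node 0 .nil .nil) .nil) (.node 2 (.node 2 (.node 0 (.node 1 .nil .nil) .nil) .nil) .nil))) (.node 2 (.node 0 (.node 0 (.node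 0 .nil (.node 1 .nil .nil)) (.node 2 (.node 0 .nil (.node 2 .nil .nil)) .nil)) (.node 2 (.node 0 (.node 0 (.node 0 .nil .nil) .nil) .nil) .nil)) .nil)) (.node 2 (.node 0 (.node 0 (.node 1 .nil .nil) (.node 1 .nil (.node 2 (.node 2 .nil .nil) .nil))) (.node 2 (.node 0 (.node 0 .nil (.node 2 .nil .nil)) .nil) .nil)) .nil))) (.node 2 (.node 0 (.node 0 (.node 0 (.node 2 .nil .nil) (.node 1 .nil .nil)) (.node 1 (.node 0 (.node 2 (.node 0 .nil (.node 2 .nil .nil)) .nil) (.node 2 (.node 2 .nil .nil) .nil)) (.node 2 (.node 0 (.node 0 (.node 0 .nil .nil) (.node 1 .nil .nil)) (.node 2 .nil .nil)) .nil))) .nil) .nil)) .nil)) .nil)) (.node 2 (.node 0 (.node 0 (.node 0 (.node 0 (.node 0 (.node 0 .nil (.node 1 (.node 2 (.node 2 .nil .nil) .nil) (.node 2 (.node 0 (.node 2 .nil .nil) (.node 2 .nil .nil)) .nil))) (.node 1 (.node 2 (.node 2 (.node 2 .nil .nil) .nil) .nil) (.node 2 (.node 2 (.node 2 (.node 0 .nil .nil) .nil) .nil) .nil)))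 (.node 1 (.node 2 (.node 0 (.node 0 (.node 0 .nil (.node 1 (.node 0 .nil .nil) (.node 2 .nil .nil))) (.node 1 (.node 0 .nil (.node 2 .nil .nil)) (.node 2 .nil .nil))) (.node 2 (.node 0 (.node 2 .nil .nil) (.node 2 (.node 0 (.node 2 .nil .nil) .nil) .nil)) .nil)) .nil) (.node 2 (.node 0 (.node 0 (.node 0 (.node 0 .nil .nil) (.node 1 .nil .nil)) .nil) (.node 2 (.node 0 (.node 0 (.node 1 .nil (.node 2 .nil .nil)) (.node 2 (.node 0 .nil (.node 2 .nil .nil)) .nil)) (.node 2 (.node 0 (.node 0 .nil .nil) .nil) .nil)) .nil)) .nil))) (.node 1 (.node 0 (.node 1 (.node 2 .nil .nil) (.node 2 (.node 0 (.node 0 .nil (.node 2 .nil .nil)) .nil) .nil)) (.node 2 (.node 0 (.node 0 (.node 0 (.node 2 .nil .nil) (.node 1 (.node 0 .nil (.node 2 .nil .nil)) (.node 2 .nil .nil))) (.node 1 (.node 2 (.node 2 .nil .nil) .nil) (.node 2 (.node 2 .nil .nil) .nil))) (.node 2 (.node 0 (.node 2 .nil .nil) (.node 2 (.node 0 (.node 2 .nil .nil) (.node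 2 .nil .nil)) .nil)) .nil)) .nil)) (.node 2 (.node 0 (.node 0 (.node 2 (.node 0 (.node 1 (.node 0 .nil .nil) .nil) .nil) .nil) (.node 1 (.node 0 (.node 1 (.node 2 .nil .nil) (.node 2 .nil .nil)) (.node 2 (.node 2 .nil .nil) .nil)) (.node 2 (.node 0 (.node 1 .nil .nil) (.node 2 .nil .nil)) .nil))) (.node 2 (.node 0 (.node 0 (.node 0 (.node 1 .nil .nil) (.node 1 (.node 0 .nil .nil) .nil)) (.node 1 (.node 2 .nil .nil) (.node 2 (.node 0 .nil .nil) .nil))) (.node 2 (.node 0 (.node 2 .nil .nil) (.node 2 (.node 0 .nil .nil) .nil)) .nil)) .nil)) .nil))) (.node 1 (.node 0 (.node 0 (.node 0 (.node 0 (.node 1 (.node 0 .nil (.node 2 .nil .nil)) (.node 2 (.node 2 (.node 0 .nil (.node 2 .nil .nil)) .nil) .nil)) (.node 1 (.node 2 .nil .nil) (.node 2 (.node 0 (.node 0 .nil .nil) (.node 2 (.node 2 .nil .nil) .nil)) .nil))) (.node 1 (.node 0 (.node 0 (.node 0 .nil .nil) (.node 1 .nil .nil)) (.node 2 (.node 0 (.node 0 (.node 0 .nil .nil)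 (.node 2 .nil .nil)) (.node 2 (.node 2 .nil .nil) .nil)) .nil)) (.node 2 (.node 0 (.node 1 (.node 2 .nil .nil) (.node 2 .nil .nil)) (.node 2 (.node 0 .nil (.node 2 (.node 0 .nil .nil) .nil)) .nil)) .nil))) (.node 1 (.node 2 (.node 2 (.node 0 .nil (.node 2 .nil .nil)) .nil) .nil) (.node 2 (.node 0 (.node 0 (.node 0 (.node 1 .nil .nil) (.node 1 (.node 0 .nil (.node 2 .nil .nil)) (.node 2 .nil .nil))) (.node 1 (.node 2 (.node 0 .nil .nil) .nil) (.node 2 (.node 0 .nil (.node 2 (.node 0 .nil (.node 2 .nil .nil)) .nil)) .nil))) (.node 2 (.node 0 (.node 0 (.node 1 .nil (.node 2 .nil .nil)) (.node 1 .nil .nil)) (.node 2 .nil .nil)) .nil)) .nil))) (.node 2 (.node 0 (.node 0 (.node 0 (.node 1 .nil .nil) (.node 1 .nil .nil)) (.node 2 (.node 2 (.node 0 (.node 1 .nil (.node 2 (.node 2 .nil .nil) .nil)) (.node 2 (.node 2 .nil .nil) .nil)) .nil) .nil)) (.node 2 (.node 0 (.node 0 (.node 0 (.node 0 .nil (.node 1 .nil .nil)) (.node 1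 (.node 2 (.node 2 .nil .nil) .nil) (.node 2 (.node 0 .nil (.node 2 .nil .nil)) .nil))) (.node 1 (.node 2 .nil .nil) (.node 2 (.node 2 (.node 0 .nil .nil) .nil) .nil))) (.node 2 (.node 0 (.node 0 (.node 0 .nil (.node 1 .nil .nil)) (.node 1 .nil (.node 2 .nil .nil))) (.node 2 .nil .nil)) .nil)) .nil)) .nil)) (.node 2 (.node 0 (.node 0 (.node 0 (.node 0 (.node 2 (.node 0 .nil (.node 2 .nil .nil)) .nil) (.node 2 .nil .nil)) (.node 1 (.node 0 (.node 0 .nil (.node 1 .nil (.node 2 .nil .nil))) .nil) (.node 2 (.node 2 .nil .nil) .nil))) (.node 1 (.node 2 (.node 2 (.node 0 (.node 1 .nil .nil) (.node 2 .nil .nil)) .nil) .nil) (.node 2 (.node 0 (.node 0 .nil (.node 1 (.node 0 (.node 0 .nil .nil) (.node 2 .nil .nil)) (.node 2 (.node 0 .nil (.node 2 (.node 2 .nil .nil) .nil)) .nil))) (.node 2 (.node 0 (.node 0 (.node 1 .nil .nil) .nil) (.node 2 (.node 0 (.node 1 .nil .nil) (.node 2 .nil .nil)) .nil)) .nil)) .nil))) (.node 2 (.node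 0 (.node 0 (.node 0 (.node 2 .nil .nil) (.node 1 (.node 2 (.node 0 .nil .nil) .nil) (.node 2 .nil .nil))) (.node 2 (.node 0 (.node 0 .nil (.node 1 (.node 0 .nil .nil) .nil)) .nil) .nil)) (.node 2 (.node 2 (.node 0 (.node 1 (.node 2 .nil .nil) (.node 2 .nil .nil)) .nil) .nil) .nil)) .nil)) .nil))) (.node 2 (.node 0 (.node 0 (.node 0 (.node 0 (.node 1 (.node 0 (.node 0 .nil (.node 2 .nil .nil)) .nil) .nil) (.node 1 (.node 0 (.node 0 (.node 2 .nil .nil) (.node 1 (.node 2 .nil .nil) (.node 2 (.node 0 (.node 0 .nil .nil) (.node 2 .nil .nil)) .nil))) (.node 2 (.node 0 (.node 0 .nil (.node 1 .nil .nil)) (.node 2 (.node 2 (.node 0 .nil .nil) .nil) .nil)) .nil)) (.node 2 (.node 0 (.node 0 .nil (.node 1 (.node 0 .nil .nil) .nil)) (.node 2 (.node 2 .nil .nil) .nil)) .nil))) (.node 1 (.node 0 (.node 0 (.node 0 (.node 1 .nil .nil) (.node 2 (.node 2 .nil .nil) .nil)) (.node 1 .nil (.node 2 (.node 2 .nil .nil) .nil))) (.node 2 .nil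 .nil)) (.node 2 (.node 0 (.node 0 (.node 1 (.node 0 .nil (.node 2 .nil .nil)) (.node 2 .nil .nil)) (.node 1 (.node 0 .nil (.node 2 (.node 0 .nil .nil) .nil)) (.node 2 (.node 0 (.node 0 .nil (.node 2 .nil .nil)) (.node 2 .nil .nil)) .nil))) .nil) .nil))) (.node 1 (.node 0 (.node 0 (.node 2 (.node 0 (.node 2 .nil .nil) .nil) .nil) (.node 1 .nil .nil)) .nil) .nil)) (.node 2 (.node 0 (.node 0 (.node 0 (.node 0 .nil (.node 1 (.node 0 (.node 0 .nil .nil) (.node 2 (.node 0 .nil (.node 2 (.node 0 .nil .nil) .nil)) .nil)) (.node 2 (.node 2 .nil .nil) .nil))) (.node 1 .nil .nil)) (.node 1 (.node 0 (.node 2 (.node 0 (.node 2 .nil .nil) .nil) .nil) (.node 2 (.node 2 (.node 0 .nil .nil) .nil) .nil)) (.node 2 (.node 0 (.node 0 (.node 0 (.node 0 .nil (.node 1 .nil .nil)) (.node 1 .nil (.node 2 .nil .nil))) (.node 1 (.node 0 (.node 0 .nil (.node 2 .nil .nil)) (.node 2 .nil .nil)) (.node 2 (.node 0 .nil .nil) .nil))) (.node 2 (.node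 0 .nil (.node 2 (.node 2 (.node 0 .nil .nil) .nil) .nil)) .nil)) .nil))) .nil) .nil)) .nil)) .nil))) (.node 1 (.node 0 (.node 0 (.node 0 (.node 0 (.node 0 (.node 0 (.node 0 (.node 0 (.node 0 .nil .nil) (.node 1 (.node 0 .nil (.node 2 .nil .nil)) (.node 2 (.node 0 .nil .nil) .nil))) (.node 1 (.node 0 .nil .nil) .nil)) (.node 1 (.node 0 (.node 1 .nil (.node 2 .nil .nil)) (.node 2 .nil .nil)) (.node 2 (.node 0 (.node 0 .nil (.node 1 (.node 2 (.node 2 .nil .nil) .nil) (.node 2 (.node 0 .nil (.node 2 (.node 0 .nil .nil) .nil)) .nil))) (.node 2 (.node 0 .nil (.node 2 (.node 2 .nil .nil) .nil)) .nil)) .nil))) (.node 1 (.node 0 (.node 0 (.node 0 (.node 2 .nil .nil) (.node 1 .nil (.node 2 (.node 2 .nil .nil) .nil))) (.node 1 .nil (.node 2 (.node 0 (.node 0 .nil (.node 1 (.node 2 .nil .nil) (.node 2 .nil .nil))) (.node 2 (.node 2 .nil .nil) .nil)) .nil))) (.node 2 (.node 2 (.node 0 .nil (.node 2 .nil .nil)) .nil) .nil)) (.node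 2 (.node 0 (.node 0 (.node 0 (.node 0 .nil .nil) (.node 2 .nil .nil)) (.node 1 (.node 0 (.node 0 .nil (.node 1 .nil .nil)) (.node 2 (.node 2 .nil .nil) .nil)) (.node 2 (.node 0 (.node 0 (.node 2 .nil .nil) (.node 1 (.node 2 .nil .nil) (.node 2 .nil .nil))) (.node 2 (.node 2 .nil .nil) .nil)) .nil))) (.node 2 (.node 0 (.node 2 (.node 2 .nil .nil) .nil) (.node 2 (.node 0 .nil .nil) .nil)) .nil)) .nil))) (.node 1 (.node 0 (.node 0 (.node 0 (.node 0 .nil (.node 1 (.node 0 .nil .nil) (.node 2 .nil .nil))) (.node 1 (.node 0 (.node 1 .nil (.node 2 .nil .nil)) (.node 2 .nil .nil)) (.node 2 (.node 0 (.node 1 .nil .nil) .nil) .nil))) (.node 1 .nil .nil)) (.node 2 (.node 0 (.node 1 (.node 2 (.node 0 .nil .nil) .nil) (.node 2 (.node 2 (.node 2 .nil .nil) .nil) .nil)) (.node 2 (.node 0 (.node 0 .nil (.node 2 .nil .nil)) (.node 2 (.node 2 .nil .nil) .nil)) .nil)) .nil)) (.node 2 (.node 2 (.node 0 (.node 0 (.node 0 (.node 0 (.node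 0 .nil .nil) .nil) .nil) (.node 2 (.node 0 (.node 0 .nil .nil) (.node 2 (.node 0 .nil .nil) .nil)) .nil)) (.node 2 (.node 0 (.node 1 .nil .nil) (.node 2 (.node 0 (.node 0 .nil (.node 1 .nil .nil)) .nil) .nil)) .nil)) .nil) .nil))) (.node 1 (.node 0 (.node 0 (.node 0 (.node 0 (.node 0 (.node 2 .nil .nil) (.node 1 .nil .nil)) (.node 1 .nil .nil)) (.node 1 (.node 2 (.node 0 .nil (.node 2 .nil .nil)) .nil) (.node 2 (.node 0 (.node 0 .nil (.node 2 .nil .nil)) (.node 2 (.node 0 .nil .nil) .nil)) .nil))) (.node 1 (.node 2 (.node 0 (.node 1 (.node 2 .nil .nil) (.node 2 (.node 0 .nil .nil) .nil)) (.node 2 (.node 2 (.node 2 .nil .nil) .nil) .nil)) .nil) (.node 2 (.node 0 (.node 0 (.node 0 .nil (.node 1 (.node 2 .nil .nil) (.node 2 (.node 0 .nil (.node 2 .nil .nil)) .nil))) (.node 1 (.node 0 .nil (.node 2 (.node 2 .nil .nil) .nil)) (.node 2 (.node 2 (.node 0 .nil .nil) .nil) .nil))) (.node 2 (.node 0 (.node 0 (.node 0 .nil (.node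 2 (.node 0 .nil (.node 2 .nil .nil)) .nil)) (.node 1 .nil .nil)) (.node 2 (.node 0 (.node 0 (.node 0 .nil (.node 2 .nil .nil)) .nil) (.node 2 .nil .nil)) .nil)) .nil)) .nil))) (.node 2 (.node 0 (.node 0 (.node 0 (.node 1 (.node 0 (.node 0 .nil .nil) .nil) .nil) (.node 1 (.node 2 (.node 2 .nil .nil) .nil) (.node 2 (.node 2 (.node 2 .nil .nil) .nil) .nil))) (.node 1 (.node 2 (.node 2 .nil .nil) .nil) (.node 2 (.node 0 (.node 1 (.node 0 .nil (.node 2 .nil .nil)) (.node 2 .nil .nil)) (.node 2 (.node 0 (.node 0 .nil (.node 2 .nil .nil)) (.node 2 (.node 2 (.node 0 .nil .nil) .nil) .nil)) .nil)) .nil))) (.node 2 (.node 0 (.node 0 (.node 0 .nil (.node 1 .nil .nil)) (.node 1 (.node 0 .nil .nil) .nil)) (.node 2 (.node 2 (.node 0 .nil .nil) .nil) .nil)) .nil)) .nil)) (.node 2 (.node 0 (.node 0 (.node 0 (.node 1 (.node 0 .nil (.node 2 .nil .nil)) (.node 2 (.node 0 .nil (.node 2 .nil .nil)) .nil)) (.node 1 (.node 0 (.node 0 .nil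 (.node 1 .nil (.node 2 .nil .nil))) (.node 2 (.node 0 .nil .nil) .nil)) (.node 2 .nil .nil))) (.node 1 (.node 2 (.node 0 (.node 0 (.node 0 .nil .nil) (.node 1 (.node 2 .nil .nil) (.node 2 (.node 2 .nil .nil) .nil))) (.node 2 .nil .nil)) .nil) (.node 2 (.node 0 (.node 1 (.node 0 (.node 2 (.node 0 .nil .nil) .nil) (.node 2 (.node 0 (.node 2 .nil .nil) (.node 2 (.node 2 .nil .nil) .nil)) .nil)) (.node 2 (.node 2 (.node 2 .nil .nil) .nil) .nil)) (.node 2 .nil .nil)) .nil))) (.node 2 (.node 2 (.node 0 (.node 0 (.node 0 (.node 1 .nil .nil) (.node 2 (.node 0 .nil .nil) .nil)) (.node 1 (.node 2 (.node 2 .nil .nil) .nil) (.node 2 (.node 0 (.node 0 .nil .nil) (.node 2 (.node 0 .nil .nil) .nil)) .nil))) (.node 2 .nil .nil)) .nil) .nil)) .nil))) (.node 1 (.node 0 (.node 0 (.node 0 (.node 0 (.node 0 (.node 0 .nil (.node 1 (.node 0 .nil .nil) (.node 2 .nil .nil))) (.node 1 (.node 0 (.node 0 .nil (.node 2 (.node 2 .nil .nil) .nil))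 .nil) .nil)) (.node 1 (.node 0 (.node 2 .nil .nil) .nil) .nil)) (.node 1 (.node 0 (.node 0 (.node 0 .nil (.node 1 (.node 2 (.node 2 .nil .nil) .nil) (.node 2 (.node 2 .nil .nil) .nil))) (.node 1 (.node 2 .nil .nil) (.node 2 .nil .nil))) (.node 2 (.node 0 (.node 1 .nil (.node 2 .nil .nil)) (.node 2 (.node 2 (.node 0 (.node 2 .nil .nil) (.node 2 .nil .nil)) .nil) .nil)) .nil)) (.node 2 (.node 0 (.node 1 .nil (.node 2 (.node 2 (.node 0 .nil .nil) .nil) .nil)) (.node 2 (.node 0 (.node 0 .nil (.node 2 .nil .nil)) (.node 2 (.node 2 .nil .nil) .nil)) .nil)) .nil))) (.node 1 (.node 2 (.node 0 (.node 0 (.node 0 .nil (.node 2 .nil .nil)) (.node 1 (.node 0 (.node 0 .nil .nil) (.node 2 (.node 0 .nil .nil) .nil)) (.node 2 (.node 0 .nil .nil) .nil))) (.node 2 (.node 0 (.node 1 (.node 0 .nil .nil) .nil) (.node 2 .nil .nil)) .nil)) .nil) (.node 2 (.node 0 (.node 0 (.node 0 (.node 0 (.node 2 .nil .nil) (.node 2 (.node 0 (.node 0 .nil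 .nil) .nil) .nil)) (.node 1 .nil .nil)) (.node 2 (.node 0 (.node 1 .nil (.node 2 .nil .nil)) (.node 2 (.node 0 .nil (.node 2 .nil .nil)) .nil)) .nil)) (.node 2 (.node 0 (.node 0 (.node 1 .nil (.node 2 (.node 0 .nil .nil) .nil)) (.node 1 (.node 0 .nil .nil) (.node 2 (.node 0 (.node 1 .nil .nil) (.node 2 .nil .nil)) .nil))) (.node 2 (.node 0 (.node 0 .nil (.node 2 (.node 2 .nil .nil) .nil)) (.node 2 (.node 0 .nil .nil) .nil)) .nil)) .nil)) .nil))) (.node 2 (.node 0 (.node 0 (.node 0 (.node 0 (.node 0 (.node 1 .nil (.node 2 .nil .nil)) (.node 1 .nil .nil)) (.node 1 .nil .nil)) (.node 1 (.node 0 .nil (.node 2 (.node 0 .nil .nil) .nil)) (.node 2 (.node 0 (.node 0 (.node 1 (.node 0 .nil .nil) .nil) (.node 1 (.node 2 .nil .nil) (.node 2 (.node 0 .nil .nil) .nil))) .nil) .nil))) (.node 1 (.node 0 (.node 1 (.node 2 (.node 0 .nil .nil) .nil) (.node 2 (.node 0 (.node 1 .nil .nil) .nil) .nil)) (.node 2 (.node 0 (.node 1 .nil .nil)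 (.node 2 (.node 2 .nil .nil) .nil)) .nil)) (.node 2 (.node 0 (.node 0 (.node 0 (.node 1 .nil .nil) .nil) (.node 1 (.node 0 (.node 2 .nil .nil) (.node 2 .nil .nil)) (.node 2 (.node 0 .nil (.node 2 .nil .nil)) .nil))) (.node 2 (.node 0 (.node 0 (.node 2 .nil .nil) (.node 2 (.node 2 (.node 0 .nil .nil) .nil) .nil)) (.node 2 (.node 2 .nil .nil) .nil)) .nil)) .nil))) (.node 2 (.node 2 (.node 0 (.node 0 (.node 1 .nil .nil) (.node 1 .nil (.node 2 (.node 0 (.node 1 .nil .nil) .nil) .nil))) .nil) .nil) .nil)) .nil)) (.node 2 (.node 0 (.node 0 (.node 0 (.node 0 (.node 0 (.node 0 .nil (.node 1 .nil .nil)) (.node 1 (.node 2 (.node 2 .nil .nil) .nil) (.node 2 (.node 2 (.node 2 .nil .nil) .nil) .nil))) (.node 1 (.node 2 (.node 2 (.node 2 (.node 0 .nil .nil) .nil) .nil) .nil) (.node 2 (.node 2 (.node 0 (.node 0 .nil (.node 2 .nil .nil)) (.node 2 (.node 0 .nil .nil) .nil)) .nil) .nil))) (.node 1 (.node 0 (.node 1 (.node 2 .nil .nil)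 (.node 2 .nil .nil)) (.node 2 (.node 0 (.node 0 (.node 0 .nil (.node 2 .nil .nil)) (.node 1 (.node 2 (.node 2 .nil .nil) .nil) (.node 2 (.node 2 .nil .nil) .nil))) .nil) .nil)) (.node 2 (.node 0 (.node 0 (.node 2 (.node 0 .nil .nil) .nil) (.node 2 (.node 0 .nil (.node 2 .nil .nil)) .nil)) (.node 2 (.node 0 (.node 0 .nil (.node 1 .nil (.node 2 .nil .nil))) (.node 2 (.node 0 .nil (.node 2 .nil .nil)) .nil)) .nil)) .nil))) (.node 1 (.node 0 (.node 0 (.node 0 (.node 0 (.node 2 .nil .nil) .nil) (.node 2 .nil .nil)) (.node 1 (.node 2 (.node 2 .nil .nil) .nil) (.node 2 (.node 0 (.node 0 (.node 2 .nil .nil) (.node 1 .nil .nil)) (.node 2 (.node 2 .nil .nil) .nil)) .nil))) .nil) (.node 2 (.node 0 (.node 0 (.node 0 (.node 0 .nil (.node 2 .nil .nil)) (.node 1 (.node 0 (.node 0 .nil .nil) .nil) (.node 2 (.node 2 .nil .nil) .nil))) (.node 1 (.node 2 (.node 2 (.node 2 .nil .nil) .nil) .nil) (.node 2 (.node 0 (.node 1 (.node 0 .nil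 .nil) (.node 2 .nil .nil)) (.node 2 (.node 0 (.node 0 .nil .nil) (.node 2 (.node 0 .nil .nil) .nil)) .nil)) .nil))) (.node 2 (.node 0 (.node 0 (.node 1 .nil (.node 2 .nil .nil)) (.node 2 (.node 0 (.node 0 .nil (.node 1 .nil .nil)) .nil) .nil)) (.node 2 (.node 2 (.node 0 .nil .nil) .nil) .nil)) .nil)) .nil))) (.node 2 (.node 0 (.node 0 (.node 0 (.node 0 .nil (.node 1 (.node 0 (.node 2 .nil .nil) (.node 2 (.node 2 .nil .nil) .nil)) (.node 2 (.node 0 (.node 0 .nil (.node 1 (.node 0 .nil .nil) .nil)) (.node 2 .nil .nil)) .nil))) (.node 1 (.node 2 .nil .nil) (.node 2 (.node 0 (.node 0 .nil (.node 2 (.node 0 .nil (.node 2 .nil .nil)) .nil)) .nil) .nil))) (.node 1 (.node 0 (.node 1 .nil .nil) .nil) .nil)) (.node 2 .nil .nil)) .nil)) .nil))) .nil) .nil))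

/-- Transversals of the point chain inside the stabilizer of the dodecad of squares. -/
def m12Trans : List (List ℕ) := [[235792564325521377843680938614105512, 430580943514727568079233173063512269, 487495878579331014488901848114017488, 652214654957935964582519974897231105, 734318709634027620545279344385197123, 817314328173033613522583746180596294, 855652159924283921560535025999711308, 887425752102123793914403052488762948, 980681343313581648371167565886655874, 981774715591871054289659920148599218, 984238710438052348597591227612269833], [297841738759181762831480991145674816, 310471218874555001630838993329592448, 483461231533529735510094789877502240, 799263371385113452403252067609889152, 802512244465946549543415753160077568, 887537581341828718383485023445885344, 901815011875065486889925075213256896, 940023069760826335275895488621258304, 980904669100231364365279503937802752, 982143292269531994907618596924571744], [226779289883713961998112600821473312,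 445827142324397823627656522285331488, 607142939366827777462525385645541408, 648456805805931038424344466672913440, 720660209670223093057722067387166752, 808348122450511835331768818942089248, 838163264905201118456121120296346656, 890938678006057864052542664767455264, 944576703234065857180591671912828960], [232783362388564428185213343297439776, 425260589770023667920228681599158304, 487655643029606470073469406179395616, 629863500390412654982178157189269536, 808997782816701570676445371466909728, 849414919297944031155053626894092320, 898742143189044893377746329054414880, 929000492124499343650182431580424224], [227578386318009578406903204956702752, 232652365823391711183829569059784736, 608405391266436187982588441666881568, 609271311764373893382231684089481248, 715872302521680643580706198532491296, 719923664328491199848526586197411872, 970499966350631336865513127433832480]]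

/-- Base points in the dodecad of squares. -/
def m12Base : List ℕ := [0, 1, 2, 3, 4]

end Cfsg.Agent.Golay
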