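import Cfsg.Agent.M24Orbits.Data

/-! Orbits of sextet, trio and dodecad-pair stabilisers on their own kind. -/

set_option autoImplicit false

namespace Cfsg.Agent.Golay

set_option maxRecDepth 20000 in
/-- Orbit forest. -/
def sexSelf0T : OrbTree := .nil

/-- Orbit certificate. -/
def sexSelf0 : M24Orbits.Part := (sexSelf0T, [1352, 950272, 1069184, 2099744, 4259860, 8396803], 96, 1)

set_option maxRecDepth 20000 in
/-- Orbit forest. -/
def sexSelf1T : OrbTree := (.node 0 (.node 0 (.node 0 (.node 1 (.node 1 .nil (.node 2 .nil .nil)) (.node 2 (.node 2 .nil .nil) .nil)) (.node 1 (.node 0 .nil (.node 2 .nil .nil)) (.node 2 (.node 0 (.node 1 .nil .nil) (.node 1 (.node 0 .nil .nil) .nil)) .nil))) (.node 1 (.node 0 (.node 0 .nil (.node 1 (.node 2 .nil .nil) (.node 2 .nil .nil))) (.node 1 (.node 0 (.node 1 .nil .nil) (.node 2 .nil .nil)) (.node 2 (.node 0 (.node 1 .nil .nil) (.node 1 (.node 0 .nil .nil) (.node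 2 (.node 0 .nil (.node 2 .nil .nil)) .nil))) .nil))) (.node 2 (.node 0 .nil (.node 2 (.node 1 (.node 1 .nil .nil) .nil) .nil)) .nil))) (.node 1 (.node 0 (.node 0 (.node 0 (.node 0 .nil .nil) (.node 1 (.node 1 .nil .nil) .nil)) (.node 1 (.node 1 (.node 1 .nil .nil) .nil) (.node 2 (.node 0 (.node 0 .nil (.node 1 .nil (.node 2 .nil .nil))) .nil) .nil))) (.node 1 (.node 0 (.node 0 .nil (.node 1 .nil (.node 2 (.node 0 .nil .nil) .nil))) (.node 1 .nil (.node 2 (.node 0 .nil .nil) .nil))) (.node 2 (.node 0 .nil (.node 1 (.node 0 (.node 1 .nil .nil) (.node 1 .nil (.node 2 (.node 0 .nil .nil) .nil))) (.node 2 (.node 0 .nil (.node 2 .nil .nil)) .nil))) .nil))) (.node 2 (.node 0 (.node 0 (.node 0 .nil (.node 1 .nil (.node 2 .nil .nil))) (.node 1 (.node 0 (.node 0 .nil .nil) (.node 2 (.node 2 .nil .nil) .nil)) .nil)) (.node 1 (.node 0 (.node 2 (.node 0 .nil .nil) .nil) .nil) .nil)) .nil)))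

/-- Orbit certificate. -/
def sexSelf1 : M24Orbits.Part := (sexSelf1T, [23, 5256, 786976, 1065280, 2263040, 12656640], 48, 90)

set_option maxRecDepth 20000 in
/-- Orbit forest. -/
def sexSelf2T : OrbTree := (.node 0 (.node 0 (.node 0 (.node 0 (.node 0 (.node 1 .nil .nil) (.node 1 (.node 1 (.node 0 .nil .nil) .nil) .nil)) (.node 2 (.node 0 .nil (.node 2 .nil .nil)) .nil)) (.node 1 (.node 0 (.node 1 (.node 1 .nil .nil) .nil) (.node 1 (.node 0 (.node 2 .nil .nil) (.node 1 (.node 1 .nil .nil) .nil)) .nil)) (.node 2 (.node 0 (.node 0 (.node 0 .nil .nil) (.node 1 (.node 1 .nil .nil) (.node 2 .nil .nil))) (.node 1 (.node 0 (.node 1 .nil .nil) (.node 1 (.node 0 .nil .nil) (.node 2 (.node 1 .nil .nil) .nil))) (.node 2 (.node 0 (.node 0 .nil (.node 1 (.node 1 .nil .nil) .nil)) (.node 1 (.node 1 .nil .nil) (.node 2 (.node 0 .nil (.node 2 .nil .nil)) .nil))) .nil))) .nil))) (.node 1 (.node 0 (.node 0 (.node 0 .nil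 (.node 1 (.node 0 .nil (.node 1 (.node 0 .nil .nil) (.node 2 .nil .nil))) (.node 2 (.node 0 .nil .nil) .nil))) (.node 1 (.node 0 .nil (.node 1 (.node 0 .nil .nil) (.node 2 .nil .nil))) (.node 2 (.node 0 (.node 0 .nil .nil) (.node 2 (.node 1 .nil (.node 2 .nil .nil)) .nil)) .nil))) (.node 1 (.node 0 (.node 0 .nil (.node 1 .nil (.node 2 (.node 0 .nil .nil) .nil))) (.node 1 (.node 2 .nil .nil) (.node 2 (.node 0 (.node 0 .nil (.node 1 .nil .nil)) .nil) .nil))) (.node 2 (.node 0 (.node 0 (.node 2 .nil .nil) (.node 1 .nil .nil)) .nil) .nil))) (.node 2 (.node 0 (.node 0 (.node 0 (.node 1 .nil (.node 2 .nil .nil)) (.node 1 .nil (.node 2 (.node 2 .nil .nil) .nil))) (.node 1 (.node 0 .nil (.node 1 .nil (.node 2 .nil .nil))) (.node 2 (.node 0 (.node 0 .nil .nil) (.node 1 .nil .nil)) .nil))) (.node 1 (.node 1 (.node 0 (.node 2 .nil .nil) (.node 2 .nil .nil)) .nil) (.node 2 (.node 0 (.node 1 .nil (.node 2 .nil .nil))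 (.node 2 (.node 0 .nil (.node 1 (.node 0 .nil .nil) .nil)) .nil)) .nil))) .nil))) (.node 1 (.node 0 (.node 1 (.node 1 .nil (.node 2 (.node 2 .nil .nil) .nil)) (.node 2 (.node 0 (.node 0 (.node 1 .nil .nil) .nil) (.node 1 (.node 0 .nil (.node 1 .nil (.node 2 .nil .nil))) (.node 2 (.node 0 .nil (.node 2 (.node 1 .nil .nil) .nil)) .nil))) .nil)) (.node 1 (.node 0 (.node 1 (.node 0 .nil (.node 1 .nil (.node 2 .nil .nil))) (.node 2 (.node 1 .nil .nil) .nil)) (.node 1 (.node 1 (.node 2 .nil .nil) (.node 2 (.node 0 (.node 1 .nil .nil) (.node 1 (.node 1 .nil .nil) (.node 2 .nil .nil))) .nil)) (.node 2 (.node 0 (.node 0 .nil (.node 1 .nil (.node 2 .nil .nil))) (.node 1 (.node 2 .nil .nil) (.node 2 (.node 0 .nil (.node 1 .nil .nil)) .nil))) .nil))) (.node 2 (.node 0 (.node 0 (.node 1 (.node 2 .nil .nil) (.node 2 .nil .nil)) (.node 1 (.node 0 .nil (.node 1 .nil (.node 2 .nil .nil))) (.node 2 (.node 1 .nil (.node 2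 .nil .nil)) .nil))) (.node 1 (.node 0 (.node 0 .nil (.node 2 .nil .nil)) (.node 1 .nil (.node 2 (.node 1 (.node 0 .nil .nil) (.node 2 .nil .nil)) .nil))) (.node 2 (.node 0 (.node 1 .nil .nil) (.node 1 .nil (.node 2 (.node 0 .nil (.node 1 .nil .nil)) .nil))) .nil))) .nil))) (.node 2 (.node 0 (.node 0 (.node 0 .nil (.node 1 (.node 0 .nil (.node 1 .nil (.node 2 .nil .nil))) (.node 2 (.node 0 .nil .nil) .nil))) (.node 2 (.node 0 (.node 1 .nil .nil) (.node 2 (.node 0 .nil (.node 1 .nil .nil)) .nil)) .nil)) (.node 1 (.node 0 (.node 0 (.node 0 (.node 2 .nil .nil) (.node 1 .nil .nil)) (.node 2 (.node 2 .nil .nil) .nil)) (.node 1 (.node 0 (.node 0 .nil .nil) (.node 2 (.node 1 .nil (.node 2 .nil .nil)) .nil)) (.node 2 (.node 1 (.node 0 .nil .nil) (.node 2 (.node 2 .nil .nil) .nil)) .nil))) (.node 2 (.node 1 (.node 1 (.node 2 .nil .nil) (.node 2 (.node 0 (.node 0 .nil .nil) (.node 1 .nil .nil)) .nil)) (.node 2 (.node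 0 .nil (.node 1 (.node 2 .nil .nil) (.node 2 (.node 0 .nil (.node 1 (.node 2 .nil .nil) .nil)) .nil))) .nil)) .nil))) .nil)))

/-- Orbit certificate. -/
def sexSelf2 : M24Orbits.Part := (sexSelf2T, [58, 10500, 692224, 1327232, 2162753, 12584448], 36, 240)

set_option maxRecDepth 20000 in
/-- Orbit forest. -/
def sexSelf3T : OrbTree := (.node 0 (.node 0 (.node 0 (.node 0 (.node 0 (.node 1 (.node 0 (.node 1 .nil .nil) .nil) (.node 2 (.node 0 (.node 2 .nil .nil) .nil) .nil)) (.node 1 (.node 0 (.node 0 (.node 1 .nil .nil) (.node 2 (.node 0 .nil .nil) .nil)) (.node 1 (.node 0 (.node 0 .nil .nil) (.node 1 (.node 1 .nil .nil) (.node 2 (.node 0 .nil (.node 1 (.node 0 .nil .nil) .nil)) .nil))) (.node 2 (.node 0 .nil (.node 2 .nil .nil)) .nil))) (.node 2 (.node 0 (.node 2 .nil .nil) (.node 2 (.node 1 (.node 1 .nil .nil) .nil) .nil)) .nil))) (.node 1 (.node 0 (.node 0 (.node 1 .nil .nil) (.node 1 (.node 0 .nil (.node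 1 .nil .nil)) (.node 2 (.node 0 .nil (.node 1 .nil (.node 2 .nil .nil))) .nil))) (.node 1 (.node 0 (.node 0 (.node 1 .nil .nil) .nil) (.node 1 (.node 1 (.node 1 .nil .nil) .nil) (.node 2 .nil .nil))) (.node 2 (.node 0 (.node 0 .nil (.node 1 .nil .nil)) (.node 2 (.node 0 .nil (.node 1 (.node 0 (.node 2 .nil .nil) .nil) .nil)) .nil)) .nil))) (.node 2 (.node 0 (.node 0 (.node 0 .nil .nil) (.node 1 (.node 0 (.node 0 .nil .nil) (.node 1 (.node 1 .nil (.node 2 .nil .nil)) .nil)) (.node 2 (.node 0 (.node 0 .nil .nil) (.node 1 (.node 2 .nil .nil) (.node 2 .nil .nil))) .nil))) (.node 1 (.node 0 (.node 1 (.node 2 .nil .nil) (.node 2 .nil .nil)) (.node 1 (.node 1 (.node 2 .nil .nil) (.node 2 .nil .nil)) (.node 2 (.node 1 .nil .nil) .nil))) (.node 2 (.node 0 (.node 1 .nil (.node 2 .nil .nil)) (.node 2 (.node 2 (.node 1 .nil .nil) .nil) .nil)) .nil))) .nil))) (.node 1 (.node 0 (.node 0 (.node 0 (.node 1 .nil (.node 2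 .nil .nil)) (.node 1 (.node 1 (.node 1 .nil .nil) .nil) (.node 2 (.node 0 .nil .nil) .nil))) (.node 1 (.node 0 (.node 0 (.node 0 .nil .nil) .nil) (.node 1 (.node 1 (.node 1 .nil (.node 2 .nil .nil)) (.node 2 (.node 0 .nil .nil) .nil)) (.node 2 (.node 1 .nil .nil) .nil))) (.node 2 (.node 1 (.node 2 .nil .nil) (.node 2 (.node 0 (.node 2 .nil .nil) (.node 1 (.node 2 .nil .nil) (.node 2 .nil .nil))) .nil)) .nil))) (.node 1 (.node 0 (.node 0 .nil (.node 1 (.node 0 (.node 1 .nil (.node 2 .nil .nil)) (.node 1 (.node 0 .nil .nil) .nil)) (.node 2 (.node 1 .nil (.node 2 .nil .nil)) .nil))) (.node 1 (.node 1 (.node 1 .nil (.node 2 (.node 2 .nil .nil) .nil)) (.node 2 (.node 0 .nil .nil) .nil)) (.node 2 (.node 1 (.node 2 .nil .nil) (.node 2 (.node 0 .nil (.node 1 .nil .nil)) .nil)) .nil))) (.node 2 (.node 0 (.node 0 .nil (.node 1 (.node 0 .nil (.node 1 .nil .nil)) (.node 2 (.node 0 .nil (.node 2 .nil .nil)) .nil))) (.node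 1 (.node 1 (.node 0 (.node 0 .nil .nil) (.node 1 .nil .nil)) (.node 2 (.node 0 (.node 0 .nil .nil) (.node 2 (.node 1 .nil .nil) .nil)) .nil)) (.node 2 (.node 0 .nil (.node 1 (.node 0 (.node 0 .nil .nil) (.node 1 (.node 1 .nil .nil) .nil)) (.node 2 .nil .nil))) .nil))) .nil))) (.node 2 (.node 0 (.node 0 (.node 0 (.node 1 .nil .nil) (.node 1 (.node 0 .nil (.node 2 .nil .nil)) (.node 2 (.node 1 (.node 1 .nil .nil) .nil) .nil))) (.node 1 (.node 0 (.node 0 .nil .nil) (.node 1 (.node 1 (.node 2 .nil .nil) (.node 2 (.node 1 .nil .nil) .nil)) (.node 2 (.node 0 .nil (.node 2 .nil .nil)) .nil))) (.node 2 (.node 1 (.node 1 .nil (.node 2 .nil .nil)) (.node 2 (.node 0 (.node 0 .nil .nil) (.node 2 .nil .nil)) .nil)) .nil))) (.node 1 (.node 0 (.node 0 .nil (.node 1 .nil (.node 2 (.node 0 .nil (.node 1 (.node 1 .nil .nil) .nil)) .nil))) (.node 1 (.node 0 (.node 0 (.node 1 .nil .nil) (.node 1 (.node 0 .nil .nil) .nil)) (.node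 1 .nil (.node 2 (.node 0 .nil (.node 1 (.node 2 .nil .nil) (.node 2 .nil .nil))) .nil))) (.node 2 (.node 0 (.node 0 .nil (.node 2 .nil .nil)) (.node 1 (.node 1 .nil (.node 2 .nil .nil)) .nil)) .nil))) (.node 2 (.node 0 (.node 0 .nil (.node 1 .nil .nil)) (.node 1 (.node 0 (.node 1 .nil (.node 2 .nil .nil)) (.node 1 .nil (.node 2 (.node 0 .nil (.node 2 .nil .nil)) .nil))) (.node 2 (.node 0 (.node 1 (.node 2 .nil .nil) (.node 2 (.node 2 .nil .nil) .nil)) (.node 1 (.node 0 .nil .nil) (.node 2 (.node 0 (.node 2 .nil .nil) (.node 2 .nil .nil)) .nil))) .nil))) .nil))) .nil))) (.node 1 (.node 0 (.node 0 (.node 0 (.node 0 (.node 0 .nil (.node 1 .nil (.node 2 (.node 0 .nil (.node 1 .nil .nil)) .nil))) (.node 1 (.node 2 .nil .nil) (.node 2 (.node 1 (.node 1 .nil .nil) (.node 2 (.node 2 .nil .nil) .nil)) .nil))) (.node 1 (.node 0 (.node 1 .nil (.node 2 (.node 0 .nil .nil) .nil)) (.node 1 (.node 0 (.node 1 .nil .nil)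 (.node 1 .nil (.node 2 (.node 1 .nil .nil) .nil))) (.node 2 (.node 0 (.node 1 .nil .nil) (.node 1 (.node 2 .nil .nil) (.node 2 .nil .nil))) .nil))) (.node 2 (.node 0 (.node 1 .nil (.node 2 .nil .nil)) (.node 1 (.node 0 (.node 2 .nil .nil) (.node 1 .nil .nil)) .nil)) .nil))) (.node 1 (.node 0 (.node 0 (.node 1 .nil .nil) (.node 1 (.node 0 .nil .nil) (.node 2 .nil .nil))) (.node 1 (.node 0 (.node 0 (.node 0 .nil (.node 1 .nil .nil)) .nil) .nil) (.node 2 (.node 0 (.node 0 .nil .nil) (.node 2 .nil .nil)) .nil))) (.node 2 (.node 0 (.node 0 (.node 0 .nil (.node 1 .nil (.node 2 (.node 2 .nil .nil) .nil))) (.node 1 (.node 0 (.node 2 .nil .nil) (.node 1 .nil .nil)) (.node 2 (.node 0 (.node 1 .nil .nil) (.node 1 .nil (.node 2 (.node 0 (.node 0 .nil .nil) .nil) .nil))) .nil))) (.node 1 (.node 0 (.node 2 .nil .nil) (.node 1 (.node 2 .nil .nil) (.node 2 (.node 1 .nil .nil) .nil))) (.node 2 (.node 0 (.node 0 (.node 0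 .nil .nil) (.node 1 (.node 2 .nil .nil) .nil)) (.node 2 .nil .nil)) .nil))) .nil))) (.node 1 (.node 0 (.node 0 (.node 0 (.node 1 (.node 1 .nil .nil) (.node 2 .nil .nil)) (.node 1 (.node 1 .nil .nil) (.node 2 (.node 2 (.node 0 .nil .nil) .nil) .nil))) (.node 2 (.node 0 (.node 1 .nil (.node 2 (.node 1 .nil .nil) .nil)) (.node 1 (.node 0 .nil .nil) .nil)) .nil)) (.node 1 (.node 1 (.node 1 (.node 2 .nil .nil) .nil) (.node 2 (.node 1 (.node 1 .nil (.node 2 .nil .nil)) (.node 2 (.node 2 .nil .nil) .nil)) .nil)) (.node 2 (.node 0 (.node 0 (.node 2 .nil .nil) (.node 1 .nil .nil)) (.node 1 (.node 0 (.node 0 .nil (.node 2 (.node 0 .nil .nil) .nil)) (.node 1 (.node 0 .nil .nil) (.node 2 (.node 0 (.node 0 .nil .nil) (.node 2 (.node 2 .nil .nil) .nil)) .nil))) (.node 2 (.node 0 (.node 0 .nil (.node 1 (.node 0 .nil (.node 1 .nil .nil)) (.node 2 .nil .nil))) (.node 1 (.node 0 (.node 2 .nil .nil) .nil) (.node 2 (.node 0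 .nil (.node 1 .nil (.node 2 (.node 1 .nil .nil) .nil))) .nil))) .nil))) .nil))) (.node 2 (.node 0 (.node 0 (.node 0 (.node 1 .nil (.node 2 .nil .nil)) (.node 1 (.node 0 .nil (.node 2 .nil .nil)) (.node 2 (.node 2 .nil .nil) .nil))) (.node 1 (.node 0 .nil (.node 1 (.node 0 .nil (.node 1 .nil (.node 2 .nil .nil))) .nil)) (.node 2 (.node 0 (.node 0 .nil .nil) (.node 2 (.node 2 (.node 0 .nil .nil) .nil) .nil)) .nil))) (.node 1 (.node 0 (.node 0 (.node 0 .nil (.node 1 (.node 2 .nil .nil) (.node 2 .nil .nil))) (.node 1 (.node 2 .nil .nil) (.node 2 (.node 2 (.node 2 .nil .nil) .nil) .nil))) (.node 1 (.node 0 (.node 1 (.node 2 .nil .nil) (.node 2 (.node 1 .nil .nil) .nil)) (.node 2 (.node 0 .nil (.node 1 .nil (.node 2 (.node 1 .nil .nil) .nil))) .nil)) (.node 2 (.node 0 (.node 1 (.node 2 .nil .nil) .nil) (.node 2 (.node 1 .nil .nil) .nil)) .nil))) (.node 2 (.node 0 (.node 0 (.node 0 .nil (.node 2 .nil .nil)) (.node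 1 (.node 2 .nil .nil) (.node 2 (.node 2 .nil .nil) .nil))) (.node 1 (.node 0 (.node 0 .nil .nil) (.node 1 (.node 2 .nil .nil) (.node 2 (.node 0 .nil (.node 1 .nil .nil)) .nil))) (.node 2 (.node 2 (.node 0 .nil .nil) .nil) .nil))) .nil))) .nil))) (.node 2 (.node 0 (.node 0 (.node 0 (.node 2 (.node 0 .nil (.node 2 .nil .nil)) .nil) (.node 1 (.node 0 (.node 1 (.node 1 .nil .nil) .nil) (.node 1 (.node 0 (.node 2 .nil .nil) (.node 1 (.node 1 .nil .nil) (.node 2 .nil .nil))) (.node 2 (.node 0 .nil (.node 2 .nil .nil)) .nil))) (.node 2 (.node 0 (.node 0 .nil (.node 1 (.node 2 .nil .nil) (.node 2 (.node 2 .nil .nil) .nil))) (.node 2 (.node 0 .nil .nil) .nil)) .nil))) (.node 1 (.node 0 (.node 0 (.node 0 (.node 2 .nil .nil) (.node 1 (.node 2 .nil .nil) (.node 2 .nil .nil))) (.node 1 (.node 0 .nil .nil) (.node 2 .nil .nil))) (.node 1 (.node 0 (.node 0 .nil .nil) (.node 2 (.node 0 .nil (.node 1 .nil (.node 2 .nil .nil)))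 .nil)) (.node 2 (.node 0 (.node 2 .nil .nil) (.node 1 (.node 1 .nil (.node 2 .nil .nil)) (.node 2 .nil .nil))) .nil))) (.node 2 (.node 0 (.node 1 (.node 2 .nil .nil) (.node 2 (.node 0 (.node 1 .nil .nil) (.node 1 .nil .nil)) .nil)) (.node 1 (.node 0 (.node 1 (.node 0 .nil .nil) .nil) (.node 1 (.node 0 .nil (.node 1 .nil .nil)) .nil)) (.node 2 (.node 0 (.node 0 .nil (.node 2 .nil .nil)) (.node 1 (.node 0 .nil (.node 1 .nil (.node 2 .nil .nil))) (.node 2 (.node 0 .nil (.node 1 (.node 2 .nil .nil) (.node 2 .nil .nil))) .nil))) .nil))) .nil))) (.node 1 (.node 0 (.node 0 (.node 0 (.node 0 .nil (.node 1 (.node 0 .nil .nil) (.node 2 .nil .nil))) (.node 1 (.node 0 .nil (.node 1 .nil (.node 2 .nil .nil))) (.node 2 (.node 1 .nil (.node 2 .nil .nil)) .nil))) (.node 1 (.node 0 (.node 0 .nil .nil) (.node 2 .nil .nil)) (.node 2 (.node 0 (.node 0 .nil (.node 2 .nil .nil)) (.node 1 (.node 0 .nil (.node 2 (.node 1 .nil .nil)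 .nil)) (.node 2 (.node 1 (.node 1 .nil .nil) (.node 2 .nil .nil)) .nil))) .nil))) (.node 1 (.node 0 (.node 0 (.node 0 .nil (.node 2 .nil .nil)) (.node 1 (.node 2 .nil .nil) (.node 2 (.node 0 .nil .nil) .nil))) (.node 1 (.node 1 (.node 1 .nil (.node 2 (.node 1 .nil .nil) .nil)) .nil) (.node 2 (.node 0 (.node 2 .nil .nil) (.node 1 (.node 1 .nil .nil) (.node 2 (.node 0 (.node 0 .nil .nil) (.node 2 .nil .nil)) .nil))) .nil))) (.node 2 (.node 0 (.node 0 (.node 2 .nil .nil) (.node 1 (.node 1 .nil .nil) (.node 2 (.node 0 .nil (.node 1 .nil .nil)) .nil))) (.node 1 (.node 1 (.node 0 .nil .nil) (.node 2 (.node 0 .nil .nil) .nil)) (.node 2 (.node 2 .nil .nil) .nil))) .nil))) (.node 2 (.node 0 (.node 0 (.node 0 .nil (.node 1 (.node 1 (.node 2 .nil .nil) (.node 2 .nil .nil)) (.node 2 (.node 0 (.node 1 .nil (.node 2 .nil .nil)) .nil) .nil))) (.node 1 (.node 0 (.node 0 .nil .nil) (.node 1 (.node 2 .nil .nil) (.node 2 (.node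 2 .nil .nil) .nil))) (.node 2 (.node 0 .nil (.node 1 .nil (.node 2 (.node 0 (.node 1 .nil (.node 2 .nil .nil)) (.node 1 (.node 1 .nil .nil) (.node 2 .nil .nil))) .nil))) .nil))) (.node 1 (.node 0 (.node 0 .nil (.node 2 .nil .nil)) (.node 1 (.node 0 .nil (.node 1 (.node 2 (.node 0 .nil .nil) .nil) (.node 2 (.node 2 (.node 2 .nil .nil) .nil) .nil))) (.node 2 (.node 1 (.node 1 .nil .nil) (.node 2 .nil .nil)) .nil))) (.node 2 (.node 0 (.node 0 (.node 1 .nil (.node 2 .nil .nil)) (.node 1 (.node 0 .nil (.node 1 .nil (.node 2 .nil .nil))) (.node 2 (.node 1 .nil (.node 2 .nil .nil)) .nil))) (.node 1 (.node 0 (.node 1 .nil .nil) (.node 1 (.node 0 .nil .nil) (.node 2 (.node 0 .nil (.node 1 .nil .nil)) .nil))) (.node 2 (.node 1 (.node 1 .nil .nil) (.node 2 (.node 1 (.node 0 .nil .nil) .nil) .nil)) .nil))) .nil))) .nil))) .nil))) (.node 1 (.node 0 (.node 0 (.node 0 (.node 1 (.node 1 .nil (.node 2 .nil .nil)) .nil) (.node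 1 (.node 0 (.node 0 .nil (.node 1 (.node 2 .nil .nil) (.node 2 (.node 0 .nil (.node 2 (.node 0 .nil .nil) .nil)) .nil))) (.node 1 (.node 0 (.node 2 .nil .nil) (.node 1 .nil (.node 2 (.node 1 .nil .nil) .nil))) (.node 2 (.node 0 (.node 1 .nil (.node 2 .nil .nil)) (.node 1 (.node 0 .nil (.node 1 .nil .nil)) (.node 2 .nil .nil))) .nil))) (.node 2 (.node 0 (.node 2 (.node 1 (.node 2 .nil .nil) .nil) .nil) (.node 1 (.node 0 (.node 0 .nil (.node 2 .nil .nil)) (.node 1 (.node 0 .nil (.node 2 .nil .nil)) (.node 2 .nil .nil))) (.node 2 (.node 0 (.node 0 (.node 2 .nil .nil) (.node 2 .nil .nil)) (.node 1 (.node 0 (.node 1 .nil .nil) (.node 2 .nil .nil)) (.node 2 (.node 1 .nil .nil) .nil))) .nil))) .nil))) (.node 1 (.node 0 (.node 0 (.node 0 (.node 1 .nil .nil) (.node 2 (.node 0 .nil .nil) .nil)) (.node 1 (.node 0 (.node 2 .nil .nil) (.node 1 (.node 0 (.node 0 .nil (.node 1 .nil .nil)) (.node 2 (.node 2 .nil .nil) .nil))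 (.node 2 (.node 2 (.node 0 .nil .nil) .nil) .nil))) (.node 2 (.node 1 (.node 0 .nil .nil) (.node 2 (.node 1 .nil .nil) .nil)) .nil))) (.node 1 (.node 0 (.node 0 (.node 0 .nil .nil) (.node 1 (.node 0 .nil .nil) (.node 2 .nil .nil))) (.node 1 (.node 2 (.node 1 .nil (.node 2 (.node 2 .nil .nil) .nil)) .nil) (.node 2 (.node 1 (.node 1 .nil .nil) (.node 2 (.node 1 .nil (.node 2 .nil .nil)) .nil)) .nil))) (.node 2 (.node 0 (.node 0 .nil (.node 2 (.node 1 .nil .nil) .nil)) (.node 2 (.node 1 .nil (.node 2 .nil .nil)) .nil)) .nil))) (.node 2 (.node 0 (.node 0 (.node 0 .nil (.node 1 (.node 0 .nil (.node 1 .nil (.node 2 .nil .nil))) (.node 2 (.node 0 .nil (.node 1 .nil .nil)) .nil))) (.node 1 (.node 2 (.node 0 .nil .nil) .nil) (.node 2 (.node 0 .nil (.node 1 .nil .nil)) .nil))) (.node 1 (.node 0 (.node 0 .nil (.node 2 .nil .nil)) (.node 1 (.node 0 (.node 2 .nil .nil) (.node 1 .nil (.node 2 (.node 0 .nil (.node 1 (.node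 0 .nil (.node 2 .nil .nil)) (.node 2 .nil .nil))) .nil))) (.node 2 (.node 1 .nil .nil) .nil))) (.node 2 (.node 1 (.node 0 (.node 2 .nil .nil) (.node 1 .nil (.node 2 (.node 0 .nil (.node 1 .nil .nil)) .nil))) (.node 2 (.node 1 (.node 1 .nil .nil) .nil) .nil)) .nil))) .nil))) (.node 1 (.node 0 (.node 0 (.node 0 (.node 2 .nil .nil) (.node 1 (.node 0 (.node 1 .nil (.node 2 .nil .nil)) (.node 1 .nil (.node 2 (.node 0 .nil (.node 1 .nil (.node 2 .nil .nil))) .nil))) (.node 2 (.node 0 .nil (.node 1 (.node 0 (.node 0 .nil .nil) .nil) (.node 2 (.node 0 .nil .nil) .nil))) .nil))) (.node 1 (.node 0 (.node 1 (.node 1 .nil .nil) (.node 2 (.node 2 .nil .nil) .nil)) (.node 1 (.node 0 (.node 0 .nil .nil) (.node 1 .nil (.node 2 .nil .nil))) (.node 2 (.node 1 .nil (.node 2 (.node 0 .nil (.node 1 .nil .nil)) .nil)) .nil))) (.node 2 (.node 0 (.node 0 .nil (.node 1 (.node 0 .nil (.node 1 .nil .nil)) .nil)) (.node 1 (.node 0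 (.node 0 .nil (.node 2 (.node 1 .nil .nil) .nil)) (.node 2 (.node 0 .nil (.node 1 .nil (.node 2 (.node 2 .nil .nil) .nil))) .nil)) (.node 2 (.node 1 .nil (.node 2 .nil .nil)) .nil))) .nil))) (.node 1 (.node 1 (.node 1 .nil (.node 2 (.node 0 (.node 0 .nil .nil) (.node 1 (.node 0 .nil .nil) (.node 2 (.node 1 .nil .nil) .nil))) .nil)) (.node 2 (.node 0 (.node 1 .nil .nil) (.node 1 (.node 0 .nil (.node 2 (.node 2 .nil .nil) .nil)) (.node 2 (.node 1 (.node 1 .nil .nil) .nil) .nil))) .nil)) (.node 2 (.node 0 (.node 0 (.node 0 (.node 0 .nil (.node 2 .nil .nil)) (.node 1 (.node 0 .nil (.node 1 .nil .nil)) .nil)) (.node 1 (.node 1 (.node 1 .nil (.node 2 .nil .nil)) (.node 2 .nil .nil)) (.node 2 (.node 0 (.node 2 .nil .nil) (.node 1 (.node 0 .nil (.node 1 .nil .nil)) .nil)) .nil))) (.node 1 (.node 0 (.node 2 (.node 1 .nil (.node 2 .nil .nil)) .nil) (.node 1 (.node 0 (.node 1 .nil (.node 2 .nil .nil)) (.node 2 (.node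 0 (.node 0 .nil .nil) (.node 1 .nil .nil)) .nil)) .nil)) .nil)) .nil))) (.node 2 (.node 0 (.node 0 (.node 0 (.node 0 (.node 1 .nil .nil) .nil) (.node 1 (.node 0 .nil (.node 2 .nil .nil)) (.node 2 (.node 2 (.node 1 .nil (.node 2 .nil .nil)) .nil) .nil))) (.node 1 (.node 0 (.node 0 .nil (.node 1 .nil (.node 2 .nil .nil))) (.node 2 (.node 0 (.node 2 .nil .nil) (.node 1 (.node 0 .nil (.node 2 .nil .nil)) (.node 2 (.node 0 (.node 0 .nil .nil) .nil) .nil))) .nil)) (.node 2 (.node 0 (.node 1 (.node 1 .nil (.node 2 (.node 0 .nil (.node 1 .nil .nil)) .nil)) (.node 2 (.node 0 .nil .nil) .nil)) (.node 1 (.node 1 (.node 2 .nil .nil) (.node 2 (.node 1 .nil .nil) .nil)) (.node 2 (.node 0 .nil (.node 1 (.node 0 .nil (.node 1 (.node 1 .nil .nil) .nil)) (.node 2 (.node 0 .nil (.node 2 .nil .nil)) .nil))) .nil))) .nil))) (.node 1 (.node 0 (.node 0 (.node 0 (.node 1 .nil (.node 2 .nil .nil)) (.node 1 (.node 0 .nil .nil) (.node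 2 (.node 1 .nil (.node 2 .nil .nil)) .nil))) (.node 1 (.node 0 (.node 1 .nil .nil) (.node 1 .nil (.node 2 .nil .nil))) (.node 2 (.node 0 .nil (.node 1 (.node 0 (.node 1 .nil .nil) .nil) (.node 2 (.node 2 .nil .nil) .nil))) .nil))) (.node 1 (.node 0 (.node 0 (.node 0 .nil .nil) (.node 2 .nil .nil)) (.node 1 (.node 1 .nil .nil) .nil)) (.node 2 (.node 0 (.node 0 (.node 0 .nil (.node 1 .nil .nil)) (.node 1 .nil (.node 2 (.node 0 .nil (.node 1 .nil .nil)) .nil))) (.node 1 (.node 0 (.node 0 .nil (.node 2 .nil .nil)) .nil) (.node 2 (.node 0 (.node 1 .nil .nil) (.node 1 .nil .nil)) .nil))) .nil))) (.node 2 (.node 0 (.node 0 (.node 0 (.node 0 .nil .nil) (.node 1 (.node 1 .nil (.node 2 .nil .nil)) .nil)) (.node 1 (.node 0 (.node 0 .nil .nil) .nil) (.node 2 (.node 0 (.node 2 .nil .nil) .nil) .nil))) (.node 1 (.node 0 (.node 1 (.node 2 .nil .nil) (.node 2 (.node 0 .nil (.node 2 .nil .nil)) .nil)) (.node 1 (.node 1 (.node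 1 (.node 1 .nil .nil) (.node 2 .nil .nil)) (.node 2 .nil .nil)) (.node 2 (.node 1 .nil (.node 2 .nil .nil)) .nil))) (.node 2 (.node 0 (.node 0 .nil (.node 1 (.node 0 .nil .nil) (.node 2 (.node 0 .nil (.node 1 .nil .nil)) .nil))) (.node 1 (.node 0 (.node 2 .nil .nil) (.node 1 (.node 0 .nil (.node 1 .nil (.node 2 .nil .nil))) (.node 2 (.node 2 .nil .nil) .nil))) (.node 2 (.node 1 .nil .nil) .nil))) .nil))) .nil))) .nil))) (.node 2 (.node 0 (.node 0 (.node 0 (.node 0 (.node 1 .nil .nil) (.node 2 .nil .nil)) (.node 1 (.node 0 (.node 0 .nil .nil) (.node 1 (.node 0 (.node 1 .nil .nil) (.node 1 (.node 2 .nil .nil) (.node 2 .nil .nil))) (.node 2 (.node 2 .nil .nil) .nil))) (.node 2 (.node 0 (.node 1 (.node 0 .nil .nil) .nil) (.node 1 (.node 0 .nil (.node 1 (.node 0 .nil (.node 2 .nil .nil)) (.node 2 .nil .nil))) (.node 2 (.node 0 (.node 0 .nil (.node 1 (.node 0 .nil .nil) (.node 2 .nil .nil))) (.node 1 (.node 1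 .nil (.node 2 .nil .nil)) .nil)) .nil))) .nil))) (.node 1 (.node 1 (.node 0 .nil (.node 1 .nil (.node 2 (.node 0 .nil (.node 2 (.node 1 (.node 2 .nil .nil) .nil) .nil)) .nil))) (.node 2 (.node 0 (.node 0 (.node 1 .nil (.node 2 .nil .nil)) (.node 1 .nil (.node 2 (.node 0 .nil (.node 1 .nil .nil)) .nil))) (.node 2 (.node 1 (.node 0 .nil (.node 1 .nil .nil)) (.node 2 (.node 0 .nil (.node 2 .nil .nil)) .nil)) .nil)) .nil)) (.node 2 (.node 0 (.node 0 (.node 0 (.node 0 (.node 2 .nil .nil) (.node 2 .nil .nil)) (.node 1 (.node 0 .nil (.node 1 .nil (.node 2 .nil .nil))) (.node 2 .nil .nil))) (.node 1 (.node 0 (.node 1 .nil .nil) (.node 2 (.node 2 .nil .nil) .nil)) (.node 2 (.node 0 (.node 0 .nil (.node 2 .nil .nil)) (.node 2 .nil .nil)) .nil))) (.node 1 (.node 0 (.node 2 .nil .nil) (.node 1 (.node 1 (.node 1 .nil .nil) (.node 2 (.node 2 .nil .nil) .nil)) (.node 2 (.node 1 .nil (.node 2 .nil .nil)) .nil))) (.node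 2 (.node 0 (.node 0 (.node 2 (.node 2 .nil .nil) .nil) (.node 1 (.node 0 .nil (.node 2 .nil .nil)) (.node 2 .nil .nil))) (.node 1 (.node 0 (.node 1 .nil .nil) (.node 1 (.node 0 .nil .nil) (.node 2 (.node 0 .nil .nil) .nil))) (.node 2 (.node 0 (.node 1 .nil .nil) (.node 1 .nil (.node 2 (.node 2 .nil .nil) .nil))) .nil))) .nil))) .nil))) (.node 1 (.node 0 (.node 0 (.node 0 .nil (.node 1 (.node 0 (.node 1 .nil (.node 2 (.node 2 .nil .nil) .nil)) (.node 2 (.node 0 .nil (.node 1 .nil .nil)) .nil)) (.node 2 (.node 0 (.node 0 .nil (.node 2 .nil .nil)) (.node 1 .nil .nil)) .nil))) (.node 1 (.node 0 (.node 0 (.node 2 .nil .nil) (.node 1 .nil .nil)) (.node 1 (.node 0 .nil (.node 1 .nil (.node 2 (.node 1 .nil .nil) .nil))) (.node 2 (.node 1 (.node 0 (.node 2 .nil .nil) (.node 1 .nil .nil)) .nil) .nil))) (.node 2 (.node 0 (.node 0 (.node 1 .nil .nil) (.node 1 .nil (.node 2 (.node 2 .nil .nil) .nil))) (.node 1 (.node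 0 .nil (.node 1 (.node 1 .nil .nil) .nil)) (.node 2 (.node 1 .nil (.node 2 (.node 0 .nil .nil) .nil)) .nil))) .nil))) (.node 1 (.node 0 (.node 0 .nil (.node 1 (.node 0 .nil .nil) .nil)) (.node 1 (.node 1 (.node 1 (.node 1 .nil .nil) .nil) .nil) (.node 2 (.node 0 (.node 0 .nil (.node 1 (.node 1 .nil (.node 2 .nil .nil)) .nil)) (.node 2 (.node 0 (.node 1 .nil .nil) (.node 1 (.node 0 .nil .nil) (.node 2 .nil .nil))) .nil)) .nil))) (.node 2 (.node 0 (.node 0 (.node 0 (.node 0 .nil (.node 2 .nil .nil)) (.node 1 (.node 2 .nil .nil) .nil)) (.node 1 (.node 0 (.node 1 .nil (.node 2 .nil .nil)) (.node 1 (.node 0 .nil .nil) (.node 2 .nil .nil))) (.node 2 (.node 2 (.node 0 .nil (.node 1 .nil .nil)) .nil) .nil))) (.node 1 (.node 0 (.node 2 (.node 0 .nil (.node 1 .nil .nil)) .nil) (.node 1 (.node 0 (.node 1 .nil .nil) (.node 2 .nil .nil)) (.node 2 (.node 0 .nil (.node 1 .nil (.node 2 .nil .nil))) .nil))) (.node 2 (.node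 0 (.node 0 .nil .nil) (.node 1 (.node 0 .nil (.node 1 .nil (.node 2 .nil .nil))) (.node 2 (.node 1 (.node 2 .nil .nil) (.node 2 .nil .nil)) .nil))) .nil))) .nil))) (.node 2 (.node 0 (.node 1 (.node 0 (.node 1 .nil .nil) (.node 1 (.node 0 (.node 1 .nil (.node 2 .nil .nil)) (.node 1 .nil .nil)) (.node 2 (.node 0 (.node 0 .nil .nil) (.node 1 (.node 0 .nil .nil) (.node 2 (.node 0 .nil .nil) .nil))) .nil))) (.node 2 (.node 0 (.node 0 (.node 2 .nil .nil) (.node 1 (.node 0 .nil .nil) .nil)) (.node 1 (.node 0 (.node 0 .nil .nil) (.node 1 (.node 0 .nil .nil) .nil)) (.node 2 (.node 0 (.node 1 .nil .nil) (.node 1 (.node 0 .nil (.node 2 .nil .nil)) .nil)) .nil))) .nil)) (.node 1 (.node 0 (.node 0 (.node 1 .nil (.node 2 .nil .nil)) (.node 1 (.node 0 .nil (.node 1 (.node 1 .nil (.node 2 .nil .nil)) .nil)) (.node 2 (.node 2 .nil .nil) .nil))) (.node 1 (.node 0 (.node 2 (.node 0 .nil (.node 1 .nil .nil)) .nil) (.node 1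 (.node 1 .nil .nil) (.node 2 (.node 1 .nil .nil) .nil))) (.node 2 (.node 0 (.node 0 .nil (.node 1 (.node 0 .nil .nil) (.node 2 (.node 2 .nil .nil) .nil))) (.node 1 (.node 0 (.node 1 .nil .nil) .nil) .nil)) .nil))) (.node 2 (.node 0 (.node 0 (.node 0 .nil .nil) (.node 1 (.node 0 .nil (.node 1 .nil (.node 2 .nil .nil))) (.node 2 (.node 2 .nil .nil) .nil))) (.node 1 (.node 0 (.node 1 .nil (.node 2 .nil .nil)) (.node 1 (.node 1 .nil (.node 2 .nil .nil)) (.node 2 (.node 0 .nil (.node 1 (.node 1 .nil (.node 2 .nil .nil)) (.node 2 .nil .nil))) .nil))) (.node 2 (.node 0 (.node 0 .nil (.node 1 (.node 1 .nil .nil) (.node 2 (.node 1 .nil .nil) .nil))) (.node 2 (.node 0 .nil (.node 1 .nil (.node 2 (.node 1 .nil .nil) .nil))) .nil)) .nil))) .nil))) .nil))) .nil)))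

/-- Orbit certificate. -/
def sexSelf3 : M24Orbits.Part := (sexSelf3T, [15, 5264, 622848, 3416064, 4196928, 8536096], 32, 1440)

set_option maxRecDepth 20000 in
/-- Orbit forest. -/
def triSelf0T : OrbTree := .nil

/-- Orbit certificate. -/
def triSelf0 : M24Orbits.Part := (triSelf0T, [5279, 1009728, 15762208], 192, 1)

set_option maxRecDepth 20000 in
/-- Orbit forest. -/
def triSelf1T : OrbTree := (.node 0 (.node 0 (.node 1 (.node 0 .nil (.node 1 .nil .nil)) (.node 2 .nil .nil)) (.node 1 (.node 0 (.node 0 .nil .nil) (.node 1 (.node 2 .nil .nil) .nil)) (.node 2 (.node 1 (.node 0 .nil (.node 1 .nil .nil)) (.node 2 (.node 1 .nil .nil) .nil)) .nil))) (.node 1 (.node 0 (.node 0 (.node 2 .nil .nil) (.node 1 (.node 1 .nil .nil) (.node 2 .nil .nil))) (.node 1 (.node 0 (.node 1 .nil .nil) .nil) (.node 2 (.node 0 (.node 0 .nil .nil) (.node 1 .nil (.node 2 .nil .nil))) .nil))) (.node 2 (.node 0 (.node 1 .nil .nil)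 (.node 1 (.node 0 .nil (.node 1 (.node 2 .nil .nil) .nil)) (.node 2 (.node 1 .nil .nil) .nil))) .nil)))

/-- Orbit certificate. -/
def triSelf1 : M24Orbits.Part := (triSelf1T, [5279, 1256224, 15515712], 128, 42)

set_option maxRecDepth 20000 in
/-- Orbit forest. -/
def triSelf2T : OrbTree := (.node 0 (.node 0 (.node 0 (.node 0 (.node 0 .nil .nil) (.node 1 (.node 0 .nil (.node 2 .nil .nil)) .nil)) (.node 1 (.node 0 (.node 0 (.node 0 .nil .nil) (.node 1 .nil (.node 2 (.node 1 .nil .nil) .nil))) (.node 1 (.node 0 (.node 1 .nil .nil) (.node 2 .nil .nil)) .nil)) .nil)) (.node 1 (.node 0 (.node 1 (.node 1 .nil (.node 2 .nil .nil)) .nil) (.node 1 (.node 0 (.node 2 .nil .nil) (.node 2 (.node 0 .nil (.node 1 .nil .nil)) .nil)) (.node 2 .nil .nil))) .nil)) (.node 1 (.node 0 (.node 0 (.node 1 .nil (.node 2 .nil .nil)) (.node 2 (.node 0 (.node 1 .nil .nil) (.node 2 (.node 2 .nil .nil) .nil)) .nil)) (.node 2 (.node 0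 (.node 0 (.node 0 .nil (.node 2 .nil .nil)) (.node 2 (.node 0 .nil (.node 1 .nil (.node 2 .nil .nil))) .nil)) (.node 1 (.node 0 (.node 0 .nil (.node 2 .nil .nil)) (.node 1 .nil .nil)) .nil)) .nil)) .nil))

/-- Orbit certificate. -/
def triSelf2 : M24Orbits.Part := (triSelf2T, [90318, 2135601, 14551296], 96, 56)

set_option maxRecDepth 20000 in
/-- Orbit forest. -/
def triSelf3T : OrbTree := (.node 0 (.node 0 (.node 0 (.node 0 (.node 0 (.node 0 (.node 0 (.node 0 .nil .nil) (.node 1 (.node 0 .nil (.node 1 .nil .nil)) (.node 2 (.node 1 .nil .nil) .nil))) (.node 1 (.node 0 .nil (.node 1 .nil .nil)) (.node 2 (.node 1 (.node 1 .nil (.node 2 .nil .nil)) .nil) .nil))) (.node 1 (.node 0 (.node 0 (.node 1 (.node 1 .nil .nil) (.node 2 .nil .nil)) (.node 1 (.node 0 .nil .nil) .nil)) (.node 1 (.node 0 .nil (.node 2 .nil .nil)) (.node 2 (.node 0 .nil (.node 2 (.node 0 .nil (.node 1 .nil (.node 2 .nil .nil))) .nil)) .nil)))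 (.node 2 (.node 0 (.node 0 .nil (.node 2 .nil .nil)) (.node 2 (.node 1 (.node 0 .nil (.node 2 .nil .nil)) (.node 2 .nil .nil)) .nil)) .nil))) (.node 1 (.node 0 (.node 0 (.node 0 (.node 0 .nil (.node 2 .nil .nil)) (.node 1 (.node 0 .nil (.node 1 .nil (.node 2 .nil .nil))) (.node 2 .nil .nil))) (.node 1 (.node 0 .nil (.node 1 .nil (.node 2 (.node 1 .nil .nil) .nil))) (.node 2 (.node 1 .nil .nil) .nil))) (.node 1 (.node 0 (.node 0 (.node 1 .nil (.node 2 .nil .nil)) (.node 1 .nil (.node 2 (.node 2 .nil .nil) .nil))) (.node 2 (.node 0 .nil (.node 1 .nil (.node 2 (.node 0 .nil (.node 1 .nil (.node 2 .nil .nil))) .nil))) .nil)) (.node 2 (.node 1 (.node 1 (.node 0 (.node 2 .nil .nil) (.node 2 .nil .nil)) (.node 2 .nil .nil)) (.node 2 (.node 1 (.node 1 .nil .nil) .nil) .nil)) .nil))) (.node 2 (.node 0 (.node 1 (.node 2 (.node 0 .nil .nil) .nil) .nil) (.node 1 (.node 0 .nil (.node 1 (.node 0 (.node 1 .nil .nil) (.node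 2 (.node 1 .nil .nil) .nil)) .nil)) (.node 2 .nil .nil))) .nil))) (.node 1 (.node 0 (.node 0 (.node 0 (.node 0 (.node 0 .nil (.node 1 .nil .nil)) (.node 2 (.node 2 (.node 1 .nil .nil) .nil) .nil)) (.node 1 (.node 1 .nil (.node 2 (.node 2 .nil .nil) .nil)) (.node 2 (.node 0 (.node 0 .nil .nil) (.node 2 .nil .nil)) .nil))) (.node 2 (.node 0 (.node 0 (.node 2 .nil .nil) (.node 1 (.node 0 .nil .nil) (.node 2 (.node 0 .nil .nil) .nil))) (.node 1 (.node 1 .nil (.node 2 (.node 0 .nil (.node 2 .nil .nil)) .nil)) (.node 2 (.node 0 .nil (.node 1 (.node 2 (.node 1 .nil .nil) .nil) (.node 2 (.node 0 .nil (.node 2 .nil .nil)) .nil))) .nil))) .nil)) (.node 1 (.node 0 (.node 0 (.node 0 .nil .nil) (.node 1 (.node 0 (.node 0 .nil .nil) (.node 1 (.node 0 .nil .nil) (.node 2 (.node 0 .nil (.node 1 .nil (.node 2 .nil .nil))) .nil))) (.node 2 (.node 1 (.node 1 .nil .nil) .nil) .nil))) (.node 2 (.node 0 .nil (.node 1 (.node 1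 (.node 2 .nil .nil) .nil) (.node 2 (.node 0 .nil (.node 2 (.node 1 (.node 2 .nil .nil) .nil) .nil)) .nil))) .nil)) (.node 2 (.node 0 (.node 0 (.node 0 .nil (.node 1 (.node 1 .nil (.node 2 .nil .nil)) (.node 2 .nil .nil))) (.node 1 (.node 0 (.node 0 .nil .nil) (.node 1 .nil .nil)) (.node 2 (.node 0 (.node 1 .nil .nil) .nil) .nil))) (.node 1 (.node 0 (.node 0 (.node 0 .nil (.node 1 .nil (.node 2 .nil .nil))) (.node 1 (.node 0 .nil (.node 1 .nil .nil)) (.node 2 (.node 2 .nil .nil) .nil))) (.node 1 (.node 0 .nil (.node 2 (.node 1 .nil .nil) .nil)) (.node 2 (.node 0 .nil (.node 1 (.node 0 .nil (.node 2 .nil .nil)) (.node 2 (.node 1 .nil .nil) .nil))) .nil))) (.node 2 (.node 0 (.node 0 .nil (.node 2 (.node 1 .nil .nil) .nil)) (.node 1 (.node 0 .nil (.node 1 .nil (.node 2 (.node 1 .nil .nil) .nil))) (.node 2 (.node 0 .nil (.node 1 .nil (.node 2 .nil .nil))) .nil))) .nil))) .nil))) (.node 2 (.node 0 (.node 0 (.node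 0 .nil (.node 1 (.node 0 .nil (.node 2 .nil .nil)) .nil)) (.node 1 (.node 0 (.node 0 .nil (.node 1 (.node 0 .nil (.node 1 .nil .nil)) (.node 2 (.node 1 .nil .nil) .nil))) (.node 1 (.node 0 .nil (.node 2 .nil .nil)) .nil)) (.node 2 (.node 0 (.node 1 (.node 1 .nil .nil) .nil) (.node 1 (.node 0 .nil (.node 1 .nil .nil)) (.node 2 (.node 1 .nil .nil) .nil))) .nil))) (.node 2 (.node 0 (.node 1 .nil .nil) (.node 1 (.node 0 (.node 0 .nil (.node 1 .nil (.node 2 .nil .nil))) (.node 1 .nil (.node 2 (.node 0 (.node 1 .nil .nil) (.node 1 .nil .nil)) .nil))) (.node 2 (.node 1 (.node 0 (.node 0 (.node 2 .nil .nil) .nil) (.node 1 (.node 2 .nil .nil) (.node 2 (.node 0 .nil (.node 1 .nil .nil)) .nil))) .nil) .nil))) .nil)) .nil))) (.node 1 (.node 0 (.node 0 (.node 0 (.node 0 (.node 1 .nil .nil) (.node 1 (.node 0 (.node 0 .nil .nil) (.node 2 (.node 1 .nil (.node 2 (.node 0 .nil .nil) .nil)) .nil)) (.node 2 (.node 1 .nil .nil)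 .nil))) (.node 1 (.node 1 (.node 0 .nil (.node 2 .nil .nil)) .nil) (.node 2 (.node 0 (.node 0 (.node 0 .nil (.node 1 .nil .nil)) (.node 1 (.node 1 .nil .nil) .nil)) (.node 1 (.node 0 .nil .nil) (.node 2 (.node 0 .nil (.node 1 (.node 0 .nil .nil) (.node 2 .nil .nil))) .nil))) .nil))) (.node 1 (.node 0 (.node 0 (.node 0 (.node 2 .nil .nil) (.node 1 .nil .nil)) (.node 1 (.node 1 .nil (.node 2 (.node 0 .nil .nil) .nil)) (.node 2 (.node 1 .nil (.node 2 .nil .nil)) .nil))) (.node 1 (.node 0 (.node 0 .nil .nil) (.node 2 (.node 0 (.node 1 (.node 2 .nil .nil) .nil) (.node 1 .nil (.node 2 .nil .nil))) .nil)) (.node 2 (.node 0 (.node 0 .nil (.node 2 .nil .nil)) (.node 1 (.node 0 .nil (.node 1 .nil .nil)) (.node 2 (.node 0 .nil (.node 2 (.node 1 .nil .nil) .nil)) .nil))) .nil))) (.node 2 (.node 0 (.node 0 (.node 0 (.node 1 .nil .nil) (.node 2 .nil .nil)) (.node 2 (.node 2 (.node 1 .nil .nil) .nil) .nil)) (.node 1 (.node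 0 (.node 0 .nil .nil) (.node 2 (.node 0 .nil (.node 1 .nil (.node 2 .nil .nil))) .nil)) (.node 2 (.node 0 (.node 0 .nil (.node 2 (.node 1 .nil .nil) .nil)) (.node 1 (.node 1 .nil (.node 2 .nil .nil)) (.node 2 (.node 2 (.node 1 .nil .nil) .nil) .nil))) .nil))) .nil))) (.node 1 (.node 0 (.node 0 (.node 0 .nil (.node 1 (.node 0 .nil (.node 2 .nil .nil)) (.node 2 (.node 1 (.node 0 .nil .nil) .nil) .nil))) (.node 1 (.node 0 (.node 0 (.node 0 .nil .nil) (.node 2 (.node 1 .nil .nil) .nil)) (.node 1 .nil .nil)) (.node 2 (.node 1 (.node 0 .nil (.node 2 .nil .nil)) (.node 2 .nil .nil)) .nil))) (.node 2 (.node 0 (.node 0 (.node 1 (.node 1 .nil .nil) .nil) (.node 1 (.node 0 .nil (.node 2 .nil .nil)) (.node 2 (.node 1 .nil .nil) .nil))) (.node 1 (.node 0 (.node 0 .nil (.node 2 (.node 0 .nil (.node 1 .nil .nil)) .nil)) (.node 2 (.node 0 .nil (.node 2 (.node 0 .nil (.node 1 (.node 0 .nil .nil) (.node 2 .nil .nil))) .nil))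 .nil)) (.node 2 (.node 0 .nil (.node 2 (.node 1 .nil .nil) .nil)) .nil))) .nil)) (.node 2 (.node 0 (.node 0 (.node 0 .nil (.node 1 (.node 0 (.node 1 .nil .nil) (.node 2 (.node 0 .nil .nil) .nil)) (.node 2 (.node 1 (.node 0 .nil (.node 2 .nil .nil)) .nil) .nil))) (.node 1 (.node 0 .nil (.node 1 .nil (.node 2 (.node 0 (.node 2 .nil .nil) (.node 1 .nil .nil)) .nil))) (.node 2 (.node 0 .nil (.node 2 .nil .nil)) .nil))) (.node 1 (.node 0 (.node 0 (.node 1 (.node 1 .nil .nil) (.node 2 .nil .nil)) (.node 1 (.node 0 (.node 0 .nil (.node 2 .nil .nil)) (.node 1 .nil (.node 2 .nil .nil))) (.node 2 (.node 0 (.node 1 .nil .nil) (.node 1 .nil (.node 2 .nil .nil))) .nil))) (.node 1 (.node 0 .nil (.node 2 .nil .nil)) (.node 2 (.node 0 (.node 0 .nil (.node 1 .nil (.node 2 (.node 2 .nil .nil) .nil))) (.node 2 .nil .nil)) .nil))) (.node 2 (.node 0 .nil (.node 1 (.node 0 .nil (.node 2 (.node 1 (.node 0 .nil .nil) (.node 2 .nil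 .nil)) .nil)) (.node 2 (.node 0 .nil (.node 1 (.node 0 .nil (.node 2 .nil .nil)) (.node 2 .nil .nil))) .nil))) .nil))) .nil))) (.node 2 (.node 0 (.node 0 (.node 1 (.node 1 (.node 0 .nil (.node 2 (.node 0 .nil (.node 1 .nil (.node 2 .nil .nil))) .nil)) .nil) .nil) (.node 1 (.node 0 (.node 0 (.node 1 (.node 1 .nil .nil) .nil) (.node 1 (.node 0 .nil (.node 1 .nil (.node 2 (.node 1 .nil .nil) .nil))) (.node 2 (.node 0 .nil (.node 2 (.node 1 .nil .nil) .nil)) .nil))) (.node 1 (.node 0 (.node 1 .nil (.node 2 .nil .nil)) (.node 2 (.node 0 (.node 1 .nil .nil) .nil) .nil)) (.node 2 (.node 1 .nil (.node 2 (.node 0 .nil (.node 2 (.node 1 .nil (.node 2 .nil .nil)) .nil)) .nil)) .nil))) (.node 2 (.node 1 (.node 0 (.node 1 (.node 0 .nil .nil) .nil) (.node 1 (.node 2 (.node 1 .nil .nil) .nil) .nil)) .nil) .nil))) (.node 1 (.node 0 (.node 0 (.node 0 (.node 0 .nil .nil) (.node 1 (.node 1 (.node 2 .nil .nil) .nil) (.node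 2 .nil .nil))) (.node 1 (.node 0 .nil (.node 1 (.node 2 .nil .nil) (.node 2 .nil .nil))) .nil)) (.node 1 .nil (.node 2 (.node 0 .nil (.node 1 (.node 0 (.node 0 (.node 0 .nil (.node 1 .nil .nil)) (.node 2 .nil .nil)) (.node 1 .nil .nil)) (.node 2 (.node 1 (.node 1 (.node 0 .nil .nil) .nil) .nil) .nil))) .nil))) (.node 2 (.node 0 (.node 1 (.node 0 (.node 0 (.node 2 .nil .nil) (.node 2 (.node 1 .nil .nil) .nil)) (.node 1 .nil (.node 2 .nil .nil))) .nil) (.node 1 (.node 0 (.node 0 (.node 0 .nil (.node 1 .nil (.node 2 .nil .nil))) (.node 1 (.node 1 .nil .nil) (.node 2 (.node 1 (.node 2 .nil .nil) .nil) .nil))) (.node 1 (.node 0 .nil (.node 2 .nil .nil)) (.node 2 (.node 0 .nil (.node 1 (.node 1 .nil .nil) (.node 2 (.node 0 (.node 2 .nil .nil) (.node 1 .nil (.node 2 .nil .nil))) .nil))) .nil))) (.node 2 .nil .nil))) .nil))) .nil))) (.node 1 (.node 0 (.node 0 (.node 0 (.node 0 (.node 0 (.node 1 .nil .nil) (.node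 1 .nil (.node 2 (.node 0 .nil (.node 1 .nil .nil)) .nil))) (.node 1 (.node 0 (.node 2 .nil .nil) (.node 2 (.node 0 .nil (.node 1 .nil .nil)) .nil)) (.node 2 (.node 1 (.node 1 (.node 2 .nil .nil) .nil) (.node 2 (.node 1 .nil .nil) .nil)) .nil))) (.node 1 (.node 0 (.node 0 (.node 0 (.node 1 .nil .nil) .nil) (.node 1 (.node 0 .nil (.node 1 .nil (.node 2 .nil .nil))) (.node 2 (.node 0 (.node 0 .nil .nil) (.node 2 .nil .nil)) .nil))) (.node 2 (.node 0 (.node 1 .nil .nil) (.node 1 (.node 0 .nil (.node 2 .nil .nil)) (.node 2 .nil .nil))) .nil)) (.node 2 (.node 0 (.node 0 (.node 1 .nil .nil) (.node 1 .nil .nil)) (.node 2 (.node 0 (.node 0 .nil (.node 1 .nil .nil)) (.node 1 (.node 0 .nil (.node 2 .nil .nil)) (.node 2 .nil .nil))) .nil)) .nil))) (.node 1 (.node 0 (.node 0 (.node 1 (.node 0 (.node 2 .nil .nil) (.node 2 (.node 1 .nil (.node 2 .nil .nil)) .nil)) (.node 2 (.node 0 .nil .nil) .nil)) (.node 2 (.node 0 (.node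 0 (.node 0 .nil .nil) (.node 2 (.node 0 .nil .nil) .nil)) (.node 2 .nil .nil)) .nil)) (.node 1 (.node 0 (.node 0 (.node 1 .nil .nil) (.node 1 (.node 0 (.node 0 .nil (.node 1 .nil (.node 2 .nil .nil))) (.node 1 .nil (.node 2 (.node 2 .nil .nil) .nil))) (.node 2 (.node 0 (.node 0 .nil .nil) .nil) .nil))) .nil) (.node 2 (.node 0 (.node 0 (.node 0 .nil (.node 1 .nil (.node 2 .nil .nil))) (.node 2 .nil .nil)) (.node 1 (.node 0 (.node 0 (.node 1 .nil .nil) .nil) (.node 1 (.node 0 .nil (.node 2 .nil .nil)) (.node 2 (.node 1 .nil (.node 2 .nil .nil)) .nil))) (.node 2 (.node 0 (.node 1 .nil .nil) (.node 1 (.node 1 .nil .nil) (.node 2 .nil .nil))) .nil))) .nil))) (.node 2 (.node 0 (.node 2 (.node 0 (.node 1 .nil .nil) (.node 1 .nil (.node 2 .nil .nil))) .nil) (.node 1 (.node 0 (.node 0 (.node 1 (.node 1 .nil .nil) .nil) (.node 1 .nil (.node 2 (.node 1 .nil .nil) .nil))) (.node 1 (.node 0 (.node 1 .nil .nil) (.node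 2 .nil .nil)) (.node 2 (.node 0 (.node 0 .nil .nil) (.node 1 (.node 1 .nil .nil) (.node 2 (.node 0 .nil .nil) .nil))) .nil))) (.node 2 (.node 0 (.node 0 .nil (.node 1 (.node 2 .nil .nil) (.node 2 (.node 1 (.node 2 .nil .nil) .nil) .nil))) (.node 1 (.node 0 (.node 0 (.node 1 .nil .nil) (.node 1 .nil (.node 2 .nil .nil))) (.node 2 .nil .nil)) (.node 2 (.node 0 (.node 1 (.node 1 .nil .nil) .nil) (.node 1 .nil (.node 2 (.node 1 .nil .nil) .nil))) .nil))) .nil))) .nil))) (.node 1 (.node 0 (.node 0 (.node 1 (.node 1 .nil (.node 2 (.node 0 .nil (.node 1 (.node 2 .nil .nil) .nil)) .nil)) (.node 2 (.node 0 (.node 1 .nil .nil) (.node 1 (.node 1 .nil .nil) (.node 2 .nil .nil))) .nil)) (.node 1 (.node 0 .nil (.node 1 .nil (.node 2 (.node 1 (.node 0 .nil (.node 1 .nil .nil)) .nil) .nil))) (.node 2 .nil .nil))) .nil) (.node 2 (.node 0 (.node 0 (.node 0 (.node 1 (.node 0 .nil (.node 1 .nil .nil)) .nil) (.node 1 (.node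 1 .nil .nil) (.node 2 .nil .nil))) (.node 1 (.node 0 (.node 0 .nil (.node 2 (.node 0 (.node 1 .nil .nil) (.node 2 .nil .nil)) .nil)) (.node 1 (.node 0 .nil (.node 2 (.node 1 (.node 2 .nil .nil) .nil) .nil)) (.node 2 (.node 1 (.node 0 (.node 0 .nil .nil) (.node 2 .nil .nil)) (.node 2 .nil .nil)) .nil))) .nil)) (.node 1 (.node 0 (.node 0 (.node 0 (.node 0 (.node 2 .nil .nil) (.node 2 .nil .nil)) (.node 2 (.node 2 .nil .nil) .nil)) (.node 1 (.node 0 .nil (.node 1 .nil (.node 2 .nil .nil))) (.node 2 .nil .nil))) (.node 1 .nil (.node 2 (.node 0 .nil (.node 1 (.node 0 (.node 1 .nil .nil) (.node 1 (.node 0 (.node 2 .nil .nil) (.node 2 .nil .nil)) (.node 2 (.node 0 (.node 0 .nil .nil) (.node 1 .nil .nil)) .nil))) (.node 2 (.node 1 (.node 1 .nil .nil) .nil) .nil))) .nil))) (.node 2 (.node 0 (.node 0 (.node 1 (.node 0 .nil (.node 1 .nil (.node 2 .nil .nil))) .nil) (.node 1 (.node 2 .nil .nil) (.node 2 .nil .nil)))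 (.node 1 (.node 0 (.node 0 (.node 0 .nil .nil) (.node 1 .nil .nil)) (.node 1 .nil .nil)) (.node 2 (.node 0 (.node 1 (.node 1 (.node 0 .nil .nil) (.node 2 .nil .nil)) .nil) (.node 1 (.node 0 (.node 0 (.node 1 .nil .nil) (.node 2 .nil .nil)) (.node 2 (.node 0 .nil (.node 2 .nil .nil)) .nil)) (.node 2 (.node 1 (.node 0 .nil (.node 1 .nil (.node 2 .nil .nil))) .nil) .nil))) .nil))) .nil))) .nil))) (.node 2 (.node 0 (.node 1 (.node 0 (.node 0 (.node 0 (.node 0 .nil (.node 2 .nil .nil)) (.node 2 .nil .nil)) (.node 2 .nil .nil)) (.node 1 (.node 0 .nil (.node 2 (.node 1 .nil (.node 2 (.node 0 .nil (.node 2 (.node 1 .nil .nil) .nil)) .nil)) .nil)) (.node 2 (.node 1 (.node 1 .nil .nil) (.node 2 (.node 1 .nil .nil) .nil)) .nil))) .nil) (.node 1 (.node 0 (.node 0 (.node 0 (.node 0 .nil (.node 2 (.node 0 .nil (.node 2 .nil .nil)) .nil)) (.node 1 (.node 0 (.node 0 .nil (.node 2 .nil .nil)) (.node 2 .nil .nil)) (.node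 2 (.node 0 .nil (.node 1 (.node 0 .nil (.node 1 .nil (.node 2 .nil .nil))) (.node 2 .nil .nil))) .nil))) (.node 1 (.node 0 (.node 0 (.node 0 (.node 2 .nil .nil) (.node 1 .nil .nil)) (.node 1 .nil (.node 2 (.node 1 (.node 0 .nil .nil) (.node 2 .nil .nil)) .nil))) (.node 1 (.node 0 (.node 0 .nil (.node 2 .nil .nil)) .nil) (.node 2 (.node 0 .nil (.node 2 (.node 1 .nil .nil) .nil)) .nil))) (.node 2 (.node 1 (.node 0 .nil (.node 2 (.node 0 .nil .nil) .nil)) (.node 2 .nil .nil)) .nil))) (.node 1 (.node 0 (.node 0 (.node 0 (.node 1 .nil .nil) (.node 2 .nil .nil)) (.node 1 (.node 0 (.node 0 .nil (.node 1 .nil (.node 2 .nil .nil))) (.node 1 .nil (.node 2 .nil .nil))) (.node 2 (.node 2 .nil .nil) .nil))) (.node 2 (.node 0 (.node 1 (.node 1 .nil .nil) (.node 2 (.node 1 .nil .nil) .nil)) (.node 1 (.node 2 .nil .nil) (.node 2 (.node 0 (.node 2 (.node 1 .nil .nil) .nil) (.node 2 (.node 2 .nil .nil) .nil)) .nil))) .nil))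 (.node 2 (.node 0 (.node 0 (.node 0 .nil (.node 2 .nil .nil)) (.node 1 (.node 2 (.node 0 .nil (.node 1 .nil .nil)) .nil) (.node 2 (.node 0 .nil (.node 1 .nil (.node 2 .nil .nil))) .nil))) (.node 1 (.node 0 (.node 0 (.node 0 .nil (.node 2 .nil .nil)) .nil) (.node 1 (.node 0 (.node 0 .nil (.node 2 .nil .nil)) (.node 2 (.node 1 .nil .nil) .nil)) .nil)) (.node 2 (.node 0 (.node 0 .nil (.node 1 (.node 0 .nil .nil) .nil)) (.node 1 (.node 0 .nil (.node 2 (.node 1 .nil .nil) .nil)) .nil)) .nil))) .nil))) (.node 2 (.node 1 (.node 1 (.node 0 (.node 0 .nil .nil) (.node 2 (.node 1 (.node 2 .nil .nil) .nil) .nil)) (.node 2 (.node 0 (.node 0 .nil (.node 1 (.node 1 .nil (.node 2 (.node 1 .nil .nil) .nil)) (.node 2 .nil .nil))) (.node 1 (.node 1 .nil .nil) .nil)) .nil)) .nil) .nil))) .nil)))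

/-- Orbit certificate. -/
def triSelf3 : M24Orbits.Part := (triSelf3T, [10558, 1250945, 15515712], 80, 1008)

set_option maxRecDepth 20000 in
/-- Orbit forest. -/
def triSelf4T : OrbTree := (.node 0 (.node 0 (.node 0 (.node 0 (.node 0 (.node 0 (.node 0 (.node 0 (.node 0 .nil .nil) .nil) (.node 1 (.node 0 .nil (.node 2 .nil .nil)) (.node 2 (.node 0 (.node 0 .nil (.node 2 .nil .nil)) (.node 2 (.node 2 .nil .nil) .nil)) .nil))) (.node 1 (.node 1 (.node 0 .nil .nil) (.node 2 (.node 0 .nil (.node 1 (.node 1 .nil .nil) (.node 2 .nil .nil))) .nil)) (.node 2 (.node 0 .nil (.node 1 (.node 1 .nil (.node 2 (.node 1 .nil .nil) .nil)) (.node 2 (.node 1 (.node 0 .nil .nil) .nil) .nil))) .nil))) (.node 1 (.node 1 (.node 0 (.node 0 (.node 0 .nil .nil) .nil) .nil) .nil) (.node 2 (.node 0 (.node 0 (.node 1 (.node 0 .nil .nil) .nil) (.node 1 (.node 1 .nil .nil) (.node 2 (.node 1 (.node 0 .nil (.node 2 .nil .nil)) .nil) .nil)))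 (.node 1 (.node 0 (.node 0 .nil (.node 1 .nil (.node 2 (.node 0 .nil .nil) .nil))) (.node 2 (.node 0 .nil (.node 1 .nil (.node 2 (.node 1 .nil .nil) .nil))) .nil)) (.node 2 (.node 0 (.node 0 .nil (.node 2 .nil .nil)) (.node 1 (.node 0 .nil (.node 2 .nil .nil)) (.node 2 (.node 0 .nil (.node 1 (.node 1 .nil .nil) (.node 2 (.node 1 .nil .nil) .nil))) .nil))) .nil))) .nil))) (.node 1 (.node 0 (.node 0 (.node 0 (.node 0 .nil (.node 1 .nil (.node 2 .nil .nil))) (.node 1 (.node 0 .nil (.node 1 .nil .nil)) (.node 2 .nil .nil))) (.node 1 (.node 0 (.node 1 (.node 0 .nil (.node 1 .nil (.node 2 .nil .nil))) (.node 2 .nil .nil)) (.node 2 (.node 0 (.node 0 .nil .nil) (.node 2 .nil .nil)) .nil)) (.node 2 (.node 0 (.node 0 .nil .nil) (.node 1 (.node 0 .nil (.node 1 .nil .nil)) (.node 2 (.node 1 .nil (.node 2 .nil .nil)) .nil))) .nil))) (.node 1 (.node 0 (.node 0 (.node 0 .nil (.node 2 .nil .nil)) (.node 1 (.node 0 .nil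 .nil) (.node 2 (.node 1 .nil (.node 2 (.node 0 .nil (.node 1 .nil .nil)) .nil)) .nil))) (.node 2 (.node 0 (.node 0 .nil (.node 1 (.node 0 .nil .nil) .nil)) (.node 1 (.node 0 (.node 2 .nil .nil) (.node 1 (.node 2 .nil .nil) (.node 2 (.node 0 .nil (.node 2 .nil .nil)) .nil))) (.node 2 (.node 0 .nil (.node 1 (.node 1 .nil .nil) .nil)) .nil))) .nil)) (.node 2 (.node 0 (.node 0 (.node 2 .nil .nil) (.node 2 (.node 0 .nil (.node 1 .nil (.node 2 .nil .nil))) .nil)) (.node 1 (.node 0 (.node 0 (.node 1 .nil .nil) (.node 2 (.node 0 (.node 0 .nil .nil) (.node 2 (.node 2 .nil .nil) .nil)) .nil)) (.node 1 .nil (.node 2 (.node 0 (.node 0 .nil (.node 1 .nil (.node 2 .nil .nil))) .nil) .nil))) (.node 2 (.node 1 (.node 0 (.node 1 .nil .nil) (.node 1 .nil .nil)) (.node 2 (.node 1 .nil .nil) .nil)) .nil))) .nil))) (.node 2 (.node 0 (.node 0 .nil (.node 1 (.node 0 (.node 0 .nil (.node 1 .nil (.node 2 .nil .nil))) (.node 1 (.node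 0 .nil (.node 2 (.node 1 .nil .nil) .nil)) (.node 2 (.node 1 (.node 0 .nil (.node 2 (.node 0 .nil .nil) .nil)) .nil) .nil))) (.node 2 (.node 0 (.node 1 (.node 0 .nil (.node 2 .nil .nil)) .nil) (.node 1 (.node 0 (.node 2 .nil .nil) (.node 1 .nil (.node 2 (.node 1 .nil .nil) .nil))) (.node 2 .nil .nil))) .nil))) (.node 1 (.node 0 (.node 0 .nil (.node 1 (.node 1 .nil (.node 2 .nil .nil)) .nil)) (.node 1 (.node 0 (.node 1 (.node 1 .nil .nil) .nil) (.node 2 .nil .nil)) (.node 2 (.node 0 (.node 0 (.node 1 .nil .nil) (.node 2 .nil .nil)) (.node 1 (.node 0 .nil (.node 1 .nil (.node 2 .nil .nil))) .nil)) .nil))) (.node 2 (.node 0 (.node 0 (.node 1 (.node 0 .nil (.node 2 .nil .nil)) .nil) (.node 1 (.node 0 (.node 2 .nil .nil) .nil) (.node 2 (.node 1 (.node 0 .nil (.node 2 .nil .nil)) .nil) .nil))) (.node 1 (.node 2 .nil .nil) (.node 2 .nil .nil))) .nil))) .nil))) (.node 1 (.node 0 (.node 0 (.node 0 (.node 0 (.node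 1 (.node 1 .nil .nil) .nil) (.node 1 (.node 0 .nil .nil) (.node 2 (.node 0 .nil (.node 2 .nil .nil)) .nil))) (.node 1 (.node 0 (.node 0 (.node 2 .nil .nil) (.node 2 (.node 1 .nil .nil) .nil)) (.node 2 (.node 0 (.node 1 .nil (.node 2 .nil .nil)) (.node 2 (.node 2 .nil .nil) .nil)) .nil)) (.node 2 (.node 0 (.node 0 (.node 0 .nil .nil) .nil) (.node 1 (.node 0 .nil (.node 2 (.node 1 .nil .nil) .nil)) (.node 2 (.node 0 .nil .nil) .nil))) .nil))) (.node 1 (.node 1 .nil .nil) (.node 2 (.node 0 (.node 0 (.node 0 .nil (.node 1 .nil (.node 2 .nil .nil))) (.node 1 .nil (.node 2 .nil .nil))) (.node 1 (.node 0 (.node 0 .nil .nil) (.node 2 (.node 0 (.node 1 (.node 1 .nil .nil) (.node 2 .nil .nil)) (.node 1 .nil .nil)) .nil)) (.node 2 (.node 0 (.node 1 .nil (.node 2 .nil .nil)) (.node 1 (.node 0 (.node 0 .nil .nil) (.node 1 .nil (.node 2 .nil .nil))) (.node 2 (.node 0 .nil (.node 1 (.node 0 .nil .nil) .nil)) .nil))) .nil)))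 .nil))) (.node 1 (.node 0 (.node 0 (.node 0 (.node 1 (.node 0 .nil .nil) (.node 2 (.node 1 .nil .nil) .nil)) (.node 1 (.node 1 .nil .nil) .nil)) (.node 1 (.node 1 .nil .nil) (.node 2 (.node 1 (.node 1 .nil .nil) (.node 2 (.node 0 (.node 1 .nil .nil) (.node 1 (.node 2 .nil .nil) (.node 2 .nil .nil))) .nil)) .nil))) (.node 2 (.node 0 (.node 0 (.node 0 .nil (.node 1 (.node 1 .nil .nil) (.node 2 .nil .nil))) (.node 1 (.node 0 (.node 0 .nil .nil) .nil) .nil)) (.node 1 (.node 0 .nil (.node 1 .nil (.node 2 .nil .nil))) (.node 2 (.node 1 (.node 1 .nil .nil) (.node 2 (.node 1 .nil (.node 2 .nil .nil)) .nil)) .nil))) .nil)) (.node 2 (.node 0 (.node 0 (.node 2 (.node 1 .nil .nil) .nil) (.node 1 (.node 0 (.node 0 .nil (.node 2 (.node 2 .nil .nil) .nil)) (.node 1 (.node 0 .nil (.node 2 (.node 1 .nil .nil) .nil)) (.node 2 (.node 0 (.node 2 .nil .nil) (.node 2 .nil .nil)) .nil))) (.node 2 (.node 0 .nil (.node 1 (.node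 0 (.node 1 .nil .nil) (.node 1 .nil (.node 2 (.node 2 .nil .nil) .nil))) (.node 2 (.node 1 (.node 1 .nil .nil) .nil) .nil))) .nil))) (.node 1 (.node 0 (.node 0 (.node 1 .nil (.node 2 .nil .nil)) (.node 1 (.node 0 (.node 1 .nil (.node 2 .nil .nil)) (.node 1 (.node 0 .nil .nil) (.node 2 (.node 1 .nil .nil) .nil))) (.node 2 .nil .nil))) (.node 1 (.node 0 .nil (.node 2 (.node 0 .nil (.node 1 .nil (.node 2 .nil .nil))) .nil)) (.node 2 (.node 2 (.node 0 .nil (.node 1 .nil (.node 2 .nil .nil))) .nil) .nil))) (.node 2 (.node 0 (.node 0 .nil (.node 1 (.node 0 (.node 1 .nil .nil) (.node 1 (.node 0 .nil .nil) .nil)) (.node 2 .nil .nil))) (.node 1 (.node 1 (.node 0 (.node 0 .nil .nil) .nil) (.node 2 (.node 0 (.node 1 .nil .nil) (.node 2 .nil .nil)) .nil)) (.node 2 (.node 0 (.node 1 (.node 0 .nil (.node 1 .nil .nil)) .nil) (.node 1 (.node 1 .nil .nil) (.node 2 .nil .nil))) .nil))) .nil))) .nil))) (.node 2 (.node 0 (.node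 0 (.node 0 (.node 1 (.node 0 .nil (.node 1 (.node 0 .nil .nil) (.node 2 (.node 0 .nil (.node 1 .nil .nil)) .nil))) .nil) (.node 1 (.node 0 (.node 1 (.node 0 .nil (.node 2 .nil .nil)) .nil) (.node 1 .nil (.node 2 (.node 1 (.node 0 .nil (.node 1 .nil .nil)) .nil) .nil))) .nil)) (.node 1 (.node 0 (.node 0 (.node 0 (.node 2 .nil .nil) .nil) (.node 2 (.node 0 .nil .nil) .nil)) (.node 1 (.node 0 (.node 2 .nil .nil) (.node 2 .nil .nil)) (.node 2 (.node 0 (.node 0 .nil .nil) (.node 1 (.node 2 .nil .nil) (.node 2 .nil .nil))) .nil))) (.node 2 (.node 2 (.node 1 (.node 0 (.node 2 .nil .nil) (.node 1 (.node 2 .nil .nil) (.node 2 .nil .nil))) .nil) .nil) .nil))) (.node 1 (.node 0 (.node 0 .nil (.node 1 (.node 0 (.node 0 (.node 1 .nil .nil) (.node 1 .nil .nil)) (.node 1 .nil (.node 2 (.node 0 .nil .nil) .nil))) (.node 2 (.node 0 .nil (.node 1 (.node 0 .nil .nil) (.node 2 .nil .nil))) .nil))) (.node 1 (.node 0 (.node 0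 (.node 0 (.node 1 .nil .nil) (.node 1 .nil (.node 2 (.node 1 .nil .nil) .nil))) (.node 1 (.node 0 .nil .nil) (.node 2 (.node 2 (.node 1 .nil .nil) .nil) .nil))) (.node 2 (.node 0 .nil (.node 1 (.node 0 (.node 0 .nil (.node 2 .nil .nil)) (.node 1 .nil .nil)) (.node 2 .nil .nil))) .nil)) (.node 2 (.node 0 (.node 0 (.node 0 .nil (.node 2 .nil .nil)) (.node 2 (.node 1 (.node 0 .nil .nil) .nil) .nil)) (.node 1 (.node 1 (.node 0 .nil (.node 2 .nil .nil)) .nil) (.node 2 (.node 0 (.node 2 .nil .nil) (.node 1 (.node 0 (.node 1 .nil .nil) (.node 2 .nil .nil)) (.node 2 (.node 0 .nil .nil) .nil))) .nil))) .nil))) (.node 2 (.node 0 (.node 0 (.node 1 (.node 0 (.node 1 .nil (.node 2 .nil .nil)) (.node 2 .nil .nil)) .nil) (.node 1 (.node 0 (.node 1 (.node 0 .nil .nil) .nil) (.node 1 .nil (.node 2 .nil .nil))) (.node 2 .nil .nil))) (.node 1 (.node 0 (.node 0 (.node 0 (.node 1 .nil .nil) .nil) (.node 1 .nil (.node 2 (.node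 0 .nil (.node 2 .nil .nil)) .nil))) (.node 1 (.node 0 (.node 0 .nil (.node 2 .nil .nil)) (.node 2 (.node 1 .nil .nil) .nil)) (.node 2 (.node 0 (.node 1 .nil (.node 2 .nil .nil)) (.node 1 (.node 0 .nil (.node 1 .nil (.node 2 .nil .nil))) (.node 2 (.node 0 .nil (.node 1 (.node 1 .nil .nil) (.node 2 (.node 0 .nil (.node 2 .nil .nil)) .nil))) .nil))) .nil))) (.node 2 (.node 0 (.node 1 .nil .nil) (.node 1 (.node 0 (.node 2 .nil .nil) (.node 1 .nil (.node 2 .nil .nil))) (.node 2 (.node 1 (.node 2 (.node 0 .nil (.node 1 .nil .nil)) .nil) .nil) .nil))) .nil))) .nil))) .nil))) (.node 1 (.node 0 (.node 0 (.node 0 (.node 0 (.node 0 .nil (.node 1 .nil (.node 2 .nil .nil))) (.node 1 (.node 2 (.node 1 (.node 1 .nil .nil) .nil) .nil) (.node 2 (.node 0 (.node 1 .nil (.node 2 .nil .nil)) (.node 2 (.node 0 .nil (.node 1 (.node 2 .nil .nil) (.node 2 .nil .nil))) .nil)) .nil))) (.node 1 (.node 0 (.node 0 (.node 1 (.node 2 .nil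 .nil) (.node 2 .nil .nil)) (.node 1 (.node 0 .nil (.node 2 .nil .nil)) (.node 2 (.node 1 .nil .nil) .nil))) (.node 1 (.node 0 (.node 2 .nil .nil) .nil) (.node 2 (.node 0 .nil (.node 1 (.node 2 .nil .nil) (.node 2 (.node 0 .nil (.node 1 (.node 1 .nil .nil) (.node 2 .nil .nil))) .nil))) .nil))) (.node 2 (.node 0 (.node 0 (.node 1 (.node 2 .nil .nil) .nil) (.node 1 (.node 0 .nil .nil) .nil)) (.node 1 (.node 1 (.node 2 .nil .nil) .nil) (.node 2 (.node 0 (.node 0 .nil (.node 2 .nil .nil)) (.node 1 (.node 2 (.node 0 .nil (.node 2 .nil .nil)) .nil) (.node 2 (.node 1 .nil .nil) .nil))) .nil))) .nil))) (.node 1 (.node 0 (.node 0 (.node 0 (.node 2 .nil .nil) (.node 1 (.node 0 .nil (.node 2 (.node 1 .nil .nil) .nil)) (.node 2 .nil .nil))) (.node 2 (.node 0 (.node 1 .nil .nil) (.node 1 .nil (.node 2 (.node 1 .nil .nil) .nil))) .nil)) (.node 1 (.node 0 (.node 0 (.node 0 (.node 2 .nil .nil) (.node 2 .nil .nil)) (.node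 1 (.node 0 (.node 0 .nil .nil) (.node 2 (.node 0 .nil .nil) .nil)) (.node 2 (.node 0 .nil (.node 1 .nil .nil)) .nil))) (.node 2 (.node 0 (.node 0 .nil (.node 1 (.node 2 .nil .nil) .nil)) (.node 1 .nil (.node 2 (.node 0 (.node 1 .nil .nil) (.node 2 .nil .nil)) .nil))) .nil)) (.node 2 (.node 0 (.node 0 (.node 0 .nil (.node 1 .nil .nil)) (.node 2 (.node 1 .nil .nil) .nil)) (.node 1 (.node 0 (.node 0 (.node 2 .nil .nil) .nil) (.node 1 (.node 0 .nil (.node 2 .nil .nil)) (.node 2 (.node 1 (.node 0 .nil .nil) (.node 2 (.node 2 .nil .nil) .nil)) .nil))) (.node 2 (.node 0 (.node 1 (.node 1 .nil .nil) .nil) (.node 1 (.node 1 .nil .nil) (.node 2 (.node 1 .nil .nil) .nil))) .nil))) .nil))) (.node 2 (.node 0 (.node 0 (.node 1 .nil .nil) (.node 1 (.node 1 (.node 2 (.node 1 .nil .nil) .nil) .nil) (.node 2 (.node 0 (.node 1 .nil .nil) (.node 1 (.node 0 (.node 2 .nil .nil) (.node 2 .nil .nil)) (.node 2 .nil .nil))) .nil)))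 (.node 1 (.node 0 (.node 1 .nil (.node 2 .nil .nil)) (.node 1 (.node 0 (.node 0 .nil (.node 1 .nil (.node 2 .nil .nil))) (.node 2 (.node 1 (.node 1 .nil .nil) (.node 2 (.node 1 .nil .nil) .nil)) .nil)) (.node 2 (.node 0 (.node 1 .nil (.node 2 .nil .nil)) (.node 2 .nil .nil)) .nil))) (.node 2 (.node 1 (.node 0 (.node 0 .nil .nil) (.node 1 .nil (.node 2 (.node 0 .nil (.node 2 .nil .nil)) .nil))) (.node 2 (.node 0 (.node 1 .nil .nil) (.node 1 .nil (.node 2 .nil .nil))) .nil)) .nil))) .nil))) (.node 1 (.node 0 (.node 0 (.node 0 (.node 0 (.node 1 (.node 2 .nil .nil) .nil) (.node 1 (.node 1 .nil (.node 2 .nil .nil)) (.node 2 (.node 0 (.node 0 .nil .nil) (.node 1 .nil (.node 2 (.node 1 .nil .nil) .nil))) .nil))) (.node 1 (.node 0 (.node 1 .nil .nil) (.node 1 (.node 0 .nil .nil) (.node 2 .nil .nil))) (.node 2 (.node 0 (.node 0 (.node 0 .nil (.node 1 .nil .nil)) (.node 1 .nil (.node 2 .nil .nil))) (.node 1 (.node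 1 (.node 0 .nil .nil) .nil) (.node 2 (.node 1 .nil (.node 2 .nil .nil)) .nil))) .nil))) (.node 1 (.node 0 (.node 0 (.node 1 .nil .nil) (.node 1 .nil (.node 2 (.node 0 .nil (.node 2 (.node 1 .nil .nil) .nil)) .nil))) (.node 1 (.node 0 (.node 1 (.node 2 .nil .nil) .nil) (.node 2 (.node 1 .nil .nil) .nil)) (.node 2 (.node 0 (.node 1 (.node 2 .nil .nil) .nil) (.node 1 (.node 0 (.node 0 .nil .nil) .nil) .nil)) .nil))) (.node 2 (.node 0 (.node 0 (.node 1 (.node 1 .nil .nil) (.node 2 .nil .nil)) (.node 1 (.node 1 (.node 0 .nil .nil) .nil) (.node 2 (.node 1 .nil .nil) .nil))) (.node 1 (.node 0 (.node 1 (.node 0 .nil .nil) .nil) (.node 1 .nil (.node 2 .nil .nil))) (.node 2 (.node 1 (.node 1 .nil .nil) (.node 2 (.node 0 (.node 1 .nil .nil) (.node 1 .nil (.node 2 .nil .nil))) .nil)) .nil))) .nil))) (.node 2 (.node 0 (.node 0 (.node 1 (.node 0 .nil (.node 1 .nil (.node 2 (.node 1 .nil .nil) .nil))) (.node 2 .nil .nil))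 (.node 1 (.node 0 (.node 0 .nil (.node 1 .nil .nil)) (.node 1 .nil (.node 2 (.node 1 .nil .nil) .nil))) (.node 2 (.node 0 .nil (.node 1 (.node 0 .nil .nil) (.node 2 (.node 1 .nil .nil) .nil))) .nil))) (.node 1 (.node 0 (.node 0 (.node 1 .nil .nil) (.node 1 .nil (.node 2 (.node 0 (.node 1 .nil (.node 2 .nil .nil)) (.node 1 (.node 1 .nil .nil) (.node 2 .nil .nil))) .nil))) (.node 1 (.node 0 (.node 0 .nil (.node 1 .nil (.node 2 .nil .nil))) (.node 2 (.node 1 .nil (.node 2 .nil .nil)) .nil)) (.node 2 (.node 0 .nil (.node 1 .nil (.node 2 (.node 0 .nil (.node 1 (.node 0 .nil (.node 2 .nil .nil)) (.node 2 .nil .nil))) .nil))) .nil))) (.node 2 (.node 0 (.node 0 (.node 1 .nil .nil) (.node 1 .nil .nil)) (.node 1 (.node 1 (.node 0 (.node 0 .nil .nil) (.node 2 .nil .nil)) (.node 2 (.node 1 (.node 0 .nil .nil) .nil) .nil)) (.node 2 (.node 0 (.node 1 .nil .nil) (.node 1 (.node 1 .nil (.node 2 .nil .nil)) (.node 2 .nil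 .nil))) .nil))) .nil))) .nil)) (.node 2 (.node 0 (.node 0 (.node 0 .nil (.node 1 (.node 0 (.node 0 (.node 0 .nil (.node 2 .nil .nil)) (.node 2 (.node 0 .nil .nil) .nil)) (.node 1 .nil (.node 2 (.node 0 (.node 0 .nil .nil) (.node 2 (.node 2 .nil .nil) .nil)) .nil))) .nil)) (.node 1 (.node 1 (.node 0 (.node 0 .nil (.node 1 .nil (.node 2 (.node 1 .nil .nil) .nil))) (.node 2 .nil .nil)) .nil) (.node 2 (.node 0 .nil (.node 1 (.node 1 (.node 2 .nil .nil) .nil) (.node 2 (.node 1 .nil .nil) .nil))) .nil))) (.node 1 (.node 0 (.node 0 (.node 1 (.node 0 .nil .nil) .nil) (.node 1 .nil (.node 2 (.node 0 (.node 0 .nil (.node 2 .nil .nil)) (.node 2 .nil .nil)) .nil))) (.node 1 (.node 0 (.node 1 (.node 1 .nil .nil) .nil) (.node 2 .nil .nil)) (.node 2 (.node 0 (.node 0 (.node 0 .nil .nil) (.node 1 (.node 0 .nil (.node 1 .nil .nil)) (.node 2 (.node 0 .nil (.node 2 (.node 1 .nil .nil) .nil)) .nil))) (.node 1 (.node 1 (.node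 2 (.node 1 .nil (.node 2 .nil .nil)) .nil) .nil) (.node 2 (.node 1 (.node 0 .nil (.node 2 .nil .nil)) .nil) .nil))) .nil))) (.node 2 (.node 0 (.node 0 (.node 1 (.node 0 .nil (.node 2 .nil .nil)) .nil) (.node 1 (.node 1 (.node 0 .nil (.node 2 (.node 1 .nil .nil) .nil)) (.node 2 .nil .nil)) (.node 2 .nil .nil))) (.node 1 (.node 0 (.node 1 (.node 0 .nil (.node 2 .nil .nil)) .nil) (.node 1 (.node 0 (.node 0 .nil (.node 2 .nil .nil)) (.node 2 .nil .nil)) (.node 2 (.node 0 (.node 0 .nil (.node 1 .nil .nil)) (.node 1 (.node 0 (.node 1 .nil .nil) .nil) (.node 2 (.node 2 (.node 0 .nil .nil) .nil) .nil))) .nil))) (.node 2 (.node 0 (.node 1 .nil .nil) (.node 1 (.node 1 .nil (.node 2 (.node 0 .nil (.node 1 .nil (.node 2 .nil .nil))) .nil)) (.node 2 (.node 1 (.node 0 .nil (.node 1 .nil .nil)) .nil) .nil))) .nil))) .nil))) .nil))) (.node 2 (.node 0 (.node 0 (.node 0 (.node 1 (.node 1 (.node 2 .nil .nil) .nil) .nil) (.node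 1 (.node 0 (.node 0 (.node 0 .nil (.node 1 .nil .nil)) (.node 2 (.node 0 .nil .nil) .nil)) (.node 1 (.node 0 (.node 0 .nil .nil) .nil) (.node 2 (.node 0 .nil (.node 1 .nil (.node 2 (.node 1 .nil .nil) .nil))) .nil))) (.node 2 .nil .nil))) (.node 1 (.node 0 (.node 0 (.node 1 (.node 2 .nil .nil) (.node 2 (.node 1 .nil .nil) .nil)) (.node 1 (.node 0 (.node 1 .nil .nil) (.node 1 .nil (.node 2 .nil .nil))) (.node 2 (.node 0 (.node 0 .nil (.node 1 .nil (.node 2 .nil .nil))) (.node 1 (.node 0 .nil .nil) (.node 2 (.node 0 .nil (.node 2 .nil .nil)) .nil))) .nil))) (.node 1 (.node 0 (.node 0 (.node 1 .nil .nil) (.node 2 .nil .nil)) (.node 2 (.node 1 (.node 0 .nil (.node 2 (.node 1 .nil .nil) .nil)) .nil) .nil)) (.node 2 (.node 0 (.node 0 (.node 0 .nil (.node 2 .nil .nil)) (.node 1 (.node 0 (.node 0 .nil .nil) (.node 1 .nil (.node 2 .nil .nil))) .nil)) (.node 1 (.node 1 (.node 2 (.node 2 .nil .nil) .nil) (.node 2 (.node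 0 .nil (.node 1 .nil .nil)) .nil)) (.node 2 (.node 0 (.node 1 .nil .nil) (.node 2 (.node 0 .nil (.node 2 .nil .nil)) .nil)) .nil))) .nil))) (.node 2 (.node 0 (.node 1 (.node 0 (.node 2 .nil .nil) (.node 2 (.node 0 .nil (.node 2 .nil .nil)) .nil)) .nil) (.node 1 (.node 0 (.node 0 (.node 1 (.node 1 .nil .nil) (.node 2 (.node 1 .nil .nil) .nil)) (.node 1 .nil (.node 2 (.node 0 (.node 0 .nil (.node 1 .nil .nil)) (.node 2 .nil .nil)) .nil))) (.node 1 .nil (.node 2 (.node 0 .nil (.node 2 (.node 1 .nil (.node 2 .nil .nil)) .nil)) .nil))) (.node 2 (.node 1 (.node 0 (.node 2 .nil .nil) (.node 1 (.node 0 .nil (.node 2 .nil .nil)) (.node 2 .nil .nil))) .nil) .nil))) .nil))) (.node 1 (.node 0 (.node 0 (.node 1 (.node 0 (.node 1 (.node 1 .nil .nil) .nil) (.node 1 (.node 2 .nil .nil) .nil)) (.node 2 (.node 1 (.node 0 .nil (.node 1 .nil (.node 2 .nil .nil))) .nil) .nil)) (.node 1 (.node 0 (.node 0 (.node 0 (.node 2 .nil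 .nil) .nil) (.node 1 (.node 1 (.node 2 .nil .nil) .nil) (.node 2 (.node 0 .nil .nil) .nil))) (.node 1 (.node 0 .nil (.node 2 .nil .nil)) (.node 2 (.node 0 (.node 0 (.node 1 .nil .nil) (.node 2 .nil .nil)) (.node 2 (.node 0 .nil (.node 1 .nil .nil)) .nil)) .nil))) (.node 2 (.node 0 (.node 0 (.node 0 .nil .nil) (.node 1 (.node 0 .nil (.node 2 (.node 1 .nil .nil) .nil)) (.node 2 (.node 1 .nil .nil) .nil))) (.node 1 (.node 0 (.node 0 .nil .nil) (.node 1 (.node 0 .nil .nil) (.node 2 (.node 0 .nil (.node 2 .nil .nil)) .nil))) (.node 2 (.node 0 (.node 0 .nil (.node 2 .nil .nil)) (.node 1 (.node 0 .nil .nil) (.node 2 (.node 0 .nil (.node 1 .nil .nil)) .nil))) .nil))) .nil))) (.node 1 (.node 0 (.node 0 (.node 0 (.node 1 .nil (.node 2 .nil .nil)) (.node 1 (.node 0 (.node 1 .nil .nil) (.node 2 .nil .nil)) (.node 2 (.node 0 .nil (.node 1 (.node 1 .nil .nil) (.node 2 (.node 0 .nil .nil) .nil))) .nil))) (.node 1 (.node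 0 .nil (.node 1 (.node 2 .nil .nil) (.node 2 .nil .nil))) (.node 2 (.node 0 .nil (.node 2 (.node 2 .nil .nil) .nil)) .nil))) (.node 2 (.node 0 (.node 0 (.node 2 .nil .nil) (.node 1 (.node 0 .nil (.node 2 .nil .nil)) (.node 2 (.node 0 .nil (.node 2 .nil .nil)) .nil))) (.node 1 (.node 0 (.node 0 .nil (.node 1 .nil .nil)) (.node 1 (.node 0 .nil .nil) (.node 2 (.node 1 .nil .nil) .nil))) (.node 2 (.node 0 (.node 0 .nil (.node 2 .nil .nil)) (.node 2 (.node 0 .nil (.node 1 (.node 1 .nil .nil) .nil)) .nil)) .nil))) .nil)) (.node 2 (.node 0 (.node 0 (.node 0 .nil (.node 2 .nil .nil)) (.node 2 (.node 0 .nil (.node 1 .nil (.node 2 .nil .nil))) .nil)) (.node 1 (.node 0 (.node 0 (.node 0 .nil (.node 1 .nil .nil)) (.node 1 (.node 0 (.node 1 .nil .nil) (.node 2 .nil .nil)) .nil)) (.node 1 (.node 0 (.node 2 .nil .nil) (.node 2 (.node 2 .nil .nil) .nil)) (.node 2 (.node 1 .nil (.node 2 (.node 0 (.node 0 .nil .nil) (.node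 2 .nil .nil)) .nil)) .nil))) (.node 2 (.node 0 (.node 0 .nil (.node 1 (.node 0 .nil (.node 2 .nil .nil)) (.node 2 (.node 1 .nil .nil) .nil))) (.node 1 (.node 0 .nil (.node 1 (.node 0 .nil (.node 2 .nil .nil)) (.node 2 .nil .nil))) (.node 2 (.node 1 (.node 0 .nil (.node 2 .nil .nil)) .nil) .nil))) .nil))) .nil))) (.node 2 (.node 0 (.node 0 (.node 1 (.node 0 (.node 0 .nil (.node 2 .nil .nil)) (.node 2 .nil .nil)) .nil) (.node 1 (.node 0 (.node 0 .nil (.node 1 (.node 1 .nil (.node 2 .nil .nil)) (.node 2 (.node 0 .nil (.node 2 .nil .nil)) .nil))) (.node 2 .nil .nil)) .nil)) (.node 1 (.node 0 (.node 0 (.node 0 .nil (.node 2 (.node 0 .nil (.node 1 .nil .nil)) .nil)) (.node 1 (.node 0 (.node 0 .nil .nil) (.node 1 (.node 0 .nil (.node 2 .nil .nil)) (.node 2 (.node 0 .nil (.node 2 .nil .nil)) .nil))) (.node 2 (.node 0 (.node 0 .nil (.node 1 (.node 1 .nil .nil) (.node 2 .nil .nil))) (.node 1 (.node 0 .nil (.node 2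 .nil .nil)) (.node 2 (.node 2 .nil .nil) .nil))) .nil))) (.node 1 (.node 0 (.node 0 (.node 0 .nil (.node 1 (.node 1 .nil .nil) (.node 2 .nil .nil))) (.node 2 (.node 2 .nil .nil) .nil)) (.node 2 (.node 0 (.node 0 .nil (.node 1 .nil (.node 2 .nil .nil))) (.node 1 (.node 0 .nil (.node 1 .nil (.node 2 .nil .nil))) .nil)) .nil)) (.node 2 (.node 1 (.node 0 .nil (.node 1 .nil (.node 2 (.node 1 .nil (.node 2 .nil .nil)) .nil))) .nil) .nil))) (.node 2 (.node 0 (.node 1 (.node 0 (.node 0 .nil (.node 2 .nil .nil)) (.node 1 (.node 0 .nil .nil) (.node 2 (.node 0 .nil .nil) .nil))) .nil) (.node 1 (.node 1 .nil (.node 2 (.node 0 (.node 0 .nil .nil) (.node 2 (.node 0 .nil (.node 1 .nil (.node 2 (.node 1 .nil .nil) .nil))) .nil)) .nil)) (.node 2 .nil .nil))) .nil))) .nil))) .nil))) (.node 1 (.node 0 (.node 0 (.node 0 (.node 0 (.node 0 .nil (.node 1 (.node 0 (.node 0 .nil (.node 2 .nil .nil)) (.node 1 (.node 0 (.node 0 .nil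 .nil) (.node 2 .nil .nil)) (.node 2 (.node 1 .nil .nil) .nil))) (.node 2 (.node 1 .nil .nil) .nil))) (.node 1 (.node 0 (.node 0 (.node 0 .nil (.node 1 .nil (.node 2 .nil .nil))) (.node 1 (.node 0 .nil (.node 2 .nil .nil)) .nil)) (.node 1 (.node 0 .nil (.node 2 .nil .nil)) (.node 2 (.node 0 (.node 0 .nil .nil) (.node 2 (.node 0 .nil (.node 1 (.node 0 .nil .nil) .nil)) .nil)) .nil))) (.node 2 (.node 0 (.node 1 (.node 0 .nil .nil) .nil) (.node 1 (.node 0 (.node 1 .nil (.node 2 (.node 1 .nil .nil) .nil)) (.node 1 (.node 0 .nil (.node 2 (.node 0 .nil .nil) .nil)) (.node 2 .nil .nil))) (.node 2 (.node 1 (.node 2 .nil .nil) .nil) .nil))) .nil))) (.node 1 (.node 0 (.node 0 (.node 0 (.node 0 .nil (.node 2 .nil .nil)) (.node 2 (.node 1 .nil .nil) .nil)) (.node 1 (.node 0 (.node 0 .nil (.node 2 .nil .nil)) (.node 1 (.node 2 (.node 0 .nil .nil) .nil) (.node 2 (.node 0 .nil (.node 1 .nil .nil)) .nil))) (.node 2 (.node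 0 .nil (.node 1 .nil (.node 2 (.node 0 .nil .nil) .nil))) .nil))) (.node 1 (.node 0 (.node 0 (.node 1 .nil .nil) .nil) (.node 2 (.node 0 .nil (.node 2 .nil .nil)) .nil)) (.node 2 (.node 0 (.node 1 .nil .nil) (.node 1 (.node 0 (.node 2 .nil .nil) (.node 1 .nil .nil)) (.node 2 (.node 1 (.node 1 (.node 2 .nil .nil) .nil) .nil) .nil))) .nil))) (.node 2 (.node 0 (.node 0 (.node 1 (.node 1 .nil .nil) .nil) (.node 1 (.node 1 .nil .nil) (.node 2 (.node 0 .nil (.node 2 .nil .nil)) .nil))) (.node 1 (.node 0 (.node 1 .nil (.node 2 (.node 0 .nil (.node 2 (.node 1 .nil .nil) .nil)) .nil)) (.node 1 (.node 0 (.node 0 .nil (.node 1 .nil .nil)) (.node 2 (.node 0 .nil (.node 2 .nil .nil)) .nil)) (.node 2 (.node 0 (.node 0 .nil (.node 1 .nil (.node 2 (.node 1 .nil .nil) .nil))) (.node 1 (.node 0 .nil (.node 1 .nil (.node 2 .nil .nil))) .nil)) .nil))) (.node 2 (.node 0 (.node 1 (.node 2 .nil .nil) .nil) (.node 1 (.node 0 (.node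 0 .nil (.node 1 .nil .nil)) (.node 1 .nil (.node 2 .nil .nil))) (.node 2 .nil .nil))) .nil))) .nil))) (.node 1 (.node 0 (.node 0 (.node 1 (.node 0 (.node 1 (.node 1 .nil .nil) .nil) (.node 1 (.node 2 .nil .nil) (.node 2 .nil .nil))) (.node 2 (.node 0 (.node 0 (.node 0 .nil .nil) (.node 2 .nil .nil)) .nil) .nil)) (.node 1 (.node 0 (.node 0 (.node 0 .nil .nil) (.node 1 (.node 2 .nil .nil) .nil)) (.node 1 (.node 0 (.node 2 .nil .nil) (.node 2 .nil .nil)) (.node 2 (.node 0 .nil (.node 1 .nil (.node 2 (.node 0 .nil (.node 1 .nil .nil)) .nil))) .nil))) (.node 2 (.node 0 (.node 0 (.node 0 .nil (.node 2 .nil .nil)) (.node 1 .nil (.node 2 (.node 0 .nil (.node 2 .nil .nil)) .nil))) (.node 1 (.node 0 (.node 1 .nil .nil) (.node 1 .nil .nil)) (.node 2 (.node 0 .nil (.node 1 (.node 0 (.node 2 .nil .nil) (.node 2 .nil .nil)) (.node 2 (.node 1 (.node 2 .nil .nil) .nil) .nil))) .nil))) .nil))) (.node 1 (.node 0 (.node 0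 (.node 0 (.node 0 .nil .nil) (.node 1 (.node 1 .nil .nil) (.node 2 (.node 1 .nil (.node 2 (.node 1 .nil .nil) .nil)) .nil))) (.node 1 (.node 0 (.node 0 .nil .nil) (.node 1 (.node 0 .nil (.node 2 (.node 2 .nil .nil) .nil)) (.node 2 (.node 0 .nil (.node 2 (.node 2 .nil .nil) .nil)) .nil))) (.node 2 (.node 2 (.node 0 .nil .nil) .nil) .nil))) (.node 2 (.node 0 (.node 1 (.node 0 .nil (.node 1 .nil .nil)) .nil) (.node 1 (.node 0 (.node 0 .nil .nil) (.node 2 (.node 1 (.node 0 .nil (.node 1 .nil .nil)) (.node 2 .nil .nil)) .nil)) (.node 2 (.node 1 (.node 0 .nil (.node 1 .nil (.node 2 (.node 1 .nil .nil) .nil))) .nil) .nil))) .nil)) (.node 2 (.node 0 (.node 0 (.node 0 (.node 1 .nil .nil) (.node 1 (.node 2 .nil .nil) (.node 2 (.node 1 (.node 0 .nil .nil) .nil) .nil))) (.node 1 (.node 0 (.node 0 .nil (.node 2 .nil .nil)) (.node 1 .nil (.node 2 (.node 0 .nil (.node 2 .nil .nil)) .nil))) (.node 2 (.node 1 .nil .nil)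 .nil))) (.node 1 (.node 0 (.node 0 .nil (.node 1 (.node 1 .nil .nil) (.node 2 (.node 0 .nil .nil) .nil))) (.node 1 (.node 2 (.node 0 (.node 1 .nil .nil) .nil) .nil) .nil)) (.node 2 (.node 1 (.node 1 .nil .nil) (.node 2 (.node 0 .nil (.node 1 .nil (.node 2 .nil .nil))) .nil)) .nil))) .nil))) (.node 2 (.node 0 (.node 0 (.node 0 (.node 1 (.node 1 .nil .nil) .nil) (.node 1 (.node 1 .nil .nil) (.node 2 .nil .nil))) (.node 1 (.node 0 .nil (.node 1 (.node 0 .nil (.node 2 .nil .nil)) (.node 2 (.node 1 .nil .nil) .nil))) (.node 2 (.node 1 .nil (.node 2 .nil .nil)) .nil))) (.node 1 (.node 0 (.node 0 (.node 1 (.node 1 .nil .nil) .nil) (.node 1 (.node 0 .nil (.node 1 (.node 0 .nil .nil) (.node 2 (.node 1 .nil .nil) .nil))) (.node 2 (.node 0 .nil (.node 1 (.node 0 .nil .nil) (.node 2 (.node 0 .nil (.node 1 .nil (.node 2 .nil .nil))) .nil))) .nil))) (.node 1 (.node 0 (.node 0 .nil (.node 1 (.node 0 .nil .nil) (.node 2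 .nil .nil))) (.node 2 (.node 0 .nil (.node 1 (.node 0 .nil .nil) (.node 2 .nil .nil))) .nil)) (.node 2 (.node 0 (.node 0 (.node 1 .nil (.node 2 .nil .nil)) (.node 1 .nil .nil)) (.node 1 (.node 0 .nil (.node 1 (.node 0 .nil .nil) (.node 2 .nil .nil))) (.node 2 (.node 0 .nil .nil) .nil))) .nil))) (.node 2 (.node 0 (.node 1 (.node 0 (.node 1 .nil .nil) (.node 1 (.node 2 .nil .nil) (.node 2 (.node 1 .nil .nil) .nil))) .nil) (.node 1 (.node 0 (.node 1 (.node 1 .nil .nil) (.node 2 (.node 0 .nil (.node 2 .nil .nil)) .nil)) (.node 1 (.node 0 (.node 1 (.node 2 .nil .nil) .nil) (.node 2 (.node 1 .nil .nil) .nil)) (.node 2 (.node 1 (.node 1 (.node 0 .nil .nil) .nil) .nil) .nil))) (.node 2 .nil .nil))) .nil))) .nil))) (.node 1 (.node 0 (.node 0 (.node 0 (.node 0 (.node 0 .nil (.node 1 (.node 2 .nil .nil) (.node 2 .nil .nil))) (.node 1 (.node 0 .nil (.node 2 (.node 2 .nil .nil) .nil)) (.node 2 (.node 0 .nil (.node 2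 .nil .nil)) .nil))) (.node 1 (.node 0 (.node 0 .nil (.node 1 (.node 1 (.node 0 .nil .nil) .nil) .nil)) (.node 1 .nil (.node 2 (.node 0 .nil (.node 2 .nil .nil)) .nil))) (.node 2 (.node 0 (.node 1 .nil (.node 2 (.node 0 .nil (.node 1 .nil .nil)) .nil)) (.node 1 (.node 0 (.node 1 .nil .nil) (.node 1 .nil (.node 2 .nil .nil))) (.node 2 (.node 0 (.node 1 .nil .nil) (.node 1 (.node 1 .nil (.node 2 .nil .nil)) .nil)) .nil))) .nil))) (.node 1 (.node 1 (.node 0 (.node 0 .nil (.node 1 .nil (.node 2 (.node 1 .nil (.node 2 .nil .nil)) .nil))) (.node 2 .nil .nil)) .nil) (.node 2 (.node 0 (.node 0 (.node 0 .nil .nil) (.node 1 (.node 1 .nil .nil) .nil)) (.node 1 (.node 1 (.node 0 (.node 0 .nil (.node 1 .nil (.node 2 (.node 1 .nil .nil) .nil))) (.node 2 (.node 0 .nil (.node 1 .nil (.node 2 .nil .nil))) .nil)) .nil) .nil)) .nil))) (.node 2 (.node 0 (.node 0 (.node 1 (.node 0 (.node 0 .nil .nil) (.node 1 .nil (.node 2 (.node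 1 .nil .nil) .nil))) (.node 2 (.node 1 (.node 0 .nil (.node 2 .nil .nil)) .nil) .nil)) (.node 1 (.node 0 (.node 0 .nil (.node 1 (.node 1 .nil .nil) (.node 2 (.node 0 .nil (.node 1 (.node 0 .nil (.node 2 .nil .nil)) (.node 2 .nil .nil))) .nil))) (.node 1 (.node 0 (.node 1 .nil .nil) .nil) (.node 2 (.node 2 (.node 0 (.node 1 .nil .nil) (.node 2 .nil .nil)) .nil) .nil))) (.node 2 (.node 1 (.node 1 .nil .nil) (.node 2 .nil .nil)) .nil))) (.node 1 (.node 0 (.node 0 (.node 0 (.node 0 .nil (.node 1 .nil .nil)) (.node 2 (.node 0 .nil .nil) .nil)) (.node 1 (.node 0 (.node 0 .nil (.node 2 .nil .nil)) (.node 2 (.node 1 .nil .nil) .nil)) (.node 2 (.node 0 .nil (.node 1 .nil (.node 2 .nil .nil))) .nil))) (.node 1 (.node 0 (.node 0 (.node 1 .nil .nil) (.node 1 .nil (.node 2 (.node 1 .nil .nil) .nil))) (.node 2 (.node 0 (.node 1 .nil .nil) (.node 1 .nil (.node 2 .nil .nil))) .nil)) (.node 2 (.node 0 (.node 2 (.node 0 .nil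 (.node 2 .nil .nil)) .nil) (.node 1 (.node 1 .nil .nil) .nil)) .nil))) (.node 2 (.node 0 (.node 0 (.node 1 .nil .nil) (.node 1 (.node 0 (.node 2 .nil .nil) (.node 1 (.node 0 .nil (.node 2 .nil .nil)) (.node 2 (.node 0 .nil (.node 2 .nil .nil)) .nil))) (.node 2 .nil .nil))) (.node 1 (.node 0 (.node 1 .nil (.node 2 .nil .nil)) (.node 1 (.node 0 (.node 0 .nil .nil) (.node 2 (.node 1 .nil .nil) .nil)) (.node 2 (.node 0 (.node 1 .nil .nil) (.node 1 (.node 1 .nil .nil) .nil)) .nil))) (.node 2 (.node 0 (.node 1 (.node 2 (.node 1 .nil .nil) .nil) .nil) (.node 1 (.node 0 (.node 0 .nil .nil) (.node 1 (.node 0 .nil .nil) (.node 2 .nil .nil))) (.node 2 .nil .nil))) .nil))) .nil))) .nil)) (.node 2 (.node 0 (.node 0 (.node 0 (.node 1 (.node 0 .nil (.node 1 .nil (.node 2 .nil .nil))) .nil) (.node 1 (.node 1 (.node 0 (.node 0 .nil .nil) (.node 2 (.node 1 (.node 1 .nil .nil) (.node 2 .nil .nil)) .nil)) (.node 2 (.node 0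 (.node 1 .nil .nil) (.node 1 (.node 1 .nil .nil) (.node 2 (.node 1 .nil .nil) .nil))) .nil)) (.node 2 (.node 1 (.node 2 (.node 2 .nil .nil) .nil) .nil) .nil))) (.node 1 (.node 0 (.node 0 (.node 1 .nil .nil) (.node 1 (.node 1 (.node 2 .nil .nil) .nil) (.node 2 (.node 0 (.node 0 .nil (.node 2 .nil .nil)) (.node 1 (.node 1 .nil .nil) (.node 2 .nil .nil))) .nil))) (.node 1 (.node 2 (.node 0 (.node 0 .nil (.node 1 (.node 0 .nil .nil) (.node 2 .nil .nil))) (.node 1 .nil (.node 2 (.node 0 .nil .nil) .nil))) .nil) (.node 2 (.node 0 (.node 0 (.node 1 (.node 2 .nil .nil) .nil) .nil) (.node 2 (.node 0 .nil (.node 2 (.node 0 (.node 1 .nil .nil) .nil) .nil)) .nil)) .nil))) .nil)) (.node 1 (.node 0 (.node 0 (.node 1 (.node 1 (.node 0 (.node 2 .nil .nil) (.node 2 .nil .nil)) .nil) .nil) (.node 1 (.node 0 .nil (.node 1 .nil (.node 2 (.node 0 .nil (.node 1 (.node 1 .nil .nil) .nil)) .nil))) (.node 2 (.node 1 (.node 0 .nil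 (.node 2 .nil .nil)) .nil) .nil))) (.node 1 (.node 0 (.node 0 .nil (.node 1 (.node 1 .nil .nil) .nil)) (.node 2 (.node 0 (.node 0 (.node 0 .nil .nil) .nil) (.node 1 (.node 1 (.node 0 .nil (.node 2 .nil .nil)) (.node 2 (.node 1 .nil (.node 2 (.node 1 .nil .nil) .nil)) .nil)) (.node 2 .nil .nil))) .nil)) (.node 2 (.node 0 .nil (.node 1 (.node 0 (.node 0 (.node 1 .nil .nil) (.node 2 .nil .nil)) (.node 2 (.node 0 .nil (.node 1 .nil (.node 2 (.node 1 .nil .nil) .nil))) .nil)) (.node 2 (.node 1 (.node 1 (.node 2 .nil .nil) (.node 2 (.node 2 .nil .nil) .nil)) .nil) .nil))) .nil))) (.node 2 (.node 0 (.node 0 (.node 1 (.node 0 (.node 1 .nil .nil) (.node 2 (.node 0 .nil (.node 1 .nil .nil)) .nil)) .nil) (.node 1 (.node 2 (.node 2 .nil .nil) .nil) (.node 2 (.node 1 (.node 0 (.node 1 .nil (.node 2 .nil .nil)) (.node 1 .nil (.node 2 .nil .nil))) .nil) .nil))) (.node 1 (.node 0 (.node 0 .nil (.node 2 (.node 0 (.node 0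 (.node 1 .nil .nil) (.node 1 .nil .nil)) (.node 1 .nil (.node 2 .nil .nil))) .nil)) (.node 1 (.node 0 (.node 0 (.node 0 .nil (.node 2 .nil .nil)) (.node 2 .nil .nil)) .nil) (.node 2 (.node 0 (.node 1 .nil .nil) (.node 1 (.node 0 (.node 0 .nil .nil) (.node 1 (.node 0 .nil .nil) (.node 2 .nil .nil))) (.node 2 (.node 1 .nil .nil) .nil))) .nil))) (.node 2 (.node 0 (.node 1 (.node 0 (.node 0 .nil (.node 2 (.node 1 .nil .nil) .nil)) (.node 2 .nil .nil)) .nil) (.node 1 (.node 0 (.node 0 (.node 1 .nil .nil) (.node 2 .nil .nil)) (.node 1 (.node 0 (.node 2 .nil .nil) (.node 2 (.node 1 (.node 2 .nil .nil) .nil) .nil)) (.node 2 (.node 2 .nil .nil) .nil))) (.node 2 (.node 1 (.node 0 (.node 0 .nil .nil) (.node 1 (.node 0 .nil (.node 2 .nil .nil)) (.node 2 (.node 0 (.node 0 .nil (.node 2 .nil .nil)) .nil) .nil))) .nil) .nil))) .nil))) .nil))) .nil))) (.node 2 (.node 0 (.node 0 (.node 0 (.node 1 (.node 0 .nil (.node 1 (.node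 0 (.node 0 .nil .nil) (.node 2 (.node 0 .nil .nil) .nil)) (.node 2 (.node 1 .nil .nil) .nil))) .nil) (.node 1 (.node 0 (.node 0 (.node 1 .nil .nil) (.node 1 (.node 0 .nil (.node 1 (.node 2 .nil .nil) (.node 2 .nil .nil))) (.node 2 (.node 2 (.node 2 .nil .nil) .nil) .nil))) (.node 1 (.node 0 (.node 0 .nil (.node 1 .nil (.node 2 (.node 1 .nil .nil) .nil))) (.node 2 (.node 0 (.node 0 (.node 2 .nil .nil) (.node 1 .nil (.node 2 .nil .nil))) (.node 1 (.node 1 .nil .nil) (.node 2 .nil .nil))) .nil)) (.node 2 (.node 0 (.node 0 (.node 1 .nil .nil) (.node 1 .nil (.node 2 .nil .nil))) (.node 1 (.node 0 (.node 1 .nil (.node 2 .nil .nil)) (.node 1 .nil (.node 2 (.node 0 .nil (.node 1 .nil .nil)) .nil))) .nil)) .nil))) (.node 2 (.node 1 (.node 0 (.node 0 (.node 1 .nil .nil) (.node 1 (.node 1 .nil .nil) (.node 2 .nil .nil))) (.node 1 .nil (.node 2 (.node 0 .nil (.node 2 (.node 0 .nil .nil) .nil)) .nil))) .nil) .nil)))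 (.node 1 (.node 0 (.node 0 (.node 0 (.node 0 .nil (.node 1 .nil .nil)) (.node 1 (.node 0 .nil (.node 1 .nil (.node 2 .nil .nil))) (.node 2 (.node 1 .nil .nil) .nil))) (.node 1 (.node 0 .nil (.node 1 .nil (.node 2 (.node 1 .nil (.node 2 (.node 1 .nil .nil) .nil)) .nil))) (.node 2 (.node 0 (.node 0 (.node 0 .nil (.node 1 .nil (.node 2 .nil .nil))) (.node 1 .nil (.node 2 (.node 2 .nil .nil) .nil))) (.node 1 (.node 1 (.node 0 .nil .nil) (.node 2 (.node 1 .nil (.node 2 .nil .nil)) .nil)) (.node 2 (.node 0 (.node 2 .nil .nil) (.node 2 (.node 1 .nil .nil) .nil)) .nil))) .nil))) (.node 1 (.node 0 (.node 0 (.node 1 (.node 1 .nil .nil) .nil) (.node 1 (.node 1 (.node 0 .nil .nil) .nil) (.node 2 (.node 0 .nil (.node 1 .nil (.node 2 .nil .nil))) .nil))) (.node 2 (.node 0 (.node 0 .nil (.node 1 (.node 1 .nil .nil) (.node 2 .nil .nil))) (.node 2 (.node 2 .nil .nil) .nil)) .nil)) (.node 2 (.node 0 (.node 0 (.node 0 .nil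 (.node 2 .nil .nil)) (.node 1 (.node 0 (.node 0 .nil (.node 2 .nil .nil)) (.node 1 .nil .nil)) (.node 2 (.node 0 (.node 1 .nil .nil) (.node 1 (.node 2 .nil .nil) (.node 2 .nil .nil))) .nil))) (.node 1 (.node 0 (.node 1 (.node 0 .nil (.node 2 .nil .nil)) .nil) (.node 1 (.node 2 .nil .nil) (.node 2 (.node 0 .nil (.node 1 (.node 0 .nil (.node 1 .nil (.node 2 .nil .nil))) (.node 2 .nil .nil))) .nil))) (.node 2 (.node 0 (.node 1 (.node 0 .nil .nil) .nil) (.node 1 (.node 0 .nil (.node 2 .nil .nil)) (.node 2 (.node 2 .nil .nil) .nil))) .nil))) .nil))) (.node 2 (.node 0 (.node 1 (.node 1 .nil .nil) .nil) (.node 1 (.node 0 (.node 0 (.node 0 (.node 0 .nil .nil) (.node 1 (.node 1 .nil .nil) (.node 2 .nil .nil))) (.node 1 (.node 0 .nil (.node 1 .nil (.node 2 .nil .nil))) (.node 2 (.node 0 (.node 1 .nil .nil) (.node 1 .nil (.node 2 .nil .nil))) .nil))) (.node 1 .nil (.node 2 (.node 0 (.node 0 (.node 0 .nil .nil) .nil)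 (.node 1 .nil .nil)) .nil))) (.node 2 (.node 1 (.node 0 (.node 0 .nil .nil) (.node 1 (.node 0 .nil (.node 2 (.node 1 .nil .nil) .nil)) .nil)) .nil) .nil))) .nil))) (.node 1 (.node 0 (.node 0 (.node 0 (.node 0 (.node 0 .nil (.node 1 (.node 0 .nil .nil) (.node 2 (.node 0 (.node 1 .nil .nil) (.node 2 .nil .nil)) .nil))) (.node 1 (.node 0 (.node 0 .nil (.node 2 .nil .nil)) (.node 2 (.node 0 .nil (.node 2 .nil .nil)) .nil)) (.node 2 (.node 0 .nil (.node 2 (.node 1 .nil .nil) .nil)) .nil))) (.node 1 (.node 0 .nil (.node 1 (.node 2 .nil .nil) (.node 2 (.node 1 .nil (.node 2 .nil .nil)) .nil))) (.node 2 (.node 0 (.node 0 (.node 0 (.node 1 .nil .nil) .nil) (.node 2 (.node 1 .nil .nil) .nil)) (.node 1 (.node 0 .nil .nil) (.node 2 (.node 0 .nil (.node 1 (.node 2 .nil .nil) (.node 2 (.node 2 .nil .nil) .nil))) .nil))) .nil))) (.node 1 (.node 0 (.node 0 (.node 0 .nil (.node 1 (.node 0 .nil .nil) .nil)) (.node 1 (.node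 2 .nil .nil) (.node 2 (.node 0 (.node 2 .nil .nil) (.node 2 .nil .nil)) .nil))) (.node 2 (.node 0 (.node 0 (.node 0 .nil .nil) (.node 1 (.node 1 .nil .nil) .nil)) (.node 1 (.node 1 (.node 2 .nil .nil) .nil) (.node 2 (.node 0 (.node 2 .nil .nil) (.node 1 .nil .nil)) .nil))) .nil)) (.node 2 (.node 0 (.node 0 (.node 2 .nil .nil) (.node 1 (.node 0 .nil (.node 2 .nil .nil)) (.node 2 (.node 0 (.node 1 .nil .nil) (.node 1 .nil .nil)) .nil))) (.node 1 (.node 0 (.node 0 .nil (.node 1 (.node 1 .nil .nil) (.node 2 .nil .nil))) (.node 2 (.node 0 .nil (.node 2 .nil .nil)) .nil)) (.node 2 (.node 0 (.node 0 .nil (.node 2 .nil .nil)) (.node 1 .nil (.node 2 (.node 1 (.node 0 .nil .nil) .nil) .nil))) .nil))) .nil))) (.node 1 (.node 0 (.node 0 (.node 0 (.node 1 .nil .nil) (.node 1 (.node 0 .nil (.node 1 .nil (.node 2 .nil .nil))) (.node 2 (.node 0 .nil (.node 1 .nil (.node 2 .nil .nil))) .nil))) (.node 1 (.node 0 (.node 1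 (.node 1 .nil .nil) .nil) (.node 1 .nil .nil)) (.node 2 (.node 0 (.node 0 .nil (.node 2 (.node 1 .nil .nil) .nil)) (.node 1 (.node 1 .nil .nil) (.node 2 (.node 0 .nil (.node 1 .nil .nil)) .nil))) .nil))) (.node 2 (.node 0 (.node 0 (.node 1 .nil .nil) (.node 1 (.node 0 .nil (.node 2 (.node 0 .nil .nil) .nil)) (.node 2 .nil .nil))) (.node 1 (.node 1 (.node 0 (.node 1 .nil .nil) (.node 2 (.node 2 .nil .nil) .nil)) .nil) (.node 2 (.node 0 (.node 1 (.node 1 .nil .nil) .nil) (.node 1 (.node 1 .nil .nil) .nil)) .nil))) .nil)) (.node 2 (.node 0 (.node 0 (.node 0 .nil (.node 1 (.node 2 (.node 1 .nil .nil) .nil) (.node 2 (.node 1 .nil .nil) .nil))) (.node 1 (.node 0 (.node 1 (.node 2 .nil .nil) .nil) (.node 1 (.node 2 (.node 2 .nil .nil) .nil) (.node 2 (.node 0 .nil (.node 2 .nil .nil)) .nil))) (.node 2 (.node 0 (.node 1 (.node 1 .nil .nil) .nil) (.node 1 (.node 1 .nil .nil) (.node 2 (.node 1 (.node 0 .nil .nil) .nil)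 .nil))) .nil))) (.node 1 (.node 0 (.node 0 .nil .nil) (.node 1 (.node 0 (.node 0 (.node 0 .nil .nil) (.node 1 .nil (.node 2 .nil .nil))) (.node 2 (.node 0 .nil (.node 1 (.node 1 .nil .nil) (.node 2 (.node 0 .nil (.node 2 .nil .nil)) .nil))) .nil)) (.node 2 (.node 0 (.node 2 (.node 0 .nil (.node 2 .nil .nil)) .nil) (.node 1 (.node 0 .nil (.node 1 .nil (.node 2 (.node 1 .nil .nil) .nil))) (.node 2 (.node 0 (.node 0 .nil (.node 1 .nil (.node 2 .nil .nil))) (.node 1 (.node 0 .nil .nil) (.node 2 (.node 0 .nil (.node 2 .nil .nil)) .nil))) .nil))) .nil))) (.node 2 (.node 0 (.node 0 (.node 1 .nil .nil) (.node 1 (.node 0 (.node 2 .nil .nil) (.node 2 .nil .nil)) (.node 2 (.node 1 (.node 1 .nil .nil) .nil) .nil))) (.node 1 (.node 0 (.node 1 (.node 0 .nil .nil) .nil) (.node 1 (.node 0 (.node 0 .nil (.node 2 .nil .nil)) (.node 2 (.node 1 .nil .nil) .nil)) (.node 2 .nil .nil))) (.node 2 (.node 0 (.node 1 .nil .nil) (.node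 1 (.node 0 .nil (.node 1 (.node 2 .nil .nil) .nil)) (.node 2 .nil .nil))) .nil))) .nil))) .nil))) (.node 2 (.node 0 (.node 0 (.node 1 (.node 0 (.node 0 .nil .nil) (.node 1 (.node 0 (.node 0 .nil (.node 2 .nil .nil)) (.node 2 (.node 2 .nil .nil) .nil)) (.node 2 (.node 0 .nil .nil) .nil))) .nil) (.node 1 (.node 0 (.node 0 (.node 0 .nil (.node 2 .nil .nil)) (.node 2 (.node 1 (.node 0 .nil .nil) (.node 2 (.node 0 .nil (.node 2 .nil .nil)) .nil)) .nil)) (.node 1 (.node 0 (.node 0 .nil (.node 1 .nil (.node 2 (.node 2 .nil .nil) .nil))) (.node 2 (.node 0 .nil (.node 2 .nil .nil)) .nil)) (.node 2 (.node 0 (.node 0 (.node 1 .nil (.node 2 .nil .nil)) (.node 2 .nil .nil)) (.node 1 .nil (.node 2 (.node 0 .nil (.node 1 (.node 0 .nil (.node 1 .nil (.node 2 .nil .nil))) (.node 2 .nil .nil))) .nil))) .nil))) (.node 2 (.node 1 (.node 1 .nil (.node 2 (.node 1 (.node 0 .nil .nil) .nil) .nil)) .nil) .nil))) (.node 1 (.node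 1 (.node 0 (.node 0 (.node 0 .nil (.node 1 (.node 0 .nil (.node 1 .nil .nil)) (.node 2 (.node 2 (.node 1 .nil .nil) .nil) .nil))) (.node 1 (.node 2 .nil .nil) (.node 2 (.node 0 .nil (.node 1 (.node 0 .nil .nil) (.node 2 .nil .nil))) .nil))) (.node 2 (.node 0 (.node 0 .nil (.node 1 (.node 1 .nil .nil) .nil)) (.node 1 (.node 0 .nil (.node 2 (.node 1 .nil .nil) .nil)) .nil)) .nil)) .nil) (.node 2 (.node 0 (.node 1 (.node 0 .nil (.node 1 .nil .nil)) .nil) (.node 1 (.node 0 (.node 0 (.node 0 (.node 0 .nil .nil) .nil) (.node 1 .nil (.node 2 (.node 0 .nil (.node 2 (.node 1 .nil .nil) .nil)) .nil))) (.node 2 (.node 0 (.node 0 .nil (.node 1 .nil .nil)) (.node 1 (.node 2 (.node 2 .nil .nil) .nil) .nil)) .nil)) (.node 2 (.node 1 (.node 0 (.node 1 .nil (.node 2 .nil .nil)) (.node 1 (.node 0 .nil (.node 2 .nil .nil)) (.node 2 (.node 0 .nil (.node 1 (.node 1 .nil .nil) (.node 2 (.node 2 (.node 1 .nil .nil) .nil) .nil)))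 .nil))) .nil) .nil))) .nil))) .nil))) .nil)))

/-- Orbit certificate. -/
def triSelf4 : M24Orbits.Part := (triSelf4T, [10558, 902657, 15864000], 72, 2688)

set_option maxRecDepth 20000 in
/-- Orbit forest. -/
def dodSelf0T : OrbTree := .nil

/-- Orbit certificate. -/
def dodSelf0 : M24Orbits.Part := (dodSelf0T, [340831, 16436384], 288, 1)

set_option maxRecDepth 20000 in
/-- Orbit forest. -/
def dodSelf1T : OrbTree := (.node 0 (.node 0 (.node 0 (.node 0 (.node 0 (.node 0 .nil (.node 1 .nil .nil)) (.node 1 (.node 0 (.node 0 .nil .nil) (.node 1 (.node 0 .nil .nil) (.node 2 .nil .nil))) (.node 2 (.node 0 .nil .nil) .nil))) (.node 1 (.node 1 (.node 0 .nil .nil) (.node 2 (.node 1 .nil (.node 2 (.node 1 .nil .nil) .nil)) .nil)) (.node 2 (.node 0 (.node 0 .nil .nil) (.node 1 (.node 1 .nil .nil) (.node 2 (.node 1 .nil .nil) .nil))) .nil))) (.node 1 (.node 0 (.node 0 (.node 1 .nil .nil) (.node 1 (.node 1 (.node 0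 .nil .nil) (.node 2 .nil .nil)) (.node 2 (.node 1 (.node 1 .nil .nil) (.node 2 .nil .nil)) .nil))) (.node 1 (.node 2 (.node 0 .nil (.node 2 .nil .nil)) .nil) (.node 2 (.node 0 (.node 1 (.node 0 .nil .nil) (.node 2 (.node 1 .nil .nil) .nil)) (.node 1 (.node 0 .nil (.node 1 (.node 0 .nil .nil) .nil)) (.node 2 (.node 1 .nil (.node 2 .nil .nil)) .nil))) .nil))) (.node 2 (.node 0 (.node 0 (.node 0 .nil (.node 1 .nil (.node 2 (.node 0 .nil .nil) .nil))) (.node 1 (.node 0 (.node 2 .nil .nil) (.node 2 (.node 2 .nil .nil) .nil)) (.node 2 (.node 2 .nil .nil) .nil))) (.node 1 (.node 0 (.node 0 .nil (.node 1 .nil (.node 2 .nil .nil))) (.node 2 (.node 1 (.node 1 .nil .nil) .nil) .nil)) (.node 2 (.node 0 (.node 0 (.node 1 .nil .nil) (.node 2 .nil .nil)) .nil) .nil))) .nil))) (.node 1 (.node 0 (.node 0 (.node 0 (.node 0 .nil (.node 2 .nil .nil)) (.node 2 .nil .nil)) (.node 1 (.node 0 (.node 0 .nil (.node 1 (.node 1 .nil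 .nil) (.node 2 .nil .nil))) (.node 1 (.node 1 (.node 1 .nil .nil) .nil) (.node 2 (.node 1 .nil .nil) .nil))) (.node 2 (.node 1 (.node 0 (.node 1 .nil .nil) .nil) (.node 2 (.node 0 .nil (.node 1 .nil .nil)) .nil)) .nil))) (.node 1 (.node 0 (.node 0 (.node 0 .nil (.node 1 (.node 0 .nil (.node 1 .nil .nil)) .nil)) (.node 2 (.node 0 .nil (.node 1 .nil .nil)) .nil)) (.node 1 (.node 0 (.node 0 .nil (.node 1 .nil (.node 2 (.node 0 .nil (.node 2 .nil .nil)) .nil))) (.node 1 (.node 0 .nil (.node 1 (.node 1 .nil .nil) (.node 2 (.node 1 .nil .nil) .nil))) (.node 2 (.node 2 .nil .nil) .nil))) (.node 2 (.node 0 (.node 0 .nil (.node 2 .nil .nil)) (.node 1 (.node 0 (.node 1 .nil .nil) (.node 1 (.node 2 .nil .nil) .nil)) (.node 2 (.node 2 .nil .nil) .nil))) .nil))) (.node 2 (.node 0 (.node 0 (.node 0 .nil (.node 2 .nil .nil)) (.node 1 (.node 0 (.node 1 .nil .nil) .nil) (.node 2 .nil .nil))) (.node 1 (.node 0 (.node 1 .nil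 .nil) (.node 1 (.node 0 (.node 0 .nil .nil) .nil) (.node 2 (.node 0 .nil .nil) .nil))) .nil)) .nil))) (.node 2 (.node 0 (.node 0 (.node 0 (.node 0 (.node 0 .nil (.node 1 .nil .nil)) .nil) (.node 1 (.node 1 .nil (.node 2 (.node 2 .nil .nil) .nil)) (.node 2 (.node 2 (.node 1 .nil .nil) .nil) .nil))) (.node 1 (.node 0 (.node 1 (.node 2 .nil .nil) .nil) (.node 1 (.node 0 .nil (.node 1 .nil .nil)) (.node 2 (.node 2 .nil .nil) .nil))) (.node 2 (.node 0 (.node 0 .nil (.node 1 .nil .nil)) (.node 1 (.node 1 (.node 0 .nil .nil) .nil) .nil)) .nil))) (.node 1 (.node 0 (.node 2 (.node 0 (.node 1 .nil .nil) (.node 1 .nil (.node 2 (.node 1 .nil .nil) .nil))) .nil) (.node 1 (.node 0 .nil .nil) (.node 2 (.node 1 (.node 2 (.node 1 .nil (.node 2 .nil .nil)) .nil) (.node 2 (.node 0 .nil (.node 2 .nil .nil)) .nil)) .nil))) (.node 2 (.node 0 (.node 0 .nil (.node 1 .nil (.node 2 (.node 1 .nil (.node 2 .nil .nil)) .nil))) (.node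 1 .nil (.node 2 (.node 0 .nil (.node 1 .nil (.node 2 (.node 0 .nil (.node 1 .nil .nil)) .nil))) .nil))) .nil))) .nil))) (.node 1 (.node 0 (.node 0 (.node 1 (.node 0 (.node 0 .nil (.node 2 .nil .nil)) (.node 1 .nil .nil)) .nil) (.node 1 (.node 0 (.node 0 .nil (.node 1 .nil (.node 2 .nil .nil))) (.node 1 (.node 1 (.node 0 (.node 2 .nil .nil) (.node 1 .nil .nil)) (.node 2 (.node 0 .nil (.node 1 .nil (.node 2 (.node 1 .nil .nil) .nil))) .nil)) (.node 2 (.node 1 (.node 1 (.node 2 .nil .nil) (.node 2 .nil .nil)) (.node 2 (.node 1 .nil .nil) .nil)) .nil))) (.node 2 (.node 0 (.node 0 (.node 0 .nil .nil) (.node 1 (.node 0 .nil (.node 1 .nil (.node 2 .nil .nil))) (.node 2 (.node 0 (.node 0 .nil (.node 2 .nil .nil)) (.node 1 .nil (.node 2 .nil .nil))) .nil))) (.node 1 (.node 1 (.node 2 .nil .nil) (.node 2 (.node 0 .nil (.node 2 .nil .nil)) .nil)) (.node 2 (.node 0 (.node 0 .nil (.node 2 .nil .nil)) (.node 1 (.node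 1 .nil .nil) (.node 2 .nil .nil))) .nil))) .nil))) (.node 1 (.node 0 (.node 0 (.node 0 .nil (.node 1 (.node 1 .nil .nil) (.node 2 (.node 0 .nil (.node 1 .nil .nil)) .nil))) (.node 1 (.node 0 (.node 2 .nil .nil) (.node 2 (.node 1 .nil (.node 2 .nil .nil)) .nil)) (.node 2 (.node 0 .nil (.node 1 (.node 0 .nil .nil) (.node 2 (.node 1 .nil (.node 2 .nil .nil)) .nil))) .nil))) (.node 1 (.node 1 (.node 0 (.node 0 .nil (.node 1 .nil .nil)) (.node 2 (.node 1 .nil .nil) .nil)) (.node 2 .nil .nil)) (.node 2 (.node 0 (.node 0 .nil (.node 1 (.node 0 .nil (.node 2 (.node 1 .nil .nil) .nil)) (.node 2 (.node 0 .nil .nil) .nil))) (.node 1 (.node 0 (.node 0 .nil (.node 1 .nil .nil)) (.node 1 (.node 2 .nil .nil) (.node 2 .nil .nil))) (.node 2 (.node 2 (.node 1 .nil .nil) .nil) .nil))) .nil))) (.node 2 (.node 0 (.node 0 (.node 0 (.node 1 .nil .nil) (.node 1 (.node 0 .nil .nil) (.node 2 (.node 0 .nil .nil) .nil))) (.node 1 (.node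 1 (.node 0 .nil (.node 1 .nil (.node 2 .nil .nil))) (.node 2 .nil .nil)) (.node 2 (.node 1 .nil (.node 2 .nil .nil)) .nil))) (.node 1 (.node 0 (.node 0 .nil (.node 2 .nil .nil)) (.node 1 (.node 0 (.node 1 .nil (.node 2 .nil .nil)) (.node 1 (.node 0 .nil (.node 2 .nil .nil)) (.node 2 .nil .nil))) (.node 2 (.node 0 (.node 0 .nil .nil) (.node 1 (.node 1 .nil .nil) (.node 2 .nil .nil))) .nil))) (.node 2 (.node 0 (.node 0 (.node 2 .nil .nil) (.node 2 .nil .nil)) (.node 1 (.node 0 .nil (.node 1 (.node 0 .nil .nil) (.node 2 .nil .nil))) (.node 2 (.node 1 (.node 1 .nil .nil) (.node 2 (.node 0 .nil .nil) .nil)) .nil))) .nil))) .nil))) (.node 2 (.node 0 (.node 0 (.node 0 (.node 0 .nil (.node 2 (.node 0 .nil (.node 1 .nil .nil)) .nil)) (.node 1 (.node 1 (.node 1 (.node 0 .nil .nil) .nil) .nil) (.node 2 (.node 0 (.node 1 .nil .nil) (.node 1 (.node 1 .nil .nil) .nil)) .nil))) (.node 1 (.node 0 (.node 0 (.node 1 .nil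 .nil) (.node 1 (.node 0 .nil .nil) (.node 2 (.node 2 .nil .nil) .nil))) (.node 2 (.node 0 (.node 2 .nil .nil) (.node 1 (.node 1 .nil .nil) (.node 2 (.node 0 .nil .nil) .nil))) .nil)) (.node 2 (.node 0 (.node 2 .nil .nil) (.node 1 (.node 1 .nil .nil) (.node 2 (.node 0 .nil (.node 1 .nil .nil)) .nil))) .nil))) (.node 1 (.node 0 (.node 0 (.node 0 .nil (.node 1 .nil (.node 2 (.node 0 .nil (.node 2 .nil .nil)) .nil))) (.node 2 (.node 2 .nil .nil) .nil)) (.node 1 (.node 0 (.node 2 .nil .nil) (.node 1 (.node 2 .nil .nil) (.node 2 (.node 0 .nil (.node 1 (.node 0 .nil .nil) .nil)) .nil))) (.node 2 (.node 0 (.node 0 (.node 0 .nil .nil) .nil) (.node 1 (.node 0 (.node 0 .nil .nil) (.node 1 (.node 0 .nil .nil) (.node 2 (.node 2 (.node 2 .nil .nil) .nil) .nil))) (.node 2 (.node 0 (.node 2 .nil .nil) (.node 1 (.node 2 .nil .nil) (.node 2 .nil .nil))) .nil))) .nil))) (.node 2 (.node 0 (.node 0 (.node 0 .nil (.node 2 (.node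 2 .nil .nil) .nil)) (.node 1 (.node 0 (.node 1 .nil .nil) (.node 1 .nil (.node 2 (.node 0 .nil .nil) .nil))) .nil)) (.node 1 (.node 0 (.node 1 .nil .nil) (.node 1 (.node 1 .nil (.node 2 .nil .nil)) (.node 2 (.node 2 .nil .nil) .nil))) (.node 2 (.node 0 (.node 0 (.node 0 .nil (.node 1 .nil .nil)) (.node 1 .nil .nil)) (.node 1 (.node 0 .nil (.node 2 (.node 0 .nil (.node 1 .nil .nil)) .nil)) (.node 2 (.node 0 .nil (.node 2 (.node 1 .nil .nil) .nil)) .nil))) .nil))) .nil))) .nil)))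

/-- Orbit certificate. -/
def dodSelf1 : M24Orbits.Part := (dodSelf1T, [28637, 16748578], 160, 495)

set_option maxRecDepth 20000 in
/-- Orbit forest. -/
def dodSelf2T : OrbTree := (.node 0 (.node 0 (.node 0 (.node 0 (.node 0 (.node 0 (.node 2 .nil .nil) (.node 1 (.node 0 .nil (.node 1 .nil .nil)) (.node 2 (.node 1 .nil .nil) .nil))) (.node 1 (.node 0 (.node 1 .nil .nil) (.node 1 (.node 1 .nil .nil) (.node 2 (.node 0 .nil (.node 1 .nil .nil)) .nil))) (.node 2 (.node 0 (.node 1 .nil (.node 2 (.node 2 .nil .nil) .nil)) (.node 1 .nil .nil)) .nil))) (.node 1 (.node 0 (.node 0 (.node 0 .nil (.node 1 .nil .nil)) (.node 1 (.node 1 (.node 0 .nil .nil) (.node 2 (.node 2 .nil .nil) .nil)) (.node 2 (.node 0 .nil .nil) .nil))) (.node 1 (.node 0 (.node 2 .nil .nil) (.node 1 (.node 2 .nil .nil) .nil)) (.node 2 (.node 0 (.node 0 .nil (.node 2 .nil .nil)) (.node 1 (.node 0 .nil .nil) (.node 2 (.node 0 .nil .nil) .nil)))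 .nil))) (.node 2 (.node 0 (.node 0 (.node 1 .nil .nil) (.node 1 .nil (.node 2 (.node 2 .nil .nil) .nil))) (.node 1 (.node 0 .nil (.node 2 .nil .nil)) (.node 2 (.node 0 (.node 0 .nil (.node 2 .nil .nil)) .nil) .nil))) .nil))) (.node 1 (.node 0 (.node 0 (.node 0 (.node 2 .nil .nil) (.node 1 (.node 1 .nil .nil) (.node 2 (.node 2 .nil .nil) .nil))) (.node 1 (.node 0 (.node 2 .nil .nil) (.node 1 .nil .nil)) (.node 2 (.node 0 (.node 2 .nil .nil) (.node 1 .nil .nil)) .nil))) (.node 1 (.node 0 (.node 0 .nil (.node 2 .nil .nil)) (.node 1 (.node 0 .nil (.node 2 .nil .nil)) (.node 2 (.node 0 (.node 2 .nil .nil) (.node 1 (.node 1 .nil (.node 2 .nil .nil)) .nil)) .nil))) (.node 2 (.node 0 (.node 0 (.node 2 .nil .nil) (.node 1 .nil (.node 2 (.node 0 .nil .nil) .nil))) (.node 1 (.node 0 (.node 0 (.node 0 .nil .nil) (.node 1 .nil .nil)) (.node 1 .nil (.node 2 (.node 0 .nil (.node 1 .nil .nil)) .nil))) (.node 2 (.node 0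 (.node 0 .nil (.node 1 .nil .nil)) (.node 1 (.node 1 .nil .nil) .nil)) .nil))) .nil))) (.node 2 (.node 0 (.node 1 (.node 2 (.node 0 .nil (.node 2 .nil .nil)) .nil) (.node 2 (.node 0 (.node 1 .nil .nil) .nil) .nil)) (.node 1 (.node 0 (.node 0 (.node 2 .nil .nil) (.node 2 (.node 2 .nil .nil) .nil)) (.node 1 (.node 1 .nil .nil) (.node 2 (.node 0 (.node 0 .nil .nil) .nil) .nil))) (.node 2 (.node 0 (.node 0 .nil (.node 1 .nil (.node 2 (.node 2 .nil .nil) .nil))) .nil) .nil))) .nil))) (.node 1 (.node 0 (.node 0 (.node 0 (.node 0 .nil (.node 2 (.node 0 .nil (.node 2 .nil .nil)) .nil)) (.node 1 (.node 1 (.node 2 .nil .nil) (.node 2 (.node 2 .nil .nil) .nil)) (.node 2 (.node 0 (.node 0 .nil .nil) (.node 1 (.node 0 .nil .nil) (.node 2 .nil .nil))) .nil))) (.node 1 (.node 0 (.node 0 (.node 1 .nil .nil) .nil) (.node 1 (.node 1 (.node 0 .nil (.node 1 (.node 1 .nil .nil) .nil)) (.node 2 .nil .nil)) .nil)) (.node 2 (.node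 0 (.node 0 (.node 0 .nil .nil) (.node 2 (.node 2 .nil .nil) .nil)) (.node 2 (.node 1 .nil (.node 2 (.node 0 .nil .nil) .nil)) .nil)) .nil))) (.node 1 (.node 0 (.node 0 .nil (.node 1 (.node 0 (.node 0 .nil .nil) (.node 1 .nil .nil)) (.node 2 (.node 1 (.node 0 (.node 1 .nil .nil) .nil) .nil) .nil))) (.node 1 (.node 0 (.node 0 (.node 1 .nil .nil) .nil) (.node 1 (.node 1 .nil .nil) (.node 2 (.node 0 (.node 0 .nil (.node 2 .nil .nil)) (.node 2 .nil .nil)) .nil))) (.node 2 (.node 0 (.node 2 .nil .nil) (.node 1 (.node 0 .nil .nil) (.node 2 (.node 0 (.node 0 .nil (.node 1 .nil .nil)) (.node 1 .nil (.node 2 (.node 0 .nil (.node 2 .nil .nil)) .nil))) .nil))) .nil))) (.node 2 (.node 0 (.node 1 .nil (.node 2 (.node 1 (.node 0 .nil (.node 1 .nil .nil)) .nil) .nil)) (.node 1 (.node 0 (.node 1 (.node 0 .nil .nil) .nil) (.node 2 (.node 0 (.node 2 .nil .nil) (.node 1 (.node 0 .nil (.node 2 .nil .nil)) (.node 2 .nil .nil)))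 .nil)) (.node 2 (.node 0 (.node 0 (.node 1 .nil .nil) .nil) (.node 1 (.node 0 (.node 2 .nil .nil) .nil) (.node 2 (.node 2 (.node 2 .nil .nil) .nil) .nil))) .nil))) .nil))) (.node 2 (.node 0 (.node 0 (.node 0 (.node 0 (.node 2 .nil .nil) (.node 1 (.node 0 .nil (.node 2 .nil .nil)) (.node 2 (.node 0 .nil (.node 1 .nil .nil)) .nil))) (.node 2 (.node 0 .nil (.node 1 .nil .nil)) .nil)) (.node 1 (.node 0 (.node 0 .nil (.node 1 .nil (.node 2 .nil .nil))) (.node 1 (.node 0 (.node 2 .nil .nil) .nil) (.node 2 (.node 0 (.node 0 .nil (.node 1 .nil .nil)) .nil) .nil))) (.node 2 (.node 0 (.node 0 (.node 0 .nil (.node 2 .nil .nil)) (.node 1 (.node 1 .nil .nil) (.node 2 .nil .nil))) (.node 1 (.node 0 .nil (.node 2 .nil .nil)) (.node 2 (.node 1 (.node 0 .nil (.node 2 .nil .nil)) .nil) .nil))) .nil))) (.node 1 (.node 0 (.node 1 (.node 0 (.node 0 .nil .nil) .nil) .nil) (.node 1 (.node 0 (.node 0 (.node 1 .nil (.node 2 .nil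 .nil)) (.node 1 .nil .nil)) (.node 1 (.node 0 (.node 2 (.node 1 .nil .nil) .nil) (.node 1 .nil (.node 2 .nil .nil))) (.node 2 (.node 0 (.node 0 .nil .nil) (.node 2 (.node 1 .nil .nil) .nil)) .nil))) (.node 2 (.node 1 (.node 0 .nil (.node 1 .nil (.node 2 (.node 1 .nil .nil) .nil))) (.node 2 (.node 0 (.node 0 .nil .nil) (.node 1 (.node 0 .nil (.node 1 .nil .nil)) (.node 2 (.node 0 .nil .nil) .nil))) .nil)) .nil))) (.node 2 (.node 0 (.node 0 (.node 2 (.node 0 .nil (.node 1 .nil .nil)) .nil) .nil) (.node 1 (.node 0 .nil (.node 1 (.node 0 .nil (.node 1 .nil (.node 2 .nil .nil))) (.node 2 (.node 1 .nil (.node 2 .nil .nil)) .nil))) (.node 2 (.node 0 (.node 0 .nil .nil) (.node 1 (.node 1 (.node 2 .nil .nil) (.node 2 .nil .nil)) .nil)) .nil))) .nil))) .nil))) (.node 1 (.node 0 (.node 0 (.node 1 (.node 0 (.node 0 .nil (.node 1 (.node 1 .nil .nil) .nil)) (.node 1 (.node 1 .nil (.node 2 (.node 1 .nil (.node 2 .nil .nil))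 .nil)) (.node 2 (.node 1 (.node 1 .nil .nil) .nil) .nil))) .nil) (.node 1 (.node 0 (.node 0 (.node 1 (.node 2 .nil .nil) .nil) (.node 1 (.node 0 .nil .nil) (.node 2 .nil .nil))) (.node 1 (.node 0 (.node 0 (.node 0 .nil .nil) (.node 2 .nil .nil)) (.node 1 (.node 1 (.node 0 .nil .nil) .nil) (.node 2 (.node 1 (.node 1 .nil .nil) .nil) .nil))) (.node 2 (.node 1 (.node 0 .nil (.node 1 .nil .nil)) (.node 2 (.node 0 .nil (.node 1 .nil .nil)) .nil)) .nil))) (.node 2 (.node 0 (.node 0 (.node 0 (.node 0 .nil .nil) (.node 2 (.node 1 .nil (.node 2 (.node 0 .nil .nil) .nil)) .nil)) (.node 1 (.node 0 .nil (.node 2 .nil .nil)) (.node 2 (.node 0 .nil (.node 1 .nil .nil)) .nil))) (.node 1 (.node 0 (.node 2 .nil .nil) (.node 1 (.node 2 (.node 1 .nil .nil) .nil) (.node 2 (.node 0 (.node 2 .nil .nil) (.node 1 (.node 1 .nil .nil) (.node 2 (.node 0 (.node 1 .nil .nil) (.node 2 .nil .nil)) .nil))) .nil))) (.node 2 (.node 0 (.node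 0 .nil (.node 1 .nil .nil)) (.node 1 (.node 1 .nil (.node 2 (.node 0 .nil .nil) .nil)) (.node 2 (.node 1 .nil (.node 2 .nil .nil)) .nil))) .nil))) .nil))) (.node 1 (.node 0 (.node 0 (.node 1 (.node 0 .nil (.node 1 .nil (.node 2 .nil .nil))) (.node 2 (.node 0 .nil (.node 1 .nil .nil)) .nil)) (.node 1 (.node 0 (.node 0 .nil .nil) (.node 1 (.node 1 (.node 2 .nil .nil) (.node 2 (.node 2 .nil .nil) .nil)) (.node 2 (.node 1 (.node 1 .nil .nil) .nil) .nil))) (.node 2 (.node 0 (.node 0 (.node 0 .nil (.node 2 .nil .nil)) (.node 1 (.node 0 .nil (.node 2 .nil .nil)) .nil)) (.node 1 (.node 1 (.node 0 .nil .nil) (.node 2 (.node 0 .nil .nil) .nil)) .nil)) .nil))) (.node 1 (.node 0 (.node 1 (.node 1 (.node 1 .nil (.node 2 .nil .nil)) .nil) (.node 2 (.node 0 (.node 0 .nil .nil) (.node 1 .nil (.node 2 .nil .nil))) .nil)) (.node 1 (.node 0 .nil (.node 1 (.node 0 (.node 1 .nil .nil) (.node 2 .nil .nil)) (.node 2 (.node 1 (.node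 2 .nil .nil) (.node 2 .nil .nil)) .nil))) (.node 2 (.node 0 (.node 0 (.node 2 .nil .nil) .nil) (.node 1 (.node 1 .nil (.node 2 .nil .nil)) (.node 2 (.node 0 .nil (.node 2 .nil .nil)) .nil))) .nil))) (.node 2 (.node 0 (.node 0 (.node 2 .nil .nil) (.node 1 (.node 0 .nil .nil) (.node 2 (.node 0 (.node 0 .nil (.node 1 .nil .nil)) .nil) .nil))) (.node 1 (.node 0 (.node 0 (.node 0 .nil .nil) (.node 1 .nil .nil)) (.node 1 (.node 1 .nil .nil) .nil)) (.node 2 (.node 0 (.node 1 .nil (.node 2 .nil .nil)) (.node 2 (.node 0 (.node 2 .nil .nil) (.node 1 .nil (.node 2 .nil .nil))) .nil)) .nil))) .nil))) (.node 2 (.node 0 (.node 0 (.node 2 (.node 0 .nil (.node 1 .nil .nil)) .nil) (.node 1 (.node 0 (.node 1 .nil (.node 2 .nil .nil)) (.node 1 (.node 2 .nil .nil) (.node 2 (.node 1 (.node 2 .nil .nil) (.node 2 (.node 1 .nil .nil) .nil)) .nil))) (.node 2 (.node 1 .nil (.node 2 (.node 0 .nil (.node 1 .nil (.node 2 .nil .nil)))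 .nil)) .nil))) (.node 1 (.node 0 (.node 0 (.node 0 (.node 2 .nil .nil) (.node 1 (.node 2 .nil .nil) .nil)) (.node 1 (.node 0 .nil .nil) (.node 2 (.node 0 .nil (.node 2 (.node 0 .nil .nil) .nil)) .nil))) (.node 1 (.node 1 .nil .nil) (.node 2 (.node 0 (.node 2 .nil .nil) (.node 1 (.node 2 (.node 1 .nil .nil) .nil) (.node 2 (.node 0 .nil (.node 1 .nil .nil)) .nil))) .nil))) (.node 2 (.node 0 (.node 0 (.node 2 (.node 2 .nil .nil) .nil) (.node 1 .nil (.node 2 .nil .nil))) (.node 1 (.node 0 .nil (.node 2 (.node 2 .nil .nil) .nil)) (.node 2 (.node 0 (.node 0 (.node 1 .nil .nil) .nil) (.node 1 (.node 0 .nil (.node 2 (.node 1 .nil .nil) .nil)) (.node 2 .nil .nil))) .nil))) .nil))) .nil))) (.node 2 (.node 0 (.node 0 (.node 0 (.node 0 (.node 0 .nil (.node 1 (.node 1 .nil .nil) (.node 2 .nil .nil))) (.node 1 (.node 0 .nil (.node 1 .nil (.node 2 (.node 0 .nil .nil) .nil))) .nil)) (.node 1 (.node 0 (.node 0 .nil .nil)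 (.node 1 (.node 2 .nil .nil) (.node 2 (.node 0 .nil (.node 1 (.node 2 .nil .nil) .nil)) .nil))) (.node 2 (.node 1 (.node 0 (.node 1 .nil .nil) (.node 1 .nil .nil)) .nil) .nil))) (.node 1 (.node 0 .nil (.node 1 (.node 0 (.node 0 .nil (.node 1 .nil .nil)) (.node 1 (.node 0 .nil .nil) (.node 2 (.node 1 .nil (.node 2 (.node 1 .nil .nil) .nil)) .nil))) (.node 2 (.node 1 (.node 1 .nil (.node 2 (.node 0 .nil .nil) .nil)) (.node 2 (.node 1 .nil .nil) .nil)) .nil))) (.node 2 (.node 0 (.node 0 (.node 1 .nil (.node 2 .nil .nil)) (.node 1 (.node 0 .nil (.node 1 (.node 0 .nil .nil) .nil)) (.node 2 (.node 2 (.node 0 .nil .nil) .nil) .nil))) (.node 1 (.node 0 .nil (.node 1 (.node 1 .nil .nil) (.node 2 (.node 0 .nil (.node 2 (.node 0 .nil .nil) .nil)) .nil))) (.node 2 (.node 0 (.node 1 (.node 2 .nil .nil) (.node 2 (.node 0 .nil .nil) .nil)) (.node 2 .nil .nil)) .nil))) .nil))) (.node 1 (.node 0 (.node 0 (.node 0 (.node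 1 .nil .nil) (.node 1 (.node 0 .nil .nil) (.node 2 .nil .nil))) (.node 1 (.node 2 (.node 0 .nil (.node 1 .nil .nil)) .nil) (.node 2 (.node 0 (.node 0 .nil (.node 1 .nil .nil)) (.node 2 (.node 2 .nil .nil) .nil)) .nil))) (.node 1 (.node 0 (.node 0 (.node 1 .nil .nil) (.node 1 (.node 0 (.node 1 .nil .nil) .nil) (.node 2 (.node 2 .nil .nil) .nil))) (.node 1 (.node 0 (.node 0 .nil (.node 1 (.node 2 .nil .nil) .nil)) (.node 1 .nil (.node 2 (.node 1 (.node 1 .nil .nil) (.node 2 .nil .nil)) .nil))) (.node 2 (.node 0 (.node 0 .nil .nil) (.node 1 (.node 0 .nil (.node 2 .nil .nil)) (.node 2 .nil .nil))) .nil))) (.node 2 (.node 0 (.node 0 (.node 1 .nil (.node 2 .nil .nil)) (.node 1 (.node 2 .nil .nil) (.node 2 (.node 1 .nil .nil) .nil))) (.node 1 (.node 0 (.node 1 .nil .nil) (.node 1 (.node 0 .nil .nil) (.node 2 .nil .nil))) (.node 2 (.node 0 (.node 0 (.node 1 .nil .nil) (.node 1 (.node 1 .nil .nil) (.node 2 (.node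 1 .nil .nil) .nil))) (.node 1 .nil (.node 2 (.node 0 .nil (.node 1 (.node 1 .nil .nil) (.node 2 .nil .nil))) .nil))) .nil))) .nil))) (.node 2 (.node 0 (.node 0 (.node 0 .nil (.node 2 (.node 1 .nil .nil) .nil)) (.node 1 (.node 0 (.node 0 .nil (.node 2 (.node 2 .nil .nil) .nil)) (.node 1 (.node 1 .nil (.node 2 .nil .nil)) .nil)) (.node 2 (.node 0 (.node 0 .nil (.node 1 .nil (.node 2 .nil .nil))) (.node 1 .nil (.node 2 .nil .nil))) .nil))) (.node 1 (.node 0 (.node 0 .nil (.node 2 (.node 0 .nil (.node 1 .nil (.node 2 (.node 1 .nil .nil) .nil))) .nil)) (.node 1 (.node 0 (.node 1 .nil .nil) (.node 1 (.node 0 .nil (.node 1 .nil .nil)) (.node 2 (.node 2 .nil .nil) .nil))) (.node 2 (.node 0 .nil (.node 1 (.node 0 .nil (.node 2 .nil .nil)) (.node 2 (.node 2 .nil .nil) .nil))) .nil))) (.node 2 (.node 0 (.node 0 (.node 1 .nil .nil) (.node 2 (.node 1 (.node 0 .nil .nil) .nil) .nil)) (.node 1 (.node 1 (.node 1 .nil .nil)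 .nil) (.node 2 (.node 0 (.node 1 .nil (.node 2 .nil .nil)) .nil) .nil))) .nil))) .nil))) .nil)))

/-- Orbit certificate. -/
def dodSelf2 : M24Orbits.Part := (dodSelf2T, [57274, 16719941], 144, 792)

end Cfsg.Agent.Golay
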