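import Cfsg.Agent.Golay.LeechTrans

/-! Counting lattice vectors of norm at most 32 with prescribed coordinate sum and some prescribed coordinates. -/

set_option autoImplicit false
set_option maxRecDepth 20000

namespace Cfsg.Agent.Golay

open scoped Pointwise

/-- Values congruent to `r` modulo four of absolute value at most five. -/
def resVals (r : ℤ) : Finset ℤ := ([-5, -4, -3, -2, -1, 0, 1, 2, 3, 4, 5].toFinset).filter fun t => t % 4 = r

/-- The recorded exponent: square and shifted value. -/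
def valExp (t : ℤ) : ℕ := (t ^ 2).toNat * 512 + (t + 8).toNat

/-- One factor. -/
def resFactor (r : ℤ) : ℕ := ∑ t ∈ resVals r, gfBase ^ valExp t

/-- A factor with a prescribed value. -/
def fixFactor (r v : ℤ) : ℕ := ∑ t ∈ (resVals r).filter (fun t => t = v), gfBase ^ valExp t

/-- The coefficient for one class of code words. -/
def sumTerm (n : ℕ) (S : ℤ) (tv : List (GolayPt × ℤ)) (r₁ r₀ : ℤ) (key : ℕ × List Bool) : ℕ :=
  gfCoeff gfBase
    (((tv.zip key.2).map fun q => fixFactor (bif q.2 then r₁ else r₀) q.1.2).prod *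
      (resFactor r₁ ^ (key.1 - key.2.count true) * resFactor r₀ ^ (24 - key.1 - key.2.count false)))
    (n * 512 + (S + 192).toNat)

/-- The key of a code word given by its mask. -/
def sumKey (tv : List (GolayPt × ℤ)) (m : ℕ) : ℕ × List Bool :=
  (pc m, tv.map fun p => m.testBit (idx p.1))

/-- The count from a table of keys. -/
def sumVecFormula (n : ℕ) (S : ℤ) (tv : List (GolayPt × ℤ)) (tab : List ((ℕ × List Bool) × ℕ)) : ℕ :=
  (tab.map fun k => k.2 * ((if S % 8 = 0 then sumTerm n S tv 2 0 k.1 else 0) +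
    (if S % 8 = 4 then sumTerm n S tv 3 1 k.1 else 0))).sum

/-- The table is the distribution of keys over the code. -/
def sumTabOK (tv : List (GolayPt × ℤ)) (tab : List ((ℕ × List Bool) × ℕ)) : Bool :=
  allB (fun i => (tab.map Prod.fst).contains (sumKey tv (encode i))) 12 0 &&
    tab.all fun k => countB (fun i => sumKey tv (encode i) == k.1) 12 0 == k.2

/-- The vectors counted. -/
def sumSet (n S : ℤ) (tv : List (GolayPt × ℤ)) : Set (GolayPt → ℤ) :=
  {x | x ∈ leechLattice ∧ sqNorm x = n ∧ ∑ i, x i = S ∧ ∀ p ∈ tv, x p.1 = p.2}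

theorem resVals_card (r : ℤ) : (resVals r).card ≤ 11 :=
  (Finset.card_le_card (Finset.filter_subset _ _)).trans (List.toFinset_card_le _)

theorem mem_resVals {r t : ℤ} : t ∈ resVals r ↔ (-5 ≤ t ∧ t ≤ 5) ∧ t % 4 = r := by
  simp only [resVals, Finset.mem_filter, List.mem_toFinset, List.mem_cons, List.not_mem_nil, or_false]
  refine and_congr_left fun _ => ?_
  omega

theorem resVals_small (r : ℤ) (hr : r ∈ ([0, 1, 2, 3] : List ℤ)) : (resVals r).card ≤ 3 := by
  revert r; decide

theorem sum_prod_split {M : Type*} [CommMonoid M] (tv : List (GolayPt × ℤ)) (hnd : (tv.map Prod.fst).Nodup)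
    (c : Finset GolayPt) (F : GolayPt → M) (A B : M) (T : ℤ → Bool → M)
    (hT : ∀ p ∈ tv, F p.1 = T p.2 (decide (p.1 ∈ c)))
    (hA : ∀ i ∉ tv.map Prod.fst, i ∈ c → F i = A) (hB : ∀ i ∉ tv.map Prod.fst, i ∉ c → F i = B) :
    ∏ i, F i = ((tv.zip (tv.map fun p => decide (p.1 ∈ c))).map fun q => T q.1.2 q.2).prod *
      (A ^ (c.card - (tv.map fun p => decide (p.1 ∈ c)).count true) *
        B ^ (24 - c.card - (tv.map fun p => decide (p.1 ∈ c)).count false)) := by
  classical
  obtain ⟨P, hP⟩ : ∃ P : Finset GolayPt, P = (tv.map Prod.fst).toFinset := ⟨_, rfl⟩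
  have h1 : ∏ i ∈ P, F i = ((tv.zip (tv.map fun p => decide (p.1 ∈ c))).map fun q => T q.1.2 q.2).prod := by
    rw [hP, List.prod_toFinset _ hnd, List.map_map, List.zip_map_right, List.map_map]
    have : tv.zip tv = tv.map fun p => (p, p) := by
      clear hnd hT hA hB hP
      induction tv with
      | nil => rfl
      | cons a l ih => simp [ih]
    rw [this, List.map_map]
    exact congrArg List.prod (List.map_congr_left fun p hp => hT p hp)
  have hct : (tv.map fun p => decide (p.1 ∈ c)).count true = (P ∩ c).card := by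
    have e : P ∩ c = ((tv.map Prod.fst).filter fun i => decide (i ∈ c)).toFinset := by
      ext i; simp [hP]
    rw [e, List.toFinset_card_of_nodup (hnd.filter _), List.count, List.countP_eq_length_filter, List.filter_map,
      List.filter_map, List.length_map, List.length_map]
    simp [Function.comp_def]
  have hcf : (tv.map fun p => decide (p.1 ∈ c)).count false = (P \ c).card := by
    have e : P \ c = ((tv.map Prod.fst).filter fun i => !decide (i ∈ c)).toFinset := by
      ext i; simp [hP]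
    rw [e, List.toFinset_card_of_nodup (hnd.filter _), List.count, List.countP_eq_length_filter, List.filter_map,
      List.filter_map, List.length_map, List.length_map]
    simp [Function.comp_def]
  rw [← Finset.prod_mul_prod_compl P, h1, ← Finset.prod_filter_mul_prod_filter_not Pᶜ (· ∈ c)]
  congr 2
  · rw [Finset.prod_congr rfl (g := fun _ => A) (fun i hi => ?_), Finset.prod_const, hct]
    · congr 1
      have := Finset.card_sdiff_add_card_inter c P
      rw [Finset.inter_comm] at this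
      have e : Pᶜ.filter (· ∈ c) = c \ P := by ext i; simp [and_comm]
      rw [e]
      omega
    · rw [Finset.mem_filter, Finset.mem_compl, hP, List.mem_toFinset] at hi
      exact hA i hi.1 hi.2
  · rw [Finset.prod_congr rfl (g := fun _ => B) (fun i hi => ?_), Finset.prod_const, hcf]
    · congr 1
      have := Finset.card_sdiff_add_card_inter cᶜ P
      rw [Finset.card_compl, card_golayPt] at this
      have e : Pᶜ.filter (fun i => ¬ i ∈ c) = cᶜ \ P := by ext i; simp [and_comm]
      have e2 : cᶜ ∩ P = P \ c := by ext i; simp [and_comm]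
      rw [e2] at this
      rw [e]
      omega
    · rw [Finset.mem_filter, Finset.mem_compl, hP, List.mem_toFinset] at hi
      exact hB i hi.1 hi.2

theorem even_residue {x : GolayPt → ℤ} (hx : x ∈ leechLattice) (h : ∀ i, (2 : ℤ) ∣ x i) :
    ∃ c ∈ supports (golayCode : Set (GolayPt → ZMod 2)),
      (∀ i, x i % 4 = if i ∈ c then 2 else 0) ∧ (∑ i, x i) % 8 = 0 := by
  obtain ⟨c, hc, f, hf, rfl⟩ := exists_even_class hx h
  refine ⟨c, hc, fun i => by beta_reduce; split_ifs <;> omega, ?_⟩
  simp only [Finset.sum_add_distrib, sum_two_indicator, ← Finset.mul_sum]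
  obtain ⟨a, ha⟩ : 4 ∣ c.card := by
    rcases card_of_mem_supports hc with h | h | h | h | h <;> rw [h] <;> norm_num
  rw [ha]
  push_cast
  omega

theorem sum_sgn_mul (c : Finset GolayPt) (f : GolayPt → ℤ) :
    (∑ i, sgnOf c i * (1 + 4 * f i)) % 8 = (24 - 2 * (c.card : ℤ) + 4 * ∑ i, f i) % 8 := by
  have h : ∑ i, sgnOf c i * (1 + 4 * f i) =
      ∑ i, ((1 + 4 * f i) - (if i ∈ c then 2 else 0) - 8 * (if i ∈ c then f i else 0)) :=
    Finset.sum_congr rfl fun i _ => by simp only [sgnOf]; split_ifs <;> ring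
  rw [h, Finset.sum_sub_distrib, Finset.sum_sub_distrib, sum_two_indicator, Finset.sum_add_distrib,
    Finset.sum_const, Finset.card_univ, card_golayPt, ← Finset.mul_sum, ← Finset.mul_sum, nsmul_eq_mul]
  push_cast
  omega

theorem odd_residue {x : GolayPt → ℤ} (hx : x ∈ leechLattice) (h : ¬ ∀ i, (2 : ℤ) ∣ x i) :
    ∃ c ∈ supports (golayCode : Set (GolayPt → ZMod 2)),
      (∀ i, x i % 4 = if i ∈ c then 3 else 1) ∧ (∑ i, x i) % 8 = 4 := by
  obtain ⟨c, hc, f, hf, rfl⟩ := exists_odd_class hx h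
  refine ⟨c, hc, fun i => by simp only [sgnOf]; split_ifs <;> omega, ?_⟩
  rw [sum_sgn_mul]
  obtain ⟨a, ha⟩ : 4 ∣ c.card := by
    rcases card_of_mem_supports hc with h | h | h | h | h <;> rw [h] <;> norm_num
  rw [ha]
  push_cast
  omega

theorem mem_of_residue {x : GolayPt → ℤ} {c : Finset GolayPt}
    (hc : c ∈ supports (golayCode : Set (GolayPt → ZMod 2))) (r₁ r₀ : ℤ)
    (h : (r₁ = 2 ∧ r₀ = 0 ∧ (∑ i, x i) % 8 = 0) ∨ (r₁ = 3 ∧ r₀ = 1 ∧ (∑ i, x i) % 8 = 4))
    (hres : ∀ i, x i % 4 = if i ∈ c then r₁ else r₀) : x ∈ leechLattice := by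
  obtain ⟨a, ha⟩ : 4 ∣ c.card := by
    rcases card_of_mem_supports hc with h | h | h | h | h <;> rw [h] <;> norm_num
  rcases h with ⟨rfl, rfl, hs⟩ | ⟨rfl, rfl, hs⟩
  · have e : x = fun i => (if i ∈ c then 2 else 0) + 4 * (x i / 4) := funext fun i => by
      have := hres i; split_ifs at this ⊢ <;> omega
    rw [e]
    refine even_mem_leech hc ?_
    rw [e] at hs
    simp only [Finset.sum_add_distrib, sum_two_indicator, ← Finset.mul_sum, ha] at hs
    push_cast at hs
    omega
  · have e : x = fun i => sgnOf c i * (1 + 4 * ((sgnOf c i * x i - 1) / 4)) := funext fun i => by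
      have := hres i; simp only [sgnOf]; split_ifs at this ⊢ <;> omega
    rw [e]
    refine odd_mem_leech hc ?_
    rw [e, sum_sgn_mul, ha] at hs
    push_cast at hs
    omega

theorem sum_vec_census (n : ℕ) (hn : n ≤ 32) (S : ℤ) (hS : -192 ≤ S) (hS' : S ≤ 192)
    (tv : List (GolayPt × ℤ)) (hnd : (tv.map Prod.fst).Nodup) (tab : List ((ℕ × List Bool) × ℕ))
    (hkeys : (tab.map Prod.fst).Nodup) (hok : sumTabOK tv tab = true) :
    (sumSet n S tv).ncard = sumVecFormula n S tv tab := by
  classical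
  simp only [sumTabOK, Bool.and_eq_true, List.all_eq_true, beq_iff_eq] at hok
  obtain ⟨hcov, hcnt⟩ := hok
  obtain ⟨C, hC⟩ : ∃ C : Finset (Finset GolayPt), ∀ c, c ∈ C ↔ c ∈ supports (golayCode : Set (GolayPt → ZMod 2)) :=
    ⟨(Set.toFinite _).toFinset, fun c => Set.Finite.mem_toFinset _⟩
  let Z : ℤ → ℤ → Finset GolayPt → GolayPt → Finset ℤ := fun r₁ r₀ c i =>
    (resVals (if i ∈ c then r₁ else r₀)).filter fun t => ∀ p ∈ tv, p.1 = i → t = p.2
  let K : ℤ → ℤ → Finset GolayPt → Finset (GolayPt → ℤ) := fun r₁ r₀ c =>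
    (Fintype.piFinset (Z r₁ r₀ c)).filter fun x => ∑ i, valExp (x i) = n * 512 + (S + 192).toNat
  have hZ : ∀ r₁ r₀ c x, x ∈ Fintype.piFinset (Z r₁ r₀ c) ↔ ∀ i, ((-5 ≤ x i ∧ x i ≤ 5) ∧
      x i % 4 = if i ∈ c then r₁ else r₀) ∧ ∀ p ∈ tv, p.1 = i → x i = p.2 := fun r₁ r₀ c x => by
    simp only [Fintype.mem_piFinset, Z, Finset.mem_filter, mem_resVals]
  have hexp : ∀ x : GolayPt → ℤ, (∀ i, -5 ≤ x i ∧ x i ≤ 5) →
      ((∑ i, valExp (x i) = n * 512 + (S + 192).toNat) ↔ sqNorm x = n ∧ ∑ i, x i = S) := by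
    intro x hx
    have h1 : ∑ i, valExp (x i) = (∑ i, (x i ^ 2).toNat) * 512 + ∑ i, (x i + 8).toNat := by
      simp only [valExp, Finset.sum_add_distrib, Finset.sum_mul]
    have h2 : ((∑ i, (x i ^ 2).toNat : ℕ) : ℤ) = sqNorm x := by
      rw [Nat.cast_sum, sqNorm]
      exact Finset.sum_congr rfl fun i _ => Int.toNat_of_nonneg (sq_nonneg _)
    have h3 : ((∑ i, (x i + 8).toNat : ℕ) : ℤ) = (∑ i, x i) + 192 := by
      rw [Nat.cast_sum, Finset.sum_congr rfl fun i _ => Int.toNat_of_nonneg (by have := hx i; omega : 0 ≤ x i + 8),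
        Finset.sum_add_distrib, Finset.sum_const, Finset.card_univ, card_golayPt, nsmul_eq_mul]
      norm_num
    have h4 : ∑ i, (x i + 8).toNat ≤ 24 * 13 := by
      calc ∑ i, (x i + 8).toNat ≤ ∑ _i : GolayPt, 13 := Finset.sum_le_sum fun i _ => by have := hx i; omega
        _ = 24 * 13 := by simp
    rw [h1]
    omega
  have hcard : ∀ r₁ r₀, r₁ ∈ ([0, 1, 2, 3] : List ℤ) → r₀ ∈ ([0, 1, 2, 3] : List ℤ) → ∀ c, (K r₁ r₀ c).card =
      sumTerm n S tv r₁ r₀ (c.card, tv.map fun p => decide (p.1 ∈ c)) := by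
    intro r₁ r₀ hr₁ hr₀ c
    have hB : 3 ^ 24 < gfBase := by decide +kernel
    have hlt : (Fintype.piFinset (Z r₁ r₀ c)).card < gfBase := by
      rw [Fintype.card_piFinset]
      refine lt_of_le_of_lt (Finset.prod_le_prod' fun i _ => (Finset.card_le_card (Finset.filter_subset _ _)).trans
        (resVals_small _ (by split_ifs <;> assumption))) ?_
      rw [Finset.prod_const, Finset.card_univ, card_golayPt]
      exact hB
    have hprod : ∏ i, ∑ t ∈ Z r₁ r₀ c i, gfBase ^ valExp t =
        ((tv.zip (tv.map fun p => decide (p.1 ∈ c))).map fun q => fixFactor (bif q.2 then r₁ else r₀) q.1.2).prod *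
        (resFactor r₁ ^ (c.card - (tv.map fun p => decide (p.1 ∈ c)).count true) *
          resFactor r₀ ^ (24 - c.card - (tv.map fun p => decide (p.1 ∈ c)).count false)) := by
      refine sum_prod_split tv hnd c _ _ _ (fun v b => fixFactor (bif b then r₁ else r₀) v) (fun p hp => ?_)
        (fun i hi hic => ?_) fun i hi hic => ?_
      · have e : (resVals (if p.1 ∈ c then r₁ else r₀)).filter (fun t => ∀ q ∈ tv, q.1 = p.1 → t = q.2) =
            (resVals (if p.1 ∈ c then r₁ else r₀)).filter (fun t => t = p.2) :=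
          Finset.filter_congr fun t _ => ⟨fun h => h p hp rfl, fun h q hq e => by
            rw [List.inj_on_of_nodup_map hnd hq hp e]; exact h⟩
        simp only [Z, e, fixFactor]
        by_cases hc : p.1 ∈ c <;> simp [hc]
      all_goals
        simp only [Z, resFactor, hic, if_true, if_false]
        rw [Finset.filter_true_of_mem fun t _ q hq e => absurd (List.mem_map.2 ⟨q, hq, e⟩) hi]
    generalize hBdef : gfBase = B at hlt hprod
    have hB1 : 1 < B := hBdef ▸ lt_of_le_of_lt (Nat.one_le_pow 24 3 (by norm_num)) hB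
    obtain ⟨D, hD1, hD2⟩ : ∃ D, n * 512 + (S + 192).toNat < D ∧
        ∀ x ∈ Fintype.piFinset (Z r₁ r₀ c), ∑ i, valExp (x i) < D :=
      ⟨n * 512 + (S + 192).toNat + 1 + (Fintype.piFinset (Z r₁ r₀ c)).sup (fun x => ∑ i, valExp (x i)), by omega,
        fun x hx => by have := Finset.le_sup (f := fun x => ∑ i, valExp (x i)) hx; omega⟩
    have := box_count (Z r₁ r₀ c) (fun _ t => valExp t) B hB1 hlt D hD2 _ hD1
    rw [sumTerm, hBdef]
    simp only [K]
    rw [this, hprod]
  let E : Finset GolayPt → Finset (GolayPt → ℤ) := fun c => if S % 8 = 0 then K 2 0 c else ∅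
  let O : Finset GolayPt → Finset (GolayPt → ℤ) := fun c => if S % 8 = 4 then K 3 1 c else ∅
  have hset : sumSet n S tv = ↑(C.biUnion E ∪ C.biUnion O) := by
    ext x
    simp only [sumSet, Set.mem_ofPred_eq, Finset.coe_union, Set.mem_union, Finset.mem_coe, Finset.mem_biUnion, hC]
    constructor
    · rintro ⟨hx, hxn, hxs, hxt⟩
      have hb : ∀ i, -5 ≤ x i ∧ x i ≤ 5 := fun i => by
        have h1 : x i ^ 2 ≤ sqNorm x :=
          Finset.single_le_sum (f := fun j => x j ^ 2) (fun j _ => sq_nonneg _) (Finset.mem_univ i)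
        constructor <;> nlinarith
      by_cases hev : ∀ i, (2 : ℤ) ∣ x i
      · obtain ⟨c, hc, hres, hs8⟩ := even_residue hx hev
        refine Or.inl ⟨c, hc, ?_⟩
        simp only [E]
        rw [if_pos (hxs ▸ hs8)]
        exact Finset.mem_filter.2 ⟨(hZ _ _ _ _).2 fun i => ⟨⟨hb i, hres i⟩, fun p hp e => e ▸ hxt p hp⟩,
          (hexp x hb).2 ⟨hxn, hxs⟩⟩
      · obtain ⟨c, hc, hres, hs8⟩ := odd_residue hx hev
        refine Or.inr ⟨c, hc, ?_⟩
        simp only [O]
        rw [if_pos (hxs ▸ hs8)]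
        exact Finset.mem_filter.2 ⟨(hZ _ _ _ _).2 fun i => ⟨⟨hb i, hres i⟩, fun p hp e => e ▸ hxt p hp⟩,
          (hexp x hb).2 ⟨hxn, hxs⟩⟩
    · rintro (⟨c, hc, hx⟩ | ⟨c, hc, hx⟩)
      all_goals
        simp only [E, O] at hx
        split_ifs at hx with hs
        · obtain ⟨h1, h2⟩ := Finset.mem_filter.1 hx
          have hall := (hZ _ _ _ _).1 h1
          obtain ⟨hn', hs'⟩ := (hexp x fun i => (hall i).1.1).1 h2
          exact ⟨mem_of_residue hc _ _ (by simp [hs', hs]) fun i => (hall i).1.2, hn', hs',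
            fun p hp => (hall p.1).2 p hp rfl⟩
        · simp at hx
  have hsame : ∀ r₁ r₀ : ℤ, r₁ ≠ r₀ → ∀ c d x, x ∈ K r₁ r₀ c → x ∈ K r₁ r₀ d → c = d := by
    intro r₁ r₀ hne c d x h1 h2
    ext i
    have a := (((hZ _ _ _ _).1 (Finset.mem_filter.1 h1).1) i).1.2
    have b := (((hZ _ _ _ _).1 (Finset.mem_filter.1 h2).1) i).1.2
    by_cases hi : i ∈ c <;> by_cases hj : i ∈ d <;> simp [hi, hj] at a b ⊢ <;> omega
  rw [hset, Set.ncard_coe_finset, Finset.card_union_of_disjoint, Finset.card_biUnion, Finset.card_biUnion,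
    ← Finset.sum_add_distrib]
  · obtain ⟨h, hh⟩ : ∃ h : ℕ × List Bool → ℕ, ∀ k, h k =
        (if S % 8 = 0 then sumTerm n S tv 2 0 k else 0) + (if S % 8 = 4 then sumTerm n S tv 3 1 k else 0) :=
      ⟨_, fun _ => rfl⟩
    have hkey : ∀ c : Finset GolayPt, (c.card, tv.map fun p => decide (p.1 ∈ c)) = sumKey tv (mask c) := fun c => by
      simp only [sumKey, ← card_eq_pc_mask, testBit_mask]
    have e : ∀ c ∈ C, (E c).card + (O c).card = h (sumKey tv (mask c)) := fun c _ => by
      rw [hh, ← hkey, ← hcard 2 0 (by simp) (by simp), ← hcard 3 1 (by simp) (by simp)]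
      simp only [E, O]
      split_ifs <;> simp
    rw [Finset.sum_congr rfl e, ← Finset.sum_fiberwise_of_maps_to (t := (tab.map Prod.fst).toFinset)
      (g := fun c => sumKey tv (mask c)) (fun c hc => ?_), List.sum_toFinset _ hkeys, List.map_map, sumVecFormula]
    · refine congrArg List.sum (List.map_congr_left fun k hk => ?_)
      simp only [Function.comp_apply]
      rw [Finset.sum_congr rfl (g := fun _ => h k.1) (fun c hc => by rw [(Finset.mem_filter.1 hc).2]),
        Finset.sum_const, smul_eq_mul, hh]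
      congr 1
      rw [← hcnt k hk, ← Set.ncard_coe_finset, ncard_supports_filter (fun m => sumKey tv m == k.1) _ (fun s => by
        simp [hC, mem_supports_iff])]
    · obtain ⟨j, hj, hje⟩ := inC_eq_encode (mem_supports_iff.1 ((hC c).1 hc))
      have h5 := allB_spec _ 12 0 hcov j (Nat.zero_le _) (by simpa using hj)
      rw [hje] at h5
      simpa [List.contains_iff_mem] using h5
  · intro c _ d _ hcd
    refine Finset.disjoint_left.2 fun x h1 h2 => hcd ?_
    simp only [O] at h1 h2
    split_ifs at h1 with hs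
    · rw [if_pos hs] at h2; exact hsame 3 1 (by norm_num) c d x h1 h2
    · simp at h1
  · intro c _ d _ hcd
    refine Finset.disjoint_left.2 fun x h1 h2 => hcd ?_
    simp only [E] at h1 h2
    split_ifs at h1 with hs
    · rw [if_pos hs] at h2; exact hsame 2 0 (by norm_num) c d x h1 h2
    · simp at h1
  · refine Finset.disjoint_left.2 fun x h1 h2 => ?_
    obtain ⟨c, -, h1⟩ := Finset.mem_biUnion.1 h1
    obtain ⟨d, -, h2⟩ := Finset.mem_biUnion.1 h2
    simp only [E] at h1
    simp only [O] at h2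
    split_ifs at h1 with a <;> split_ifs at h2 with b <;> first | omega | simp at h1 | simp at h2

end Cfsg.Agent.Golay
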