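import Cfsg.Agent.Golay.LeechStabSimple
import Cfsg.Agent.Golay.LeechSumCount

/-! The hundred minimal vectors of a Higman-Sims pair. -/

set_option autoImplicit false
set_option maxRecDepth 20000

namespace Cfsg.Agent.Golay

open scoped Pointwise

/-- The first reference vector. -/
def hsV : ↥leechLattice := ⟨_, tgt_facts.2.1⟩

/-- The second reference vector. -/
def hsW : ↥leechLattice := ⟨_, tgt_facts.2.2.2.1⟩

/-- The reference minimal vector. -/
def hsX : ↥leechLattice := ⟨uVec, uVec_mem⟩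

theorem dot_peak (p : GolayPt) (t : ℤ) (x : GolayPt → ℤ) :
    dotInt (peakVec p t) x = (∑ i, x i) + (t - 1) * x p := by
  have : ∀ i, peakVec p t i * x i = x i + if i = p then (t - 1) * x p else 0 := fun i => by
    simp only [peakVec]
    by_cases h : i = p
    · subst h; simp; ring
    · simp [h]
  rw [dotInt, Finset.sum_congr rfl fun i _ => this i, Finset.sum_add_distrib, Finset.sum_ite_eq',
    if_pos (Finset.mem_univ p)]

theorem dot_negVec (y x : GolayPt → ℤ) : dotInt (fun i => -y i) x = -dotInt y x := by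
  simp only [dotInt, neg_mul, Finset.sum_neg_distrib]

theorem hs_cond (x : GolayPt → ℤ) :
    dotInt (hsV : GolayPt → ℤ) x = 24 ∧ dotInt (hsW : GolayPt → ℤ) x = -24 ↔
      x (pt 0) = x none ∧ ∑ i, x i = 24 - 4 * x none := by
  show dotInt (peakVec none 5) x = 24 ∧ dotInt (fun i => -peakVec (pt 0) 5 i) x = -24 ↔ _
  rw [dot_negVec, dot_peak, dot_peak]
  omega

/-- Keys of code words at two points. -/
def tab2 : List ((ℕ × List Bool) × ℕ) :=
  [((0, [false, false]), 1), ((8, [false, false]), 330), ((8, [false, true]), 176), ((8, [true, false]), 176),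
   ((8, [true, true]), 77), ((12, [false, false]), 616), ((12, [false, true]), 672), ((12, [true, false]), 672),
   ((12, [true, true]), 616), ((16, [false, false]), 77), ((16, [false, true]), 176), ((16, [true, false]), 176),
   ((16, [true, true]), 330), ((24, [true, true]), 1)]

theorem tab2_ok : (tab2.map Prod.fst).Nodup ∧ ∀ a b : ℤ, sumTabOK [(none, a), (pt 0, b)] tab2 = true := by
  refine ⟨by decide, fun a b => ?_⟩
  have : sumTabOK [(none, 0), (pt 0, 0)] tab2 = true := by decide +kernel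
  exact this

theorem pair_sum_census (S a b : ℤ) (hS : -192 ≤ S) (hS' : S ≤ 192) :
    {x : GolayPt → ℤ | x ∈ leechLattice ∧ sqNorm x = 32 ∧ ∑ i, x i = S ∧ x none = a ∧ x (pt 0) = b}.ncard =
      sumVecFormula 32 S [(none, a), (pt 0, b)] tab2 := by
  rw [← sum_vec_census 32 le_rfl S hS hS' _ (by simp [none_ne_pt0]) tab2 tab2_ok.1 (tab2_ok.2 a b)]
  simp [sumSet]

theorem hs_values : ∀ k ∈ List.range 11, sumVecFormula 32 (24 - 4 * ((k : ℤ) - 5))
    [(none, (k : ℤ) - 5), (pt 0, (k : ℤ) - 5)] tab2 =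
    if k = 6 then 22 else if k = 7 then 77 else if k = 9 then 1 else 0 := by decide +kernel

/-- The vectors with a single `-3`. -/
def hsA (p : GolayPt) : GolayPt → ℤ := fun i => if i = p then -3 else 1

/-- The vectors of an octad. -/
def hsB (o : Finset GolayPt) : GolayPt → ℤ := fun i => if i ∈ o then 2 else 0

/-- The pool of the second kind. -/
def octs2 : Set (Finset GolayPt) := {o | o ∈ octads ∧ none ∈ o ∧ pt 0 ∈ o}

theorem octs2_ncard : octs2.ncard = 77 := by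
  rw [ncard_supports_filter (fun m => pc m == 8 && m.testBit 23 && m.testBit 0) octs2 fun s => ?_]
  · decide +kernel
  · have e1 : (mask s).testBit 23 = decide (none ∈ s) := testBit_mask s none
    have e2 : (mask s).testBit 0 = decide (pt 0 ∈ s) := testBit_mask s (pt 0)
    simp [octs2, octads, wordsOfWeight, mem_supports_iff, card_eq_pc_mask, e1, e2, and_assoc, -Nat.testBit_zero]

theorem hsA_props {p : GolayPt} (h1 : p ≠ none) (h2 : p ≠ pt 0) :
    hsA p ∈ leechLattice ∧ sqNorm (hsA p) = 32 ∧ ∑ i, hsA p i = 20 ∧ hsA p none = 1 ∧ hsA p (pt 0) = 1 := by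
  have hsum : ∑ i, hsA p i = 20 := by
    have : ∀ i, hsA p i = 1 + if i = p then -4 else 0 := fun i => by simp only [hsA]; split_ifs <;> rfl
    rw [Finset.sum_congr rfl fun i _ => this i, Finset.sum_add_distrib, Finset.sum_ite_eq', if_pos (Finset.mem_univ p)]
    simp [card_golayPt]
  refine ⟨mem_of_residue empty_mem_supports 3 1 (Or.inr ⟨rfl, rfl, by rw [hsum]; norm_num⟩) fun i => ?_, ?_, hsum,
    by simp [hsA, Ne.symm h1], by simp [hsA, Ne.symm h2]⟩
  · simp only [hsA, Finset.notMem_empty, if_false]; split_ifs <;> rfl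
  · have : ∀ i, hsA p i ^ 2 = 1 + if i = p then 8 else 0 := fun i => by simp only [hsA]; split_ifs <;> norm_num
    rw [sqNorm, Finset.sum_congr rfl fun i _ => this i, Finset.sum_add_distrib, Finset.sum_ite_eq',
      if_pos (Finset.mem_univ p)]
    simp [card_golayPt]

theorem hsB_props {o : Finset GolayPt} (ho : o ∈ octs2) :
    hsB o ∈ leechLattice ∧ sqNorm (hsB o) = 32 ∧ ∑ i, hsB o i = 16 ∧ hsB o none = 2 ∧ hsB o (pt 0) = 2 := by
  obtain ⟨⟨hc, h8⟩, h1, h2⟩ := ho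
  have hsum : ∑ i, hsB o i = 16 := by simp only [hsB]; rw [sum_two_indicator, h8]; norm_num
  refine ⟨mem_of_residue hc 2 0 (Or.inl ⟨rfl, rfl, by rw [hsum]; norm_num⟩) fun i => ?_, ?_, hsum,
    if_pos h1, if_pos h2⟩
  · simp only [hsB]; split_ifs <;> rfl
  · have : ∀ i, hsB o i ^ 2 = 2 * if i ∈ o then (2 : ℤ) else 0 := fun i => by
      simp only [hsB]; split_ifs <;> norm_num
    rw [sqNorm, Finset.sum_congr rfl fun i _ => this i, ← Finset.mul_sum, sum_two_indicator, h8]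
    norm_num

theorem hs_classify {x : GolayPt → ℤ} (hx : x ∈ leechLattice) (hn : sqNorm x = 32)
    (hd : dotInt (hsV : GolayPt → ℤ) x = 24 ∧ dotInt (hsW : GolayPt → ℤ) x = -24) :
    (x none = 4 ∧ x = uVec) ∨ (x none = 1 ∧ ∃ p, p ≠ none ∧ p ≠ pt 0 ∧ x = hsA p) ∨
      (x none = 2 ∧ ∃ o ∈ octs2, x = hsB o) := by
  obtain ⟨hz, hs⟩ := (hs_cond x).1 hd
  have hb : -5 ≤ x none ∧ x none ≤ 5 := by
    have h1 : x none ^ 2 ≤ sqNorm x :=
      Finset.single_le_sum (f := fun j => x j ^ 2) (fun j _ => sq_nonneg _) (Finset.mem_univ _)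
    constructor <;> nlinarith
  obtain ⟨k, hk, hka⟩ : ∃ k : ℕ, k ∈ List.range 11 ∧ x none = (k : ℤ) - 5 :=
    ⟨(x none + 5).toNat, List.mem_range.2 (by omega), by omega⟩
  have hcount := pair_sum_census (24 - 4 * x none) (x none) (x none) (by omega) (by omega)
  rw [hka, hs_values k hk] at hcount
  set T := {y : GolayPt → ℤ | y ∈ leechLattice ∧ sqNorm y = 32 ∧ ∑ i, y i = 24 - 4 * ((k : ℤ) - 5) ∧
    y none = (k : ℤ) - 5 ∧ y (pt 0) = (k : ℤ) - 5} with hT
  have hfin : T.Finite := by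
    refine (Set.Finite.pi (t := fun _ : GolayPt => Set.Icc (-8 : ℤ) 8) fun _ => Set.finite_Icc _ _).subset
      fun y hy => Set.mem_pi.2 fun i _ => ?_
    exact abs_le.1 (abs_le_eight (x := y) (by have := hy.2.1; omega) i)
  have hxT : x ∈ T := ⟨hx, hn, by rw [← hka]; exact hs, hka, hz.trans hka⟩
  have hpos : T.ncard ≠ 0 := Set.ncard_ne_zero_of_mem hxT hfin
  rw [hcount] at hpos
  split_ifs at hcount hpos with h6 h7 h9
  · subst h6
    refine Or.inr (Or.inl ⟨hka.trans (by norm_num), ?_⟩)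
    have hsub : hsA '' (restPts : Set GolayPt) ⊆ T := by
      rintro _ ⟨p, hp, rfl⟩
      simp only [restPts, Finset.coe_erase, Finset.coe_univ, Set.mem_diff, Set.mem_singleton_iff] at hp
      obtain ⟨a, b, c, d, e⟩ := hsA_props hp.1.2 hp.2
      exact ⟨a, b, by rw [c]; norm_num, by rw [d]; norm_num, by rw [e]; norm_num⟩
    have heq := Set.eq_of_subset_of_ncard_le hsub (by
      rw [hcount, Set.ncard_image_of_injective _ fun p q h => by
        have := congrFun h p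
        simp only [hsA, if_true] at this
        by_contra hne
        rw [if_neg hne] at this
        norm_num at this, Set.ncard_coe_finset, rest_facts]) hfin
    rw [← heq] at hxT
    obtain ⟨p, hp, rfl⟩ := hxT
    simp only [restPts, Finset.coe_erase, Finset.coe_univ, Set.mem_diff, Set.mem_singleton_iff] at hp
    exact ⟨p, hp.1.2, hp.2, rfl⟩
  · subst h7
    refine Or.inr (Or.inr ⟨hka.trans (by norm_num), ?_⟩)
    have hsub : hsB '' octs2 ⊆ T := by
      rintro _ ⟨o, ho, rfl⟩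
      obtain ⟨a, b, c, d, e⟩ := hsB_props ho
      exact ⟨a, b, by rw [c]; norm_num, by rw [d]; norm_num, by rw [e]; norm_num⟩
    have heq := Set.eq_of_subset_of_ncard_le hsub (by
      rw [hcount, Set.ncard_image_of_injective _ fun o o' h => Finset.ext fun i => by
        have := congrFun h i
        simp only [hsB] at this
        by_cases a : i ∈ o <;> by_cases b : i ∈ o' <;> simp [a, b] at this ⊢, octs2_ncard]) hfin
    rw [← heq] at hxT
    obtain ⟨o, ho, rfl⟩ := hxT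
    exact ⟨o, ho, rfl⟩
  · subst h9
    refine Or.inl ⟨hka.trans (by norm_num), ?_⟩
    obtain ⟨y, hy⟩ := Set.ncard_eq_one.1 hcount
    have hu : uVec ∈ T := ⟨uVec_mem, uVec_norm, by decide +kernel, by decide +kernel, by decide +kernel⟩
    rw [hy, Set.mem_singleton_iff] at hxT hu
    rw [hxT, hu]
  · exact absurd rfl hpos

/-- The vectors with a given pair. -/
def hsSet (v w : ↥leechLattice) : Set ↥leechLattice :=
  {x | sqNorm (x : GolayPt → ℤ) = 32 ∧ dotInt (v : GolayPt → ℤ) (x : GolayPt → ℤ) = 24 ∧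
    dotInt (w : GolayPt → ℤ) (x : GolayPt → ℤ) = -24}

theorem hsA_mem {p : GolayPt} (h1 : p ≠ none) (h2 : p ≠ pt 0) :
    (⟨hsA p, (hsA_props h1 h2).1⟩ : ↥leechLattice) ∈ hsSet hsV hsW := by
  obtain ⟨a, b, c, d, e⟩ := hsA_props h1 h2
  exact ⟨b, (hs_cond _).2 ⟨e.trans d.symm, c.trans (by simp [d])⟩⟩

theorem hsB_mem {o : Finset GolayPt} (ho : o ∈ octs2) :
    (⟨hsB o, (hsB_props ho).1⟩ : ↥leechLattice) ∈ hsSet hsV hsW := by
  obtain ⟨a, b, c, d, e⟩ := hsB_props ho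
  exact ⟨b, (hs_cond _).2 ⟨e.trans d.symm, c.trans (by simp [d])⟩⟩

theorem uVec_dot_hs {y : ↥leechLattice} (hy : y ∈ hsSet hsV hsW) :
    dotInt (hsX : GolayPt → ℤ) y = 8 * (y : GolayPt → ℤ) none := by
  show dotInt uVec _ = _
  rw [uVec_dot, ((hs_cond _).1 ⟨hy.2.1, hy.2.2⟩).1]
  ring

theorem hs_near_ncard : {y : ↥leechLattice | y ∈ hsSet hsV hsW ∧ dotInt (hsX : GolayPt → ℤ) y = 8}.ncard = 22 := by
  refine Eq.trans ?_ rest_facts
  rw [← Set.ncard_coe_finset, ← Set.ncard_image_of_injective _ Subtype.coe_injective]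
  rw [← Set.ncard_image_of_injective (restPts : Set GolayPt) (f := hsA) fun p q h => by
    have := congrFun h p
    simp only [hsA, if_true] at this
    by_contra hne
    rw [if_neg hne] at this
    norm_num at this]
  congr 1
  ext x
  constructor
  · rintro ⟨y, ⟨hy, hd⟩, rfl⟩
    rw [uVec_dot_hs hy] at hd
    rcases hs_classify y.2 hy.1 ⟨hy.2.1, hy.2.2⟩ with ⟨h, -⟩ | ⟨-, p, h1, h2, e⟩ | ⟨h, -⟩
    · omega
    · exact ⟨p, by simp [restPts, h1, h2], e.symm⟩
    · omega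
  · rintro ⟨p, hp, rfl⟩
    simp only [restPts, Finset.coe_erase, Finset.coe_univ, Set.mem_diff, Set.mem_singleton_iff] at hp
    refine ⟨_, ⟨hsA_mem hp.1.2 hp.2, ?_⟩, rfl⟩
    rw [uVec_dot_hs (hsA_mem hp.1.2 hp.2)]
    exact congrArg (8 * ·) (hsA_props hp.1.2 hp.2).2.2.2.1

theorem hs_far_ncard : {y : ↥leechLattice | y ∈ hsSet hsV hsW ∧ y ≠ hsX ∧
    dotInt (hsX : GolayPt → ℤ) y ≠ 8}.ncard = 77 := by
  refine Eq.trans ?_ octs2_ncard
  rw [← Set.ncard_image_of_injective _ Subtype.coe_injective]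
  rw [← Set.ncard_image_of_injective octs2 (f := hsB) fun o o' h => Finset.ext fun i => by
    have := congrFun h i
    simp only [hsB] at this
    by_cases a : i ∈ o <;> by_cases b : i ∈ o' <;> simp [a, b] at this ⊢]
  congr 1
  ext x
  constructor
  · rintro ⟨y, ⟨hy, hne, hd⟩, rfl⟩
    rw [uVec_dot_hs hy] at hd
    rcases hs_classify y.2 hy.1 ⟨hy.2.1, hy.2.2⟩ with ⟨-, e⟩ | ⟨h, -⟩ | ⟨-, o, ho, e⟩
    · exact absurd (Subtype.ext e) hne
    · omega
    · exact ⟨o, ho, e.symm⟩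
  · rintro ⟨o, ho, rfl⟩
    refine ⟨_, ⟨hsB_mem ho, fun e => ?_, ?_⟩, rfl⟩
    · have := congrArg (fun a : ↥leechLattice => (a : GolayPt → ℤ) none) e
      simp [(hsB_props ho).2.2.2.1, hsX, uVec, fourVec] at this
    · rw [uVec_dot_hs (hsB_mem ho), show ((⟨hsB o, _⟩ : ↥leechLattice) : GolayPt → ℤ) none = 2 from
        (hsB_props ho).2.2.2.1]
      norm_num

theorem hs_set_ncard : (hsSet hsV hsW).ncard = 100 := by
  have hX : hsX ∈ hsSet hsV hsW := ⟨uVec_norm, (hs_cond _).2 (by decide +kernel)⟩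
  have e : hsSet hsV hsW = insert hsX ({y : ↥leechLattice | y ∈ hsSet hsV hsW ∧ dotInt (hsX : GolayPt → ℤ) y = 8} ∪
      {y : ↥leechLattice | y ∈ hsSet hsV hsW ∧ y ≠ hsX ∧ dotInt (hsX : GolayPt → ℤ) y ≠ 8}) := by
    ext y
    constructor
    · intro h
      by_cases h1 : y = hsX
      · exact Or.inl h1
      by_cases h2 : dotInt (hsX : GolayPt → ℤ) y = 8
      · exact Or.inr (Or.inl ⟨h, h2⟩)
      · exact Or.inr (Or.inr ⟨h, h1, h2⟩)
    · rintro (rfl | ⟨h, -⟩ | ⟨h, -⟩)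
      · exact hX
      · exact h
      · exact h
  have f1 := Set.finite_of_ncard_ne_zero (by rw [hs_near_ncard]; norm_num :
    {y : ↥leechLattice | y ∈ hsSet hsV hsW ∧ dotInt (hsX : GolayPt → ℤ) y = 8}.ncard ≠ 0)
  have f2 := Set.finite_of_ncard_ne_zero (by rw [hs_far_ncard]; norm_num :
    {y : ↥leechLattice | y ∈ hsSet hsV hsW ∧ y ≠ hsX ∧ dotInt (hsX : GolayPt → ℤ) y ≠ 8}.ncard ≠ 0)
  rw [e, Set.ncard_insert_of_notMem ?_ (f1.union f2), Set.ncard_union_eq ?_ f1 f2, hs_near_ncard, hs_far_ncard]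
  · exact Set.disjoint_left.2 fun y h1 h2 => h2.2.2 h1.2
  · rintro (⟨-, h⟩ | ⟨-, h, -⟩)
    · rw [uVec_dot_hs hX] at h
      revert h
      decide +kernel
    · exact h rfl

theorem mono22 {σ : Equiv.Perm GolayPt} (hσ : σ ∈ M24) (h1 : σ none = none) (h2 : σ (pt 0) = pt 0) :
    monoEl σ hσ ∅ empty_mem_supports • hsV = hsV ∧ monoEl σ hσ ∅ empty_mem_supports • hsW = hsW ∧
      monoEl σ hσ ∅ empty_mem_supports • hsX = hsX := by
  have key : ∀ v : ↥leechLattice, (∀ i, (v : GolayPt → ℤ) (σ i) = (v : GolayPt → ℤ) i) →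
      monoEl σ hσ ∅ empty_mem_supports • v = v := fun v hv => Subtype.ext (funext fun i => by
    rw [monoEl_apply, signedPerm_eq, sgnOf, if_neg (Finset.notMem_empty i), one_mul,
      ← hv (σ.symm i), Equiv.apply_symm_apply])
  have i1 : ∀ i, σ i = none ↔ i = none := fun i => ⟨fun e => σ.injective (e.trans h1.symm), fun e => e ▸ h1⟩
  have i2 : ∀ i, σ i = pt 0 ↔ i = pt 0 := fun i => ⟨fun e => σ.injective (e.trans h2.symm), fun e => e ▸ h2⟩
  refine ⟨key _ fun i => ?_, key _ fun i => ?_, key _ fun i => ?_⟩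
  · show peakVec none 5 (σ i) = peakVec none 5 i
    simp only [peakVec, i1]
  · show -peakVec (pt 0) 5 (σ i) = -peakVec (pt 0) 5 i
    simp only [peakVec, i2]
  · show uVec (σ i) = uVec i
    simp only [uVec, fourVec, List.mem_cons, List.not_mem_nil, or_false, i1, i2]

theorem hs_set_transitive {x : ↥leechLattice} (hx : x ∈ hsSet hsV hsW) :
    ∃ g : ↥Co0, g • hsV = hsV ∧ g • hsW = hsW ∧ g • hsX = x := by
  haveI := co0_finite
  let G : Subgroup ↥Co0 := MulAction.stabilizer ↥Co0 hsV ⊓ MulAction.stabilizer ↥Co0 hsW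
  have hG : Nat.card ↥G = 44352000 :=
    hs_card (v := hsV) (w := hsW) tgt_facts.2.2.2.2.2.1 tgt_facts.2.2.2.2.2.2.2.1 tgt_facts.2.2.2.2.2.2.2.2.2
  have hX : hsX ∈ hsSet hsV hsW := ⟨uVec_norm, (hs_cond _).2 (by decide +kernel)⟩
  have hsub : MulAction.orbit ↥G hsX ⊆ hsSet hsV hsW := by
    rintro _ ⟨g, rfl⟩
    refine ⟨(co0_norm (g : ↥Co0) hsX).trans hX.1, ?_, ?_⟩
    · have := co0_dot (g : ↥Co0) hsV hsX
      rw [MulAction.mem_stabilizer_iff.1 g.2.1] at this
      exact this.trans hX.2.1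
    · have := co0_dot (g : ↥Co0) hsW hsX
      rw [MulAction.mem_stabilizer_iff.1 g.2.2] at this
      exact this.trans hX.2.2
  have hst : Nat.card (MulAction.stabilizer ↥G hsX) ≤ 443520 := by
    have hsum : e8 none = hsX + (hsV + hsW) := Subtype.ext (by
      show (e8 none : GolayPt → ℤ) = uVec + (peakVec none 5 + fun i => -peakVec (pt 0) 5 i)
      decide +kernel)
    rw [← M24_stab2_card none_ne_pt0]
    have hmem : ∀ g : MulAction.stabilizer ↥G hsX, ((g : ↥G) : ↥Co0) ∈ (permHom S22 S22_le).range := by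
      intro g
      obtain ⟨g1, g2⟩ := (g : ↥G).2
      have g3 : ((g : ↥G) : ↥Co0) • hsX = hsX := g.2
      have he : ((g : ↥G) : ↥Co0) • e8 none = e8 none := by
        rw [hsum, co0_add, co0_add, g3, MulAction.mem_stabilizer_iff.1 g1, MulAction.mem_stabilizer_iff.1 g2]
      obtain ⟨σ, hσ, c, hc, e⟩ := exists_mono_of_crossFix (crossFix_of_fix rfl he)
      rw [e] at g1 g2
      obtain ⟨s1, rfl⟩ := (mono_fix_peakVec none (t := 5) (v := hsV) (Or.inl (by norm_num)) rfl σ hσ c hc).1 g1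
      have s2 : σ (pt 0) = pt 0 ∧ (∅ : Finset GolayPt) = ∅ := by
        rw [← mono_fix_peak (v := peakVec (pt 0) 5) (p := pt 0) (fun i hi => by simp [peakVec, hi])
          (by simp [peakVec]) σ ∅]
        funext i
        have h := congrFun (congrArg Subtype.val (MulAction.mem_stabilizer_iff.1 g2)) i
        rw [monoEl_apply, signedPerm_eq] at h
        change sgnOf ∅ i * -peakVec (pt 0) 5 (σ.symm i) = -peakVec (pt 0) 5 i at h
        rw [signedPerm_eq]
        linarith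
      exact ⟨⟨σ, ⟨hσ, s1⟩, s2.1⟩, e.symm⟩
    choose f hf using hmem
    exact Nat.card_le_card_of_injective f fun a b h => Subtype.ext (Subtype.ext (by rw [← hf a, ← hf b, h]))
  have hprod : (MulAction.orbit ↥G hsX).ncard * Nat.card (MulAction.stabilizer ↥G hsX) = 44352000 := by
    rw [← hG, Subgroup.card_eq_card_quotient_mul_card_subgroup (MulAction.stabilizer ↥G hsX),
      ← Nat.card_congr (MulAction.orbitEquivQuotientStabilizer ↥G hsX), Nat.card_coe_set_eq]
  have horb : MulAction.orbit ↥G hsX = hsSet hsV hsW := by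
    refine Set.eq_of_subset_of_ncard_le hsub ?_ (Set.finite_of_ncard_ne_zero (by rw [hs_set_ncard]; norm_num))
    rw [hs_set_ncard]
    nlinarith
  rw [← horb] at hx
  obtain ⟨g, hg⟩ := hx
  exact ⟨g, g.2.1, g.2.2, hg⟩

theorem octs2_transitive {o o' : Finset GolayPt} (ho : o ∈ octs2) (ho' : o' ∈ octs2) :
    ∃ σ, σ ∈ M24 ∧ σ none = none ∧ σ (pt 0) = pt 0 ∧ σ • o = o' := by
  have three : ∀ s : Finset GolayPt, s ∈ octs2 → ∃ a b c, a ∈ s ∧ b ∈ s ∧ c ∈ s ∧
      [none, pt 0, a, b, c].Nodup := fun s hs => by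
    obtain ⟨t, ht, h3⟩ := Finset.exists_subset_card_eq (s := (s.erase none).erase (pt 0)) (n := 3) (by
      rw [Finset.card_erase_of_mem (Finset.mem_erase.2 ⟨none_ne_pt0.symm, hs.2.2⟩),
        Finset.card_erase_of_mem hs.2.1, hs.1.2]
      norm_num)
    obtain ⟨a, b, c, hab, hac, hbc, rfl⟩ := Finset.card_eq_three.1 h3
    have ha := ht (by simp : a ∈ ({a, b, c} : Finset GolayPt))
    have hb := ht (by simp : b ∈ ({a, b, c} : Finset GolayPt))
    have hc := ht (by simp : c ∈ ({a, b, c} : Finset GolayPt))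
    simp only [Finset.mem_erase] at ha hb hc
    exact ⟨a, b, c, ha.2.2, hb.2.2, hc.2.2, by
      simp [none_ne_pt0, Ne.symm ha.1, Ne.symm hb.1, Ne.symm hc.1, Ne.symm ha.2.1, Ne.symm hb.2.1,
        Ne.symm hc.2.1, hab, hac, hbc]⟩
  obtain ⟨a, b, c, ha, hb, hc, hnd⟩ := three o ho
  obtain ⟨a', b', c', ha', hb', hc', hnd'⟩ := three o' ho'
  obtain ⟨σ, hσ, hm⟩ := exists_mem_M24_list _ _ hnd hnd' rfl (by simp)
  simp only [List.map_cons, List.map_nil, List.cons.injEq, and_true] at hm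
  refine ⟨σ, hσ, hm.1, hm.2.1, octad_eq_of_five_le (smul_mem_octads hσ ho.1) ho'.1 ?_⟩
  have hsub : ([none, pt 0, a', b', c'] : List GolayPt).toFinset ⊆ (σ • o) ∩ o' := fun i hi => by
    simp only [List.mem_toFinset, List.mem_cons, List.not_mem_nil, or_false] at hi
    rw [Finset.mem_inter, Finset.mem_smul_finset]
    rcases hi with rfl | rfl | rfl | rfl | rfl
    · exact ⟨⟨none, ho.2.1, hm.1⟩, ho'.2.1⟩
    · exact ⟨⟨pt 0, ho.2.2, hm.2.1⟩, ho'.2.2⟩
    · exact ⟨⟨a, ha, hm.2.2.1⟩, ha'⟩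
    · exact ⟨⟨b, hb, hm.2.2.2.1⟩, hb'⟩
    · exact ⟨⟨c, hc, hm.2.2.2.2⟩, hc'⟩
  have := Finset.card_le_card hsub
  rw [List.toFinset_card_of_nodup hnd'] at this
  simpa using this

theorem hs_suborbit {y y' : ↥leechLattice} (hy : y ∈ hsSet hsV hsW) (hy' : y' ∈ hsSet hsV hsW) (h1 : y ≠ hsX)
    (h2 : y' ≠ hsX) (h : dotInt (hsX : GolayPt → ℤ) y = 8 ↔ dotInt (hsX : GolayPt → ℤ) y' = 8) :
    ∃ g : ↥Co0, g • hsV = hsV ∧ g • hsW = hsW ∧ g • hsX = hsX ∧ g • y = y' := by
  rw [uVec_dot_hs hy, uVec_dot_hs hy'] at h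
  have hperm : ∀ σ (hσ : σ ∈ M24), σ none = none → σ (pt 0) = pt 0 →
      (∀ i, (y' : GolayPt → ℤ) (σ i) = (y : GolayPt → ℤ) i) →
      ∃ g : ↥Co0, g • hsV = hsV ∧ g • hsW = hsW ∧ g • hsX = hsX ∧ g • y = y' := by
    intro σ hσ e1 e2 hv
    obtain ⟨a, b, c⟩ := mono22 hσ e1 e2
    refine ⟨_, a, b, c, Subtype.ext (funext fun i => ?_)⟩
    rw [monoEl_apply, signedPerm_eq, sgnOf, if_neg (Finset.notMem_empty i), one_mul, ← hv (σ.symm i),
      Equiv.apply_symm_apply]
  rcases hs_classify y.2 hy.1 ⟨hy.2.1, hy.2.2⟩ with ⟨-, e⟩ | ⟨ha, p, p1, p2, e⟩ | ⟨ha, o, ho, e⟩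
  · exact absurd (Subtype.ext e) h1
  all_goals rcases hs_classify y'.2 hy'.1 ⟨hy'.2.1, hy'.2.2⟩ with ⟨-, e'⟩ | ⟨ha', p', q1, q2, e'⟩ | ⟨ha', o', ho', e'⟩
  all_goals first | exact absurd (Subtype.ext e') h2 | (rw [ha, ha'] at h; norm_num at h; done) | skip
  · obtain ⟨σ, hσ, hm⟩ := exists_mem_M24_list [none, pt 0, p] [none, pt 0, p']
      (by simp [Ne.symm p1, Ne.symm p2, none_ne_pt0]) (by simp [Ne.symm q1, Ne.symm q2, none_ne_pt0]) rfl (by simp)
    simp only [List.map_cons, List.map_nil, List.cons.injEq, and_true] at hm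
    refine hperm σ hσ hm.1 hm.2.1 fun i => ?_
    rw [e, e']
    simp only [hsA, ← hm.2.2, σ.injective.eq_iff]
  · obtain ⟨σ, hσ, hm⟩ : ∃ σ, σ ∈ M24 ∧ σ none = none ∧ σ (pt 0) = pt 0 ∧ σ • o = o' := octs2_transitive ho ho'
    obtain ⟨m1, m2, m3⟩ := hm
    refine hperm σ hσ m1 m2 fun i => ?_
    rw [e, e']
    simp only [hsB, ← m3, ← Equiv.Perm.smul_def, Finset.smul_mem_smul_finset_iff]

/-- A pair is carried to the reference pair. -/
theorem hs_conj {v w : ↥leechLattice} (hv : sqNorm (v : GolayPt → ℤ) = 48) (hw : sqNorm (w : GolayPt → ℤ) = 48)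
    (hvw : dotInt (v : GolayPt → ℤ) (w : GolayPt → ℤ) = -32) : ∃ g : ↥Co0, g • v = hsV ∧ g • w = hsW := by
  obtain ⟨hx, hxv⟩ := hs_third hv hw hvw
  have hvn : sqNorm (hsV : GolayPt → ℤ) = 48 := tgt_facts.2.2.2.2.2.1
  obtain ⟨hx0, hxv0⟩ := hs_third (v := hsV) (w := hsW) hvn tgt_facts.2.2.2.2.2.2.2.1 tgt_facts.2.2.2.2.2.2.2.2.2
  obtain ⟨h, hh⟩ := co0_transitive (Or.inl rfl) hx hx0
  have hd := co0_dot h (-(v + w)) v
  rw [hh, hxv] at hd
  obtain ⟨k, k1, k2⟩ := mixed_transitive hx0 ((co0_norm h v).trans hv) hvn hd hxv0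
  refine ⟨k * h, by rw [mul_smul, k2], ?_⟩
  have e : w = -(-(v + w)) + -v := by abel
  rw [mul_smul, e, co0_add, co0_neg' h (-(v + w)), co0_neg' h v, hh, co0_add, co0_neg' k (-(hsV + hsW)),
    co0_neg' k (h • v), k1, k2]
  abel

theorem hsSet_transport {v w : ↥leechLattice} {g : ↥Co0} (g1 : g • v = hsV) (g2 : g • w = hsW)
    (x : ↥leechLattice) : x ∈ hsSet v w ↔ g • x ∈ hsSet hsV hsW := by
  simp only [hsSet, Set.mem_ofPred_eq, ← g1, ← g2, co0_norm, co0_dot]

end Cfsg.Agent.Golay
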