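import Cfsg.Agent.Golay.SteinerAut
import Cfsg.Agent.Golay.LeechHS

/-! Uniqueness and automorphisms of the graph on 100 vertices. -/

set_option autoImplicit false
set_option linter.unusedSectionVars false
set_option maxRecDepth 20000
open Cfsg
open scoped Pointwise

namespace Cfsg.Agent.Golay

/-- A graph with these parameters is the graph of a system on 22 points. -/
theorem srg100_model {V : Type*} [Fintype V] {G : SimpleGraph V} [DecidableRel G.Adj]
    (hG : G.IsSRGWith 100 22 0 6) (v : V) [DecidableEq V] :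
    ∃ B : Set (Finset {a // G.Adj v a}), IsSteinerSystem 3 6 B ∧ Nonempty (pointBlockGraph B ≃g G) := by
  classical
  have hcn : ∀ p q : V, Fintype.card (G.commonNeighbors p q) =
      (Finset.univ.filter fun y => G.Adj p y ∧ G.Adj q y).card := fun p q => by
    rw [← Set.toFinset_card]; congr 1; ext y; simp [SimpleGraph.mem_commonNeighbors]
  have htri : ∀ {p q r : V}, G.Adj p q → G.Adj p r → G.Adj q r → False := fun {p q r} h1 h2 h3 => by
    have h := hG.of_adj p q h1
    rw [hcn, Finset.card_eq_zero, Finset.filter_eq_empty_iff] at h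
    exact h (Finset.mem_univ r) ⟨h2, h3⟩
  have hdeg : ∀ p : V, (Finset.univ.filter fun y => G.Adj p y).card = 22 := fun p => by
    rw [← G.neighborFinset_eq_filter, G.card_neighborFinset_eq_degree, hG.regular p]
  have hmu : ∀ p q : V, p ≠ q → ¬ G.Adj p q → (Finset.univ.filter fun y => G.Adj p y ∧ G.Adj q y).card = 6 :=
    fun p q h1 h2 => by rw [← hcn, hG.of_not_adj h1 h2]
  set F : Finset V := Finset.univ.filter fun x => x ≠ v ∧ ¬ G.Adj v x with hF
  have hFc : F.card = 77 := by
    have h := Finset.card_filter_add_card_filter_not (s := (Finset.univ : Finset V).erase v) (fun x => G.Adj v x)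
    rw [Finset.card_erase_of_mem (Finset.mem_univ v), Finset.card_univ, hG.card] at h
    have e1 : ((Finset.univ : Finset V).erase v).filter (fun x => G.Adj v x) = Finset.univ.filter (fun x => G.Adj v x) := by
      ext x; simp only [Finset.mem_filter, Finset.mem_erase, Finset.mem_univ, and_true, true_and]
      exact ⟨fun h => h.2, fun h => ⟨fun e => G.irrefl (e ▸ h), h⟩⟩
    have e2 : ((Finset.univ : Finset V).erase v).filter (fun x => ¬ G.Adj v x) = F := by
      ext x; simp [hF]
    rw [e1, e2, hdeg] at h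
    omega
  let blk : V → Finset {a // G.Adj v a} := fun x => Finset.univ.filter fun a => G.Adj x a.1
  have hmemF : ∀ {x}, x ∈ F ↔ x ≠ v ∧ ¬ G.Adj v x := fun {x} => by simp [hF]
  have hblk : ∀ x ∈ F, (blk x).card = 6 := fun x hx => by
    rw [← Finset.card_map (Function.Embedding.subtype _), ← hmu v x (Ne.symm (hmemF.1 hx).1) (hmemF.1 hx).2]
    congr 1
    ext y
    simp [blk, and_comm]
  have hmeet : ∀ x ∈ F, ∀ y ∈ F, x ≠ y →
      (G.Adj x y → Disjoint (blk x) (blk y)) ∧ (¬ G.Adj x y → (blk x ∩ blk y).card = 2) := by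
    intro x hx
    have hxF := hmemF.1 hx
    set S := F.filter fun y => y ≠ x ∧ ¬ G.Adj x y with hS
    have hnx : (F.filter fun y => G.Adj x y).card = 16 := by
      have h := Finset.card_filter_add_card_filter_not (s := Finset.univ.filter fun y => G.Adj x y) (fun y => G.Adj v y)
      rw [Finset.filter_filter, Finset.filter_filter, hdeg, hmu x v hxF.1 (fun h => hxF.2 h.symm)] at h
      have e : (Finset.univ.filter fun y => G.Adj x y ∧ ¬ G.Adj v y) = F.filter fun y => G.Adj x y := by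
        ext y
        simp only [Finset.mem_filter, hmemF, Finset.mem_univ, true_and]
        exact ⟨fun h => ⟨⟨fun e => hxF.2 (e ▸ h.1).symm, h.2⟩, h.1⟩, fun h => ⟨h.2, h.1.2⟩⟩
      rw [e] at h
      omega
    have hSc : S.card = 60 := by
      have h := Finset.card_filter_add_card_filter_not (s := F.erase x) (fun y => G.Adj x y)
      rw [Finset.card_erase_of_mem hx, hFc] at h
      have e1 : (F.erase x).filter (fun y => G.Adj x y) = F.filter fun y => G.Adj x y := by
        ext y; simp only [Finset.mem_filter, Finset.mem_erase]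
        exact ⟨fun h => ⟨h.1.2, h.2⟩, fun h => ⟨⟨fun e => G.irrefl (e ▸ h.2), h.1⟩, h.2⟩⟩
      have e2 : (F.erase x).filter (fun y => ¬ G.Adj x y) = S := by
        ext y; simp only [hS, Finset.mem_filter, Finset.mem_erase]; tauto
      rw [e1, e2, hnx] at h
      omega
    have h1 : ∑ y ∈ S, (blk x ∩ blk y).card = 120 := by
      have e : ∀ y, (blk x ∩ blk y).card = ∑ a ∈ blk x, if G.Adj y a.1 then 1 else 0 := fun y => by
        rw [← Finset.card_filter]; congr 1; ext a; simp [blk]
      rw [Finset.sum_congr rfl fun y _ => e y, Finset.sum_comm, Finset.sum_const_nat (m := 20) (fun a ha => ?_), hblk x hx]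
      rw [← Finset.card_filter]
      have hxa : G.Adj x a.1 := (Finset.mem_filter.1 ha).2
      have e2 : S.filter (fun y => G.Adj y a.1) = ((Finset.univ.filter fun y => G.Adj a.1 y).erase v).erase x := by
        ext y
        simp only [hS, Finset.mem_filter, hmemF, Finset.mem_erase, Finset.mem_univ, true_and]
        constructor
        · rintro ⟨⟨⟨h1, -⟩, h2, -⟩, h3⟩; exact ⟨h2, h1, h3.symm⟩
        · rintro ⟨h2, h1, h3⟩
          exact ⟨⟨⟨h1, fun h => htri a.2 h h3⟩, h2, fun h => htri hxa h h3⟩, h3.symm⟩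
      rw [e2, Finset.card_erase_of_mem (by simp [hxF.1, hxa.symm]), Finset.card_erase_of_mem (by simp [a.2.symm]), hdeg]
    have h2 : ∑ y ∈ S, (blk x ∩ blk y).offDiag.card = 120 := by
      have e : ∀ y, (blk x ∩ blk y).offDiag.card = ∑ ab ∈ (blk x).offDiag, if G.Adj y ab.1.1 ∧ G.Adj y ab.2.1 then 1 else 0 := fun y => by
        rw [← Finset.card_filter]; congr 1; ext ⟨a, b⟩; simp [blk]; tauto
      rw [Finset.sum_congr rfl fun y _ => e y, Finset.sum_comm, Finset.sum_const_nat (m := 4) (fun ab hab => ?_),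
        Finset.offDiag_card, hblk x hx]
      rw [← Finset.card_filter]
      obtain ⟨a, b⟩ := ab
      rw [Finset.mem_offDiag] at hab
      have hxa : G.Adj x a.1 := (Finset.mem_filter.1 hab.1).2
      have hxb : G.Adj x b.1 := (Finset.mem_filter.1 hab.2.1).2
      have e2 : S.filter (fun y => G.Adj y a.1 ∧ G.Adj y b.1) =
          ((Finset.univ.filter fun y => G.Adj a.1 y ∧ G.Adj b.1 y).erase v).erase x := by
        ext y
        simp only [hS, Finset.mem_filter, hmemF, Finset.mem_erase, Finset.mem_univ, true_and]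
        constructor
        · rintro ⟨⟨⟨h1, -⟩, h2, -⟩, h3, h4⟩; exact ⟨h2, h1, h3.symm, h4.symm⟩
        · rintro ⟨h2, h1, h3, h4⟩
          exact ⟨⟨⟨h1, fun h => htri a.2 h h3⟩, h2, fun h => htri hxa h h3⟩, h3.symm, h4.symm⟩
      show (S.filter fun y => G.Adj y a.1 ∧ G.Adj y b.1).card = 4
      rw [e2, Finset.card_erase_of_mem (by simp [hxF.1, hxa.symm, hxb.symm]),
        Finset.card_erase_of_mem (by simp [a.2.symm, b.2.symm]),
        hmu _ _ (fun e => hab.2.2 (Subtype.ext e)) (fun h => htri a.2 b.2 h)]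
    have hsq : ∑ y ∈ S, (((blk x ∩ blk y).card : ℤ) - 2) ^ 2 = 0 := by
      have h1' : ∑ y ∈ S, ((blk x ∩ blk y).card : ℤ) = 120 := by exact_mod_cast h1
      have h2' : ∑ y ∈ S, ((blk x ∩ blk y).offDiag.card : ℤ) = 120 := by exact_mod_cast h2
      have e : ∀ y, (((blk x ∩ blk y).card : ℤ) - 2) ^ 2 =
          ((blk x ∩ blk y).offDiag.card : ℤ) - 3 * ((blk x ∩ blk y).card : ℤ) + 4 := fun y => by
        rw [Finset.offDiag_card, Nat.cast_sub (Nat.le_mul_self _)]
        push_cast; ring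
      rw [Finset.sum_congr rfl fun y _ => e y, Finset.sum_add_distrib, Finset.sum_sub_distrib, ← Finset.mul_sum,
        h1', h2', Finset.sum_const, hSc]
      norm_num
    intro y hy hxy
    refine ⟨fun h => Finset.disjoint_left.2 fun a ha hb => htri h (Finset.mem_filter.1 ha).2 (Finset.mem_filter.1 hb).2,
      fun h => ?_⟩
    have := (Finset.sum_eq_zero_iff_of_nonneg fun z _ => sq_nonneg _).1 hsq y
      (Finset.mem_filter.2 ⟨hy, Ne.symm hxy, h⟩)
    rw [pow_eq_zero_iff two_ne_zero] at this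
    omega
  have hle : ∀ x ∈ F, ∀ y ∈ F, x ≠ y → (blk x ∩ blk y).card ≤ 2 := fun x hx y hy hxy => by
    by_cases h : G.Adj x y
    · rw [Finset.disjoint_iff_inter_eq_empty.1 ((hmeet x hx y hy hxy).1 h)]; simp
    · rw [(hmeet x hx y hy hxy).2 h]
  have hinj : ∀ x ∈ F, ∀ y ∈ F, blk x = blk y → x = y := fun x hx y hy e => by
    by_contra hxy
    have := hle x hx y hy hxy
    rw [e, Finset.inter_self, hblk y hy] at this
    omega
  have hαc : Fintype.card {a // G.Adj v a} = 22 := by rw [Fintype.card_subtype, hdeg]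
  have hall : F.biUnion (fun x => (blk x).powersetCard 3) = Finset.univ.powersetCard 3 := by
    refine Finset.eq_of_subset_of_card_le (fun T hT => ?_) (le_of_eq ?_)
    · obtain ⟨x, -, hT⟩ := Finset.mem_biUnion.1 hT
      rw [Finset.mem_powersetCard] at hT ⊢
      exact ⟨Finset.subset_univ _, hT.2⟩
    · rw [Finset.card_biUnion, Finset.sum_const_nat (m := 20) fun x hx => by
        rw [Finset.card_powersetCard, hblk x hx]; rfl, hFc, Finset.card_powersetCard, Finset.card_univ, hαc]
      · rfl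
      · intro x hx y hy hxy
        refine Finset.disjoint_left.2 fun T hT hT' => ?_
        rw [Finset.mem_powersetCard] at hT hT'
        have h1 := Finset.card_le_card (Finset.subset_inter hT.1 hT'.1)
        have h2 := hle x hx y hy hxy
        omega
  refine ⟨{b | ∃ x ∈ F, blk x = b}, ⟨?_, fun T hT => ?_⟩, ?_⟩
  · rintro _ ⟨x, hx, rfl⟩; exact hblk x hx
  · obtain ⟨x, hx, hTx⟩ := Finset.mem_biUnion.1 (hall.ge (Finset.mem_powersetCard.2 ⟨Finset.subset_univ T, hT⟩))
    refine ⟨blk x, ⟨⟨x, hx, rfl⟩, (Finset.mem_powersetCard.1 hTx).1⟩, ?_⟩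
    rintro _ ⟨⟨y, hy, rfl⟩, hTy⟩
    by_contra hne
    have h1 := Finset.card_le_card (Finset.subset_inter (Finset.mem_powersetCard.1 hTx).1 hTy)
    have h2 := hle x hx y hy (fun e => hne (by rw [e]))
    omega
  set B : Set (Finset {a // G.Adj v a}) := {b | ∃ x ∈ F, blk x = b}
  have hback : ∀ b : B, ∃ x, x ∈ F ∧ blk x = b.1 := fun b => b.2
  choose back hb1 hb2 using hback
  let φ : Option ({a // G.Adj v a} ⊕ B) → V
    | none => v
    | some (Sum.inl a) => a.1
    | some (Sum.inr b) => back b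
  have hsurj : Function.Surjective φ := fun x => by
    by_cases h1 : x = v
    · exact ⟨none, h1.symm⟩
    by_cases h2 : G.Adj v x
    · exact ⟨some (Sum.inl ⟨x, h2⟩), rfl⟩
    · refine ⟨some (Sum.inr ⟨blk x, x, hmemF.2 ⟨h1, h2⟩, rfl⟩), ?_⟩
      exact hinj _ (hb1 _) _ (hmemF.2 ⟨h1, h2⟩) (hb2 _)
  have hinjφ : Function.Injective φ := by
    rintro (_ | a | b) (_ | a' | b') e <;> simp only [φ] at e
    · rfl
    · exact absurd a'.2 (by rw [← e]; exact G.irrefl)
    · exact absurd e.symm (hmemF.1 (hb1 b')).1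
    · exact absurd a.2 (by rw [e]; exact G.irrefl)
    · rw [Subtype.ext e]
    · exact absurd (e ▸ a.2) (hmemF.1 (hb1 b')).2
    · exact absurd e (hmemF.1 (hb1 b)).1
    · exact absurd (e.symm ▸ a'.2) (hmemF.1 (hb1 b)).2
    · rw [show b = b' from Subtype.ext (by rw [← hb2 b, ← hb2 b', e])]
  have hab : ∀ (a : {a // G.Adj v a}) (b : B), G.Adj a.1 (back b) ↔ a ∈ b.1 := fun a b => by
    rw [← hb2 b]; simp [blk, G.adj_comm]
  have hbb : ∀ b c : B, G.Adj (back b) (back c) ↔ b ≠ c ∧ Disjoint b.1 c.1 := fun b c => by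
    by_cases e : b = c
    · subst e; simp
    · have hne : back b ≠ back c := fun h => e (Subtype.ext (by rw [← hb2 b, ← hb2 c, h]))
      rw [← hb2 b, ← hb2 c]
      refine ⟨fun h => ⟨e, (hmeet _ (hb1 b) _ (hb1 c) hne).1 h⟩, fun h => ?_⟩
      by_contra hn
      have h2 := (hmeet _ (hb1 b) _ (hb1 c) hne).2 hn
      rw [Finset.disjoint_iff_inter_eq_empty.1 h.2] at h2
      simp at h2
  refine ⟨⟨Equiv.ofBijective φ ⟨hinjφ, hsurj⟩, fun {p q} => ?_⟩⟩
  show G.Adj (φ p) (φ q) ↔ (pointBlockGraph B).Adj p q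
  rcases p with _ | a | b <;> rcases q with _ | a' | b' <;>
    simp only [φ, pointBlockGraph, SimpleGraph.fromRel_adj, pointBlockRel]
  · simp
  · simp [a'.2]
  · simpa using (hmemF.1 (hb1 b')).2
  · simp [a.2.symm]
  · simpa using fun h => htri a.2 a'.2 h
  · simp [hab]
  · simpa [G.adj_comm] using (hmemF.1 (hb1 b)).2
  · rw [G.adj_comm, hab]; simp
  · rw [hbb]
    simp only [ne_eq, Option.some.injEq, Sum.inr.injEq, disjoint_comm (a := b'.1), or_self]

theorem SetSystemIso.pointBlock {α β : Type*} [DecidableEq β] {B : Set (Finset α)} {B' : Set (Finset β)}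
    (h : SetSystemIso B B') : Nonempty (pointBlockGraph B ≃g pointBlockGraph B') := by
  obtain ⟨e, he⟩ := h
  let g : B → B' := fun b => ⟨b.1.image e, he.subset ⟨b.1, b.2, rfl⟩⟩
  have hg : Function.Bijective g := by
    refine ⟨fun b c h => Subtype.ext (Finset.image_injective e.injective (congrArg Subtype.val h)), fun c => ?_⟩
    obtain ⟨b, hb, hbc⟩ := he.ge c.2
    exact ⟨⟨b, hb⟩, Subtype.ext hbc⟩
  let E := (Equiv.sumCongr e (Equiv.ofBijective g hg)).optionCongr
  refine ⟨⟨E, fun {p q} => ?_⟩⟩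
  simp only [pointBlockGraph, SimpleGraph.fromRel_adj, E.injective.ne_iff]
  have key : ∀ p q, pointBlockRel B' (E p) (E q) ↔ pointBlockRel B p q := by
    rintro (_ | a | b) (_ | a' | b') <;> simp [E, pointBlockRel, g, Finset.disjoint_image e.injective]
  rw [key, key]

theorem steiner22_iso {α β : Type*} [Fintype α] [DecidableEq α] [Fintype β] [DecidableEq β]
    (hα : Fintype.card α = 22) (hβ : Fintype.card β = 22) {B : Set (Finset α)} {B' : Set (Finset β)}
    (hB : IsSteinerSystem 3 6 B) (hB' : IsSteinerSystem 3 6 B') :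
    Nonempty (pointBlockGraph B ≃g pointBlockGraph B') :=
  SetSystemIso.pointBlock ((model22 hα hB).iso (model22 hβ hB'))

theorem srg100_unique {V W : Type*} [Fintype V] [Fintype W] {G : SimpleGraph V} {H : SimpleGraph W}
    [DecidableRel G.Adj] [DecidableRel H.Adj] (hG : G.IsSRGWith 100 22 0 6) (hH : H.IsSRGWith 100 22 0 6) :
    Nonempty (G ≃g H) := by
  classical
  obtain ⟨v⟩ : Nonempty V := Fintype.card_pos_iff.1 (by rw [hG.card]; norm_num)
  obtain ⟨w⟩ : Nonempty W := Fintype.card_pos_iff.1 (by rw [hH.card]; norm_num)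
  obtain ⟨B, hB, ⟨i⟩⟩ := srg100_model hG v
  obtain ⟨B', hB', ⟨j⟩⟩ := srg100_model hH w
  have hc : ∀ {U : Type _} [Fintype U] (K : SimpleGraph U) [DecidableRel K.Adj] (u : U),
      Fintype.card {a // K.Adj u a} = K.degree u := fun K _ u => by
    rw [← K.card_neighborFinset_eq_degree, Fintype.card_subtype, K.neighborFinset_eq_filter]
  obtain ⟨k⟩ := steiner22_iso (by rw [hc, hG.regular v]) (by
    rw [Fintype.card_subtype, ← H.neighborFinset_eq_filter, H.card_neighborFinset_eq_degree, hH.regular w]) hB hB'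
  exact ⟨i.symm.trans (k.trans j)⟩

/-! ### The group of the graph -/

/-- The points other than the two special ones. -/
abbrev HsPt : Type := {q : GolayPt // q ≠ none ∧ q ≠ pt 0}

/-- The system of the octads through the two special points. -/
def hsBlocks : Set (Finset HsPt) := {s | ∃ o ∈ octs2, s = o.subtype fun q => q ≠ none ∧ q ≠ pt 0}

theorem hsPt_card : Fintype.card HsPt = 22 := by decide +kernel

theorem hs_octad_card {o : Finset GolayPt} (ho : o ∈ octs2) :
    (o.subtype fun q => q ≠ none ∧ q ≠ pt 0).card = 6 := by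
  rw [Finset.card_subtype, show o.filter (fun q => q ≠ none ∧ q ≠ pt 0) = (o.erase none).erase (pt 0) by
    ext q; simp only [Finset.mem_filter, Finset.mem_erase]; tauto,
    Finset.card_erase_of_mem (Finset.mem_erase.2 ⟨none_ne_pt0.symm, ho.2.2⟩), Finset.card_erase_of_mem ho.2.1, ho.1.2]

theorem hsBlocks_steiner : IsSteinerSystem 3 6 hsBlocks := by
  refine ⟨fun b ⟨o, ho, e⟩ => e ▸ hs_octad_card ho, fun s hs => ?_⟩
  set s' := insert none (insert (pt 0) (s.map (Function.Embedding.subtype _))) with hs'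
  have h5 : s'.card = 5 := by
    rw [hs', Finset.card_insert_of_notMem, Finset.card_insert_of_notMem, Finset.card_map, hs]
    · simp
    · simp [none_ne_pt0]
  obtain ⟨o, ⟨ho, hso⟩, hu⟩ := octads_steiner.2 s' h5
  simp only [hs', Finset.insert_subset_iff] at hso
  refine ⟨_, ⟨⟨o, ⟨ho, hso.1, hso.2.1⟩, rfl⟩, fun q hq => Finset.mem_subtype.2
    (hso.2.2 (Finset.mem_map_of_mem _ hq))⟩, ?_⟩
  rintro _ ⟨⟨o', ho', rfl⟩, hs''⟩
  rw [hu o' ⟨ho'.1, by
    simp only [hs', Finset.insert_subset_iff]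
    refine ⟨ho'.2.1, ho'.2.2, fun q hq => ?_⟩
    obtain ⟨r, hr, rfl⟩ := Finset.mem_map.1 hq
    exact Finset.mem_subtype.1 (hs'' hr)⟩]

/-- The graph on the hundred vectors. -/
def hsGraph : SimpleGraph ↥(hsSet hsV hsW) where
  Adj x y := dotInt ((x : ↥leechLattice) : GolayPt → ℤ) ((y : ↥leechLattice) : GolayPt → ℤ) = 8
  symm := ⟨fun _ _ h => Eq.trans (Finset.sum_congr rfl fun _ _ => mul_comm _ _) h⟩
  loopless := ⟨fun x h => by
    have e : dotInt ((x : ↥leechLattice) : GolayPt → ℤ) ((x : ↥leechLattice) : GolayPt → ℤ) = 32 := by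
      rw [← x.2.1]; exact Finset.sum_congr rfl fun i _ => (sq _).symm
    rw [e] at h
    norm_num at h⟩

theorem hsA_dot {p : GolayPt} (hp : p ≠ none ∧ p ≠ pt 0) (x : GolayPt → ℤ) :
    dotInt (hsA p) x = (∑ i, x i) - 4 * x p := by
  have : ∀ i, hsA p i * x i = x i + if i = p then -4 * x p else 0 := fun i => by
    simp only [hsA]; split_ifs with h
    · subst h; ring
    · ring
  rw [dotInt, Finset.sum_congr rfl fun i _ => this i, Finset.sum_add_distrib, Finset.sum_ite_eq',
    if_pos (Finset.mem_univ p)]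
  ring

theorem hsB_dot (o o' : Finset GolayPt) : dotInt (hsB o) (hsB o') = 4 * (o ∩ o').card := by
  have : ∀ i, hsB o i * hsB o' i = if i ∈ o ∩ o' then 4 else 0 := fun i => by
    simp only [hsB, Finset.mem_inter]; split_ifs <;> simp_all
  rw [dotInt, Finset.sum_congr rfl fun i _ => this i, Finset.sum_ite, Finset.sum_const_zero, add_zero,
    Finset.sum_const, Finset.filter_mem_eq_inter, Finset.univ_inter]
  simp [mul_comm]

theorem hsGraph_model : Nonempty (pointBlockGraph hsBlocks ≃g hsGraph) := by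
  classical
  have hback : ∀ b : hsBlocks, ∃ o, o ∈ octs2 ∧ b.1 = o.subtype fun q => q ≠ none ∧ q ≠ pt 0 := fun b => b.2
  choose oct ho hob using hback
  have hoinj : ∀ b c, oct b = oct c → b = c := fun b c e => Subtype.ext (by rw [hob b, hob c, e])
  have hX : hsX ∈ hsSet hsV hsW := ⟨uVec_norm, (hs_cond _).2 (by decide +kernel)⟩
  let φ : Option (HsPt ⊕ hsBlocks) → ↥(hsSet hsV hsW)
    | none => ⟨hsX, hX⟩
    | some (Sum.inl p) => ⟨_, hsA_mem p.2.1 p.2.2⟩
    | some (Sum.inr b) => ⟨_, hsB_mem (ho b)⟩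
  have hval : ∀ q, ((φ q).1.1) none = match q with
      | none => 4
      | some (Sum.inl _) => 1
      | some (Sum.inr _) => 2 := by
    rintro (_ | p | b)
    · show uVec none = 4; decide +kernel
    · exact (hsA_props p.2.1 p.2.2).2.2.2.1
    · exact (hsB_props (ho b)).2.2.2.1
  have hinj : Function.Injective φ := by
    intro p q e
    have h := congrArg (fun x : ↥(hsSet hsV hsW) => x.1.1) e
    have h0 := congrFun h none
    simp only [hval] at h0
    rcases p with _ | a | b <;> rcases q with _ | a' | b' <;> simp at h0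
    · rfl
    · have h1 := congrFun h a.1
      simp only [φ, hsA, if_true] at h1
      by_cases hne : a.1 = a'.1
      · rw [Subtype.ext hne]
      · rw [if_neg hne] at h1; norm_num at h1
    · have : oct b = oct b' := Finset.ext fun i => by
        have h1 := congrFun h i
        simp only [φ, hsB] at h1
        by_cases x : i ∈ oct b <;> by_cases y : i ∈ oct b' <;> simp [x, y] at h1 ⊢
      rw [hoinj _ _ this]
  have hsurj : Function.Surjective φ := by
    rintro ⟨y, hy⟩
    rcases hs_classify y.2 hy.1 ⟨hy.2.1, hy.2.2⟩ with ⟨-, e⟩ | ⟨-, p, p1, p2, e⟩ | ⟨-, o, hoo, e⟩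
    · exact ⟨none, Subtype.ext (Subtype.ext e.symm)⟩
    · exact ⟨some (Sum.inl ⟨p, p1, p2⟩), Subtype.ext (Subtype.ext e.symm)⟩
    · refine ⟨some (Sum.inr ⟨_, o, hoo, rfl⟩), Subtype.ext (Subtype.ext ?_)⟩
      show hsB _ = _
      rw [e]
      congr 1
      ext q
      by_cases h1 : q = none
      · subst h1; exact iff_of_true (ho _).2.1 hoo.2.1
      by_cases h2 : q = pt 0
      · subst h2; exact iff_of_true (ho _).2.2 hoo.2.2
      have := Finset.ext_iff.1 (hob ⟨_, o, hoo, rfl⟩) ⟨q, h1, h2⟩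
      simp only [Finset.mem_subtype] at this
      exact this.symm
  suffices key : ∀ p q, hsGraph.Adj (φ p) (φ q) ↔ (pointBlockGraph hsBlocks).Adj p q from
    ⟨⟨Equiv.ofBijective φ ⟨hinj, hsurj⟩, fun {p q} => key p q⟩⟩
  intro p q
  show dotInt ((φ p).1.1) ((φ q).1.1) = 8 ↔ _
  have hX8 : ∀ q, dotInt ((φ none).1.1) ((φ q).1.1) =
      8 * ((φ q).1.1) none := fun q => uVec_dot_hs (φ q).2
  have hsymm : ∀ x y : GolayPt → ℤ, dotInt x y = dotInt y x := fun x y =>
    Finset.sum_congr rfl fun i _ => mul_comm _ _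
  have hpp : ∀ a a' : HsPt, a ≠ a' → dotInt (hsA a.1) (hsA a'.1) = 16 := fun a a' h => by
    rw [hsA_dot a.2, (hsA_props a'.2.1 a'.2.2).2.2.1, hsA, if_neg fun e => h (Subtype.ext e)]; norm_num
  have hpb : ∀ (a : HsPt) (b : hsBlocks), dotInt (hsA a.1) (hsB (oct b)) = 8 ↔ a ∈ b.1 := fun a b => by
    rw [hsA_dot a.2, (hsB_props (ho b)).2.2.1, hob b, Finset.mem_subtype, hsB]
    split_ifs with h <;> simp [h]
  have hbb : ∀ b c : hsBlocks, b ≠ c → (dotInt (hsB (oct b)) (hsB (oct c)) = 8 ↔ Disjoint b.1 c.1) := fun b c h => by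
    have e : (oct b ∩ oct c).card = 2 + (b.1 ∩ c.1).card := by
      rw [hob b, hob c, show (oct b).subtype (fun q => q ≠ none ∧ q ≠ pt 0) ∩ (oct c).subtype _ =
          (oct b ∩ oct c).subtype (fun q => q ≠ none ∧ q ≠ pt 0) by ext; simp, Finset.card_subtype,
        show (oct b ∩ oct c).filter (fun q => q ≠ none ∧ q ≠ pt 0) = (oct b ∩ oct c) \ {none, pt 0} by ext; simp,
        Finset.card_sdiff_of_subset (by simp [Finset.insert_subset_iff, (ho b).2.1, (ho b).2.2, (ho c).2.1, (ho c).2.2]),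
        Finset.card_pair none_ne_pt0]
      have h2 := Finset.card_le_card (s := {none, pt 0}) (t := oct b ∩ oct c)
        (by simp [Finset.insert_subset_iff, (ho b).2.1, (ho b).2.2, (ho c).2.1, (ho c).2.2])
      rw [Finset.card_pair none_ne_pt0] at h2
      omega
    rw [hsB_dot, e, Finset.disjoint_iff_inter_eq_empty, ← Finset.card_eq_zero]
    omega
  have hcomm : ∀ r, dotInt (φ r).1.1 (φ none).1.1 = 8 * (φ r).1.1 none := fun r => (hsymm _ _).trans (hX8 r)
  rcases p with _ | a | b <;> rcases q with _ | a' | b' <;>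
    simp only [pointBlockGraph, SimpleGraph.fromRel_adj, pointBlockRel]
  · refine iff_of_false (fun h => ?_) (by simp)
    have h1 : (8 : ℤ) * 4 = 8 := ((hX8 none).trans (congrArg (8 * ·) (hval none))).symm.trans h
    norm_num at h1
  · exact iff_of_true ((hX8 (some (Sum.inl a'))).trans ((congrArg (8 * ·) (hval (some (Sum.inl a')))).trans (mul_one 8))) (by simp)
  · refine iff_of_false (fun h => ?_) (by simp)
    have h1 : (8 : ℤ) * 2 = 8 := ((hX8 (some (Sum.inr b'))).trans (congrArg (8 * ·) (hval (some (Sum.inr b'))))).symm.trans h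
    norm_num at h1
  · exact iff_of_true ((hcomm (some (Sum.inl a))).trans ((congrArg (8 * ·) (hval (some (Sum.inl a)))).trans (mul_one 8))) (by simp)
  · by_cases e : a = a'
    · subst e
      show dotInt (hsA a.1) (hsA a.1) = 8 ↔ _
      rw [hsA_dot a.2, (hsA_props a.2.1 a.2.2).2.2.1, hsA, if_pos rfl]
      simp
    · simp [φ, hpp a a' e]
  · simp [φ, hpb]
  · refine iff_of_false (fun h => ?_) (by simp)
    have h1 : (8 : ℤ) * 2 = 8 := ((hcomm (some (Sum.inr b))).trans (congrArg (8 * ·) (hval (some (Sum.inr b))))).symm.trans h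
    norm_num at h1
  · rw [hsymm]; simp [φ, hpb]
  · by_cases e : b = b'
    · subst e; simp [φ, hsB_dot, (ho b).1.2]
    · simp [φ, hbb b b' e, e, disjoint_comm (a := b'.1)]

theorem hsGraph_group : ∃ H : Subgroup (hsGraph ≃g hsGraph), IsHS H ∧ ∀ x y, ∃ g ∈ H, g x = y := by
  haveI := co0_finite
  let G : Subgroup ↥Co0 := MulAction.stabilizer ↥Co0 hsV ⊓ MulAction.stabilizer ↥Co0 hsW
  have hG : Nat.card ↥G = 44352000 :=
    hs_card (v := hsV) (w := hsW) tgt_facts.2.2.2.2.2.1 tgt_facts.2.2.2.2.2.2.2.1 tgt_facts.2.2.2.2.2.2.2.2.2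
  haveI hsimp : IsSimpleGroup ↥G := hs_simple
  have hmem : ∀ g : ↥Co0, g ∈ G → ∀ x ∈ hsSet hsV hsW, g • x ∈ hsSet hsV hsW := fun g hg x hx => by
    have h1 := co0_dot g hsV x
    have h2 := co0_dot g hsW x
    rw [MulAction.mem_stabilizer_iff.1 hg.1] at h1
    rw [MulAction.mem_stabilizer_iff.1 hg.2] at h2
    exact ⟨(co0_norm g x).trans hx.1, h1.trans hx.2.1, h2.trans hx.2.2⟩
  let E : ↥G →* (hsGraph ≃g hsGraph) :=
    { toFun := fun g =>
        { toFun := fun x => ⟨(g : ↥Co0) • x.1, hmem _ g.2 _ x.2⟩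
          invFun := fun x => ⟨((g : ↥Co0))⁻¹ • x.1, hmem _ (inv_mem g.2) _ x.2⟩
          left_inv := fun x => Subtype.ext (inv_smul_smul _ _)
          right_inv := fun x => Subtype.ext (smul_inv_smul _ _)
          map_rel_iff' := fun {x y} => by
            show dotInt (((g : ↥Co0) • x.1 : ↥leechLattice) : GolayPt → ℤ) (((g : ↥Co0) • y.1 : ↥leechLattice) : GolayPt → ℤ) = 8 ↔
              dotInt ((x.1 : ↥leechLattice) : GolayPt → ℤ) ((y.1 : ↥leechLattice) : GolayPt → ℤ) = 8
            rw [co0_dot] }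
      map_one' := RelIso.ext fun x => Subtype.ext (one_smul _ _)
      map_mul' := fun g h => RelIso.ext fun x => Subtype.ext (mul_smul _ _ _) }
  have htrans : ∀ x y, ∃ g : ↥G, E g x = y := fun x y => by
    obtain ⟨a, a1, a2, a3⟩ := hs_set_transitive x.2
    obtain ⟨b, b1, b2, b3⟩ := hs_set_transitive y.2
    refine ⟨⟨b * a⁻¹, ⟨?_, ?_⟩⟩, Subtype.ext ?_⟩
    · show (b * a⁻¹) • hsV = hsV
      rw [mul_smul, inv_smul_eq_iff.2 a1.symm, b1]
    · show (b * a⁻¹) • hsW = hsW
      rw [mul_smul, inv_smul_eq_iff.2 a2.symm, b2]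
    · show (b * a⁻¹) • x.1 = y.1
      rw [mul_smul, inv_smul_eq_iff.2 a3.symm, b3]
  have hinj : Function.Injective E := by
    rw [← MonoidHom.ker_eq_bot_iff]
    refine (hsimp.eq_bot_or_eq_top_of_normal _ (MonoidHom.normal_ker E)).resolve_right fun h => ?_
    have hc : 1 < Nat.card ↥(hsSet hsV hsW) := by rw [Nat.card_coe_set_eq, hs_set_ncard]; norm_num
    haveI : Finite ↥(hsSet hsV hsW) := Nat.finite_of_card_ne_zero (by omega)
    haveI := Finite.one_lt_card_iff_nontrivial.1 hc
    obtain ⟨x, y, hxy⟩ := exists_pair_ne ↥(hsSet hsV hsW)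
    obtain ⟨g, hg⟩ := htrans x y
    rw [MonoidHom.ker_eq_top_iff] at h
    rw [h] at hg
    exact hxy hg
  refine ⟨E.range, ⟨?_, ?_⟩, fun x y => ?_⟩
  · exact MulEquiv.isSimpleGroup (MonoidHom.ofInjective hinj).symm
  · rw [← Nat.card_congr (MonoidHom.ofInjective hinj).toEquiv, hG]
  · obtain ⟨g, hg⟩ := htrans x y
    exact ⟨E g, ⟨g, rfl⟩, hg⟩

end Cfsg.Agent.Golay
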