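import Cfsg.Agent.Golay.CodeFacts
import Cfsg.Prelude.Def_Spor_Conway

/-! The lattice built from the code, in the form `x = m + 2 y`. -/

set_option autoImplicit false

namespace Cfsg.Agent.Golay

open scoped Pointwise

/-- Reduction of an integer vector modulo two. -/
def red2 (y : GolayPt → ℤ) : GolayPt → ZMod 2 := fun i => (y i : ZMod 2)

/-- The defining conditions in the form `x = m + 2 y`. -/
def IsL (x : GolayPt → ℤ) : Prop :=
  ∃ (m : ℤ) (y : GolayPt → ℤ), (∀ i, x i = m + 2 * y i) ∧ red2 y ∈ golayCode ∧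
    (8 : ℤ) ∣ ∑ i, x i - 4 * m

theorem red2_add (y z : GolayPt → ℤ) : red2 (y + z) = red2 y + red2 z := by
  funext i; simp [red2]

theorem red2_neg (y : GolayPt → ℤ) : red2 (-y) = red2 y := by
  funext i
  simp only [red2, Pi.neg_apply, Int.cast_neg]
  exact ZMod.neg_eq_self_mod_two _

theorem one_mem_golayCode : (1 : GolayPt → ZMod 2) ∈ golayCode :=
  Submodule.subset_span (Or.inr rfl)

theorem support₂_red2 (y : GolayPt → ℤ) :
    support₂ (red2 y) = Finset.univ.filter fun i => ¬ (2 : ℤ) ∣ y i := by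
  ext i
  simp only [support₂, red2, Finset.mem_filter, Finset.mem_univ, true_and, Ne,
    ZMod.intCast_zmod_eq_zero_iff_dvd, Nat.cast_ofNat]

theorem mem_code_iff_support {w : GolayPt → ZMod 2} :
    w ∈ golayCode ↔ support₂ w ∈ supports (golayCode : Set (GolayPt → ZMod 2)) := by
  rw [mem_golayCode_iff, mem_supports_iff]; rfl

theorem mem_leechSet_iff {x : GolayPt → ℤ} : x ∈ leechSet ↔ IsL x := by
  constructor
  · rintro ⟨m, hpar, hsum, hcls⟩
    refine ⟨m, fun i => (x i - m) / 2, fun i => ?_, ?_, ?_⟩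
    · have := Int.ModEq.dvd (hpar i).symm
      beta_reduce
      omega
    · rw [mem_code_iff_support, support₂_red2]
      have e : (Finset.univ.filter fun i => ¬ (2 : ℤ) ∣ (x i - m) / 2)
          = Finset.univ.filter fun i => x i ≡ m + 2 [ZMOD 4] := by
        refine Finset.filter_congr fun i _ => ?_
        have h := Int.ModEq.dvd (hpar i).symm
        rw [Int.modEq_iff_dvd]
        omega
      rw [e]
      exact hcls (m + 2)
    · exact Int.ModEq.dvd hsum.symm
  · rintro ⟨m, y, hxy, hw, hsum⟩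
    refine ⟨m, fun i => Int.modEq_iff_dvd.2 ⟨-y i, by rw [hxy i]; ring⟩,
      (Int.modEq_iff_dvd.2 hsum).symm, fun k => ?_⟩
    have hw' := mem_code_iff_support.1 hw
    rw [support₂_red2] at hw'
    by_cases hk : (2 : ℤ) ∣ k - m
    · by_cases hk4 : (4 : ℤ) ∣ k - m
      · convert compl_mem_supports hw' using 1
        ext i
        simp only [Finset.mem_filter, Finset.mem_univ, true_and, Finset.mem_compl, not_not,
          Int.modEq_iff_dvd, hxy i]
        omega
      · convert hw' using 1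
        ext i
        simp only [Finset.mem_filter, Finset.mem_univ, true_and, Int.modEq_iff_dvd, hxy i]
        omega
    · convert empty_mem_supports using 1
      ext i
      simp only [Finset.mem_filter, Finset.mem_univ, true_and, Finset.notMem_empty, iff_false,
        Int.modEq_iff_dvd, hxy i]
      omega

/-- The lattice conditions define an additive subgroup. -/
def lSubgroup : AddSubgroup (GolayPt → ℤ) where
  carrier := {x | IsL x}
  zero_mem' := ⟨0, 0, fun i => by simp, by
    have : red2 0 = 0 := by funext i; simp [red2]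
    rw [this]; exact zero_mem _, by simp⟩
  add_mem' := by
    rintro a b ⟨m, y, hy, hw, hs⟩ ⟨m', y', hy', hw', hs'⟩
    refine ⟨m + m', y + y', fun i => by simp only [Pi.add_apply, hy i, hy' i]; ring,
      by rw [red2_add]; exact add_mem hw hw', ?_⟩
    simp only [Pi.add_apply, Finset.sum_add_distrib]
    omega
  neg_mem' := by
    rintro a ⟨m, y, hy, hw, hs⟩
    refine ⟨-m, -y, fun i => by simp only [Pi.neg_apply, hy i]; ring, by rw [red2_neg]; exact hw, ?_⟩
    simp only [Pi.neg_apply, Finset.sum_neg_distrib]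
    omega

theorem coe_lSubgroup : (lSubgroup : Set (GolayPt → ℤ)) = leechSet :=
  Set.ext fun _ => mem_leechSet_iff.symm

theorem leechLattice_eq : leechLattice = lSubgroup := by
  rw [leechLattice, ← coe_lSubgroup, AddSubgroup.closure_eq]

theorem mem_leech_iff {x : GolayPt → ℤ} : x ∈ leechLattice ↔ IsL x := by
  rw [leechLattice_eq]; rfl

theorem mem_leech_iff_leechSet {x : GolayPt → ℤ} : x ∈ leechLattice ↔ x ∈ leechSet := by
  rw [mem_leech_iff, mem_leechSet_iff]

/-- The parity representative can be normalised. -/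
theorem IsL.normalize {x : GolayPt → ℤ} (h : IsL x) :
    ∃ (m : ℤ) (y : GolayPt → ℤ), (m = 0 ∨ m = 1) ∧ (∀ i, x i = m + 2 * y i) ∧
      red2 y ∈ golayCode ∧ (8 : ℤ) ∣ ∑ i, x i - 4 * m := by
  obtain ⟨m, y, hy, hw, hs⟩ := h
  refine ⟨m % 2, fun i => y i + m / 2, by omega, fun i => by have := hy i; beta_reduce; omega, ?_, by omega⟩
  have e : red2 (fun i => y i + m / 2) = red2 y + ((m / 2 : ℤ) : ZMod 2) • 1 := by
    funext i; simp [red2]
  rw [e]
  exact add_mem hw (Submodule.smul_mem _ _ one_mem_golayCode)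

theorem sum_affine {x y : GolayPt → ℤ} {m : ℤ} (h : ∀ i, x i = m + 2 * y i) :
    ∑ i, x i = 24 * m + 2 * ∑ i, y i := by
  rw [Finset.sum_congr rfl fun i _ => h i, Finset.sum_add_distrib, Finset.sum_const,
    Finset.card_univ, card_golayPt, ← Finset.mul_sum]
  simp [mul_comm]

theorem sum_sq_affine {x y : GolayPt → ℤ} {m : ℤ} (h : ∀ i, x i = m + 2 * y i) :
    sqNorm x = 24 * m ^ 2 + 4 * m * ∑ i, y i + 4 * ∑ i, y i ^ 2 := by
  have e : ∀ i, x i ^ 2 = m ^ 2 + (4 * m * y i + 4 * y i ^ 2) := fun i => by rw [h i]; ring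
  rw [sqNorm, Finset.sum_congr rfl fun i _ => e i, Finset.sum_add_distrib, Finset.sum_add_distrib,
    Finset.sum_const, Finset.card_univ, card_golayPt, ← Finset.mul_sum, ← Finset.mul_sum]
  simp [add_assoc]

theorem card_code_dvd {w : GolayPt → ZMod 2} (hw : w ∈ golayCode) : 4 ∣ (support₂ w).card := by
  rcases card_of_mem_supports (mem_code_iff_support.1 hw) with h | h | h | h | h <;> rw [h] <;>
    norm_num

theorem sum_sq_mod_four {y : GolayPt → ℤ} (hw : red2 y ∈ golayCode) : (4 : ℤ) ∣ ∑ i, y i ^ 2 := by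
  have e : ∀ i, ((y i ^ 2 : ℤ) : ZMod 4) = if ¬ (2 : ℤ) ∣ y i then 1 else 0 := by
    intro i
    rcases Int.even_or_odd (y i) with ⟨k, hk⟩ | ⟨k, hk⟩
    · rw [if_neg (by omega), hk]
      have : ((k + k) ^ 2 : ℤ) = 4 * k ^ 2 := by ring
      rw [this, Int.cast_mul, show ((4 : ℤ) : ZMod 4) = 0 by decide, zero_mul]
    · rw [if_pos (by omega), hk]
      have : ((2 * k + 1) ^ 2 : ℤ) = 4 * (k ^ 2 + k) + 1 := by ring
      rw [this, Int.cast_add, Int.cast_mul, show ((4 : ℤ) : ZMod 4) = 0 by decide, zero_mul, zero_add,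
        Int.cast_one]
  have h := card_code_dvd hw
  rw [support₂_red2, Finset.card_filter] at h
  have hz : ((∑ i, y i ^ 2 : ℤ) : ZMod 4) = 0 := by
    rw [Int.cast_sum, Finset.sum_congr rfl fun i _ => e i]
    have h' := (ZMod.natCast_eq_zero_iff _ 4).2 h
    rw [Nat.cast_sum] at h'
    refine Eq.trans ?_ h'
    exact Finset.sum_congr rfl fun i _ => by split_ifs <;> simp
  simpa using (ZMod.intCast_zmod_eq_zero_iff_dvd _ 4).1 hz

theorem sqNorm_dvd {x : GolayPt → ℤ} (hx : x ∈ leechLattice) : (16 : ℤ) ∣ sqNorm x := by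
  obtain ⟨m, y, hm, hy, hw, hs⟩ := (mem_leech_iff.1 hx).normalize
  have h1 := sum_affine hy
  have h2 := sum_sq_affine hy
  obtain ⟨a, ha⟩ := sum_sq_mod_four hw
  rcases hm with rfl | rfl <;> omega

theorem sqNorm_nonneg (x : GolayPt → ℤ) : 0 ≤ sqNorm x := Finset.sum_nonneg fun i _ => sq_nonneg _

theorem sqNorm_ge {x : GolayPt → ℤ} (hx : x ∈ leechLattice) (h0 : x ≠ 0) : 32 ≤ sqNorm x := by
  obtain ⟨m, y, hm, hy, hw, hs⟩ := (mem_leech_iff.1 hx).normalize
  obtain ⟨c, hc⟩ := sqNorm_dvd hx
  rcases hm with rfl | rfl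
  · have h2 : sqNorm x = 4 * ∑ i, y i ^ 2 := by rw [sum_sq_affine hy]; ring
    by_cases hodd : support₂ (red2 y) = ∅
    · -- all coordinates divisible by four
      rw [support₂_red2, Finset.filter_eq_empty_iff] at hodd
      obtain ⟨z, hz⟩ : ∃ z : GolayPt → ℤ, ∀ i, y i = 2 * z i :=
        ⟨fun i => y i / 2, fun i => by have := not_not.1 (hodd (Finset.mem_univ i)); beta_reduce; omega⟩
      have hs2 : ∑ i, x i = 4 * ∑ i, z i := by
        rw [sum_affine hy, Finset.sum_congr rfl fun i _ => hz i, ← Finset.mul_sum]; ring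
      have hsq : ∑ i, y i ^ 2 = 4 * ∑ i, z i ^ 2 := by
        rw [Finset.mul_sum]; exact Finset.sum_congr rfl fun i _ => by rw [hz i]; ring
      obtain ⟨j, hj⟩ : ∃ j, z j ≠ 0 := by
        by_contra h
        push Not at h
        exact h0 (funext fun i => by simp [hy i, hz i, h i])
      have hz2 : 2 ≤ ∑ i, z i ^ 2 := by
        have hpar : ∀ i, (2 : ℤ) ∣ z i ^ 2 - z i := fun i => by
          have e : z i ^ 2 - z i = z i * (z i - 1) := by ring
          rw [e]
          rcases Int.even_or_odd (z i) with ⟨k, hk⟩ | ⟨k, hk⟩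
          · exact Dvd.dvd.mul_right ⟨k, by omega⟩ _
          · exact Dvd.dvd.mul_left ⟨k, by omega⟩ _
        have hd : (2 : ℤ) ∣ ∑ i, z i ^ 2 - ∑ i, z i := by
          rw [← Finset.sum_sub_distrib]; exact Finset.dvd_sum fun i _ => hpar i
        have h1 : 1 ≤ ∑ i, z i ^ 2 := by
          refine le_trans ?_ (Finset.single_le_sum (fun i _ => sq_nonneg (z i)) (Finset.mem_univ j))
          have := mul_self_pos.2 hj
          rw [sq]; omega
        omega
      omega
    · have h8 : 8 ≤ (support₂ (red2 y)).card := by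
        have hne : (support₂ (red2 y)).card ≠ 0 := fun e => hodd (Finset.card_eq_zero.1 e)
        rcases card_of_mem_supports (mem_code_iff_support.1 hw) with h | h | h | h | h <;> omega
      have hge : ((support₂ (red2 y)).card : ℤ) ≤ ∑ i, y i ^ 2 := by
        rw [support₂_red2, Finset.card_filter, Nat.cast_sum]
        refine Finset.sum_le_sum fun i _ => ?_
        split_ifs with h
        · simp [sq_nonneg]
        · have : y i ≠ 0 := by intro e; rw [e] at h; exact h (dvd_zero 2)
          have := mul_self_pos.2 this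
          rw [sq]; omega
      omega
  · have h24 : (24 : ℤ) ≤ sqNorm x := by
      rw [sqNorm, show (24 : ℤ) = ∑ _i : GolayPt, 1 by simp [card_golayPt]]
      refine Finset.sum_le_sum fun i _ => ?_
      have : x i ≠ 0 := by have := hy i; omega
      have := mul_self_pos.2 this
      rw [sq]; omega
    omega

theorem perm_mem_leech {σ : Equiv.Perm GolayPt} (hσ : σ ∈ M24) {x : GolayPt → ℤ}
    (hx : x ∈ leechLattice) : (fun i => x (σ i)) ∈ leechLattice := by
  rw [mem_leech_iff] at hx ⊢
  obtain ⟨m, y, hy, hw, hs⟩ := hx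
  refine ⟨m, fun i => y (σ i), fun i => hy _, ?_, ?_⟩
  · rw [mem_code_iff_support] at hw ⊢
    convert smul_mem_supports (inv_mem hσ) hw using 1
    ext i
    have hmem : ∀ (w : GolayPt → ZMod 2) (j : GolayPt), j ∈ support₂ w ↔ w j ≠ 0 := fun w j => by
      simp [support₂]
    rw [← Finset.inv_smul_mem_iff, inv_inv, Equiv.Perm.smul_def, hmem, hmem]
    rfl
  · rwa [Equiv.sum_comp σ x]

theorem sign_mem_leech {c : Finset GolayPt}
    (hc : c ∈ supports (golayCode : Set (GolayPt → ZMod 2))) {x : GolayPt → ℤ}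
    (hx : x ∈ leechLattice) : (fun i => if i ∈ c then -x i else x i) ∈ leechLattice := by
  rw [mem_leech_iff] at hx ⊢
  obtain ⟨m, y, hy, hw, hs⟩ := hx
  have hcc : wordOf (mask c) ∈ golayCode := wordOf_mem (mem_supports_iff.1 hc)
  have hv : ∀ i, wordOf (mask c) i = if i ∈ c then 1 else 0 := fun i => by
    simp [wordOf, testBit_mask]
  refine ⟨m, fun i => if i ∈ c then -y i - m else y i, fun i => ?_, ?_, ?_⟩
  · beta_reduce
    split_ifs <;> rw [hy i] <;> ring
  · have e : red2 (fun i => if i ∈ c then -y i - m else y i)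
        = red2 y + (m : ZMod 2) • wordOf (mask c) := by
      funext i
      simp only [red2, Pi.add_apply, Pi.smul_apply, hv, smul_eq_mul]
      split_ifs
      · simp [sub_eq_add_neg, ZMod.neg_eq_self_mod_two]
      · simp
    rw [e]
    exact add_mem hw (Submodule.smul_mem _ _ hcc)
  · have hsplit : ∑ i, (if i ∈ c then -x i else x i) = ∑ i, x i - 2 * ∑ i ∈ c, x i := by
      rw [Finset.mul_sum, ← Finset.sum_ite_mem_eq c (fun i => 2 * x i), ← Finset.sum_sub_distrib]
      exact Finset.sum_congr rfl fun i _ => by split_ifs <;> ring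
    have hcx : ∑ i ∈ c, x i = c.card * m + 2 * ∑ i ∈ c, y i := by
      rw [Finset.sum_congr rfl fun i _ => hy i, Finset.sum_add_distrib, Finset.sum_const,
        ← Finset.mul_sum, nsmul_eq_mul]
    have hc4 : (4 : ℤ) ∣ c.card := by
      rcases card_of_mem_supports hc with h | h | h | h | h <;> rw [h] <;> norm_num
    have hyc : (2 : ℤ) ∣ ∑ i ∈ c, y i := by
      have h := self_orthogonal hw hcc
      simp only [hv, mul_ite, mul_one, mul_zero, Finset.sum_ite_mem, Finset.univ_inter, red2] at h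
      rw [← Int.cast_sum] at h
      simpa using (ZMod.intCast_zmod_eq_zero_iff_dvd _ 2).1 h
    obtain ⟨k, hk⟩ := hc4
    rw [hk, mul_assoc] at hcx
    beta_reduce
    omega

end Cfsg.Agent.Golay
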