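import Cfsg.Agent.Golay.LeechOrder
import Cfsg.Agent.Golay.M24Order
import Cfsg.Agent.Golay.Mathieu
import Cfsg.Prelude.Def_Sporadic

/-! Simplicity of the automorphism group of the lattice modulo its centre. -/

set_option autoImplicit false
set_option maxRecDepth 20000

namespace Cfsg.Agent.Golay

open scoped Pointwise symmDiff

theorem co0_finite : Finite ↥Co0 := Nat.finite_of_card_ne_zero (by rw [co0_card]; norm_num)

theorem monoEl_mul (σ τ : Equiv.Perm GolayPt) (hσ : σ ∈ M24) (hτ : τ ∈ M24) (c d : Finset GolayPt)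
    (hc : c ∈ supports (golayCode : Set (GolayPt → ZMod 2))) (hd : d ∈ supports (golayCode : Set (GolayPt → ZMod 2))) :
    monoEl σ hσ c hc * monoEl τ hτ d hd =
      monoEl (σ * τ) (mul_mem hσ hτ) (symmDiff c (σ • d)) (symmDiff_mem_supports hc (smul_mem_supports hσ hd)) := by
  refine co0_ext fun i => Subtype.ext ?_
  rw [mul_smul, monoEl_apply, monoEl_apply, monoEl_apply]
  show signedPerm σ c (signedPerm τ d (Pi.single i 8)) = signedPerm _ _ (Pi.single i 8)
  rw [signedPerm_single, signedPerm_single, signedPerm_single, Equiv.Perm.mul_apply, ← mul_assoc]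
  congr 2
  have h : σ (τ i) ∈ σ • d ↔ τ i ∈ d := by
    rw [← Equiv.Perm.smul_def, Finset.smul_mem_smul_finset_iff]
  simp only [sgnOf, Finset.mem_symmDiff, h]
  by_cases g1 : σ (τ i) ∈ c <;> by_cases g2 : τ i ∈ d <;> simp [g1, g2]

theorem monoEl_congr {σ τ : Equiv.Perm GolayPt} {hσ : σ ∈ M24} {hτ : τ ∈ M24} {c d : Finset GolayPt}
    {hc : c ∈ supports (golayCode : Set (GolayPt → ZMod 2))} {hd : d ∈ supports (golayCode : Set (GolayPt → ZMod 2))}
    (h1 : σ = τ) (h2 : c = d) : monoEl σ hσ c hc = monoEl τ hτ d hd := by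
  subst h1 h2
  rfl

theorem monoEl_one : monoEl 1 (one_mem _) ∅ empty_mem_supports = (1 : ↥Co0) := by
  refine co0_ext fun i => Subtype.ext ?_
  rw [monoEl_apply, one_smul]
  show signedPerm 1 ∅ (Pi.single i 8) = _
  rw [signedPerm_single]
  simp [sgnOf, e8]

/-- The stabilizer of the standard cross. -/
def crossH : Subgroup ↥Co0 where
  carrier := {g | CrossFix g}
  one_mem' := fun v hv => by rwa [one_smul]
  mul_mem' := fun {a b} ha hb v hv => by rw [mul_smul]; exact ha _ (hb v hv)
  inv_mem' := fun {a} ha => by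
    obtain ⟨σ, hσ, c, hc, rfl⟩ := exists_mono_of_crossFix ha
    have : (monoEl σ hσ c hc)⁻¹ =
        monoEl σ⁻¹ (inv_mem hσ) (σ⁻¹ • c) (smul_mem_supports (inv_mem hσ) hc) := by
      refine inv_eq_of_mul_eq_one_right ?_
      rw [monoEl_mul, ← monoEl_one]
      exact monoEl_congr (mul_inv_cancel σ) (by rw [smul_inv_smul, symmDiff_self]; rfl)
    show CrossFix _
    rw [this]
    exact monoEl_crossFix _ _ _ _

theorem crossH_card : Nat.card crossH = 4096 * 244823040 := crossFix_card

theorem univ_supports : (Finset.univ : Finset GolayPt) ∈ supports (golayCode : Set (GolayPt → ZMod 2)) := by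
  simpa using compl_mem_supports empty_mem_supports

theorem card_mul_rel {G : Type*} [Group G] {H K : Subgroup G} (h : H ≤ K) :
    Nat.card H * H.relIndex K = Nat.card K := by
  rw [← Subgroup.relIndex_bot_left, ← Subgroup.relIndex_bot_left]
  exact Subgroup.relIndex_mul_relIndex _ _ _ bot_le h

theorem negEl_eq : negEl = monoEl 1 (one_mem _) Finset.univ univ_supports := by
  refine co0_ext fun i => Subtype.ext ?_
  rw [negEl_apply, monoEl_apply]
  show _ = signedPerm 1 Finset.univ (Pi.single i 8)
  rw [signedPerm_single]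
  simp only [AddSubgroup.coe_neg, sgnOf, Finset.mem_univ, if_true, Equiv.Perm.coe_one, id_eq]
  show -(Pi.single i (8 : ℤ) : GolayPt → ℤ) = _
  rw [← Pi.single_neg]
  norm_num

theorem two_dodecads : inC 8245261 = true ∧ inC 15953934 = true ∧ pc 8245261 = 12 ∧ pc 15953934 = 12 ∧
    pc (8245261 ^^^ 15953934) = 8 := by decide +kernel

/-- A set of code words closed under the group and sums, with the all-ones word, is trivial or everything. -/
theorem code_irreducible {S : Set (Finset GolayPt)} (hsub : S ⊆ supports (golayCode : Set (GolayPt → ZMod 2)))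
    (hinv : ∀ σ ∈ M24, ∀ c ∈ S, σ • c ∈ S) (hadd : ∀ c ∈ S, ∀ d ∈ S, symmDiff c d ∈ S) (hu : Finset.univ ∈ S) :
    S ⊆ {∅, Finset.univ} ∨ ∀ c ∈ supports (golayCode : Set (GolayPt → ZMod 2)), c ∈ S := by
  by_cases h : S ⊆ {∅, Finset.univ}
  · exact Or.inl h
  right
  obtain ⟨c, hc, hne⟩ := Set.not_subset.1 h
  simp only [Set.mem_insert_iff, Set.mem_singleton_iff, not_or] at hne
  obtain ⟨o, ho, hoS⟩ : ∃ o ∈ octads, o ∈ S := by
    rcases card_of_mem_supports (hsub hc) with hw | hw | hw | hw | hw
    · exact absurd (Finset.card_eq_zero.1 hw) hne.1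
    · exact ⟨c, ⟨hsub hc, hw⟩, hc⟩
    · obtain ⟨a1, a2, a3, a4, a5⟩ := two_dodecads
      have d1 : bset 8245261 ∈ dodecads := ⟨bset_mem_supports a1, by rw [card_bset, a3]⟩
      have d2 : bset 15953934 ∈ dodecads := ⟨bset_mem_supports a2, by rw [card_bset, a4]⟩
      obtain ⟨g1, hg1, e1⟩ := M24_dodecad_transitive ⟨hsub hc, hw⟩ d1
      obtain ⟨g2, hg2, e2⟩ := M24_dodecad_transitive ⟨hsub hc, hw⟩ d2
      refine ⟨bset (8245261 ^^^ 15953934), ⟨?_, by rw [card_bset, a5]⟩, ?_⟩
      · rw [bset_xor]; exact symmDiff_mem_supports (bset_mem_supports a1) (bset_mem_supports a2)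
      · rw [bset_xor, ← e1, ← e2]
        exact hadd _ (hinv g1 hg1 c hc) _ (hinv g2 hg2 c hc)
    · refine ⟨symmDiff c Finset.univ, ⟨symmDiff_mem_supports (hsub hc) (hsub hu), ?_⟩, hadd c hc _ hu⟩
      rw [show symmDiff c Finset.univ = cᶜ by ext i; simp [Finset.mem_symmDiff], Finset.card_compl, card_golayPt, hw]
    · exact absurd (Finset.card_eq_iff_eq_univ c |>.1 (by rw [hw, card_golayPt])) hne.2
  have hoct : ∀ o' ∈ octads, o' ∈ S := fun o' ho' => by
    obtain ⟨g, hg, e⟩ := M24_octad_transitive ho ho'
    exact e ▸ hinv g hg o hoS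
  have h0 : (∅ : Finset GolayPt) ∈ S := by
    have := hadd _ hu _ hu
    rwa [symmDiff_self] at this
  intro s hs
  obtain ⟨i, -, hi⟩ := inC_eq_encode (mem_supports_iff.1 hs)
  have key : ∀ (l : List ℕ), (∀ r ∈ l, r ∈ rows) → ∀ j, bset (encAux l j) ∈ S := by
    intro l
    induction l with
    | nil => intro _ j; rw [encAux, bset_zero]; exact h0
    | cons r rs ih =>
      intro hl j
      have ih' := ih (fun t ht => hl t (by simp [ht])) (j / 2)
      rw [encAux]
      cases (j % 2 == 1)
      · simpa using ih'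
      · obtain ⟨hrC, hr8⟩ := (by decide +kernel : ∀ r ∈ rows, inC r = true ∧ pc r = 8) r (hl r (by simp))
        rw [cond_true, bset_xor]
        exact hadd _ (hoct _ ⟨bset_mem_supports hrC, by rw [card_bset, hr8]⟩) _ ih'
  rw [← bset_mask s, ← hi]
  exact key rows (fun _ h => h) i

/-- The element of order 23. -/
noncomputable def el23 : ↥Co0 :=
  monoEl (Equiv.optionCongr (Equiv.addRight (1 : ZMod 23))) shift_mem ∅ empty_mem_supports

theorem monoEl_pow (σ : Equiv.Perm GolayPt) (hσ : σ ∈ M24) (n : ℕ) :
    monoEl σ hσ ∅ empty_mem_supports ^ n = monoEl (σ ^ n) (pow_mem hσ n) ∅ empty_mem_supports := by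
  induction n with
  | zero => rw [pow_zero, ← monoEl_one]; exact monoEl_congr (pow_zero σ).symm rfl
  | succ n ih =>
    rw [pow_succ, ih, monoEl_mul]
    exact monoEl_congr (pow_succ σ n).symm (by simp)

theorem shift_order : orderOf (Equiv.optionCongr (Equiv.addRight (1 : ZMod 23))) = 23 := by
  haveI := Fact.mk (by norm_num : Nat.Prime 23)
  refine orderOf_eq_prime (Equiv.ext fun p => ?_) ?_
  · revert p
    decide +kernel
  · intro h
    have := congrArg (fun e : Equiv.Perm GolayPt => e (some 0)) h
    simp at this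

theorem el23_order : orderOf el23 = 23 := by
  haveI := Fact.mk (by norm_num : Nat.Prime 23)
  refine orderOf_eq_prime ?_ ?_
  · rw [el23, monoEl_pow, ← monoEl_one]
    exact monoEl_congr (by
      have := pow_orderOf_eq_one (Equiv.optionCongr (Equiv.addRight (1 : ZMod 23)))
      rwa [shift_order] at this) rfl
  · intro h
    have h' := (monoEl_injective (hσ := shift_mem) (hσ' := one_mem M24) (hc := empty_mem_supports)
      (hc' := empty_mem_supports) (h.trans monoEl_one.symm)).1
    have := shift_order
    rw [h', orderOf_one] at this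
    omega

theorem gen_top : genCo0 = ⊤ := by
  refine eq_top_iff.2 fun g _ => ?_
  have hg : sqNorm ((g • e8 none : ↥leechLattice) : GolayPt → ℤ) = 64 := (co0_norm g _).trans (sqNorm_e8 none)
  obtain ⟨k, hk, e⟩ := genCo0_transitive (Or.inr (Or.inr rfl)) (sqNorm_e8 none) hg
  have hfix : (k⁻¹ * g) • e8 none = e8 none := by rw [mul_smul, ← e, inv_smul_smul]
  have hm : k⁻¹ * g ∈ genCo0 := Subgroup.subset_closure (Or.inl (crossFix_of_fix rfl hfix))
  simpa using mul_mem hk hm

theorem eta_sq : etaEl * etaEl = 1 := by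
  refine co0_ext fun i => Subtype.ext ?_
  rw [mul_smul, one_smul]
  exact etaFun_etaFun (e8 i).2

theorem eta_sign_facts : inC 4845570 = true ∧
    (etaFun (fun i => (if (4845570 : ℕ).testBit (idx i) then -1 else 1) *
      etaFun (fun j => if j = none then 8 else 0) i) none ≠ 0) ∧
    (etaFun (fun i => (if (4845570 : ℕ).testBit (idx i) then -1 else 1) *
      etaFun (fun j => if j = none then 8 else 0) i) (pt 0) ≠ 0) := by decide +kernel

theorem rot_facts : inC 13062145 = true ∧ pc (13062145 ^^^ mapMask shiftCode 13062145) = 8 := by decide +kernel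

theorem pow_mod_facts : ∀ q ∈ [3, 5, 7, 11, 13], ∀ k < 10, (q = 11 → k < 2) → ∀ j < k, q ^ k % 23 ≠ q ^ j % 23 := by
  decide

theorem co0_primes {q : ℕ} (hq : q.Prime) (h : q ∣ 8315553613086720000) :
    q ∈ [2, 3, 5, 7, 11, 13, 23] := by
  have e : (8315553613086720000 : ℕ) = 2 ^ 22 * 3 ^ 9 * 5 ^ 4 * 7 ^ 2 * 11 * 13 * 23 := by norm_num
  rw [e] at h
  have pd : ∀ {a : ℕ}, a.Prime → q ∣ a → q = a := fun ha hd => (Nat.prime_dvd_prime_iff_eq hq ha).1 hd
  simp only [List.mem_cons, List.not_mem_nil, or_false]
  rcases (Nat.Prime.dvd_mul hq).1 h with h | h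
  rcases (Nat.Prime.dvd_mul hq).1 h with h | h
  rcases (Nat.Prime.dvd_mul hq).1 h with h | h
  rcases (Nat.Prime.dvd_mul hq).1 h with h | h
  rcases (Nat.Prime.dvd_mul hq).1 h with h | h
  rcases (Nat.Prime.dvd_mul hq).1 h with h | h
  all_goals first
    | (have := pd (by norm_num : Nat.Prime 2) (hq.dvd_of_dvd_pow h); omega)
    | (have := pd (by norm_num : Nat.Prime 3) (hq.dvd_of_dvd_pow h); omega)
    | (have := pd (by norm_num : Nat.Prime 5) (hq.dvd_of_dvd_pow h); omega)
    | (have := pd (by norm_num : Nat.Prime 7) (hq.dvd_of_dvd_pow h); omega)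
    | (have := pd (by norm_num : Nat.Prime 11) h; omega)
    | (have := pd (by norm_num : Nat.Prime 13) h; omega)
    | (have := pd (by norm_num : Nat.Prime 23) h; omega)

/-- Fixed vectors of the element of order 23. -/
theorem fixed_by_el23 {v : ↥leechLattice} (hn : sqNorm (v : GolayPt → ℤ) = 64) (h : el23 • v = v) :
    v = e8 none ∨ v = -e8 none := by
  obtain ⟨x, hx, hxv⟩ : ∃ x : GolayPt → ℤ, x ∈ leechLattice ∧ (v : GolayPt → ℤ) = x := ⟨_, v.2, rfl⟩
  have hstep : ∀ r : ZMod 23, x (some r) = x (some (r + 1)) := fun r => by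
    have := congrFun (congrArg (fun a : ↥leechLattice => (a : GolayPt → ℤ)) h) (some (r + 1))
    simp only [el23, monoEl_apply] at this
    rw [signedPerm_eq, hxv, (Equiv.symm_apply_eq _).2 (show some (r + 1) =
      Equiv.optionCongr (Equiv.addRight (1 : ZMod 23)) (some r) by simp)] at this
    simpa [sgnOf] using this
  have hb : ∀ k : ℕ, x (some (k : ZMod 23)) = x (some 0) := fun k => by
    induction k with
    | zero => simp
    | succ k ih => rw [Nat.cast_succ, ← hstep, ih]
  have hall : ∀ r : ZMod 23, x (some r) = x (some 0) := fun r => by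
    have := hb r.val
    rwa [ZMod.natCast_zmod_val] at this
  rw [hxv, sqNorm, Fintype.sum_option, Finset.sum_congr rfl fun r _ => by rw [hall r], Finset.sum_const,
    Finset.card_univ, ZMod.card, nsmul_eq_mul] at hn
  push_cast at hn
  have hb0 : x (some 0) = 0 := by
    have hm : x (some 0) ^ 2 ≤ 2 := by nlinarith [sq_nonneg (x none)]
    have : -2 < x (some 0) := by by_contra; nlinarith
    have : x (some 0) < 2 := by by_contra; nlinarith
    by_contra hne
    have hs : x (some 0) ^ 2 = 1 := by
      rcases (by omega : x (some 0) = 1 ∨ x (some 0) = -1) with e | e <;> rw [e] <;> norm_num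
    rw [hs] at hn
    have h41 : x none ^ 2 = 41 := by linarith
    have : x none < 7 := by by_contra; nlinarith
    have : -7 < x none := by by_contra; nlinarith
    interval_cases (x none) <;> simp at h41
  rw [hb0] at hn
  rcases sq_eq_sq_iff_eq_or_eq_neg.1 (show x none ^ 2 = 8 ^ 2 by linarith) with e | e
  · left
    refine Subtype.ext (funext fun p => ?_)
    rw [hxv]
    cases p with
    | none => simp [e8, e]
    | some r => simp [e8, hall r, hb0]
  · right
    refine Subtype.ext (funext fun p => ?_)
    rw [hxv]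
    cases p with
    | none => simp [e8, e]
    | some r => simp [e8, hall r, hb0]

theorem crossFix_of_pm {g : ↥Co0} (h : g • e8 none = e8 none ∨ g • e8 none = -e8 none) : g ∈ crossH := by
  rcases h with h | h
  · exact crossFix_of_fix rfl h
  · have h1 : negEl * g ∈ crossH := crossFix_of_fix rfl (by rw [mul_smul, h, negEl_apply, neg_neg])
    have h2 : negEl ∈ crossH := by rw [negEl_eq]; exact monoEl_crossFix _ _ _ _
    simpa using mul_mem (inv_mem h2) h1

/-- The normal subgroups containing negation. -/
theorem normal_cases (N : Subgroup ↥Co0) [hN : N.Normal] (hneg : negEl ∈ N) :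
    (∀ x ∈ N, x = 1 ∨ x = negEl) ∨ N = ⊤ := by
  classical
  haveI := co0_finite
  haveI := Fact.mk (by norm_num : Nat.Prime 23)
  haveI := M24_simple
  let KM : Subgroup ↥M24 :=
    { carrier := {σ | ∃ c, ∃ hc : c ∈ supports (golayCode : Set (GolayPt → ZMod 2)), monoEl σ σ.2 c hc ∈ N}
      one_mem' := ⟨∅, empty_mem_supports, by
        show monoEl 1 (one_mem _) ∅ _ ∈ N
        rw [monoEl_one]; exact one_mem N⟩
      mul_mem' := by
        rintro a b ⟨c, hc, h1⟩ ⟨d, hd, h2⟩
        have := mul_mem h1 h2
        rw [monoEl_mul] at this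
        exact ⟨_, _, this⟩
      inv_mem' := by
        rintro a ⟨c, hc, h1⟩
        obtain ⟨τ, hτ, d, hd, e⟩ :=
          exists_mono_of_crossFix (inv_mem (show monoEl a a.2 c hc ∈ crossH from monoEl_crossFix _ _ _ _))
        have h3 := (monoEl_mul a τ a.2 hτ c d hc hd).symm
        rw [← e, mul_inv_cancel, ← monoEl_one] at h3
        have hτ' : τ = (a : Equiv.Perm GolayPt)⁻¹ :=
          eq_inv_of_mul_eq_one_right (monoEl_injective (hσ := mul_mem a.2 hτ) (hσ' := one_mem M24)
            (hc := symmDiff_mem_supports hc (smul_mem_supports a.2 hd)) (hc' := empty_mem_supports) h3).1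
        refine ⟨d, hd, ?_⟩
        have h4 : monoEl τ hτ d hd ∈ N := e ▸ inv_mem h1
        rwa [monoEl_congr (hτ := (a⁻¹ : ↥M24).2) (hd := hd) hτ' rfl] at h4 }
  have hconj : ∀ (τ : Equiv.Perm GolayPt) (hτ : τ ∈ M24) (σ : Equiv.Perm GolayPt) (hσ : σ ∈ M24)
      (c : Finset GolayPt) (hc : c ∈ supports (golayCode : Set (GolayPt → ZMod 2))), monoEl σ hσ c hc ∈ N →
      monoEl (τ * σ * τ⁻¹) (mul_mem (mul_mem hτ hσ) (inv_mem hτ)) (τ • c) (smul_mem_supports hτ hc) ∈ N := by
    intro τ hτ σ hσ c hc h
    have h' := hN.conj_mem _ h (monoEl τ hτ ∅ empty_mem_supports)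
    have hinv : (monoEl τ hτ ∅ empty_mem_supports)⁻¹ = monoEl τ⁻¹ (inv_mem hτ) ∅ empty_mem_supports := by
      refine inv_eq_of_mul_eq_one_right ?_
      rw [monoEl_mul, ← monoEl_one]
      exact monoEl_congr (mul_inv_cancel τ) (by simp)
    rw [hinv, monoEl_mul, monoEl_mul] at h'
    rwa [monoEl_congr (hτ := mul_mem (mul_mem hτ hσ) (inv_mem hτ)) (hd := smul_mem_supports hτ hc) rfl
      (by simp)] at h'
  haveI hKMn : KM.Normal := ⟨fun σ ⟨c, hc, h⟩ τ => ⟨_, _, hconj τ τ.2 σ σ.2 c hc h⟩⟩
  let SE : Set (Finset GolayPt) :=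
    {c | ∃ hc : c ∈ supports (golayCode : Set (GolayPt → ZMod 2)), monoEl 1 (one_mem _) c hc ∈ N}
  have hSE := code_irreducible (S := SE) (fun c hc => hc.1) (fun τ hτ c hc => ⟨smul_mem_supports hτ hc.1, by
      have := hconj τ hτ 1 (one_mem _) c hc.1 hc.2
      rwa [monoEl_congr (hτ := one_mem M24) (hd := smul_mem_supports hτ hc.1) (by simp) rfl] at this⟩)
    (fun c hc d hd => ⟨symmDiff_mem_supports hc.1 hd.1, by
      have := mul_mem hc.2 hd.2
      rwa [monoEl_mul, monoEl_congr (hτ := one_mem M24) (hd := symmDiff_mem_supports hc.1 hd.1) (one_mul 1)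
        (by rw [one_smul])] at this⟩)
    ⟨_, negEl_eq ▸ hneg⟩
  have hKM := Subgroup.Normal.eq_bot_or_eq_top hKMn
  have hP : ∀ x : ↥Co0, orderOf x = 23 → ∀ y : ↥Co0, orderOf y = 23 →
      ∃ (g : ↥Co0) (k : ℕ), g * y * g⁻¹ = x ^ k := by
    intro x hx y hy
    have hcard : ∀ z : ↥Co0, orderOf z = 23 →
        Nat.card (Subgroup.zpowers z) = 23 ^ (Nat.card ↥Co0).factorization 23 := fun z hz => by
      rw [Nat.card_zpowers, hz, co0_card,
        show (8315553613086720000 : ℕ) = 23 * 361545809264640000 by norm_num,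
        Nat.factorization_mul (by norm_num) (by norm_num), Finsupp.add_apply,
        Nat.Prime.factorization_self (by norm_num), Nat.factorization_eq_zero_of_not_dvd (by norm_num)]
      all_goals norm_num
    let Px : Sylow 23 ↥Co0 := Sylow.ofCard (Subgroup.zpowers x) (hcard x hx)
    let Py : Sylow 23 ↥Co0 := Sylow.ofCard (Subgroup.zpowers y) (hcard y hy)
    obtain ⟨g, hg⟩ := MulAction.exists_smul_eq ↥Co0 Py Px
    have hmem : g * y * g⁻¹ ∈ (Px : Subgroup ↥Co0) := by
      rw [← hg, Sylow.coe_subgroup_smul]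
      exact Subgroup.smul_mem_pointwise_smul _ _ _ (Subgroup.mem_zpowers y)
    obtain ⟨k, hk⟩ := (mem_powers_iff_mem_zpowers.2 hmem : g * y * g⁻¹ ∈ Submonoid.powers x)
    exact ⟨g, k, hk.symm⟩
  by_cases h23 : 23 ∣ Nat.card N
  · -- the normal subgroup contains all elements of order 23
    right
    obtain ⟨y, hy⟩ := exists_prime_orderOf_dvd_card' 23 h23
    obtain ⟨g, k, hk⟩ := hP el23 el23_order y (by rwa [Subgroup.orderOf_coe])
    have hN23 : el23 ∈ N := by
      have hmem : el23 ^ k ∈ N := hk ▸ hN.conj_mem _ y.2 g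
      have hk' : ¬ 23 ∣ k := fun hd => by
        obtain ⟨m, rfl⟩ := hd
        have e1 : el23 ^ (23 * m) = 1 := by
          rw [pow_mul, show el23 ^ 23 = 1 by rw [← el23_order]; exact pow_orderOf_eq_one _, one_pow]
        rw [e1, conj_eq_one_iff] at hk
        have : orderOf y = 1 := by rw [← Subgroup.orderOf_coe, hk, orderOf_one]
        omega
      obtain ⟨m, hm⟩ := exists_pow_eq_self_of_coprime (x := el23) (n := k) (by
        rw [el23_order]; exact (Nat.Coprime.symm ((Nat.Prime.coprime_iff_not_dvd (by norm_num)).2 hk')))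
      rw [← hm]
      exact pow_mem hmem m
    have hKtop : KM = ⊤ := hKM.resolve_left fun hb => by
      have : (⟨_, shift_mem⟩ : ↥M24) ∈ KM := ⟨∅, empty_mem_supports, hN23⟩
      rw [hb, Subgroup.mem_bot] at this
      have h2 := shift_order
      have h3 : Equiv.optionCongr (Equiv.addRight (1 : ZMod 23)) = (1 : Equiv.Perm GolayPt) := congrArg Subtype.val this
      rw [h3, orderOf_one] at h2
      omega
    have hall : ∀ c ∈ supports (golayCode : Set (GolayPt → ZMod 2)), c ∈ SE := by
      refine hSE.resolve_left fun hsub => ?_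
      obtain ⟨r1, r2⟩ := rot_facts
      have hr := bset_mem_supports r1
      have hm : monoEl 1 (one_mem _) _ hr * el23 * (monoEl 1 (one_mem _) _ hr)⁻¹ * el23⁻¹ ∈ N :=
        mul_mem (hN.conj_mem _ hN23 _) (inv_mem hN23)
      have hσ := shift_mem
      have e : monoEl 1 (one_mem _) _ hr * el23 * (monoEl 1 (one_mem _) _ hr)⁻¹ * el23⁻¹ =
          monoEl 1 (one_mem _) (symmDiff (bset 13062145) (Equiv.optionCongr (Equiv.addRight (1 : ZMod 23)) • bset 13062145))
            (symmDiff_mem_supports hr (smul_mem_supports hσ hr)) := by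
        rw [mul_inv_eq_iff_eq_mul, mul_inv_eq_iff_eq_mul, el23, monoEl_mul, monoEl_mul, monoEl_mul]
        exact monoEl_congr (by simp) (by simp [symmDiff_assoc, Finset.smul_finset_symmDiff])
      rw [e] at hm
      have hw : (symmDiff (bset 13062145) (Equiv.optionCongr (Equiv.addRight (1 : ZMod 23)) • bset 13062145)).card = 8 := by
        rw [shift_eq, ← bset_mapMask (by decide +kernel), ← bset_xor, card_bset, r2]
      rcases hsub ⟨_, hm⟩ with h | h
      · rw [h] at hw; simp at hw
      · rw [Set.mem_singleton_iff.1 h, Finset.card_univ, card_golayPt] at hw; omega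
    have hHN : crossH ≤ N := fun g hg => by
      obtain ⟨σ, hσ, c, hc, rfl⟩ := exists_mono_of_crossFix hg
      obtain ⟨d, hd, hmd⟩ : (⟨σ, hσ⟩ : ↥M24) ∈ KM := hKtop ▸ Subgroup.mem_top _
      obtain ⟨hcd, hm⟩ := hall _ (symmDiff_mem_supports hc hd)
      have := mul_mem hm hmd
      rwa [monoEl_mul, monoEl_congr (hτ := hσ) (hd := hc) (one_mul σ)
        (by rw [one_smul, symmDiff_symmDiff_cancel_right])] at this
    have hodd : ¬ 2 ∣ N.index := fun h2 => by
      have hd := Subgroup.index_dvd_of_le hHN
      have hH : Nat.card crossH * crossH.index = Nat.card ↥Co0 := Subgroup.card_mul_index crossH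
      rw [crossH_card, co0_card] at hH
      have : crossH.index = 8292375 := by omega
      rw [this] at hd
      have := h2.trans hd
      omega
    have heta : etaEl ∈ N := by
      by_contra hne
      refine hodd ?_
      have h1 : (QuotientGroup.mk etaEl : ↥Co0 ⧸ N) ≠ 1 := fun e => hne ((QuotientGroup.eq_one_iff _).1 e)
      have h2 : orderOf (QuotientGroup.mk etaEl : ↥Co0 ⧸ N) = 2 := by
        haveI := Fact.mk Nat.prime_two
        refine orderOf_eq_prime ?_ h1
        rw [pow_two, ← QuotientGroup.mk_mul, eta_sq]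
        rfl
      rw [Subgroup.index_eq_card, ← h2]
      exact orderOf_dvd_natCard _
    refine eq_top_iff.2 (gen_top ▸ (Subgroup.closure_le _).2 ?_)
    rintro x (hx | hx)
    · exact hHN hx
    · rw [Set.mem_singleton_iff.1 hx]; exact heta
  · -- the normal subgroup is a 2-group inside the monomial group
    left
    have hKbot : KM = ⊥ := hKM.resolve_right fun ht => h23 (by
      obtain ⟨c, hc, hm⟩ : (⟨_, shift_mem⟩ : ↥M24) ∈ KM := ht ▸ Subgroup.mem_top _
      have hpow : ∀ n : ℕ, ∃ d, ∃ hd : d ∈ supports (golayCode : Set (GolayPt → ZMod 2)),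
          monoEl (Equiv.optionCongr (Equiv.addRight (1 : ZMod 23))) shift_mem c hc ^ n =
          monoEl (Equiv.optionCongr (Equiv.addRight (1 : ZMod 23)) ^ n) (pow_mem shift_mem n) d hd := by
        intro n
        induction n with
        | zero => exact ⟨∅, empty_mem_supports, by rw [pow_zero, ← monoEl_one]; exact monoEl_congr (pow_zero _).symm rfl⟩
        | succ n ih =>
          obtain ⟨d, hd, e⟩ := ih
          rw [pow_succ, e, monoEl_mul]
          exact ⟨_, symmDiff_mem_supports hd (smul_mem_supports (pow_mem shift_mem n) hc),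
            monoEl_congr (pow_succ _ n).symm rfl⟩
      refine dvd_trans ?_ (Subgroup.orderOf_dvd_natCard N hm)
      obtain ⟨d, hd, e⟩ := hpow (orderOf (monoEl _ shift_mem c hc))
      rw [pow_orderOf_eq_one, ← monoEl_one] at e
      have h2 := (monoEl_injective (hσ := one_mem M24) (hσ' := pow_mem shift_mem _) (hc := empty_mem_supports)
        (hc' := hd) e).1
      have h4 := orderOf_dvd_of_pow_eq_one h2.symm
      rwa [shift_order] at h4)
    have hKsq : ∀ x ∈ N, x ∈ crossH → ∃ c, ∃ hc : c ∈ supports (golayCode : Set (GolayPt → ZMod 2)),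
        x = monoEl 1 (one_mem _) c hc := by
      intro x hx hxH
      obtain ⟨σ, hσ, c, hc, rfl⟩ := exists_mono_of_crossFix hxH
      have : (⟨σ, hσ⟩ : ↥M24) ∈ KM := ⟨c, hc, hx⟩
      rw [hKbot, Subgroup.mem_bot] at this
      exact ⟨c, hc, monoEl_congr (congrArg Subtype.val this) rfl⟩
    have hodd : ∀ q : ℕ, q.Prime → q ∣ Nat.card N → q = 2 := by
      intro q hq hqN
      by_contra hq2
      haveI := Fact.mk hq
      have hqm := co0_primes hq (co0_card ▸ hqN.trans (Subgroup.card_subgroup_dvd_card N))
      have hq23 : q ≠ 23 := fun e => h23 (e ▸ hqN)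
      obtain ⟨Q⟩ : Nonempty (Sylow q N) := inferInstance
      let QG : Subgroup ↥Co0 := (Q : Subgroup N).map N.subtype
      have hfr := Sylow.normalizer_sup_eq_top Q
      have hdvd : 23 ∣ Nat.card (Subgroup.normalizer (QG : Set ↥Co0)) := by
        have h1 := Subgroup.relIndex_sup_right (H := Subgroup.normalizer (QG : Set ↥Co0)) (K := N)
        rw [hfr, Subgroup.relIndex_top_right] at h1
        have h2 : N.relIndex (Subgroup.normalizer (QG : Set ↥Co0)) ∣ Nat.card (Subgroup.normalizer (QG : Set ↥Co0)) :=
          Subgroup.index_dvd_card _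
        rw [← h1] at h2
        refine dvd_trans ?_ h2
        have h3 : Nat.card N * N.index = Nat.card ↥Co0 := Subgroup.card_mul_index N
        rw [co0_card] at h3
        have h4 : 23 ∣ Nat.card N * N.index := by rw [h3]; norm_num
        exact (Nat.Prime.dvd_mul (by norm_num)).1 h4 |>.resolve_left h23
      obtain ⟨y, hy⟩ := exists_prime_orderOf_dvd_card' 23 hdvd
      obtain ⟨g, k, hk⟩ := hP el23 el23_order y (by rwa [Subgroup.orderOf_coe])
      let Q' : Subgroup ↥Co0 := QG.map (MulAut.conj g).toMonoidHom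
      have hel : el23 ∈ Subgroup.normalizer (Q' : Set ↥Co0) := by
        have hyk : el23 ^ k ∈ Subgroup.normalizer (Q' : Set ↥Co0) := by
          rw [← hk]
          have := Subgroup.mem_map_of_mem (MulAut.conj g).toMonoidHom y.2
          rw [Subgroup.map_normalizer_eq_of_bijective] at this
          · exact this
          · exact (MulAut.conj g).bijective
        have hk' : ¬ 23 ∣ k := fun hd => by
          obtain ⟨m, rfl⟩ := hd
          have e1 : el23 ^ (23 * m) = 1 := by
            rw [pow_mul, show el23 ^ 23 = 1 by rw [← el23_order]; exact pow_orderOf_eq_one _, one_pow]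
          rw [e1, conj_eq_one_iff] at hk
          have : orderOf y = 1 := by rw [← Subgroup.orderOf_coe, hk, orderOf_one]
          omega
        obtain ⟨m, hm⟩ := exists_pow_eq_self_of_coprime (x := el23) (n := k) (by
          rw [el23_order]; exact (Nat.Coprime.symm ((Nat.Prime.coprime_iff_not_dvd (by norm_num)).2 hk')))
        rw [← hm]
        exact pow_mem hyk m
      obtain ⟨e, he⟩ : ∃ e, Nat.card Q' = q ^ e := by
        refine ⟨(Nat.card N).factorization q, ?_⟩
        rw [Subgroup.card_map_of_injective (MulAut.conj g).injective,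
          Subgroup.card_map_of_injective N.subtype_injective, Sylow.card_eq_multiplicity]
      have he0 : e ≠ 0 := fun e0 => by
        rw [e0, pow_zero, Subgroup.card_map_of_injective (MulAut.conj g).injective,
          Subgroup.card_map_of_injective N.subtype_injective, Sylow.card_eq_multiplicity] at he
        exact (Nat.Prime.factorization_pos_of_dvd hq Nat.card_pos.ne' hqN).ne'
          ((Nat.pow_eq_one.1 he).resolve_left hq.ne_one)
      let φ : Subgroup.zpowers el23 →* MulAut Q' :=
        (Q'.normalizerMonoidHom).comp (Subgroup.inclusion (Subgroup.zpowers_le.2 hel))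
      letI : MulAction (Subgroup.zpowers el23) Q' := MulAction.compHom Q' φ
      have hpg : IsPGroup 23 (Subgroup.zpowers el23) :=
        IsPGroup.of_card (n := 1) (by rw [Nat.card_zpowers, el23_order, pow_one])
      have hmod := hpg.card_modEq_card_fixedPoints Q'
      let C : Subgroup Q' :=
        { carrier := {x | el23 * (x : ↥Co0) = (x : ↥Co0) * el23}
          one_mem' := by simp
          mul_mem' := fun {a b} ha hb => by
            simp only [Set.mem_ofPred_eq, Subgroup.coe_mul] at *
            rw [← mul_assoc, ha, mul_assoc, hb, mul_assoc]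
          inv_mem' := fun {a} ha => by
            simp only [Set.mem_ofPred_eq, InvMemClass.coe_inv] at *
            exact (Commute.inv_right ha) }
      have hfix : MulAction.fixedPoints (Subgroup.zpowers el23) Q' = (C : Set Q') := by
        ext x
        have hact : ∀ (z : Subgroup.zpowers el23) (x : Q'),
            ((z • x : Q') : ↥Co0) = (z : ↥Co0) * (x : ↥Co0) * (z : ↥Co0)⁻¹ := fun z x => rfl
        constructor
        · intro hx
          have := congrArg Subtype.val (hx ⟨el23, Subgroup.mem_zpowers _⟩)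
          rw [hact, mul_inv_eq_iff_eq_mul] at this
          exact this
        · intro hx z
          refine Subtype.ext ?_
          obtain ⟨n, hn⟩ := Subgroup.mem_zpowers_iff.1 z.2
          rw [hact, ← hn, mul_inv_eq_iff_eq_mul]
          exact (Commute.zpow_left hx n)
      rw [hfix] at hmod
      obtain ⟨j, hje, hjC⟩ : ∃ j ≤ e, Nat.card C = q ^ j :=
        (Nat.dvd_prime_pow hq).1 (he ▸ Subgroup.card_subgroup_dvd_card C)
      have hCQ : ∀ x : Q', x ∈ C := by
        rcases eq_or_lt_of_le hje with rfl | hlt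
        · intro x
          rw [Subgroup.eq_top_of_card_eq C (by rw [hjC, he])]
          exact Subgroup.mem_top x
        exfalso
        have hqe : q ^ e ∣ 8315553613086720000 := by
          rw [← co0_card, ← he]; exact Subgroup.card_subgroup_dvd_card _
        have hbig : e < 10 ∧ (q = 11 → e < 2) := by
          refine ⟨?_, ?_⟩
          · by_contra hge
            have := (pow_dvd_pow q (show 10 ≤ e by omega)).trans hqe
            simp only [List.mem_cons, List.not_mem_nil, or_false] at hqm
            rcases hqm with rfl | rfl | rfl | rfl | rfl | rfl | rfl <;> first | omega | (norm_num at this; done)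
          · rintro rfl
            by_contra hge
            have := (pow_dvd_pow 11 (show 2 ≤ e by omega)).trans hqe
            norm_num at this
        have hm' : q ^ e % 23 = q ^ j % 23 := by
          have h := hmod
          rw [Nat.ModEq, he] at h
          rw [h, ← hjC]
          rfl
        refine pow_mod_facts q ?_ e hbig.1 hbig.2 j hlt hm'
        simp only [List.mem_cons, List.not_mem_nil, or_false] at hqm ⊢
        omega
      obtain ⟨x, hx⟩ := exists_prime_orderOf_dvd_card' q (show q ∣ Nat.card Q' by rw [he]; exact dvd_pow_self q he0)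
      have hxN : (x : ↥Co0) ∈ N := by
        obtain ⟨a, ⟨b, -, hb⟩, e'⟩ := x.2
        rw [← e', ← hb]
        exact hN.conj_mem _ b.2 g
      have hxH : (x : ↥Co0) ∈ crossH := by
        refine crossFix_of_pm (fixed_by_el23 ((co0_norm _ _).trans (sqNorm_e8 none)) ?_)
        rw [← mul_smul, show el23 * (x : ↥Co0) = (x : ↥Co0) * el23 from hCQ x, mul_smul]
        congr 1
        refine Subtype.ext ?_
        rw [el23, monoEl_apply]
        show signedPerm _ ∅ (Pi.single none 8) = _
        rw [signedPerm_single]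
        simp [sgnOf, e8]
      obtain ⟨c, hc, hxc⟩ := hKsq _ hxN hxH
      have hx2 : (x : ↥Co0) ^ 2 = 1 := by
        rw [hxc, pow_two, monoEl_mul, ← monoEl_one]
        exact monoEl_congr (one_mul 1) (by rw [one_smul, symmDiff_self]; rfl)
      have hdv : q ∣ 2 := by
        rw [← hx, ← Subgroup.orderOf_coe]
        exact orderOf_dvd_of_pow_eq_one hx2
      exact hq2 ((Nat.prime_dvd_prime_iff_eq hq Nat.prime_two).1 hdv)
    have hle : N ≤ crossH := by
      have h1 := Subgroup.relIndex_sup_right (H := crossH) (K := N)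
      have h2 : Nat.card N * N.relIndex (crossH ⊔ N) = Nat.card ↥(crossH ⊔ N : Subgroup ↥Co0) :=
        card_mul_rel le_sup_right
      have h3 : Nat.card ↥(N ⊓ crossH : Subgroup ↥Co0) * N.relIndex crossH = Nat.card crossH := by
        rw [← Subgroup.inf_relIndex_right N crossH]
        exact card_mul_rel inf_le_right
      rw [h1] at h2
      obtain ⟨e, he⟩ := Subgroup.card_dvd_of_le (le_sup_left : crossH ≤ crossH ⊔ N)
      have he2 : e ∣ 8292375 := by
        have := Subgroup.card_subgroup_dvd_card (crossH ⊔ N)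
        rw [he, co0_card, crossH_card] at this
        exact Nat.dvd_of_mul_dvd_mul_left (k := 4096 * 244823040) (by norm_num) (by norm_num at this ⊢; exact this)
      have hkey : Nat.card N = Nat.card ↥(N ⊓ crossH : Subgroup ↥Co0) * e := by
        have hr : 0 < N.relIndex crossH := Nat.pos_of_ne_zero fun h0 => by
          rw [h0, mul_zero] at h3
          exact Nat.card_pos.ne h3
        refine Nat.eq_of_mul_eq_mul_right hr ?_
        rw [h2, he, ← h3]
        ring
      have he1 : e = 1 := by
        by_contra hne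
        obtain ⟨p, hp, hpe⟩ := Nat.exists_prime_and_dvd hne
        have := hodd p hp (hkey ▸ dvd_mul_of_dvd_right hpe _)
        subst this
        have := hpe.trans he2
        omega
      rw [he1, mul_one] at hkey
      intro x hx
      have : N ⊓ crossH = N := Subgroup.eq_of_le_of_card_ge inf_le_left hkey.le
      rw [← this] at hx
      exact hx.2
    intro x hx
    obtain ⟨c, hc, rfl⟩ := hKsq x hx (hle hx)
    rcases hSE with hsub | hall
    · rcases hsub ⟨hc, hx⟩ with h | h
      · left; rw [← monoEl_one]; exact monoEl_congr rfl h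
      · right; rw [negEl_eq]; exact monoEl_congr rfl (Set.mem_singleton_iff.1 h)
    · exfalso
      obtain ⟨f1, f2, f3⟩ := eta_sign_facts
      have hcm := bset_mem_supports f1
      obtain ⟨hc', hm⟩ := hall _ hcm
      have h1 := hle (hN.conj_mem _ hm etaEl)
      have hv : (e8 none : GolayPt → ℤ) ∈ stdCross := ⟨none, 8, Or.inl rfl, rfl⟩
      obtain ⟨p, s, -, hs⟩ := h1 (e8 none) hv
      have hinv : (etaEl⁻¹ : ↥Co0) = etaEl := inv_eq_of_mul_eq_one_right eta_sq
      rw [hinv, mul_smul, mul_smul] at hs
      have he : (e8 none : GolayPt → ℤ) = fun j => if j = none then 8 else 0 := funext fun j => by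
        simp [e8, Pi.single_apply]
      have hval : ((etaEl • monoEl 1 (one_mem _) _ hc' • etaEl • e8 none : ↥leechLattice) : GolayPt → ℤ) =
          etaFun (fun i => (if (4845570 : ℕ).testBit (idx i) then -1 else 1) *
            etaFun (fun j => if j = none then 8 else 0) i) := by
        show etaFun ((monoEl 1 (one_mem _) _ hc' • etaEl • e8 none : ↥leechLattice) : GolayPt → ℤ) = _
        rw [monoEl_apply]
        refine congrArg etaFun (funext fun i => ?_)
        rw [signedPerm_eq, ← he]
        simp only [sgnOf, mem_bset]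
        rfl
      rw [hval] at hs
      rw [congrFun hs] at f2 f3
      have : none = p ∧ pt 0 = p := ⟨by by_contra hne; exact f2 (by simp [hne]),
        by by_contra hne; exact f3 (by simp [hne])⟩
      exact absurd (this.1.trans this.2.symm) (by decide)

/-- The quotient by the centre is simple of the stated order. -/
theorem co1_facts : IsCo1 (↥Co0 ⧸ Subgroup.center ↥Co0) := by
  haveI := co0_finite
  have hcard : Nat.card (↥Co0 ⧸ Subgroup.center ↥Co0) = 4157776806543360000 := by
    have := Subgroup.card_eq_card_quotient_mul_card_subgroup (Subgroup.center ↥Co0)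
    rw [co0_center_card, co0_card] at this
    omega
  haveI : Nontrivial (↥Co0 ⧸ Subgroup.center ↥Co0) := Finite.one_lt_card_iff_nontrivial.1 (by rw [hcard]; norm_num)
  refine ⟨⟨fun N hNn => ?_⟩, hcard⟩
  haveI := hNn.comap (QuotientGroup.mk' (Subgroup.center ↥Co0))
  have hneg : negEl ∈ N.comap (QuotientGroup.mk' (Subgroup.center ↥Co0)) := by
    show (QuotientGroup.mk negEl : ↥Co0 ⧸ Subgroup.center ↥Co0) ∈ N
    rw [(QuotientGroup.eq_one_iff _).2 negEl_mem_center]
    exact one_mem N
  rcases normal_cases _ hneg with h | h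
  · left
    refine (Subgroup.eq_bot_iff_forall _).2 fun x hx => ?_
    obtain ⟨g, rfl⟩ := QuotientGroup.mk_surjective x
    refine (QuotientGroup.eq_one_iff _).2 ?_
    rcases h g hx with rfl | rfl
    · exact one_mem _
    · exact negEl_mem_center
  · right
    exact Subgroup.comap_injective (QuotientGroup.mk'_surjective _) (h.trans (Subgroup.comap_top _).symm)

end Cfsg.Agent.Golay
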