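import Cfsg.Agent.Golay.Leech
import Cfsg.Prelude.Def_SporadicCombinatorics

/-! Counting lattice vectors of small norm by generating functions evaluated at a large base. -/

set_option autoImplicit false
set_option maxRecDepth 20000

namespace Cfsg.Agent.Golay

open scoped Pointwise

/-- The base of the generating functions. -/
def gfBase : ℕ := 2 ^ 64

/-- The coefficient of `B^t`. -/
def gfCoeff (B P t : ℕ) : ℕ := P / B ^ t % B

theorem gfCoeff_sum (B : ℕ) (hB : 1 < B) : ∀ (t D : ℕ) (f : ℕ → ℕ), (∀ d, f d < B) → t < D →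
    gfCoeff B (∑ d ∈ Finset.range D, f d * B ^ d) t = f t := by
  intro t
  induction t with
  | zero =>
    intro D f hf hD
    obtain ⟨D', rfl⟩ : ∃ D', D = D' + 1 := ⟨D - 1, by omega⟩
    have e : ∑ d ∈ Finset.range D', f (d + 1) * B ^ (d + 1)
        = B * ∑ d ∈ Finset.range D', f (d + 1) * B ^ d := by
      rw [Finset.mul_sum]; exact Finset.sum_congr rfl fun d _ => by ring
    rw [Finset.sum_range_succ', e, gfCoeff]
    simp only [pow_zero, mul_one, Nat.div_one]
    rw [Nat.add_comm, Nat.add_mul_mod_self_left, Nat.mod_eq_of_lt (hf 0)]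
  | succ t ih =>
    intro D f hf hD
    obtain ⟨D', rfl⟩ : ∃ D', D = D' + 1 := ⟨D - 1, by omega⟩
    have e : ∑ d ∈ Finset.range D', f (d + 1) * B ^ (d + 1)
        = B * ∑ d ∈ Finset.range D', f (d + 1) * B ^ d := by
      rw [Finset.mul_sum]; exact Finset.sum_congr rfl fun d _ => by ring
    rw [Finset.sum_range_succ', e, gfCoeff, pow_succ', ← Nat.div_div_eq_div_mul]
    simp only [pow_zero, mul_one]
    rw [Nat.add_comm, Nat.add_mul_div_left _ _ (by omega : 0 < B), Nat.div_eq_of_lt (hf 0), zero_add]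
    exact ih D' (fun d => f (d + 1)) (fun d => hf _) (by omega)

/-- The number of functions in a box with prescribed total exponent, from the generating function. -/
theorem box_count {ι : Type*} [Fintype ι] [DecidableEq ι] (Z : ι → Finset ℤ) (e : ι → ℤ → ℕ) (B : ℕ)
    (hB : 1 < B) (hlt : (Fintype.piFinset Z).card < B) (D : ℕ)
    (hD : ∀ f ∈ Fintype.piFinset Z, ∑ i, e i (f i) < D) (t : ℕ) (ht : t < D) :
    ((Fintype.piFinset Z).filter fun f => ∑ i, e i (f i) = t).card =
      gfCoeff B (∏ i, ∑ z ∈ Z i, B ^ e i z) t := by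
  have h1 : ∏ i, ∑ z ∈ Z i, B ^ e i z = ∑ f ∈ Fintype.piFinset Z, B ^ ∑ i, e i (f i) := by
    rw [Finset.prod_univ_sum]
    exact Finset.sum_congr rfl fun f _ => Finset.prod_pow_eq_pow_sum Finset.univ (fun i => e i (f i)) B
  have h2 : ∑ f ∈ Fintype.piFinset Z, B ^ ∑ i, e i (f i) = ∑ d ∈ Finset.range D,
      ((Fintype.piFinset Z).filter fun f => ∑ i, e i (f i) = d).card * B ^ d := by
    rw [← Finset.sum_fiberwise_of_maps_to (t := Finset.range D) (g := fun f => ∑ i, e i (f i))
      (fun f hf => Finset.mem_range.2 (hD f hf))]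
    refine Finset.sum_congr rfl fun d _ => ?_
    rw [Finset.sum_congr rfl (g := fun _ => B ^ d) (fun f hf => by rw [(Finset.mem_filter.1 hf).2]),
      Finset.sum_const, smul_eq_mul]
  rw [h1, h2, gfCoeff_sum B hB t D
    (fun d => ((Fintype.piFinset Z).filter fun f => ∑ i, e i (f i) = d).card)
    (fun d => lt_of_le_of_lt (Finset.card_le_card (Finset.filter_subset _ _)) hlt) ht]

/-- The allowed values of `z` for a residue `r`, with absolute values of `r + 4 z` in `S`. -/
def zVals (S : List ℤ) (r : ℤ) : Finset ℤ :=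
  ([-3, -2, -1, 0, 1, 2].toFinset).filter fun z => |r + 4 * z| ∈ S

/-- The norm units. -/
def zUnit (r z : ℤ) : ℕ := (if r = 1 then 2 * z ^ 2 + z else if r = 2 then z ^ 2 + z else z ^ 2).toNat

/-- The exponent recorded for a value: units and parity. -/
def zExp (r z : ℤ) : ℕ := zUnit r z * 25 + (z % 2).toNat

/-- One factor of the generating function. -/
def gfFactor (S : List ℤ) (r : ℤ) : ℕ := ∑ z ∈ zVals S r, gfBase ^ zExp r z

/-- The count for `k` residues equal to `r₁` and the others `r₀`, with `U` units and parity `par`. -/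
def gfClass (S : List ℤ) (r₁ r₀ : ℤ) (k U par : ℕ) : ℕ :=
  let P := gfFactor S r₁ ^ k * gfFactor S r₀ ^ (24 - k)
  ((List.range 25).filter fun p => p % 2 == par).foldr (fun p a => gfCoeff gfBase P (U * 25 + p) + a) 0

theorem zVals_card (S : List ℤ) (r : ℤ) : (zVals S r).card ≤ 6 :=
  (Finset.card_le_card (Finset.filter_subset _ _)).trans (by decide)

theorem zUnit_cast (r z : ℤ) : (zUnit r z : ℤ) = if r = 1 then 2 * z ^ 2 + z else if r = 2 then z ^ 2 + z else z ^ 2 := by
  rw [zUnit, Int.toNat_of_nonneg]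
  split_ifs
  · nlinarith [sq_nonneg z, sq_nonneg (z + 1)]
  · nlinarith [sq_nonneg z, sq_nonneg (z + 1)]
  · positivity

theorem foldr_add_eq (f : ℕ → ℕ) (l : List ℕ) : l.foldr (fun p a => f p + a) 0 = (l.map f).sum := by
  induction l with
  | nil => rfl
  | cons a l ih => simp [ih]

/-- Functions in a box with prescribed units and parity. -/
theorem class_count (S : List ℤ) (r₁ r₀ : ℤ) (c : Finset GolayPt) (U par : ℕ) (hpar : par < 2) :
    ((Fintype.piFinset fun i => zVals S (if i ∈ c then r₁ else r₀)).filter fun f =>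
      ∑ i, zUnit (if i ∈ c then r₁ else r₀) (f i) = U ∧ (∑ i, f i) % 2 = (par : ℤ)).card =
      gfClass S r₁ r₀ c.card U par := by
  have hB6 : 6 ^ 24 < gfBase := by decide +kernel
  unfold gfClass gfFactor
  generalize gfBase = B at hB6 ⊢
  have hB1 : 1 < B := lt_of_le_of_lt (Nat.one_le_pow 24 6 (by norm_num)) hB6
  have hprod : ∏ i : GolayPt, ∑ z ∈ zVals S (if i ∈ c then r₁ else r₀), B ^ zExp (if i ∈ c then r₁ else r₀) z =
      (∑ z ∈ zVals S r₁, B ^ zExp r₁ z) ^ c.card * (∑ z ∈ zVals S r₀, B ^ zExp r₀ z) ^ (24 - c.card) := by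
    have : ∀ i : GolayPt, ∑ z ∈ zVals S (if i ∈ c then r₁ else r₀), B ^ zExp (if i ∈ c then r₁ else r₀) z =
        if i ∈ c then ∑ z ∈ zVals S r₁, B ^ zExp r₁ z else ∑ z ∈ zVals S r₀, B ^ zExp r₀ z := fun i => by
      by_cases hi : i ∈ c <;> simp [hi]
    rw [Finset.prod_congr rfl fun i _ => this i, Finset.prod_ite, Finset.prod_const, Finset.prod_const]
    congr 2
    · simp
    · rw [show (Finset.univ.filter fun i => ¬ i ∈ c) = cᶜ by ext; simp, Finset.card_compl, card_golayPt]
  have hbox : (Fintype.piFinset fun i => zVals S (if i ∈ c then r₁ else r₀)).card < B := by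
    rw [Fintype.card_piFinset]
    refine lt_of_le_of_lt (Finset.prod_le_prod' fun i _ => zVals_card S _) ?_
    rw [Finset.prod_const, Finset.card_univ, card_golayPt]
    exact hB6
  have hbit : ∀ f : GolayPt → ℤ, ∑ i, (f i % 2).toNat ≤ 24 := fun f => by
    calc ∑ i, (f i % 2).toNat ≤ ∑ _i : GolayPt, 1 := Finset.sum_le_sum fun i _ => by omega
      _ = 24 := by simp
  have hpar' : ∀ f : GolayPt → ℤ, ((∑ i, (f i % 2).toNat : ℕ) : ℤ) % 2 = (∑ i, f i) % 2 := fun f => by
    rw [Nat.cast_sum, Finset.sum_int_mod (s := Finset.univ) (f := fun i => f i)]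
    exact congrArg (· % 2) (Finset.sum_congr rfl fun i _ => Int.toNat_of_nonneg (Int.emod_nonneg _ (by norm_num)))
  have hsum : ∀ f : GolayPt → ℤ, ∑ i, zExp (if i ∈ c then r₁ else r₀) (f i) =
      (∑ i, zUnit (if i ∈ c then r₁ else r₀) (f i)) * 25 + ∑ i, (f i % 2).toNat := fun f => by
    simp only [zExp, Finset.sum_add_distrib, Finset.sum_mul]
  generalize hZ : (fun i => zVals S (if i ∈ c then r₁ else r₀)) = Z at hbox ⊢
  obtain ⟨D, hDU, hD⟩ : ∃ D, U * 25 + 24 < D ∧
      ∀ f ∈ Fintype.piFinset Z, ∑ i, zExp (if i ∈ c then r₁ else r₀) (f i) < D :=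
    ⟨U * 25 + 25 + (Fintype.piFinset Z).sup (fun f => ∑ i, zExp (if i ∈ c then r₁ else r₀) (f i)), by omega,
      fun f hf => by
      have := Finset.le_sup (f := fun f => ∑ i, zExp (if i ∈ c then r₁ else r₀) (f i)) hf
      omega⟩
  have hprod' : ∏ i : GolayPt, ∑ z ∈ Z i, B ^ zExp (if i ∈ c then r₁ else r₀) z =
      (∑ z ∈ zVals S r₁, B ^ zExp r₁ z) ^ c.card * (∑ z ∈ zVals S r₀, B ^ zExp r₀ z) ^ (24 - c.card) := by
    rw [← hprod, ← hZ]
  dsimp only
  rw [← hprod', foldr_add_eq, ← List.sum_toFinset _ (List.nodup_range.filter _)]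
  have hco : ∀ p ∈ ((List.range 25).filter fun p => p % 2 == par).toFinset,
      gfCoeff B (∏ i, ∑ z ∈ Z i, B ^ zExp (if i ∈ c then r₁ else r₀) z) (U * 25 + p) =
        ((Fintype.piFinset Z).filter fun f =>
          ∑ i, zExp (if i ∈ c then r₁ else r₀) (f i) = U * 25 + p).card := fun p hp => by
    simp only [List.mem_toFinset, List.mem_filter, List.mem_range] at hp
    exact (box_count Z (fun i => zExp (if i ∈ c then r₁ else r₀)) B hB1 hbox D hD _ (by omega)).symm
  rw [Finset.sum_congr rfl hco, ← Finset.card_biUnion]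
  · refine congrArg Finset.card ?_
    ext f
    simp only [Finset.mem_filter, Finset.mem_biUnion, List.mem_toFinset, List.mem_filter, List.mem_range,
      beq_iff_eq]
    constructor
    · rintro ⟨hf, hu, hp⟩
      refine ⟨∑ i, (f i % 2).toNat, ⟨by have := hbit f; omega, ?_⟩, hf, by rw [hsum, hu]⟩
      have := hpar' f
      omega
    · rintro ⟨p, ⟨hp, hpp⟩, hf, he'⟩
      rw [hsum] at he'
      have h1 := hbit f
      have hu : ∑ i, zUnit (if i ∈ c then r₁ else r₀) (f i) = U := by omega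
      refine ⟨hf, hu, ?_⟩
      have := hpar' f
      omega
  · intro a _ b _ hab
    refine Finset.disjoint_left.2 fun f h1 h2 => hab ?_
    have e1 := (Finset.mem_filter.1 h1).2
    have e2 := (Finset.mem_filter.1 h2).2
    omega

/-- Signs of a set. -/
def sgnOf (c : Finset GolayPt) (i : GolayPt) : ℤ := if i ∈ c then -1 else 1

theorem sgnOf_sq (c : Finset GolayPt) (i : GolayPt) : sgnOf c i * sgnOf c i = 1 := by
  unfold sgnOf; split_ifs <;> rfl

theorem sgn_mem_leech {c : Finset GolayPt} (hc : c ∈ supports (golayCode : Set (GolayPt → ZMod 2)))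
    {x : GolayPt → ℤ} (hx : x ∈ leechLattice) : (fun i => sgnOf c i * x i) ∈ leechLattice := by
  convert sign_mem_leech hc hx using 1
  funext i
  simp only [sgnOf]
  split_ifs <;> ring

/-- The vectors with absolute values in `S`, of norm `n`. -/
def shellSet (S : List ℤ) (n : ℤ) : Set (GolayPt → ℤ) :=
  {x | x ∈ leechLattice ∧ sqNorm x = n ∧ ∀ i, |x i| ∈ S}

/-- The allowed absolute values fit the boxes. -/
def SmallVals (S : List ℤ) : Prop := ∀ a ∈ S, a ≤ 8

theorem mem_zVals {S : List ℤ} (hS : SmallVals S) {r z : ℤ} (hr : 0 ≤ r) (hr3 : r ≤ 2)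
    (hrz : r = 0 → z ≠ -3) :
    |r + 4 * z| ∈ S ↔ z ∈ zVals S r ∧ |r + 4 * z| ∈ S := by
  refine ⟨fun h => ⟨?_, h⟩, fun h => h.2⟩
  have hb := hS _ h
  rw [abs_le] at hb
  simp only [zVals, Finset.mem_filter, List.mem_toFinset, List.mem_cons, List.not_mem_nil, or_false]
  exact ⟨by omega, h⟩

/-- The even vectors attached to a code word. -/
noncomputable def evenClass (S : List ℤ) (U : ℕ) (c : Finset GolayPt) : Finset (GolayPt → ℤ) :=
  ((Fintype.piFinset fun i => zVals S (if i ∈ c then 2 else 0)).filter fun f =>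
      ∑ i, zUnit (if i ∈ c then 2 else 0) (f i) = U ∧ (∑ i, f i) % 2 = ((0 : ℕ) : ℤ)).image
    fun f i => (if i ∈ c then 2 else 0) + 4 * f i

/-- The odd vectors attached to a code word. -/
noncomputable def oddClass (S : List ℤ) (U : ℕ) (c : Finset GolayPt) : Finset (GolayPt → ℤ) :=
  ((Fintype.piFinset fun i => zVals S (if i ∈ c then 1 else 1)).filter fun f =>
      ∑ i, zUnit (if i ∈ c then 1 else 1) (f i) = U ∧ (∑ i, f i) % 2 = ((1 : ℕ) : ℤ)).image
    fun f i => sgnOf c i * (1 + 4 * f i)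

theorem evenClass_card (S : List ℤ) (U : ℕ) (c : Finset GolayPt) :
    (evenClass S U c).card = gfClass S 2 0 c.card U 0 := by
  rw [evenClass, Finset.card_image_of_injective, class_count S 2 0 c U 0 (by norm_num)]
  intro f g e
  funext i
  have := congrFun e i
  dsimp only at this
  omega

theorem oddClass_card (S : List ℤ) (U : ℕ) (c : Finset GolayPt) :
    (oddClass S U c).card = gfClass S 1 1 c.card U 1 := by
  rw [oddClass, Finset.card_image_of_injective, class_count S 1 1 c U 1 (by norm_num)]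
  intro f g e
  funext i
  have h := congrArg (fun z => sgnOf c i * z) (congrFun e i)
  simp only [← mul_assoc, sgnOf_sq, one_mul] at h
  omega

theorem gfClass_same (S : List ℤ) (r : ℤ) {k : ℕ} (hk : k ≤ 24) (U par : ℕ) :
    gfClass S r r k U par = gfClass S r r 0 U par := by
  simp only [gfClass, ← pow_add, Nat.add_sub_of_le hk, pow_zero, one_mul, Nat.sub_zero]

theorem even_sqNorm (c : Finset GolayPt) (f : GolayPt → ℤ) :
    sqNorm (fun i => (if i ∈ c then 2 else 0) + 4 * f i) =
      4 * c.card + 16 * (∑ i, zUnit (if i ∈ c then 2 else 0) (f i) : ℕ) := by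
  have h : ∀ i, ((if i ∈ c then (2 : ℤ) else 0) + 4 * f i) ^ 2 =
      (if i ∈ c then 4 else 0) + 16 * (zUnit (if i ∈ c then 2 else 0) (f i) : ℤ) := fun i => by
    rw [zUnit_cast]
    by_cases hi : i ∈ c <;> simp [hi] <;> ring
  rw [sqNorm, Finset.sum_congr rfl fun i _ => h i, Finset.sum_add_distrib, Finset.sum_ite_mem,
    Finset.univ_inter, Finset.sum_const, nsmul_eq_mul, ← Finset.mul_sum, Nat.cast_sum]
  ring

theorem odd_sqNorm (c : Finset GolayPt) (f : GolayPt → ℤ) :
    sqNorm (fun i => sgnOf c i * (1 + 4 * f i)) =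
      24 + 8 * (∑ i, zUnit (if i ∈ c then 1 else 1) (f i) : ℕ) := by
  have h : ∀ i, (sgnOf c i * (1 + 4 * f i)) ^ 2 = 1 + 8 * (zUnit (if i ∈ c then 1 else 1) (f i) : ℤ) := fun i => by
    rw [mul_pow, sq (sgnOf c i), sgnOf_sq, ite_self, zUnit_cast]
    simp only [if_true]
    ring
  rw [sqNorm, Finset.sum_congr rfl fun i _ => h i, Finset.sum_add_distrib, Finset.sum_const,
    Finset.card_univ, card_golayPt, nsmul_eq_mul, ← Finset.mul_sum, Nat.cast_sum]
  ring

theorem sum_two_indicator (c : Finset GolayPt) :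
    ∑ i, (if i ∈ c then (2 : ℤ) else 0) = 2 * c.card := by
  rw [Finset.sum_ite_mem, Finset.univ_inter, Finset.sum_const, nsmul_eq_mul]
  ring

theorem even_mem_leech {c : Finset GolayPt} (hc : c ∈ supports (golayCode : Set (GolayPt → ZMod 2)))
    {f : GolayPt → ℤ} (hf : (∑ i, f i) % 2 = 0) :
    (fun i => (if i ∈ c then 2 else 0) + 4 * f i) ∈ leechLattice := by
  rw [mem_leech_iff]
  refine ⟨0, fun i => (if i ∈ c then 1 else 0) + 2 * f i, fun i => ?_, ?_, ?_⟩
  · beta_reduce; split_ifs <;> ring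
  · rw [mem_code_iff_support, support₂_red2]
    convert hc using 1
    ext i
    simp only [Finset.mem_filter, Finset.mem_univ, true_and]
    split_ifs with h <;> simp only [h, iff_true, iff_false] <;> omega
  · simp only [Finset.sum_add_distrib, sum_two_indicator, ← Finset.mul_sum]
    obtain ⟨a, ha⟩ : 4 ∣ c.card := by
      rcases card_of_mem_supports hc with h | h | h | h | h <;> rw [h] <;> norm_num
    rw [ha]
    push_cast
    omega

theorem odd_mem_leech {c : Finset GolayPt} (hc : c ∈ supports (golayCode : Set (GolayPt → ZMod 2)))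
    {f : GolayPt → ℤ} (hf : (∑ i, f i) % 2 = 1) :
    (fun i => sgnOf c i * (1 + 4 * f i)) ∈ leechLattice := by
  refine sgn_mem_leech hc ?_
  rw [mem_leech_iff]
  refine ⟨1, fun i => 2 * f i, fun i => by ring, ?_, ?_⟩
  · rw [mem_code_iff_support, support₂_red2]
    convert empty_mem_supports using 1
    ext i
    simp
  · simp only [Finset.sum_add_distrib, ← Finset.mul_sum, Finset.sum_const, Finset.card_univ, card_golayPt,
      nsmul_eq_mul, Nat.cast_ofNat, mul_one]
    omega

theorem exists_even_class {x : GolayPt → ℤ} (hx : x ∈ leechLattice) (h : ∀ i, (2 : ℤ) ∣ x i) :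
    ∃ c ∈ supports (golayCode : Set (GolayPt → ZMod 2)), ∃ f : GolayPt → ℤ, (∑ i, f i) % 2 = 0 ∧
      x = fun i => (if i ∈ c then 2 else 0) + 4 * f i := by
  obtain ⟨m, y, hm, hy, hw, hs⟩ := (mem_leech_iff.1 hx).normalize
  obtain rfl : m = 0 := by
    rcases hm with hm | hm
    · exact hm
    · have := h none
      have := hy none
      omega
  rw [mem_code_iff_support, support₂_red2] at hw
  set c := Finset.univ.filter fun i => ¬ (2 : ℤ) ∣ y i with hc
  have hxe : x = fun i => (if i ∈ c then 2 else 0) + 4 * (y i / 2) := by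
    funext i
    have := hy i
    simp only [c, Finset.mem_filter, Finset.mem_univ, true_and]
    split_ifs <;> omega
  refine ⟨c, hw, fun i => y i / 2, ?_, hxe⟩
  rw [hxe] at hs
  simp only [Finset.sum_add_distrib, sum_two_indicator, ← Finset.mul_sum] at hs
  obtain ⟨a, ha⟩ : 4 ∣ c.card := by
    rcases card_of_mem_supports hw with h | h | h | h | h <;> rw [h] <;> norm_num
  rw [ha] at hs
  push_cast at hs
  dsimp only
  omega

theorem exists_odd_class {x : GolayPt → ℤ} (hx : x ∈ leechLattice) (h : ¬ ∀ i, (2 : ℤ) ∣ x i) :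
    ∃ c ∈ supports (golayCode : Set (GolayPt → ZMod 2)), ∃ f : GolayPt → ℤ, (∑ i, f i) % 2 = 1 ∧
      x = fun i => sgnOf c i * (1 + 4 * f i) := by
  obtain ⟨m, y, hm, hy, hw, hs⟩ := (mem_leech_iff.1 hx).normalize
  obtain rfl : m = 1 := by
    rcases hm with rfl | hm
    · exact absurd (fun i => ⟨y i, by rw [hy i]; ring⟩) h
    · exact hm
  rw [mem_code_iff_support, support₂_red2] at hw
  set c := Finset.univ.filter fun i => ¬ (2 : ℤ) ∣ y i with hc
  have hx2 := mem_leech_iff.1 (sgn_mem_leech hw hx)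
  have hxe : ∀ i, sgnOf c i * x i = 1 + 4 * ((sgnOf c i * x i - 1) / 4) := fun i => by
    have := hy i
    simp only [sgnOf, c, Finset.mem_filter, Finset.mem_univ, true_and]
    split_ifs <;> omega
  refine ⟨c, hw, fun i => (sgnOf c i * x i - 1) / 4, ?_, funext fun i => ?_⟩
  · obtain ⟨m', y', hy', -, hs'⟩ := hx2
    rw [Finset.sum_congr rfl fun i _ => hxe i] at hs'
    simp only [Finset.sum_add_distrib, ← Finset.mul_sum, Finset.sum_const, Finset.card_univ, card_golayPt,
      nsmul_eq_mul, Nat.cast_ofNat, mul_one] at hs'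
    have h1 := hy' none
    have h2 := hxe none
    dsimp only at h1 ⊢
    omega
  · rw [← hxe i, ← mul_assoc, sgnOf_sq, one_mul]

/-- Units of even vectors with `k` twos at norm `n`. -/
def evenU (n k : ℕ) : ℕ := (n - 4 * k) / 16

/-- The census formula. -/
def censusFormula (S : List ℤ) (n : ℕ) : ℕ :=
  (if 24 ≤ n ∧ (n - 24) % 8 = 0 then 4096 * gfClass S 1 1 0 ((n - 24) / 8) 1 else 0) +
    (([(0, 1), (8, 759), (12, 2576), (16, 759), (24, 1)] : List (ℕ × ℕ)).map fun p =>
      if 4 * p.1 ≤ n ∧ (n - 4 * p.1) % 16 = 0 then p.2 * gfClass S 2 0 p.1 (evenU n p.1) 0 else 0).sum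

theorem supports_weight_count :
    ∀ k ∈ ({0, 8, 12, 16, 24} : Finset ℕ), countB (fun i => pc (encode i) == k) 12 0 =
      if k = 0 then 1 else if k = 8 then 759 else if k = 12 then 2576 else if k = 16 then 759 else 1 := by
  decide +kernel

theorem census (S : List ℤ) (hS : SmallVals S) (n : ℕ) (hn : n ≤ 64) :
    (shellSet S n).ncard = censusFormula S n := by
  classical
  obtain ⟨G, hG⟩ : ∃ G : ℤ → ℤ → ℕ → ℕ → ℕ → ℕ, ∀ a b k U p, gfClass S a b k U p = G a b k U p :=
    ⟨gfClass S, fun _ _ _ _ _ => rfl⟩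
  obtain ⟨C, hC⟩ : ∃ C : Finset (Finset GolayPt), ∀ c, c ∈ C ↔ c ∈ supports (golayCode : Set (GolayPt → ZMod 2)) :=
    ⟨(Set.toFinite _).toFinset, fun c => Set.Finite.mem_toFinset _⟩
  let E : Finset GolayPt → Finset (GolayPt → ℤ) := fun c =>
    if 4 * c.card ≤ n ∧ (n - 4 * c.card) % 16 = 0 then evenClass S (evenU n c.card) c else ∅
  let O : Finset GolayPt → Finset (GolayPt → ℤ) := fun c =>
    if 24 ≤ n ∧ (n - 24) % 8 = 0 then oddClass S ((n - 24) / 8) c else ∅
  have hO : ∀ c x, x ∈ O c ↔ ∃ f : GolayPt → ℤ, (∀ i, f i ∈ zVals S 1) ∧ (∑ i, f i) % 2 = 1 ∧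
      sqNorm x = n ∧ x = fun i => sgnOf c i * (1 + 4 * f i) := by
    intro c x
    constructor
    · intro h
      simp only [O] at h
      split_ifs at h with hc
      · obtain ⟨f, hf, rfl⟩ := Finset.mem_image.1 h
        obtain ⟨hf1, hf2, hf3⟩ := Finset.mem_filter.1 hf
        refine ⟨f, fun i => by simpa using Fintype.mem_piFinset.1 hf1 i, by simpa using hf3, ?_, rfl⟩
        rw [odd_sqNorm, hf2]
        omega
      · simp at h
    · rintro ⟨f, hf1, hf2, hn', rfl⟩
      rw [odd_sqNorm] at hn'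
      simp only [O]
      rw [if_pos (by omega)]
      exact Finset.mem_image.2 ⟨f, Finset.mem_filter.2 ⟨Fintype.mem_piFinset.2 (fun i => by simpa using hf1 i),
        by omega, by simpa using hf2⟩, rfl⟩
  have hE : ∀ c x, x ∈ E c ↔ ∃ f : GolayPt → ℤ, (∀ i, f i ∈ zVals S (if i ∈ c then 2 else 0)) ∧
      (∑ i, f i) % 2 = 0 ∧ sqNorm x = n ∧ x = fun i => (if i ∈ c then 2 else 0) + 4 * f i := by
    intro c x
    constructor
    · intro h
      simp only [E] at h
      split_ifs at h with hc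
      · obtain ⟨f, hf, rfl⟩ := Finset.mem_image.1 h
        obtain ⟨hf1, hf2, hf3⟩ := Finset.mem_filter.1 hf
        refine ⟨f, fun i => Fintype.mem_piFinset.1 hf1 i, by simpa using hf3, ?_, rfl⟩
        rw [even_sqNorm, hf2, evenU]
        omega
      · simp at h
    · rintro ⟨f, hf1, hf2, hn', rfl⟩
      rw [even_sqNorm] at hn'
      simp only [E]
      rw [if_pos (by omega)]
      exact Finset.mem_image.2 ⟨f, Finset.mem_filter.2 ⟨Fintype.mem_piFinset.2 hf1,
        by rw [evenU]; omega, by simpa using hf2⟩, rfl⟩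
  have hset : shellSet S n = ↑(C.biUnion E ∪ C.biUnion O) := by
    ext x
    simp only [Finset.coe_union, Set.mem_union, Finset.mem_coe, Finset.mem_biUnion, hC]
    constructor
    · rintro ⟨hx, hxn, hxS⟩
      by_cases hev : ∀ i, (2 : ℤ) ∣ x i
      · obtain ⟨c, hc, f, hf, hxe⟩ := exists_even_class hx hev
        refine Or.inl ⟨c, hc, (hE c x).2 ⟨f, fun i => ?_, hf, hxn, hxe⟩⟩
        have h := hxS i
        rw [congrFun hxe i] at h
        have hb := abs_le.1 (hS _ h)
        refine ((mem_zVals hS ?_ ?_ ?_).1 h).1 <;> split_ifs at hb ⊢ <;> omega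
      · obtain ⟨c, hc, f, hf, hxe⟩ := exists_odd_class hx hev
        refine Or.inr ⟨c, hc, (hO c x).2 ⟨f, fun i => ?_, hf, hxn, hxe⟩⟩
        have h := hxS i
        rw [congrFun hxe i, abs_mul, show |sgnOf c i| = 1 by unfold sgnOf; split_ifs <;> rfl, one_mul] at h
        exact ((mem_zVals hS (by norm_num) (by norm_num) (by norm_num)).1 h).1
    · rintro (⟨c, hc, hx⟩ | ⟨c, hc, hx⟩)
      · obtain ⟨f, hf1, hf2, hxn, rfl⟩ := (hE c x).1 hx
        exact ⟨even_mem_leech hc hf2, hxn, fun i => (Finset.mem_filter.1 (hf1 i)).2⟩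
      · obtain ⟨f, hf1, hf2, hxn, rfl⟩ := (hO c x).1 hx
        refine ⟨odd_mem_leech hc hf2, hxn, fun i => ?_⟩
        rw [abs_mul, show |sgnOf c i| = 1 by unfold sgnOf; split_ifs <;> rfl, one_mul]
        exact (Finset.mem_filter.1 (hf1 i)).2
  rw [hset, Set.ncard_coe_finset, Finset.card_union_of_disjoint, Finset.card_biUnion, Finset.card_biUnion]
  · have hOcard : ∀ c ∈ C, (O c).card =
        if 24 ≤ n ∧ (n - 24) % 8 = 0 then G 1 1 0 ((n - 24) / 8) 1 else 0 := by
      intro c _
      simp only [O]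
      split_ifs with h
      · rw [oddClass_card, gfClass_same _ _ (by
          have := Finset.card_le_univ c
          rwa [card_golayPt] at this), hG]
      · rfl
    have hCcard : C.card = 4096 := by
      rw [← supports_ncard, ← Set.ncard_coe_finset]
      congr 1
      ext c; simp [hC]
    rw [Finset.sum_congr rfl hOcard, Finset.sum_const, hCcard, smul_eq_mul]
    let g : ℕ → ℕ := fun k => if 4 * k ≤ n ∧ (n - 4 * k) % 16 = 0 then G 2 0 k (evenU n k) 0 else 0
    have hEcard : ∀ c ∈ C, (E c).card = g c.card := fun c _ => by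
      simp only [E, g]
      split_ifs with h
      · rw [evenClass_card, hG]
      · rfl
    rw [Finset.sum_congr rfl hEcard, ← Finset.sum_fiberwise_of_maps_to (t := ({0, 8, 12, 16, 24} : Finset ℕ))
      (g := fun c : Finset GolayPt => c.card) (fun c hc => by
        rcases card_of_mem_supports ((hC c).1 hc) with h | h | h | h | h <;> simp [h])]
    have hfib : ∀ k ∈ ({0, 8, 12, 16, 24} : Finset ℕ), ∑ c ∈ C.filter (fun c => c.card = k), g c.card =
        countB (fun i => pc (encode i) == k) 12 0 * g k := by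
      intro k _
      rw [Finset.sum_congr rfl (g := fun _ => g k) (fun c hc => by rw [(Finset.mem_filter.1 hc).2]),
        Finset.sum_const, smul_eq_mul]
      congr 1
      rw [← Set.ncard_coe_finset, ncard_supports_filter (fun m => pc m == k) _ (fun s => by
        simp [hC, mem_supports_iff, card_eq_pc_mask])]
    rw [Finset.sum_congr rfl hfib, Finset.sum_congr rfl fun k hk => by rw [supports_weight_count k hk]]
    simp only [censusFormula, hG, Finset.sum_insert, Finset.mem_insert, Finset.mem_singleton, Finset.sum_singleton,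
      List.map_cons, List.map_nil, List.sum_cons, List.sum_nil, g, mul_ite, mul_zero]
    norm_num
    ring
  · intro a _ b _ hab
    refine Finset.disjoint_left.2 fun x h1 h2 => hab ?_
    obtain ⟨f, -, -, -, rfl⟩ := (hO a x).1 h1
    obtain ⟨f', -, -, -, e⟩ := (hO b _).1 h2
    ext i
    have := congrFun e i
    simp only [sgnOf] at this
    by_cases ha : i ∈ a <;> by_cases hb : i ∈ b <;> simp [ha, hb] at this ⊢ <;> omega
  · intro a _ b _ hab
    refine Finset.disjoint_left.2 fun x h1 h2 => hab ?_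
    obtain ⟨f, -, -, -, rfl⟩ := (hE a x).1 h1
    obtain ⟨f', -, -, -, e⟩ := (hE b _).1 h2
    ext i
    have := congrFun e i
    by_cases ha : i ∈ a <;> by_cases hb : i ∈ b <;> simp [ha, hb] at this ⊢ <;> omega
  · refine Finset.disjoint_left.2 fun x h1 h2 => ?_
    obtain ⟨a, -, h1⟩ := Finset.mem_biUnion.1 h1
    obtain ⟨b, -, h2⟩ := Finset.mem_biUnion.1 h2
    obtain ⟨f, -, -, -, rfl⟩ := (hE a x).1 h1
    obtain ⟨f', -, -, -, e⟩ := (hO b _).1 h2
    have := congrFun e none
    simp only [sgnOf] at this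
    split_ifs at this <;> omega

theorem abs_le_eight {x : GolayPt → ℤ} (hn : sqNorm x ≤ 64) (i : GolayPt) : |x i| ≤ 8 := by
  have h : x i ^ 2 ≤ sqNorm x := Finset.single_le_sum (fun j _ => sq_nonneg (x j)) (Finset.mem_univ i)
  have h2 : |x i| ^ 2 ≤ 8 ^ 2 := by rw [sq_abs]; omega
  nlinarith [abs_nonneg (x i)]

/-- All small absolute values. -/
def allAbs : List ℤ := [0, 1, 2, 3, 4, 5, 6, 7, 8]

theorem shell_eq {n : ℕ} (hn : n ≤ 64) :
    {x : GolayPt → ℤ | x ∈ leechLattice ∧ sqNorm x = n} = shellSet allAbs n := by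
  ext x
  simp only [shellSet, Set.mem_ofPred_eq]
  refine ⟨fun ⟨h1, h2⟩ => ⟨h1, h2, fun i => ?_⟩, fun h => ⟨h.1, h.2.1⟩⟩
  have h3 := abs_le_eight (x := x) (by omega) i
  have h4 := abs_nonneg (x i)
  simp only [allAbs, List.mem_cons, List.not_mem_nil, or_false]
  omega

theorem allAbs_small : SmallVals allAbs := by unfold SmallVals; decide

theorem census_values :
    censusFormula allAbs 32 = 196560 ∧ censusFormula allAbs 48 = 16773120 ∧
    censusFormula allAbs 64 = 398034000 ∧ censusFormula [0, 2] 48 = 5275648 ∧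
    censusFormula [1, 3] 48 = 8290304 ∧ censusFormula [0, 1, 2, 3, 5, 6, 7, 8] 48 = 13664256 ∧
    censusFormula [0, 1, 2, 3, 4, 6, 7, 8] 48 = 16674816 := by
  decide +kernel

end Cfsg.Agent.Golay
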