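/-! Link data for the lattice automorphism group. -/

set_option autoImplicit false

namespace Cfsg.Agent.Golay

/-- Tetrad of each index. -/
def etaBlk : List Nat := [0, 0, 0, 2, 1, 2, 3, 3, 5, 4, 4, 5, 5, 1, 2, 4, 1, 2, 5, 3, 4, 3, 1, 0]

/-- Steps from the vector `A`. -/
def linkA : List (Nat × Nat) := [(984818244535754528103549039458486304, 4845570), (610919531830533825983390867382095247, 16364104)]

/-- Steps from the vector `B`. -/
def linkB : List (Nat × Nat) := [(984818244535754528103549039458486304, 0)]

/-- Steps from the vector `P5`. -/
def linkP5 : List (Nat × Nat) := [(984818244535754528103549039458486304, 4845570), (875741781212111375977124755211950096, 9440193), (384838680458339918061273324312811559, 2883484)]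

/-- Steps from the vector `P53`. -/
def linkP53 : List (Nat × Nat) := [(984818244535754528103549039458486304, 4845570), (402524920714641747647105278200748715, 9945057), (361485328898797696253378229218838180, 2507487)]

/-- Steps from the vector `Q`. -/
def linkQ : List (Nat × Nat) := [(984818244535754528103549039458486304, 4845570)]

end Cfsg.Agent.Golay
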