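import Cfsg.Agent.Golay.LeechMono
import Cfsg.Agent.Golay.LeechEtaData

/-! An automorphism moving the standard cross, and connectedness of the shells. -/

set_option autoImplicit false
set_option maxRecDepth 20000

namespace Cfsg.Agent.Golay

open scoped Pointwise

/-- The tetrad index of a point. -/
def blkOf (i : GolayPt) : ℕ := etaBlk.getD (idx i) 0

/-- The sum over the tetrad of a point. -/
def blkSum (x : GolayPt → ℤ) (b : ℕ) : ℤ := ∑ j ∈ Finset.univ.filter (fun j => blkOf j = b), x j

/-- The extra map. -/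
def etaFun (x : GolayPt → ℤ) : GolayPt → ℤ := fun i =>
  (if blkOf i = 0 then -1 else 1) * (blkSum x (blkOf i) / 2 - x i)

/-- A test for membership in the lattice. -/
def leechTest (x : GolayPt → ℤ) : Bool :=
  decide (∀ i, (2 : ℤ) ∣ x i - x none % 2) &&
    inC (mask (Finset.univ.filter fun i => ¬ (2 : ℤ) ∣ (x i - x none % 2) / 2)) &&
    decide ((8 : ℤ) ∣ ∑ i, x i - 4 * (x none % 2))

theorem leechTest_sound {x : GolayPt → ℤ} (h : leechTest x = true) : x ∈ leechLattice := by
  simp only [leechTest, Bool.and_eq_true, decide_eq_true_eq] at h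
  obtain ⟨⟨h1, h2⟩, h3⟩ := h
  refine mem_leech_iff.2 ⟨x none % 2, fun i => (x i - x none % 2) / 2, fun i => ?_, ?_, h3⟩
  · have := h1 i
    beta_reduce
    omega
  · rw [mem_code_iff_support, support₂_red2, mem_supports_iff]
    exact h2

/-- The odd generator. -/
def oddGen : GolayPt → ℤ := fun i => if i = none then -3 else 1

/-- The doubled row words. -/
def rowVec (r : ℕ) : GolayPt → ℤ := fun i => if r.testBit (idx i) then 2 else 0

/-- The differences of quadrupled basis vectors. -/
def fourDiff (j : GolayPt) : GolayPt → ℤ := Pi.single j 4 - Pi.single none 4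

/-- Generators of the lattice. -/
def genVecs : List (GolayPt → ℤ) :=
  oddGen :: Pi.single none 8 :: rows.map rowVec ++ ((List.range 23).map fun j => fourDiff (pt j))

theorem gens_ok : ∀ v ∈ genVecs, leechTest v = true ∧ (∀ b < 6, 2 ∣ blkSum v b) ∧ leechTest (etaFun v) = true := by
  decide +kernel

/-- The span of the generators. -/
def genSpan : AddSubgroup (GolayPt → ℤ) := AddSubgroup.closure {v | v ∈ genVecs}

/-- The 0/1 vector of a mask. -/
def liftBit (r : ℕ) : GolayPt → ℤ := fun i => if r.testBit (idx i) then 1 else 0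

theorem red2_liftBit (r : ℕ) : red2 (liftBit r) = wordOf r := by
  funext i
  simp only [red2, liftBit, wordOf]
  split_ifs <;> simp

theorem leech_le_genSpan : leechLattice ≤ genSpan := by
  have hmem : ∀ v ∈ genVecs, v ∈ genSpan := fun v hv => AddSubgroup.subset_closure hv
  have hd : ∀ i, Pi.single i (4 : ℤ) - Pi.single none (4 : ℤ) ∈ genSpan := fun i => by
    by_cases hi : i = none
    · rw [hi, sub_self]; exact zero_mem _
    · have := idx_lt i
      have h23 : idx i ≠ 23 := fun e => hi (idx_injective (e.trans rfl))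
      refine hmem _ ?_
      simp only [genVecs, List.cons_append, List.mem_cons, List.mem_append, List.mem_map, List.mem_range]
      exact Or.inr (Or.inr (Or.inr ⟨idx i, by omega, by rw [pt_idx]; rfl⟩))
  have hcode : ∀ n, inC n = true → ∃ v ∈ genSpan, v ∈ leechLattice ∧ ∃ y : GolayPt → ℤ,
      (∀ i, v i = 2 * y i) ∧ red2 y = wordOf n := by
    intro n hn
    obtain ⟨i, -, rfl⟩ := inC_eq_encode hn
    have key : ∀ (l : List ℕ), (∀ r ∈ l, r ∈ rows) → ∀ j, ∃ v ∈ genSpan, v ∈ leechLattice ∧ ∃ y : GolayPt → ℤ,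
        (∀ i, v i = 2 * y i) ∧ red2 y = wordOf (encAux l j) := by
      intro l
      induction l with
      | nil =>
        intro _ j
        exact ⟨0, zero_mem _, zero_mem _, 0, by simp, by funext i; simp [red2, encAux, wordOf_zero]⟩
      | cons r rs ih =>
        intro hl j
        obtain ⟨v, hv, hv', y, hy, he⟩ := ih (fun t ht => hl t (by simp [ht])) (j / 2)
        rw [encAux]
        cases (j % 2 == 1)
        · exact ⟨v, hv, hv', y, hy, by simpa using he⟩
        · have hg : rowVec r ∈ genVecs := by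
            simp only [genVecs, List.cons_append, List.mem_cons, List.mem_append, List.mem_map]
            exact Or.inr (Or.inr (Or.inl ⟨r, hl r (by simp), rfl⟩))
          refine ⟨rowVec r + v, add_mem (hmem _ hg) hv, add_mem (leechTest_sound (gens_ok _ hg).1) hv',
            liftBit r + y, fun i => ?_, ?_⟩
          · simp only [Pi.add_apply, hy i, rowVec, liftBit, mul_add, mul_ite, mul_one, mul_zero]
          · rw [red2_add, he, cond_true, wordOf_xor, red2_liftBit]
    exact key rows (fun _ h => h) i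
  intro x hx
  obtain ⟨x', hx', hsub, hev⟩ : ∃ x', x' ∈ leechLattice ∧ x - x' ∈ genSpan ∧ ∀ i, (2 : ℤ) ∣ x' i := by
    obtain ⟨m, y, hm, hy, -, -⟩ := (mem_leech_iff.1 hx).normalize
    rcases hm with rfl | rfl
    · exact ⟨x, hx, by rw [sub_self]; exact zero_mem _, fun i => ⟨y i, by rw [hy i]; ring⟩⟩
    · have hg : oddGen ∈ genVecs := List.mem_cons_self ..
      refine ⟨x - oddGen, sub_mem hx (leechTest_sound (gens_ok _ hg).1), by rw [sub_sub_cancel]; exact hmem _ hg,
        fun i => ?_⟩
      have := hy i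
      simp only [Pi.sub_apply, oddGen]
      split_ifs <;> omega
  suffices h : x' ∈ genSpan by
    simpa using add_mem hsub h
  obtain ⟨m, y, hm, hy, hw, -⟩ := (mem_leech_iff.1 hx').normalize
  obtain rfl : m = 0 := by
    have := hev none
    have := hy none
    omega
  obtain ⟨v, hv, hv', u, hu, he⟩ := hcode _ (mem_golayCode_iff.1 hw)
  rw [wordOf_wmask] at he
  have hev' : ∀ i, (2 : ℤ) ∣ y i - u i := fun i => by
    have : ((y i : ℤ) : ZMod 2) = ((u i : ℤ) : ZMod 2) := congrFun he.symm i
    have := (ZMod.intCast_eq_intCast_iff' _ _ 2).1 this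
    omega
  have e : x' = (fun i => 4 * ((y i - u i) / 2)) + v := by
    funext i
    have := hev' i
    have := hy i
    have := hu i
    simp only [Pi.add_apply]
    omega
  obtain ⟨m', y', hy', -, hs⟩ := mem_leech_iff.1 (sub_mem hx' hv')
  obtain ⟨z, hz⟩ : ∃ z : GolayPt → ℤ, ∀ i, z i = (y i - u i) / 2 := ⟨_, fun _ => rfl⟩
  have hval : ∀ i, (x' - v) i = 4 * z i := fun i => by rw [e, hz]; simp
  rw [Finset.sum_congr rfl fun i _ => hval i, ← Finset.mul_sum] at hs
  have h0 := hy' none
  rw [hval] at h0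
  obtain ⟨c, hc⟩ : (2 : ℤ) ∣ ∑ i, z i := by omega
  have e2 : (fun i => 4 * z i) =
      ∑ i, z i • (Pi.single i (4 : ℤ) - Pi.single none (4 : ℤ)) + c • Pi.single none (8 : ℤ) := by
    funext k
    simp only [Pi.add_apply, Finset.sum_apply, Pi.smul_apply, Pi.sub_apply, smul_eq_mul,
      Pi.single_apply, mul_sub, mul_ite, mul_zero, Finset.sum_sub_distrib, Finset.sum_ite_eq,
      Finset.mem_univ, if_true]
    split_ifs with h
    · rw [← Finset.sum_mul, hc]; ring
    · simp [mul_comm]
  rw [e, show (fun i => 4 * ((y i - u i) / 2)) = fun i => 4 * z i from funext fun i => by rw [hz], e2]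
  exact add_mem (add_mem (sum_mem fun i _ => zsmul_mem (hd i) _)
    (zsmul_mem (hmem _ (List.mem_cons_of_mem _ (List.mem_cons_self ..))) _)) hv

theorem blkSum_add (x y : GolayPt → ℤ) (b : ℕ) : blkSum (x + y) b = blkSum x b + blkSum y b := by
  simp only [blkSum, Pi.add_apply, Finset.sum_add_distrib]

theorem blkSum_neg (x : GolayPt → ℤ) (b : ℕ) : blkSum (-x) b = -blkSum x b := by
  simp only [blkSum, Pi.neg_apply, Finset.sum_neg_distrib]

theorem blkOf_lt : ∀ i : GolayPt, blkOf i < 6 := by decide +kernel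

theorem eta_props {x : GolayPt → ℤ} (hx : x ∈ leechLattice) :
    (∀ b < 6, 2 ∣ blkSum x b) ∧ etaFun x ∈ leechLattice := by
  refine AddSubgroup.closure_induction (fun v hv => ?_) ?_ (fun a b _ _ ha hb => ?_) (fun a _ ha => ?_)
    (leech_le_genSpan hx)
  · exact ⟨(gens_ok v hv).2.1, leechTest_sound (gens_ok v hv).2.2⟩
  · refine ⟨fun b _ => by simp [blkSum], ?_⟩
    convert zero_mem leechLattice
    funext i
    simp [etaFun, blkSum]
  · refine ⟨fun c hc => by rw [blkSum_add]; exact dvd_add (ha.1 c hc) (hb.1 c hc), ?_⟩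
    convert add_mem ha.2 hb.2
    funext i
    simp only [etaFun, Pi.add_apply, blkSum_add, Int.add_ediv_of_dvd_left (ha.1 _ (blkOf_lt i))]
    ring
  · refine ⟨fun c hc => by rw [blkSum_neg]; exact (dvd_neg).2 (ha.1 c hc), ?_⟩
    convert neg_mem ha.2
    funext i
    simp only [etaFun, Pi.neg_apply, blkSum_neg, Int.neg_ediv_of_dvd (ha.1 _ (blkOf_lt i))]
    ring

theorem blk_card : ∀ b < 6, (Finset.univ.filter fun j : GolayPt => blkOf j = b).card = 4 := by decide +kernel

theorem blkSum_eta {x : GolayPt → ℤ} (h : ∀ b < 6, 2 ∣ blkSum x b) {b : ℕ} (hb : b < 6) :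
    blkSum (etaFun x) b = (if b = 0 then -1 else 1) * blkSum x b := by
  have e : ∀ j ∈ Finset.univ.filter (fun j : GolayPt => blkOf j = b),
      etaFun x j = (if b = 0 then -1 else 1) * (blkSum x b / 2 - x j) := fun j hj => by
    rw [etaFun, (Finset.mem_filter.1 hj).2]
  rw [show blkSum (etaFun x) b = ∑ j ∈ Finset.univ.filter (fun j : GolayPt => blkOf j = b), etaFun x j from rfl,
    Finset.sum_congr rfl e, ← Finset.mul_sum, Finset.sum_sub_distrib, Finset.sum_const, blk_card b hb, nsmul_eq_mul]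
  obtain ⟨k, hk⟩ := h b hb
  rw [show ∑ j ∈ Finset.univ.filter (fun j : GolayPt => blkOf j = b), x j = blkSum x b from rfl, hk,
    Int.mul_ediv_cancel_left _ (by norm_num : (2 : ℤ) ≠ 0)]
  ring

theorem etaFun_etaFun {x : GolayPt → ℤ} (hx : x ∈ leechLattice) : etaFun (etaFun x) = x := by
  funext i
  have h := (eta_props hx).1
  rw [etaFun, blkSum_eta h (blkOf_lt i), etaFun]
  obtain ⟨k, hk⟩ := h _ (blkOf_lt i)
  rw [hk]
  split_ifs <;> simp <;> omega

theorem etaFun_norm {x : GolayPt → ℤ} (hx : x ∈ leechLattice) : sqNorm (etaFun x) = sqNorm x := by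
  have h := (eta_props hx).1
  have split : ∀ f : GolayPt → ℤ, ∑ i, f i =
      ∑ b ∈ Finset.range 6, ∑ i ∈ Finset.univ.filter (fun j : GolayPt => blkOf j = b), f i := fun f =>
    (Finset.sum_fiberwise_of_maps_to (fun i _ => Finset.mem_range.2 (blkOf_lt i)) f).symm
  rw [sqNorm, sqNorm, split, split (fun i => x i ^ 2)]
  refine Finset.sum_congr rfl fun b hb => ?_
  have hb' := Finset.mem_range.1 hb
  have e : ∀ j ∈ Finset.univ.filter (fun j : GolayPt => blkOf j = b),
      etaFun x j ^ 2 = (blkSum x b / 2) ^ 2 - 2 * (blkSum x b / 2) * x j + x j ^ 2 := fun j hj => by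
    rw [etaFun, (Finset.mem_filter.1 hj).2]
    split_ifs <;> ring
  obtain ⟨k, hk⟩ := h b hb'
  have hs : ∑ j ∈ Finset.univ.filter (fun j : GolayPt => blkOf j = b), x j = blkSum x b := rfl
  rw [Finset.sum_congr rfl e, Finset.sum_add_distrib, Finset.sum_sub_distrib, Finset.sum_const, blk_card b hb',
    ← Finset.mul_sum, hs, hk, Int.mul_ediv_cancel_left _ (by norm_num : (2 : ℤ) ≠ 0), nsmul_eq_mul]
  ring

/-- The extra automorphism. -/
def etaEl : ↥Co0 :=
  co0Mk etaFun etaFun (fun _ h => (eta_props h).2) (fun _ h => (eta_props h).2) (fun _ h => etaFun_etaFun h)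
    (fun _ h => etaFun_etaFun h)
    (fun x hx y _ => funext fun i => by
      simp only [etaFun, Pi.add_apply, blkSum_add, Int.add_ediv_of_dvd_left ((eta_props hx).1 _ (blkOf_lt i))]
      ring)
    (fun _ h => etaFun_norm h)

/-- The subgroup generated by the cross stabilizer and the extra automorphism. -/
def genCo0 : Subgroup ↥Co0 := Subgroup.closure ({g | CrossFix g} ∪ {etaEl})

/-- Being moved to one another by an automorphism from `genCo0`. -/
def LRel (u v : GolayPt → ℤ) : Prop :=
  ∃ g ∈ genCo0, ∃ a : ↥leechLattice, (a : GolayPt → ℤ) = u ∧ ((g • a : ↥leechLattice) : GolayPt → ℤ) = v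

theorem LRel.refl {u : GolayPt → ℤ} (hu : u ∈ leechLattice) : LRel u u := ⟨1, one_mem _, ⟨u, hu⟩, rfl, rfl⟩

theorem LRel.symm {u v : GolayPt → ℤ} (h : LRel u v) : LRel v u := by
  obtain ⟨g, hg, a, rfl, rfl⟩ := h
  exact ⟨g⁻¹, inv_mem hg, g • a, rfl, by rw [inv_smul_smul]⟩

theorem LRel.trans {u v w : GolayPt → ℤ} (h : LRel u v) (h' : LRel v w) : LRel u w := by
  obtain ⟨g, hg, a, rfl, rfl⟩ := h
  obtain ⟨g', hg', b, hb, rfl⟩ := h'
  obtain rfl : b = g • a := Subtype.ext hb
  exact ⟨g' * g, mul_mem hg' hg, a, rfl, by rw [mul_smul]⟩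

theorem LRel.mem {u v : GolayPt → ℤ} (h : LRel u v) : v ∈ leechLattice := by
  obtain ⟨g, -, a, rfl, rfl⟩ := h
  exact Subtype.prop _

theorem LRel.eta {u : GolayPt → ℤ} (hu : u ∈ leechLattice) : LRel u (etaFun u) :=
  ⟨etaEl, Subgroup.subset_closure (Or.inr rfl), ⟨u, hu⟩, rfl, rfl⟩

theorem LRel.perm {u : GolayPt → ℤ} (hu : u ∈ leechLattice) {σ : Equiv.Perm GolayPt} (hσ : σ ∈ M24) :
    LRel u fun i => u (σ i) :=
  ⟨monoEl σ⁻¹ (inv_mem hσ) ∅ empty_mem_supports, Subgroup.subset_closure (Or.inl (monoEl_crossFix _ _ _ _)),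
    ⟨u, hu⟩, rfl, funext fun i => by
    rw [monoEl_apply, signedPerm_eq]
    simp [sgnOf, Equiv.Perm.inv_def]⟩

theorem LRel.sign {u : GolayPt → ℤ} (hu : u ∈ leechLattice) {c : Finset GolayPt}
    (hc : c ∈ supports (golayCode : Set (GolayPt → ZMod 2))) : LRel u fun i => sgnOf c i * u i :=
  ⟨monoEl 1 (one_mem _) c hc, Subgroup.subset_closure (Or.inl (monoEl_crossFix _ _ _ _)), ⟨u, hu⟩, rfl,
    funext fun i => by
    rw [monoEl_apply, signedPerm_eq]
    rfl⟩

/-- One step of a link. -/
def linkStep (p : ℕ × ℕ) (x : GolayPt → ℤ) : GolayPt → ℤ :=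
  etaFun fun i => (if p.2.testBit (idx i) then -1 else 1) * x (permFun p.1 i)

/-- The validity of a link. -/
def linkOK (l : List (ℕ × ℕ)) : Bool := l.all fun p => isAut p.1 && inC p.2

theorem LRel.link : ∀ (l : List (ℕ × ℕ)) {u : GolayPt → ℤ}, u ∈ leechLattice → linkOK l = true →
    LRel u (l.foldl (fun x p => linkStep p x) u)
  | [], u, hu, _ => LRel.refl hu
  | p :: l, u, hu, h => by
    simp only [linkOK, List.all_cons, Bool.and_eq_true] at h
    obtain ⟨⟨h1, h2⟩, h3⟩ := h
    have a := LRel.perm hu (permOf_mem_M24 h1)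
    have b := LRel.sign a.mem (bset_mem_supports h2)
    have c := LRel.eta b.mem
    have e : (etaFun fun i => sgnOf (bset p.2) i * u (permOf p.1 i)) = linkStep p u := by
      refine congrArg etaFun (funext fun i => ?_)
      simp only [sgnOf, mem_bset, permOf_apply (permOK_of_isAut h1)]
    rw [e] at c
    exact (a.trans (b.trans c)).trans (LRel.link l c.mem h3)

end Cfsg.Agent.Golay
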