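import Mathlib

/-! Congruence classes modulo two in an extremal lattice of rank 24. -/

set_option autoImplicit false

namespace Cfsg.Agent.Golay

/-- The sum of fibre bounds. -/
theorem card_le_mul_ncard_image {α β : Type*} (s : Set α) (hs : s.Finite) (π : α → β) (k : ℕ)
    (hk : ∀ a ∈ s, {b | b ∈ s ∧ π b = π a}.ncard ≤ k) : s.ncard ≤ k * (π '' s).ncard := by
  classical
  obtain ⟨t, rfl⟩ := hs.exists_finset_coe
  rw [Set.ncard_coe_finset, ← Finset.coe_image, Set.ncard_coe_finset]
  refine Finset.card_le_mul_card_image _ _ fun b hb => ?_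
  obtain ⟨a, ha, rfl⟩ := Finset.mem_image.1 hb
  refine le_trans (le_of_eq ?_) (hk a ha)
  rw [← Set.ncard_coe_finset]
  congr 1
  ext c
  simp

/-- Exact fibres when the bound is attained. -/
theorem fibre_eq_of_card_eq {α β : Type*} (s : Set α) (hs : s.Finite) (π : α → β) (k : ℕ)
    (hk : ∀ a ∈ s, {b | b ∈ s ∧ π b = π a}.ncard ≤ k) (h : k * (π '' s).ncard ≤ s.ncard) :
    ∀ a ∈ s, {b | b ∈ s ∧ π b = π a}.ncard = k := by
  classical
  obtain ⟨t, rfl⟩ := hs.exists_finset_coe
  rw [Set.ncard_coe_finset, ← Finset.coe_image, Set.ncard_coe_finset] at h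
  have e : ∀ a, {b | b ∈ (t : Set α) ∧ π b = π a}.ncard = (t.filter fun b => π b = π a).card := fun a => by
    rw [← Set.ncard_coe_finset]
    congr 1
    ext c
    simp
  have hle : ∀ b ∈ t.image π, (t.filter fun c => π c = b).card ≤ k := fun b hb => by
    obtain ⟨a, ha, rfl⟩ := Finset.mem_image.1 hb
    rw [← e]; exact hk a ha
  have hsum : ∑ b ∈ t.image π, (t.filter fun c => π c = b).card = ∑ _b ∈ t.image π, k := by
    refine le_antisymm (Finset.sum_le_sum hle) ?_
    rw [← Finset.card_eq_sum_card_image, Finset.sum_const, smul_eq_mul, mul_comm]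
    exact h
  intro a ha
  rw [e]
  exact (Finset.sum_eq_sum_iff_of_le hle).1 hsum _ (Finset.mem_image_of_mem π ha)

/-- The data of an extremal lattice with norm unit `u`. -/
structure ModTwoData (M : Type*) [AddCommGroup M] (ι : Type*) [Fintype ι] (N : AddSubgroup M) where
  u : ℤ
  ip : M →+ M →+ ℤ
  symm : ∀ a b, ip a b = ip b a
  upos : 0 < u
  emb : M →+ (ι → ℤ)
  emb_inj : Function.Injective emb
  rank : Fintype.card ι = 24
  sub : ∀ a, a ∈ N ↔ ∃ z, a = 2 • z
  index : N.index = 16777216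
  min : ∀ a, a ≠ 0 → 4 * u ≤ ip a a
  c4 : {a | ip a a = 4 * u}.ncard = 196560
  c6 : {a | ip a a = 6 * u}.ncard = 16773120
  c8 : {a | ip a a = 8 * u}.ncard = 398034000

namespace ModTwoData

variable {M : Type*} [AddCommGroup M] {ι : Type*} [Fintype ι] {N : AddSubgroup M} (D : ModTwoData M ι N)

include D in
/-- The class map's fibres. -/
theorem mk_eq_iff {a b : M} : (QuotientAddGroup.mk a : M ⧸ N) = QuotientAddGroup.mk b ↔ ∃ z, a - b = 2 • z := by
  rw [QuotientAddGroup.eq, D.sub]
  constructor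
  · rintro ⟨z, hz⟩
    refine ⟨-z, ?_⟩
    rw [smul_neg, ← hz]
    abel
  · rintro ⟨z, hz⟩
    refine ⟨-z, ?_⟩
    rw [smul_neg, ← hz]
    abel

theorem two_smul_norm (z : M) : D.ip (2 • z) (2 • z) = 4 * D.ip z z := by
  simp only [map_nsmul, AddMonoidHom.nsmul_apply, nsmul_eq_mul]
  push_cast
  ring

theorem ne_zero_of_norm {a : M} (h : 0 < D.ip a a) : a ≠ 0 := by
  rintro rfl
  simp at h

/-- Congruent vectors that are not opposite are far apart. -/
theorem congr_bound {a b : M} (h : (QuotientAddGroup.mk a : M ⧸ N) = QuotientAddGroup.mk b) (h1 : a ≠ b) (h2 : a ≠ -b) :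
    16 * D.u ≤ D.ip a a + D.ip b b - 2 * D.ip a b ∧ 16 * D.u ≤ D.ip a a + D.ip b b + 2 * D.ip a b := by
  obtain ⟨z, hz⟩ := D.mk_eq_iff.1 h
  have hz' : a + b = 2 • (z + b) := by
    rw [smul_add, ← hz, two_smul]; abel
  have e1 : D.ip (a - b) (a - b) = D.ip a a + D.ip b b - 2 * D.ip a b := by
    simp only [map_sub, AddMonoidHom.sub_apply, D.symm b a]
    ring
  have e2 : D.ip (a + b) (a + b) = D.ip a a + D.ip b b + 2 * D.ip a b := by
    simp only [map_add, AddMonoidHom.add_apply, D.symm b a]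
    ring
  rw [← e1, ← e2, hz, hz', D.two_smul_norm, D.two_smul_norm]
  have k1 : z ≠ 0 := fun e => h1 (by rw [e, smul_zero] at hz; exact sub_eq_zero.1 hz)
  have k2 : z + b ≠ 0 := fun e => h2 (by rw [e, smul_zero] at hz'; exact eq_neg_of_add_eq_zero_left hz')
  constructor
  · linarith [D.min _ k1]
  · linarith [D.min _ k2]

theorem pm_of_small {a b : M} (h : (QuotientAddGroup.mk a : M ⧸ N) = QuotientAddGroup.mk b)
    (hn : D.ip a a + D.ip b b < 16 * D.u) : a = b ∨ a = -b := by
  by_contra hc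
  simp only [not_or] at hc
  have := D.congr_bound h hc.1 hc.2
  omega

theorem orth_of_eight {a b : M} (h : (QuotientAddGroup.mk a : M ⧸ N) = QuotientAddGroup.mk b) (h1 : a ≠ b) (h2 : a ≠ -b)
    (ha : D.ip a a = 8 * D.u) (hb : D.ip b b = 8 * D.u) : D.ip a b = 0 := by
  have := D.congr_bound h h1 h2
  omega

theorem fibre_small {c : ℤ} (hc : c + c < 16 * D.u) (a : M) (ha : D.ip a a = c) :
    {b | D.ip b b = c ∧ (QuotientAddGroup.mk b : M ⧸ N) = QuotientAddGroup.mk a}.ncard ≤ 2 := by
  have hsub : {b | D.ip b b = c ∧ (QuotientAddGroup.mk b : M ⧸ N) = QuotientAddGroup.mk a} ⊆ ({a, -a} : Set M) := by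
    rintro b ⟨hb, hba⟩
    simpa using D.pm_of_small hba (by omega)
  exact (Set.ncard_le_ncard hsub (by simp)).trans (Set.ncard_insert_le _ _ |>.trans (by simp))

theorem orth_family_le (v : Finset M) (hn : ∀ a ∈ v, D.ip a a ≠ 0) (ho : ∀ a ∈ v, ∀ b ∈ v, a ≠ b → D.ip a b = 0) :
    v.card ≤ 24 := by
  have hli : LinearIndependent ℤ (fun a : v => D.emb a) := by
    rw [Fintype.linearIndependent_iff]
    intro g hg b
    have h0 : ∑ a : v, g a • (a : M) = 0 := D.emb_inj (by
      rw [map_zero, map_sum, ← hg]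
      exact Finset.sum_congr rfl fun a _ => by rw [map_zsmul])
    have h1 := congrArg (fun m => D.ip m b) h0
    simp only [map_sum, AddMonoidHom.finsetSum_apply, map_zsmul, map_zero, AddMonoidHom.zero_apply] at h1
    rw [Finset.sum_eq_single b (fun a _ hab => by
      rw [AddMonoidHom.coe_smul, Pi.smul_apply, ho a a.2 b b.2 fun e => hab (Subtype.ext e), smul_zero])
      (by simp)] at h1
    rw [AddMonoidHom.coe_smul, Pi.smul_apply, smul_eq_mul] at h1
    exact (mul_eq_zero.1 h1).resolve_right (hn b b.2)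
  have := hli.fintype_card_le_finrank
  simpa [D.rank] using this

theorem finite4 : {a | D.ip a a = 4 * D.u}.Finite := Set.finite_of_ncard_ne_zero (by rw [D.c4]; norm_num)

theorem finite6 : {a | D.ip a a = 6 * D.u}.Finite := Set.finite_of_ncard_ne_zero (by rw [D.c6]; norm_num)

theorem finite8 : {a | D.ip a a = 8 * D.u}.Finite := Set.finite_of_ncard_ne_zero (by rw [D.c8]; norm_num)

theorem fibre_eight (a : M) (ha : D.ip a a = 8 * D.u) :
    {b | D.ip b b = 8 * D.u ∧ (QuotientAddGroup.mk b : M ⧸ N) = QuotientAddGroup.mk a}.ncard ≤ 48 := by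
  classical
  obtain ⟨T, hT⟩ : ∃ T : Finset M, ∀ b, b ∈ T ↔
      D.ip b b = 8 * D.u ∧ (QuotientAddGroup.mk b : M ⧸ N) = QuotientAddGroup.mk a :=
    ⟨(D.finite8.subset (fun b hb => hb.1) : {b | D.ip b b = 8 * D.u ∧
      (QuotientAddGroup.mk b : M ⧸ N) = QuotientAddGroup.mk a}.Finite).toFinset, fun b => by simp⟩
  have e : {b | D.ip b b = 8 * D.u ∧ (QuotientAddGroup.mk b : M ⧸ N) = QuotientAddGroup.mk a} = ↑T := by
    ext b; simp [hT]
  rw [e, Set.ncard_coe_finset]
  let f : M → Finset M := fun b => {b, -b}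
  have h2 : T.card ≤ 2 * (T.image f).card := by
    refine Finset.card_le_mul_card_image _ _ fun p hp => ?_
    obtain ⟨b, hb, rfl⟩ := Finset.mem_image.1 hp
    refine le_trans (Finset.card_le_card (t := f b) fun c hc => ?_) Finset.card_le_two
    obtain ⟨-, hc⟩ := Finset.mem_filter.1 hc
    rw [← hc]
    exact Finset.mem_insert_self _ _
  have hsec : ∀ p : (T.image f : Finset (Finset M)), ∃ b ∈ T, f b = p := fun p => Finset.mem_image.1 p.2
  choose s hs hfs using hsec
  have hsinj : Function.Injective s := fun p q h => Subtype.ext (by rw [← hfs p, ← hfs q, h])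
  have := D.orth_family_le (Finset.univ.image s) (fun b hb => by
      obtain ⟨p, -, rfl⟩ := Finset.mem_image.1 hb
      rw [((hT _).1 (hs p)).1]
      have := D.upos
      omega) (fun b hb c hc hbc => by
      obtain ⟨p, -, rfl⟩ := Finset.mem_image.1 hb
      obtain ⟨q, -, rfl⟩ := Finset.mem_image.1 hc
      refine D.orth_of_eight (((hT _).1 (hs p)).2.trans ((hT _).1 (hs q)).2.symm) hbc (fun e => hbc ?_)
        ((hT _).1 (hs p)).1 ((hT _).1 (hs q)).1
      have : p = q := by
        refine Subtype.ext ?_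
        rw [← hfs p, ← hfs q, e]
        simp only [f, neg_neg]
        exact Finset.pair_comm _ _
      rw [this])
  rw [Finset.card_image_of_injective _ hsinj, Finset.card_univ, Fintype.card_coe] at this
  omega

include D in
/-- Every class contains a short vector, and the classes of norm-eight vectors have exactly 48 of them. -/
theorem main : (∀ x : M, ∃ y, D.ip y y ≤ 8 * D.u ∧ ∃ z, x - y = 2 • z) ∧
    ∀ x : M, D.ip x x = 8 * D.u → {y | D.ip y y = 8 * D.u ∧ ∃ z, x - y = 2 • z}.ncard = 48 := by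
  classical
  have hFI : N.FiniteIndex := ⟨by rw [D.index]; norm_num⟩
  have hfin : Finite (M ⧸ N) := AddSubgroup.finite_quotient_of_finiteIndex
  have hu := D.upos
  let π : M → M ⧸ N := QuotientAddGroup.mk
  let S : ℤ → Set M := fun c => {a | D.ip a a = c}
  have k4 := card_le_mul_ncard_image (S (4 * D.u)) D.finite4 π 2 (fun a ha => D.fibre_small (by omega) a ha)
  have k6 := card_le_mul_ncard_image (S (6 * D.u)) D.finite6 π 2 (fun a ha => D.fibre_small (by omega) a ha)
  have k8 := card_le_mul_ncard_image (S (8 * D.u)) D.finite8 π 48 (fun a ha => D.fibre_eight a ha)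
  rw [show (S (4 * D.u)).ncard = 196560 from D.c4] at k4
  rw [show (S (6 * D.u)).ncard = 16773120 from D.c6] at k6
  rw [show (S (8 * D.u)).ncard = 398034000 from D.c8] at k8
  have hdis : ∀ c d : ℤ, c ≠ d → c + d < 16 * D.u → Disjoint (π '' S c) (π '' S d) := by
    intro c d hcd hlt
    refine Set.disjoint_left.2 ?_
    rintro _ ⟨a, ha, rfl⟩ ⟨b, hb, hba⟩
    rcases D.pm_of_small hba (by rw [show D.ip b b = d from hb, show D.ip a a = c from ha]; omega) with rfl | rfl
    · exact hcd (ha.symm.trans hb)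
    · exact hcd (ha.symm.trans (by simpa [S] using hb))
  have h0 : π '' S 0 = {π 0} := by
    have : S 0 = {0} := by
      ext a
      simp only [S, Set.mem_ofPred_eq, Set.mem_singleton_iff]
      refine ⟨fun h => by_contra fun hne => ?_, fun h => by simp [h]⟩
      have := D.min a hne
      omega
    rw [this, Set.image_singleton]
  let U : Set (M ⧸ N) := π '' S 0 ∪ π '' S (4 * D.u) ∪ π '' S (6 * D.u) ∪ π '' S (8 * D.u)
  have hU : U.ncard = 1 + (π '' S (4 * D.u)).ncard + (π '' S (6 * D.u)).ncard + (π '' S (8 * D.u)).ncard := by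
    simp only [U]
    rw [Set.ncard_union_eq, Set.ncard_union_eq, Set.ncard_union_eq, h0, Set.ncard_singleton]
    · exact hdis _ _ (by omega) (by omega)
    · exact Set.disjoint_union_left.2 ⟨hdis _ _ (by omega) (by omega), hdis _ _ (by omega) (by omega)⟩
    · exact Set.disjoint_union_left.2 ⟨Set.disjoint_union_left.2
        ⟨hdis _ _ (by omega) (by omega), hdis _ _ (by omega) (by omega)⟩, hdis _ _ (by omega) (by omega)⟩
  have hcard : Nat.card (M ⧸ N) = 16777216 := D.index
  have hUle : U.ncard ≤ 16777216 := hcard ▸ Set.ncard_le_card U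
  have hUuniv : U = Set.univ := Set.eq_of_subset_of_ncard_le (Set.subset_univ _) (by
    rw [Set.ncard_univ, hcard]; omega)
  refine ⟨fun x => ?_, fun x hx => ?_⟩
  · have hx : π x ∈ U := hUuniv ▸ Set.mem_univ _
    rcases hx with ((⟨y, hy, e⟩ | ⟨y, hy, e⟩) | ⟨y, hy, e⟩) | ⟨y, hy, e⟩ <;>
      exact ⟨y, by have : D.ip y y = _ := hy; omega, D.mk_eq_iff.1 e.symm⟩
  · have hk := fibre_eq_of_card_eq (S (8 * D.u)) D.finite8 π 48 (fun a ha => D.fibre_eight a ha)
      (by rw [show (S (8 * D.u)).ncard = 398034000 from D.c8]; omega) x hx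
    rw [← hk]
    congr 1
    ext y
    simp only [S, π, Set.mem_ofPred_eq]
    exact and_congr_right fun _ => (D.mk_eq_iff (a := x) (b := y)).symm.trans eq_comm

end ModTwoData

/-- The index of the doubles in a subgroup of finite index of integer vectors. -/
theorem relIndex_doubles {ι : Type*} [Fintype ι] (L : AddSubgroup (ι → ℤ)) (hL : L.index ≠ 0) :
    (L.map (nsmulAddMonoidHom 2)).relIndex L = 2 ^ Fintype.card ι := by
  classical
  let red : (ι → ℤ) →+ (ι → ZMod 2) :=
    { toFun := fun x i => (x i : ZMod 2)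
      map_zero' := by ext; simp
      map_add' := fun _ _ => by ext; simp }
  have hinj : Function.Injective (nsmulAddMonoidHom 2 : (ι → ℤ) →+ ι → ℤ) := fun a b h => by
    funext i
    have := congrFun h i
    simp at this
    omega
  have hr : (nsmulAddMonoidHom 2 : (ι → ℤ) →+ ι → ℤ).range = red.ker := by
    ext x
    simp only [AddMonoidHom.mem_range, AddMonoidHom.mem_ker]
    constructor
    · rintro ⟨y, rfl⟩
      funext i
      simp [red, show (2 : ZMod 2) = 0 from rfl]
    · intro h
      refine ⟨fun i => x i / 2, funext fun i => ?_⟩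
      have : ((x i : ℤ) : ZMod 2) = 0 := congrFun h i
      rw [ZMod.intCast_zmod_eq_zero_iff_dvd] at this
      simp only [nsmulAddMonoidHom_apply, Pi.smul_apply, nsmul_eq_mul]
      obtain ⟨c, hc⟩ := this
      push_cast at hc
      omega
  have hidx : (L.map (nsmulAddMonoidHom 2)).index = L.index * 2 ^ Fintype.card ι := by
    rw [AddSubgroup.index_map_of_injective _ hinj, hr, AddSubgroup.index_ker,
      AddMonoidHom.range_eq_top.2 (fun z => ⟨fun i => (z i).val, funext fun i => by simp [red]⟩),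
      AddSubgroup.card_top, Nat.card_fun, Nat.card_zmod, Nat.card_eq_fintype_card]
  have hle : L.map (nsmulAddMonoidHom 2) ≤ L := by
    rintro _ ⟨y, hy, rfl⟩
    exact L.nsmul_mem hy 2
  have := AddSubgroup.relIndex_mul_index hle
  rw [hidx, mul_comm L.index] at this
  exact Nat.eq_of_mul_eq_mul_right (Nat.pos_of_ne_zero hL) this

end Cfsg.Agent.Golay
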