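import Cfsg.Agent.Golay.LeechCount
import Cfsg.Agent.Golay.ModTwo

/-! The lattice modulo twice itself. -/

set_option autoImplicit false

namespace Cfsg.Agent.Golay

/-- The form as a bilinear map on integer vectors. -/
def dotHom : (GolayPt → ℤ) →+ (GolayPt → ℤ) →+ ℤ :=
  AddMonoidHom.mk' (fun x => AddMonoidHom.mk' (fun y => dotInt x y) fun a b => by
    simp only [dotInt, Pi.add_apply, mul_add, Finset.sum_add_distrib]) fun a b =>
    AddMonoidHom.ext fun y => by
      show dotInt (a + b) y = dotInt a y + dotInt b y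
      simp only [dotInt, Pi.add_apply, add_mul, Finset.sum_add_distrib]

theorem dotInt_self_eq (x : GolayPt → ℤ) : dotInt x x = sqNorm x := by
  simp only [dotInt, sqNorm, sq]

theorem eight_single_mem_leech (i : GolayPt) (z : ℤ) : Pi.single i (8 * z) ∈ leechLattice := by
  rw [mem_leech_iff]
  refine ⟨0, Pi.single i (4 * z), fun j => ?_, ?_, ?_⟩
  · by_cases h : j = i
    · subst h; simp; ring
    · simp [h]
  · rw [mem_code_iff_support, support₂_red2]
    convert empty_mem_supports using 1
    ext j
    by_cases h : j = i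
    · subst h; simp; omega
    · simp [h]
  · rw [Finset.sum_pi_single']
    simp

theorem leech_index_ne_zero : leechLattice.index ≠ 0 := by
  let red : (GolayPt → ℤ) →+ (GolayPt → ZMod 8) :=
    { toFun := fun x i => (x i : ZMod 8)
      map_zero' := by ext; simp
      map_add' := fun _ _ => by ext; simp }
  have hle : red.ker ≤ leechLattice := fun x hx => by
    have e : x = ∑ i, Pi.single i (8 * (x i / 8)) := by
      funext j
      have : ((x j : ℤ) : ZMod 8) = 0 := congrFun hx j
      rw [ZMod.intCast_zmod_eq_zero_iff_dvd] at this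
      rw [Finset.sum_apply, Finset.sum_eq_single j (fun i _ h => by simp [Ne.symm h]) (by simp)]
      simp only [Pi.single_eq_same]
      obtain ⟨c, hc⟩ := this
      push_cast at hc
      omega
    rw [e]
    exact sum_mem fun i _ => eight_single_mem_leech i _
  have hk : red.ker.index ≠ 0 := by
    rw [AddSubgroup.index_ker]
    exact Nat.card_pos.ne'
  exact fun h => hk (Nat.eq_zero_of_zero_dvd (h ▸ AddSubgroup.index_dvd_of_le hle))

theorem dotHom_apply (x y : GolayPt → ℤ) : dotHom x y = dotInt x y := rfl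

/-- The embedding. -/
def leechEmb : ↥leechLattice →+ GolayPt → ℤ := leechLattice.subtype

/-- The lattice data. -/
noncomputable def leechModTwo : ModTwoData ↥leechLattice GolayPt
    ((leechLattice.map (nsmulAddMonoidHom 2)).addSubgroupOf leechLattice) where
  u := 8
  ip := AddMonoidHom.mk' (fun a => (dotHom (a : GolayPt → ℤ)).comp leechLattice.subtype) fun a b => by
    ext y
    simp
  symm a b := by
    show dotInt (a : GolayPt → ℤ) b = dotInt (b : GolayPt → ℤ) a
    simp only [dotInt, mul_comm]
  upos := by norm_num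
  emb := leechEmb
  emb_inj := Subtype.coe_injective
  rank := card_golayPt
  sub a := by
    rw [AddSubgroup.mem_addSubgroupOf, AddSubgroup.mem_map]
    constructor
    · rintro ⟨z, hz, e⟩
      exact ⟨⟨z, hz⟩, Subtype.ext (by simpa using e.symm)⟩
    · rintro ⟨z, rfl⟩
      exact ⟨z, z.2, by simp⟩
  index := by
    show (leechLattice.map (nsmulAddMonoidHom 2)).relIndex leechLattice = _
    rw [relIndex_doubles _ leech_index_ne_zero, card_golayPt]
    norm_num
  min a ha := by
    show 4 * 8 ≤ dotInt (a : GolayPt → ℤ) a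
    rw [dotInt_self_eq]
    have := sqNorm_ge a.2 (fun h => ha (Subtype.ext h))
    omega
  c4 := leech_count (n := 32) (by norm_num) census_values.1 (by norm_num)
  c6 := leech_count (n := 48) (by norm_num) census_values.2.1 (by norm_num)
  c8 := leech_count (n := 64) (by norm_num) census_values.2.2.1 (by norm_num)
where
  leech_count {n : ℕ} {v : ℕ} {k : ℤ} (hn : n ≤ 64) (hv : censusFormula allAbs n = v) (hk : k = n) :
      {a : ↥leechLattice | dotInt (a : GolayPt → ℤ) a = k}.ncard = v := by
    subst hk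
    rw [← hv, ← census _ allAbs_small n hn, ← shell_eq hn,
      ← Set.ncard_image_of_injective _ Subtype.coe_injective]
    congr 1
    ext x
    simp only [Set.mem_image, Set.mem_ofPred_eq, dotInt_self_eq]
    exact ⟨fun ⟨a, ha, e⟩ => e ▸ ⟨a.2, ha⟩, fun ⟨h1, h2⟩ => ⟨⟨x, h1⟩, h2, rfl⟩⟩

theorem leech_short_rep {x : GolayPt → ℤ} (hx : x ∈ leechLattice) :
    ∃ y ∈ leechLattice, sqNorm y ≤ 64 ∧ ∃ z ∈ leechLattice, x - y = 2 • z := by
  obtain ⟨y, hy, z, hz⟩ := leechModTwo.main.1 ⟨x, hx⟩
  refine ⟨y, y.2, ?_, z, z.2, by simpa using congrArg Subtype.val hz⟩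
  rw [← dotInt_self_eq]
  exact hy

theorem leech_cross_ncard {x : GolayPt → ℤ} (hx : x ∈ leechLattice) (hn : sqNorm x = 64) :
    (cross x).ncard = 48 := by
  have h := leechModTwo.main.2 ⟨x, hx⟩ ((dotInt_self_eq x).trans (hn.trans (by rfl)))
  rw [← h, ← Set.ncard_image_of_injective _ Subtype.coe_injective]
  congr 1
  ext y
  simp only [cross, Set.mem_image, Set.mem_ofPred_eq]
  constructor
  · rintro ⟨h1, h2, z, hz, e⟩
    exact ⟨⟨y, h1⟩, ⟨((dotInt_self_eq y).trans (h2.trans hn) :), ⟨z, hz⟩, Subtype.ext (by simpa using e)⟩, rfl⟩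
  · rintro ⟨a, ⟨h1, z, e⟩, rfl⟩
    refine ⟨a.2, ?_, z, z.2, by simpa using congrArg Subtype.val e⟩
    rw [← dotInt_self_eq, hn]
    exact h1

end Cfsg.Agent.Golay
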