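import Cfsg.Agent.Golay.LeechModTwo
import Cfsg.Agent.Golay.Orbits
import Cfsg.Prelude.Def_SporadicCombinatorics

/-! Automorphisms of the lattice and the monomial group. -/

set_option autoImplicit false

namespace Cfsg.Agent.Golay

open scoped Pointwise

theorem co0_add (g : ↥Co0) (a b : ↥leechLattice) : g • (a + b) = g • a + g • b := g.2.1 a b

theorem co0_norm (g : ↥Co0) (a : ↥leechLattice) :
    sqNorm ((g • a : ↥leechLattice) : GolayPt → ℤ) = sqNorm (a : GolayPt → ℤ) := g.2.2 a

theorem sqNorm_add' (v w : GolayPt → ℤ) : sqNorm (v + w) = sqNorm v + sqNorm w + 2 * dotInt v w := by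
  simp only [sqNorm, dotInt, Finset.mul_sum, ← Finset.sum_add_distrib]
  exact Finset.sum_congr rfl fun i _ => by simp only [Pi.add_apply]; ring

theorem co0_dot (g : ↥Co0) (a b : ↥leechLattice) :
    dotInt ((g • a : ↥leechLattice) : GolayPt → ℤ) ((g • b : ↥leechLattice) : GolayPt → ℤ) =
      dotInt (a : GolayPt → ℤ) (b : GolayPt → ℤ) := by
  have h := co0_norm g (a + b)
  rw [co0_add, AddSubgroup.coe_add, AddSubgroup.coe_add, sqNorm_add', sqNorm_add', co0_norm, co0_norm] at h
  linarith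

/-- Eight times a basis vector. -/
def e8 (i : GolayPt) : ↥leechLattice := ⟨Pi.single i 8, by simpa using eight_single_mem_leech i 1⟩

theorem dotInt_single (v : GolayPt → ℤ) (i : GolayPt) (s : ℤ) : dotInt v (Pi.single i s) = v i * s := by
  simp only [dotInt]
  rw [Finset.sum_eq_single i (fun j _ h => by simp [h]) (by simp)]
  simp

theorem dotInt_e8 (v : GolayPt → ℤ) (i : GolayPt) : dotInt v (e8 i : GolayPt → ℤ) = v i * 8 :=
  dotInt_single v i 8

/-- An automorphism is known from the images of the frame. -/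
theorem co0_ext {g h : ↥Co0} (e : ∀ i, g • e8 i = h • e8 i) : g = h := by
  refine Subtype.ext (Equiv.ext fun v => ?_)
  show g • v = h • v
  rw [← inv_smul_eq_iff, ← mul_smul]
  refine Subtype.ext (funext fun i => ?_)
  have hfix : (h⁻¹ * g) • e8 i = e8 i := by rw [mul_smul, e, inv_smul_smul]
  have k := co0_dot (h⁻¹ * g) v (e8 i)
  rw [hfix, dotInt_e8, dotInt_e8] at k
  omega

/-- An automorphism from a map on integer vectors. -/
def co0Mk (f f' : (GolayPt → ℤ) → GolayPt → ℤ) (hf : ∀ x ∈ leechLattice, f x ∈ leechLattice)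
    (hf' : ∀ x ∈ leechLattice, f' x ∈ leechLattice) (l : ∀ x ∈ leechLattice, f' (f x) = x)
    (r : ∀ x ∈ leechLattice, f (f' x) = x) (hadd : ∀ x ∈ leechLattice, ∀ y ∈ leechLattice, f (x + y) = f x + f y)
    (hnorm : ∀ x ∈ leechLattice, sqNorm (f x) = sqNorm x) : ↥Co0 :=
  ⟨{ toFun := fun a => ⟨f a, hf a a.2⟩
     invFun := fun a => ⟨f' a, hf' a a.2⟩
     left_inv := fun a => Subtype.ext (l a a.2)
     right_inv := fun a => Subtype.ext (r a a.2) },
    fun a b => Subtype.ext (hadd a a.2 b b.2), fun a => hnorm a a.2⟩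

theorem co0Mk_apply (f f' : (GolayPt → ℤ) → GolayPt → ℤ) (hf hf' l r hadd hnorm) (a : ↥leechLattice) :
    ((co0Mk f f' hf hf' l r hadd hnorm • a : ↥leechLattice) : GolayPt → ℤ) = f a := rfl

theorem signedPerm_eq (σ : Equiv.Perm GolayPt) (c : Finset GolayPt) (x : GolayPt → ℤ) (i : GolayPt) :
    signedPerm σ c x i = sgnOf c i * x (σ.symm i) := by
  simp only [signedPerm, sgnOf]
  split_ifs <;> ring

theorem signedPerm_mem {σ : Equiv.Perm GolayPt} (hσ : σ ∈ M24) {c : Finset GolayPt}
    (hc : c ∈ supports (golayCode : Set (GolayPt → ZMod 2))) {x : GolayPt → ℤ} (hx : x ∈ leechLattice) :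
    signedPerm σ c x ∈ leechLattice :=
  sign_mem_leech hc (perm_mem_leech (inv_mem hσ) hx)

/-- A monomial automorphism. -/
def monoEl (σ : Equiv.Perm GolayPt) (hσ : σ ∈ M24) (c : Finset GolayPt)
    (hc : c ∈ supports (golayCode : Set (GolayPt → ZMod 2))) : ↥Co0 :=
  co0Mk (signedPerm σ c) (fun x i => sgnOf c (σ i) * x (σ i))
    (fun _ h => signedPerm_mem hσ hc h)
    (fun _ h => perm_mem_leech hσ (sgn_mem_leech hc h))
    (fun x _ => funext fun i => by
      rw [signedPerm_eq, ← mul_assoc, sgnOf_sq, one_mul, Equiv.symm_apply_apply])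
    (fun x _ => funext fun i => by
      rw [signedPerm_eq]
      simp only [Equiv.apply_symm_apply, ← mul_assoc, sgnOf_sq, one_mul])
    (fun x _ y _ => funext fun i => by simp only [signedPerm_eq, Pi.add_apply, mul_add])
    (fun x _ => by
      simp only [sqNorm, signedPerm_eq, mul_pow, sq (sgnOf c _), sgnOf_sq, one_mul]
      exact Equiv.sum_comp σ.symm fun i => x i ^ 2)

theorem monoEl_apply (σ : Equiv.Perm GolayPt) (hσ : σ ∈ M24) (c : Finset GolayPt)
    (hc : c ∈ supports (golayCode : Set (GolayPt → ZMod 2))) (a : ↥leechLattice) :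
    ((monoEl σ hσ c hc • a : ↥leechLattice) : GolayPt → ℤ) = signedPerm σ c a := rfl

/-- The automorphisms preserving the standard cross. -/
def CrossFix (g : ↥Co0) : Prop :=
  ∀ v : ↥leechLattice, (v : GolayPt → ℤ) ∈ stdCross → ((g • v : ↥leechLattice) : GolayPt → ℤ) ∈ stdCross

theorem signedPerm_single (σ : Equiv.Perm GolayPt) (c : Finset GolayPt) (i : GolayPt) (s : ℤ) :
    signedPerm σ c (Pi.single i s) = Pi.single (σ i) (sgnOf c (σ i) * s) := by
  funext j
  rw [signedPerm_eq]
  by_cases h : j = σ i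
  · subst h; simp
  · have : σ.symm j ≠ i := fun e => h (by rw [← e, Equiv.apply_symm_apply])
    simp [h, this]

theorem monoEl_crossFix (σ : Equiv.Perm GolayPt) (hσ : σ ∈ M24) (c : Finset GolayPt)
    (hc : c ∈ supports (golayCode : Set (GolayPt → ZMod 2))) : CrossFix (monoEl σ hσ c hc) := by
  rintro v ⟨i, s, hs, hv⟩
  rw [monoEl_apply, hv, signedPerm_single]
  refine ⟨σ i, _, ?_, rfl⟩
  unfold sgnOf
  split_ifs <;> omega

/-- The crossed vectors of a code word. -/
theorem two_indicator_mem {c : Finset GolayPt} (hc : c ∈ supports (golayCode : Set (GolayPt → ZMod 2))) :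
    (fun i => if i ∈ c then (2 : ℤ) else 0) ∈ leechLattice := by
  simpa using even_mem_leech hc (f := fun _ => 0) (by simp)

theorem exists_mono_of_crossFix {g : ↥Co0} (hg : CrossFix g) :
    ∃ σ, ∃ hσ : σ ∈ M24, ∃ c, ∃ hc : c ∈ supports (golayCode : Set (GolayPt → ZMod 2)), g = monoEl σ hσ c hc := by
  classical
  have h : ∀ i, ∃ j s, (s = 8 ∨ s = -8) ∧ ((g • e8 i : ↥leechLattice) : GolayPt → ℤ) = Pi.single j s :=
    fun i => hg (e8 i) ⟨i, 8, Or.inl rfl, rfl⟩
  choose τ s hs hτ using h
  have hinj : Function.Injective τ := fun i j e => by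
    by_contra hne
    have k := co0_dot g (e8 i) (e8 j)
    rw [dotInt_e8, hτ, hτ, dotInt_single, e, show (e8 i : GolayPt → ℤ) j = 0 from Pi.single_eq_of_ne (Ne.symm hne) _] at k
    simp only [Pi.single_eq_same] at k
    rcases hs i with h1 | h1 <;> rcases hs j with h2 | h2 <;> rw [h1, h2] at k <;> norm_num at k
  obtain ⟨σ, hσ⟩ : ∃ σ : Equiv.Perm GolayPt, ∀ i, σ i = τ i :=
    ⟨Equiv.ofBijective τ (Finite.injective_iff_bijective.1 hinj), fun _ => rfl⟩
  obtain ⟨c, hc⟩ : ∃ c : Finset GolayPt, ∀ j, j ∈ c ↔ s (σ.symm j) = -8 :=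
    ⟨Finset.univ.filter fun j => s (σ.symm j) = -8, fun j => by simp⟩
  have hval : ∀ v : ↥leechLattice, ((g • v : ↥leechLattice) : GolayPt → ℤ) = signedPerm σ c v := fun v => by
    funext j
    have k := co0_dot g v (e8 (σ.symm j))
    rw [hτ, ← hσ, Equiv.apply_symm_apply, dotInt_single, dotInt_e8] at k
    rw [signedPerm_eq, sgnOf]
    rcases hs (σ.symm j) with h1 | h1
    · rw [if_neg (by rw [hc, h1]; norm_num)]
      rw [h1] at k
      omega
    · rw [if_pos ((hc j).2 h1)]
      rw [h1] at k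
      omega
  have hσM : σ ∈ M24 := by
    refine mem_M24_iff_forall.2 fun w hw => ?_
    have hm : signedPerm σ c (fun i => if i ∈ w then 2 else 0) ∈ leechLattice := by
      rw [← hval ⟨_, two_indicator_mem hw⟩]
      exact Subtype.prop _
    obtain ⟨m, y, hm01, hy, hy2, -⟩ := (mem_leech_iff.1 hm).normalize
    rw [mem_code_iff_support, support₂_red2] at hy2
    convert hy2 using 1
    ext j
    have := hy j
    rw [signedPerm_eq] at this
    simp only [Finset.mem_filter, Finset.mem_univ, true_and]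
    rw [← Finset.inv_smul_mem_iff, Equiv.Perm.smul_def, Equiv.Perm.inv_def]
    simp only [sgnOf] at this
    rcases hm01 with rfl | rfl <;> by_cases h1 : j ∈ c <;> by_cases h2 : σ.symm j ∈ w <;>
      simp only [h1, h2, if_true, if_false, true_iff, false_iff, not_not] at this ⊢ <;> omega
  have hcM : c ∈ supports (golayCode : Set (GolayPt → ZMod 2)) := by
    have hx : (fun i : GolayPt => sgnOf ∅ i * (1 + 4 * if i = none then -1 else 0)) ∈ leechLattice :=
      odd_mem_leech empty_mem_supports (by simp)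
    have hm : signedPerm σ c (fun i : GolayPt => sgnOf ∅ i * (1 + 4 * if i = none then -1 else 0)) ∈
        leechLattice := by
      rw [← hval ⟨_, hx⟩]
      exact Subtype.prop _
    obtain ⟨m, y, hm01, hy, hy2, -⟩ := (mem_leech_iff.1 hm).normalize
    rw [mem_code_iff_support, support₂_red2] at hy2
    convert hy2 using 1
    ext j
    have := hy j
    rw [signedPerm_eq] at this
    simp only [Finset.mem_filter, Finset.mem_univ, true_and]
    by_cases hj : j ∈ c <;> simp only [sgnOf, hj, Finset.notMem_empty, if_true, if_false, iff_true, true_iff,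
      false_iff, not_not] at this ⊢ <;> split_ifs at this <;> omega
  exact ⟨σ, hσM, c, hcM, co0_ext fun i => Subtype.ext (hval _)⟩

theorem monoEl_injective {σ σ' : Equiv.Perm GolayPt} {hσ : σ ∈ M24} {hσ' : σ' ∈ M24} {c c' : Finset GolayPt}
    {hc : c ∈ supports (golayCode : Set (GolayPt → ZMod 2))}
    {hc' : c' ∈ supports (golayCode : Set (GolayPt → ZMod 2))} (e : monoEl σ hσ c hc = monoEl σ' hσ' c' hc') :
    σ = σ' ∧ c = c' := by
  have h : ∀ i, (Pi.single (σ i) (sgnOf c (σ i) * 8) : GolayPt → ℤ) = Pi.single (σ' i) (sgnOf c' (σ' i) * 8) := fun i => by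
    rw [← signedPerm_single, ← signedPerm_single]
    exact congrArg (fun g : ↥Co0 => ((g • e8 i : ↥leechLattice) : GolayPt → ℤ)) e
  have hs : σ = σ' := Equiv.ext fun i => by
    by_contra hne
    have := congrFun (h i) (σ i)
    rw [Pi.single_eq_same, Pi.single_eq_of_ne hne] at this
    simp only [sgnOf] at this
    split_ifs at this <;> omega
  subst hs
  refine ⟨rfl, Finset.ext fun j => ?_⟩
  have := congrFun (h (σ.symm j)) j
  simp only [Equiv.apply_symm_apply, Pi.single_eq_same, sgnOf] at this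
  by_cases h1 : j ∈ c <;> by_cases h2 : j ∈ c' <;> simp [h1, h2] at this ⊢

theorem crossFix_card : Nat.card {g : ↥Co0 // CrossFix g} = 4096 * 244823040 := by
  let Φ : ↥M24 × ↥(supports (golayCode : Set (GolayPt → ZMod 2))) → {g : ↥Co0 // CrossFix g} := fun p =>
    ⟨monoEl p.1 p.1.2 p.2 p.2.2, monoEl_crossFix _ _ _ _⟩
  have hΦ : Function.Bijective Φ := by
    refine ⟨fun a b h => ?_, fun g => ?_⟩
    · obtain ⟨h1, h2⟩ := monoEl_injective (hσ := a.1.2) (hσ' := b.1.2) (hc := a.2.2) (hc' := b.2.2)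
        (congrArg Subtype.val h)
      exact Prod.ext (Subtype.ext h1) (Subtype.ext h2)
    · obtain ⟨σ, hσ, c, hc, e⟩ := exists_mono_of_crossFix g.2
      exact ⟨(⟨σ, hσ⟩, ⟨c, hc⟩), Subtype.ext e.symm⟩
  rw [← Nat.card_eq_of_bijective Φ hΦ, Nat.card_prod, M24_card, Nat.card_coe_set_eq, supports_ncard]

end Cfsg.Agent.Golay
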