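import Cfsg.Agent.Golay.LeechTrans

/-! The order and the centre of the automorphism group of the lattice. -/

set_option autoImplicit false
set_option maxRecDepth 20000

namespace Cfsg.Agent.Golay

open scoped Pointwise

theorem stdCross_ncard : stdCross.ncard = 48 := by
  have e : stdCross = (fun p : GolayPt × Bool => Pi.single p.1 (if p.2 then (8 : ℤ) else -8)) '' Set.univ := by
    ext y
    simp only [stdCross, Set.mem_ofPred_eq, Set.image_univ, Set.mem_range, Prod.exists, Bool.exists_bool]
    constructor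
    · rintro ⟨i, s, hs | hs, rfl⟩ <;> subst hs
      · exact ⟨i, Or.inr rfl⟩
      · exact ⟨i, Or.inl rfl⟩
    · rintro ⟨i, h | h⟩ <;> subst h
      · exact ⟨i, -8, Or.inr rfl, rfl⟩
      · exact ⟨i, 8, Or.inl rfl, rfl⟩
  rw [e, Set.ncard_image_of_injective, Set.ncard_univ, Nat.card_prod, Nat.card_eq_fintype_card,
    Nat.card_eq_fintype_card, card_golayPt, Fintype.card_bool]
  rintro ⟨i, a⟩ ⟨j, b⟩ h
  have h1 := congrFun h i
  by_cases hij : i = j
  · subst hij
    cases a <;> cases b <;> simp at h1 ⊢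
  · cases a <;> simp [hij] at h1

theorem eight_mem (i : GolayPt) : (Pi.single i 8 : GolayPt → ℤ) ∈ leechLattice := (e8 i).2

theorem sqNorm_e8 (i : GolayPt) : sqNorm (e8 i : GolayPt → ℤ) = 64 := by
  simp only [sqNorm]
  rw [Finset.sum_eq_single i (fun j _ h => by simp [e8, h]) (by simp)]
  simp [e8]

theorem stdCross_eq : stdCross = cross (e8 none : GolayPt → ℤ) := by
  have hsub : stdCross ⊆ cross (e8 none : GolayPt → ℤ) := by
    rintro y ⟨i, s, hs, rfl⟩
    have hz : (fun k => 4 * ((if k = none then 1 else 0) - if k = i then s / 8 else 0) : GolayPt → ℤ) ∈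
        leechLattice := by
      refine four_mem ?_
      simp only [Finset.sum_sub_distrib, Finset.sum_ite_eq', Finset.mem_univ, if_true]
      rcases hs with rfl | rfl <;> norm_num
    refine ⟨?_, ?_, _, hz, ?_⟩
    · have := eight_single_mem_leech i (s / 8)
      rwa [show 8 * (s / 8) = s by rcases hs with rfl | rfl <;> norm_num] at this
    · rw [sqNorm_e8, sqNorm, Finset.sum_eq_single i (fun j _ h => by simp [h]) (by simp)]
      rcases hs with rfl | rfl <;> simp
    · funext k
      simp only [e8, Pi.sub_apply, Pi.smul_apply, Pi.single_apply, nsmul_eq_mul]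
      rcases hs with rfl | rfl <;> split_ifs <;> norm_num
  have h48 := leech_cross_ncard (e8 none).2 (sqNorm_e8 none)
  exact Set.eq_of_subset_of_ncard_le hsub (by rw [h48, stdCross_ncard])
    (Set.finite_of_ncard_ne_zero (by rw [h48]; norm_num))
where
  four_mem {z : GolayPt → ℤ} (hz : (2 : ℤ) ∣ ∑ i, z i) : (fun i => 4 * z i) ∈ leechLattice := by
    simpa using even_mem_leech empty_mem_supports (f := z) (Int.emod_eq_zero_of_dvd hz)

theorem crossFix_of_fix {g : ↥Co0} {i : GolayPt} (hi : i = none) (h : g • e8 i = e8 i) : CrossFix g := by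
  subst hi
  intro v hv
  rw [stdCross_eq] at hv ⊢
  obtain ⟨-, hn, z, hz, e⟩ := hv
  refine ⟨Subtype.prop _, by rw [co0_norm]; exact hn, ((g • ⟨z, hz⟩ : ↥leechLattice) : GolayPt → ℤ),
    Subtype.prop _, ?_⟩
  have e' : e8 none = v + ((⟨z, hz⟩ : ↥leechLattice) + ⟨z, hz⟩) := Subtype.ext (by
    rw [two_nsmul] at e
    simp only [AddSubgroup.coe_add]
    rw [← e]
    abel)
  have := congrArg (fun a : ↥leechLattice => ((g • a : ↥leechLattice) : GolayPt → ℤ)) e'
  simp only [co0_add, AddSubgroup.coe_add] at this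
  rw [h] at this
  rw [this, two_nsmul]
  abel

theorem monoEl_e8 (σ : Equiv.Perm GolayPt) (hσ : σ ∈ M24) (c : Finset GolayPt)
    (hc : c ∈ supports (golayCode : Set (GolayPt → ZMod 2))) :
    monoEl σ hσ c hc • e8 none = e8 none ↔ σ none = none ∧ none ∉ c := by
  constructor
  · intro h
    have h' : Pi.single (σ none) (sgnOf c (σ none) * 8) = (Pi.single none 8 : GolayPt → ℤ) := by
      rw [← signedPerm_single]
      exact congrArg (fun a : ↥leechLattice => (a : GolayPt → ℤ)) h
    have := congrFun h' (σ none)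
    rw [Pi.single_eq_same] at this
    by_cases hσn : σ none = none
    · refine ⟨hσn, fun hin => ?_⟩
      rw [hσn, Pi.single_eq_same, sgnOf, if_pos hin] at this
      omega
    · rw [Pi.single_eq_of_ne hσn, sgnOf] at this
      split_ifs at this <;> omega
  · rintro ⟨h1, h2⟩
    refine Subtype.ext ?_
    rw [monoEl_apply]
    show signedPerm σ c (Pi.single none 8) = _
    rw [signedPerm_single, h1, sgnOf, if_neg h2, one_mul]
    rfl

theorem half_words : countB (fun i => !(encode i).testBit 23) 12 0 = 2048 := by decide +kernel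

theorem e8_stab_card : Nat.card (MulAction.stabilizer ↥Co0 (e8 none)) = 10200960 * 2048 := by
  let C : Set (Finset GolayPt) := {c | c ∈ supports (golayCode : Set (GolayPt → ZMod 2)) ∧ none ∉ c}
  let S : Subgroup (Equiv.Perm GolayPt) := M24 ⊓ MulAction.stabilizer (Equiv.Perm GolayPt) (none : GolayPt)
  let Φ : ↥S × ↥C → ↥(MulAction.stabilizer ↥Co0 (e8 none)) := fun p =>
    ⟨monoEl p.1 p.1.2.1 p.2 p.2.2.1, (monoEl_e8 _ _ _ _).2 ⟨p.1.2.2, p.2.2.2⟩⟩
  have hΦ : Function.Bijective Φ := by
    refine ⟨fun a b h => ?_, fun g => ?_⟩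
    · obtain ⟨h1, h2⟩ := monoEl_injective (hσ := a.1.2.1) (hσ' := b.1.2.1) (hc := a.2.2.1) (hc' := b.2.2.1)
        (congrArg Subtype.val h)
      exact Prod.ext (Subtype.ext h1) (Subtype.ext h2)
    · obtain ⟨σ, hσ, c, hc, e⟩ := exists_mono_of_crossFix (crossFix_of_fix rfl g.2)
      have hg : monoEl σ hσ c hc • e8 none = e8 none := by rw [← e]; exact g.2
      obtain ⟨h1, h2⟩ := (monoEl_e8 σ hσ c hc).1 hg
      exact ⟨(⟨σ, hσ, h1⟩, ⟨c, hc, h2⟩), Subtype.ext e.symm⟩
  rw [← Nat.card_eq_of_bijective Φ hΦ, Nat.card_prod, Nat.card_coe_set_eq]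
  congr 1
  · exact M24_stab_card none
  · rw [← half_words]
    exact ncard_supports_filter (fun m => !m.testBit 23) C fun s => by
      simp [C, testBit_mask_none', mem_supports_iff]
where
  testBit_mask_none' (s : Finset GolayPt) : (mask s).testBit 23 = decide (none ∈ s) := testBit_mask s none

theorem co0_card : Nat.card Co0 = 8315553613086720000 := by
  have horb : MulAction.orbit ↥Co0 (e8 none) = {a : ↥leechLattice | sqNorm (a : GolayPt → ℤ) = 64} := by
    ext a
    constructor
    · rintro ⟨g, rfl⟩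
      exact (co0_norm g _).trans (sqNorm_e8 none)
    · intro ha
      exact co0_transitive (Or.inr (Or.inr rfl)) (sqNorm_e8 none) ha
  have hn : {a : ↥leechLattice | sqNorm (a : GolayPt → ℤ) = 64}.ncard = 398034000 := by
    have h := census _ allAbs_small 64 le_rfl
    rw [← shell_eq le_rfl, census_values.2.2.1] at h
    rw [← h, ← Set.ncard_image_of_injective _ Subtype.coe_injective]
    refine congrArg Set.ncard (Set.ext fun x => ?_)
    exact ⟨fun ⟨a, ha, e⟩ => e ▸ ⟨a.2, ha⟩, fun ⟨h1, h2⟩ => ⟨⟨x, h1⟩, h2, rfl⟩⟩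
  rw [Subgroup.card_eq_card_quotient_mul_card_subgroup (MulAction.stabilizer ↥Co0 (e8 none)),
    ← Nat.card_congr (MulAction.orbitEquivQuotientStabilizer ↥Co0 (e8 none)), Nat.card_coe_set_eq, horb, hn,
    e8_stab_card]

theorem co0_neg (g : ↥Co0) (a : ↥leechLattice) : g • (-a) = -(g • a) := by
  have h0 : g • (0 : ↥leechLattice) = 0 := by
    have := co0_add g 0 0
    rw [add_zero] at this
    exact left_eq_add.1 this
  refine eq_neg_of_add_eq_zero_left ?_
  rw [← co0_add, neg_add_cancel, h0]

/-- Negation. -/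
def negEl : ↥Co0 :=
  co0Mk (fun x => -x) (fun x => -x) (fun _ h => neg_mem h) (fun _ h => neg_mem h) (fun _ _ => neg_neg _)
    (fun _ _ => neg_neg _) (fun _ _ _ _ => neg_add _ _) (fun x _ => by simp [sqNorm])

theorem negEl_apply (a : ↥leechLattice) : negEl • a = -a := rfl

theorem negEl_mem_center : negEl ∈ Subgroup.center ↥Co0 := by
  refine Subgroup.mem_center_iff.2 fun g => co0_ext fun i => ?_
  rw [mul_smul, mul_smul, negEl_apply, negEl_apply, co0_neg]

theorem negEl_ne_one : negEl ≠ (1 : ↥Co0) := fun h => by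
  have := congrFun (congrArg (fun a : ↥leechLattice => (a : GolayPt → ℤ))
    (show -e8 none = e8 none by rw [← negEl_apply, h, one_smul])) none
  simp [e8] at this

theorem separating_word : ∀ p : GolayPt, p = none ∨
    (List.range 4096).any (fun j => (encode j).testBit (idx p) && !(encode j).testBit 23) = true := by
  decide +kernel

theorem center_cases {z : ↥Co0} (hz : z ∈ Subgroup.center ↥Co0) : z = 1 ∨ z = negEl := by
  have hc : ∀ g : ↥Co0, g * z = z * g := Subgroup.mem_center_iff.1 hz
  obtain ⟨w, hw⟩ : ∃ w : ↥leechLattice, z • e8 none = w := ⟨_, rfl⟩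
  have hwn : sqNorm (w : GolayPt → ℤ) = 64 := by rw [← hw, co0_norm, sqNorm_e8]
  have hsupp : ∀ p, p ≠ none → (w : GolayPt → ℤ) p = 0 := fun p hp => by
    obtain ⟨j, -, hj⟩ := List.any_eq_true.1 ((separating_word p).resolve_left hp)
    simp only [Bool.and_eq_true, Bool.not_eq_true'] at hj
    have hcm := bset_mem_supports (inC_encode j)
    have hfix : monoEl 1 (one_mem _) _ hcm • e8 none = e8 none :=
      (monoEl_e8 _ _ _ _).2 ⟨rfl, fun h => by
        rw [mem_bset, show idx none = 23 from rfl, hj.2] at h; exact absurd h (by decide)⟩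
    have e : monoEl 1 (one_mem _) _ hcm • w = w := by rw [← hw, ← mul_smul, hc, mul_smul, hfix]
    have := congrFun (congrArg (fun a : ↥leechLattice => (a : GolayPt → ℤ)) e) p
    simp only [monoEl_apply] at this
    rw [signedPerm_eq, sgnOf, if_pos (mem_bset.2 hj.1)] at this
    have e1 : (1 : Equiv.Perm GolayPt).symm p = p := rfl
    rw [e1] at this
    omega
  have hnone : (w : GolayPt → ℤ) none ^ 2 = 64 := by
    rw [← hwn, sqNorm, Finset.sum_eq_single none (fun p _ hp => by rw [hsupp p hp]; ring) (by simp)]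
  have hwe : w = e8 none ∨ w = -e8 none := by
    rcases (sq_eq_sq_iff_eq_or_eq_neg.1 (hnone.trans (by norm_num : (64 : ℤ) = 8 ^ 2))) with h | h
    · left
      refine Subtype.ext (funext fun p => ?_)
      by_cases hp : p = none
      · subst hp; simp [e8, h]
      · simp [e8, hsupp p hp, hp]
    · right
      refine Subtype.ext (funext fun p => ?_)
      by_cases hp : p = none
      · subst hp; simp [e8, h]
      · simp [e8, hsupp p hp, hp]
  have hall : ∀ i, ∃ g : ↥Co0, g • e8 none = e8 i := fun i =>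
    co0_transitive (Or.inr (Or.inr rfl)) (sqNorm_e8 none) (sqNorm_e8 i)
  rcases hwe with h | h
  · left
    refine co0_ext fun i => ?_
    obtain ⟨g, hg⟩ := hall i
    rw [one_smul, ← hg, ← mul_smul, ← hc, mul_smul, hw, h]
  · right
    refine co0_ext fun i => ?_
    obtain ⟨g, hg⟩ := hall i
    rw [negEl_apply, ← hg, ← mul_smul, ← hc, mul_smul, hw, h, co0_neg]

theorem co0_center_card : Nat.card (Subgroup.center ↥Co0) = 2 := by
  rw [Nat.card_eq_two_iff]
  refine ⟨1, ⟨negEl, negEl_mem_center⟩, fun h => negEl_ne_one (congrArg Subtype.val h).symm, ?_⟩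
  refine Set.eq_univ_of_forall fun z => ?_
  rcases center_cases z.2 with h | h
  · exact Or.inl (Subtype.ext h)
  · exact Or.inr (Subtype.ext h)

end Cfsg.Agent.Golay
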