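/-! Link data for the stabilizer of a minimal vector. -/

set_option autoImplicit false

namespace Cfsg.Agent.Golay

/-- Permutation of the extra fixing step. -/
def thetaPerm : Nat := 65488479271977901325133790581043874

/-- Signs of the extra fixing step. -/
def thetaSign : Nat := 10305542

/-- A word through one of two points. -/
def sepWord : Nat := 13938692

/-- Steps from `E`. -/
def orthLinkE : List (Nat × Nat) := [(984818244535754528103549039458486304, 4020100), (984818244535754528103549039458486304, 7228234), (960968730171025705162851746465856960, 2645710)]

/-- Steps from `B`. -/
def orthLinkB : List (Nat × Nat) := [(984818244535754528103549039458486304, 1030138)]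

end Cfsg.Agent.Golay
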