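import Cfsg.Agent.Golay.LeechTrans
import Cfsg.Agent.Golay.LeechOrthData

/-! The stabilizer of a minimal vector on the minimal vectors orthogonal to it. -/

set_option autoImplicit false
set_option maxRecDepth 20000

namespace Cfsg.Agent.Golay

open scoped Pointwise

/-- The vector `(4, 4, 0, …)`. -/
def uVec : GolayPt → ℤ := fourVec [none, pt 0] 4

/-- The vector `(4, -4, 0, …)`. -/
def uVec' : GolayPt → ℤ := fun i => if i = none then 4 else if i = pt 0 then -4 else 0

/-- Moved by an automorphism fixing `uVec`. -/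
def URel (x y : GolayPt → ℤ) : Prop :=
  ∃ g : ↥Co0, (∀ a : ↥leechLattice, (a : GolayPt → ℤ) = uVec → ((g • a : ↥leechLattice) : GolayPt → ℤ) = uVec) ∧
    ∃ a : ↥leechLattice, (a : GolayPt → ℤ) = x ∧ ((g • a : ↥leechLattice) : GolayPt → ℤ) = y

/-- Equal up to sign to a vector moved to the given one. -/
def UPm (x y : GolayPt → ℤ) : Prop := URel x y ∨ URel x (-y)

theorem URel.refl {x : GolayPt → ℤ} (hx : x ∈ leechLattice) : URel x x :=
  ⟨1, fun a ha => by rw [one_smul]; exact ha, ⟨x, hx⟩, rfl, rfl⟩

theorem URel.symm {x y : GolayPt → ℤ} (h : URel x y) : URel y x := by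
  obtain ⟨g, hg, a, rfl, rfl⟩ := h
  refine ⟨g⁻¹, fun b hb => ?_, g • a, rfl, by rw [inv_smul_smul]⟩
  have : g • b = b := Subtype.ext ((hg b hb).trans hb.symm)
  rw [inv_smul_eq_iff.2 this.symm, hb]

theorem URel.trans {x y z : GolayPt → ℤ} (h : URel x y) (h' : URel y z) : URel x z := by
  obtain ⟨g, hg, a, rfl, rfl⟩ := h
  obtain ⟨g', hg', b, hb, rfl⟩ := h'
  obtain rfl : b = g • a := Subtype.ext hb
  exact ⟨g' * g, fun c hc => by rw [mul_smul]; exact hg' _ (hg c hc), a, rfl, by rw [mul_smul]⟩

theorem URel.mem {x y : GolayPt → ℤ} (h : URel x y) : y ∈ leechLattice := by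
  obtain ⟨g, -, a, rfl, rfl⟩ := h
  exact Subtype.prop _

theorem URel.norm {x y : GolayPt → ℤ} (h : URel x y) : sqNorm y = sqNorm x := by
  obtain ⟨g, -, a, rfl, rfl⟩ := h
  exact co0_norm g a

theorem co0_neg' (g : ↥Co0) (a : ↥leechLattice) : g • (-a) = -(g • a) := by
  have h0 : g • (0 : ↥leechLattice) = 0 := by
    have := co0_add g 0 0
    rw [add_zero] at this
    exact left_eq_add.1 this
  refine eq_neg_of_add_eq_zero_left ?_
  rw [← co0_add, neg_add_cancel, h0]

theorem URel.neg {x y : GolayPt → ℤ} (h : URel x y) : URel (-x) (-y) := by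
  obtain ⟨g, hg, a, rfl, rfl⟩ := h
  exact ⟨g, hg, -a, rfl, by rw [co0_neg']; rfl⟩

theorem UPm.trans_rel {x y z : GolayPt → ℤ} (h : URel x y) (h' : UPm y z) : UPm x z :=
  h'.imp h.trans h.trans

theorem UPm.trans {x y z : GolayPt → ℤ} (h : UPm x y) (h' : UPm y z) : UPm x z := by
  rcases h with h | h
  · exact UPm.trans_rel h h'
  · rcases h' with h' | h'
    · exact Or.inr (h.trans h'.neg)
    · exact Or.inl (h.trans (by simpa using h'.neg))

theorem uVec_mem : uVec ∈ leechLattice := leechTest_sound (by decide +kernel)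

theorem uVec_dot (x : GolayPt → ℤ) : dotInt uVec x = 4 * (x none + x (pt 0)) := by
  have h : pt 0 ≠ none := by decide
  simp only [dotInt, uVec, fourVec]
  rw [← Finset.sum_subset (Finset.subset_univ ({none, pt 0} : Finset GolayPt)) (fun i _ hi => by
      simp only [Finset.mem_insert, Finset.mem_singleton, not_or] at hi
      simp [hi.1, hi.2]),
    Finset.sum_pair h.symm]
  simp
  ring

theorem URel.dot {x y : GolayPt → ℤ} (h : URel x y) : dotInt uVec y = dotInt uVec x := by
  obtain ⟨g, hg, a, rfl, rfl⟩ := h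
  have := co0_dot g ⟨uVec, uVec_mem⟩ a
  rwa [hg _ rfl] at this

theorem URel.of_apply {g : ↥Co0} (hg : ((g • (⟨uVec, uVec_mem⟩ : ↥leechLattice) : ↥leechLattice) : GolayPt → ℤ) = uVec)
    {x : GolayPt → ℤ} (hx : x ∈ leechLattice) :
    URel x ((g • (⟨x, hx⟩ : ↥leechLattice) : ↥leechLattice) : GolayPt → ℤ) :=
  ⟨g, fun a ha => by rw [show a = (⟨uVec, uVec_mem⟩ : ↥leechLattice) from Subtype.ext ha]; exact hg, _, rfl, rfl⟩

theorem URel.perm {x : GolayPt → ℤ} (hx : x ∈ leechLattice) {σ : Equiv.Perm GolayPt} (hσ : σ ∈ M24)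
    (h1 : σ none = none) (h2 : σ (pt 0) = pt 0) : URel x fun i => x (σ i) := by
  have e : ∀ v : ↥leechLattice, ((monoEl σ⁻¹ (inv_mem hσ) ∅ empty_mem_supports • v : ↥leechLattice) :
      GolayPt → ℤ) = fun i => (v : GolayPt → ℤ) (σ i) := fun v => funext fun i => by
    rw [monoEl_apply, signedPerm_eq]
    simp [sgnOf, Equiv.Perm.inv_def]
  have h := URel.of_apply (g := monoEl σ⁻¹ (inv_mem hσ) ∅ empty_mem_supports) (by
    rw [e]
    funext i
    show uVec (σ i) = uVec i
    have hiff : σ i ∈ [none, pt 0] ↔ i ∈ [none, pt 0] := by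
      simp only [List.mem_cons, List.not_mem_nil, or_false]
      constructor
      · rintro (h | h)
        · exact Or.inl (σ.injective (h.trans h1.symm))
        · exact Or.inr (σ.injective (h.trans h2.symm))
      · rintro (rfl | rfl)
        · exact Or.inl h1
        · exact Or.inr h2
    simp only [uVec, fourVec, hiff]) hx
  rwa [e] at h

theorem URel.sign {x : GolayPt → ℤ} (hx : x ∈ leechLattice) {c : Finset GolayPt}
    (hc : c ∈ supports (golayCode : Set (GolayPt → ZMod 2))) (h1 : none ∉ c) (h2 : pt 0 ∉ c) :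
    URel x fun i => sgnOf c i * x i := by
  have e : ∀ v : ↥leechLattice, ((monoEl 1 (one_mem _) c hc • v : ↥leechLattice) : GolayPt → ℤ) =
      fun i => sgnOf c i * (v : GolayPt → ℤ) i := fun v => funext fun i => by
    rw [monoEl_apply, signedPerm_eq]
    rfl
  have h := URel.of_apply (g := monoEl 1 (one_mem _) c hc) (by
    rw [e]
    funext i
    show sgnOf c i * uVec i = uVec i
    simp only [uVec, fourVec, sgnOf, List.mem_cons, List.not_mem_nil, or_false]
    by_cases hi : i ∈ c
    · have : i ≠ none := fun e => h1 (e ▸ hi)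
      have : i ≠ pt 0 := fun e => h2 (e ▸ hi)
      simp [*]
    · simp [hi]) hx
  rwa [e] at h

/-- The extra fixing map. -/
def thetaFun (x : GolayPt → ℤ) : GolayPt → ℤ := fun i =>
  (if thetaSign.testBit (idx (permFun thetaPerm i)) then -1 else 1) * etaFun x (permFun thetaPerm i)

theorem theta_ok : isAut thetaPerm = true ∧ inC thetaSign = true ∧ (∀ i, thetaFun uVec i = uVec i) ∧
    permFun thetaPerm none = pt 1 := by decide +kernel

theorem URel.theta {x : GolayPt → ℤ} (hx : x ∈ leechLattice) : URel x (thetaFun x) := by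
  obtain ⟨hA, hC, hu, -⟩ := theta_ok
  obtain ⟨g, hg⟩ : ∃ g : ↥Co0, ∀ v : ↥leechLattice,
      ((g • v : ↥leechLattice) : GolayPt → ℤ) = thetaFun v := by
    refine ⟨monoEl (permOf thetaPerm)⁻¹ (inv_mem (permOf_mem_M24 hA)) ∅ empty_mem_supports *
      (monoEl 1 (one_mem _) _ (bset_mem_supports hC) * etaEl), fun v => funext fun i => ?_⟩
    rw [mul_smul, mul_smul, monoEl_apply, signedPerm_eq, monoEl_apply, signedPerm_eq]
    simp only [sgnOf, Finset.notMem_empty, if_false, one_mul, Equiv.Perm.inv_def, Equiv.symm_symm, mem_bset,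
      permOf_apply (permOK_of_isAut hA), thetaFun]
    rfl
  have h := URel.of_apply (g := g) (by rw [hg]; exact funext hu) hx
  rwa [hg] at h

/-- One step of a link fixing `uVec`. -/
def orthStep (p : ℕ × ℕ) (x : GolayPt → ℤ) : GolayPt → ℤ :=
  thetaFun fun i => (if p.2.testBit (idx i) then -1 else 1) * x (permFun p.1 i)

/-- Validity of a link. -/
def orthOK (l : List (ℕ × ℕ)) : Bool := l.all fun p =>
  isAut p.1 && inC p.2 && decide (permFun p.1 none = none) && decide (permFun p.1 (pt 0) = pt 0) &&
    !p.2.testBit (idx none) && !p.2.testBit (idx (pt 0))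

theorem URel.link : ∀ (l : List (ℕ × ℕ)) {x : GolayPt → ℤ}, x ∈ leechLattice → orthOK l = true →
    URel x (l.foldl (fun x p => orthStep p x) x)
  | [], x, hx, _ => URel.refl hx
  | p :: l, x, hx, h => by
    simp only [orthOK, List.all_cons, Bool.and_eq_true, decide_eq_true_eq, Bool.not_eq_true'] at h
    obtain ⟨⟨⟨⟨⟨⟨h1, h2⟩, h3⟩, h4⟩, h5⟩, h6⟩, h7⟩ := h
    have hp := permOf_apply (permOK_of_isAut h1)
    have a := URel.perm hx (permOf_mem_M24 h1) (by rw [hp]; exact h3) (by rw [hp]; exact h4)
    have b := URel.sign a.mem (bset_mem_supports h2) (by rw [mem_bset, h5]; decide) (by rw [mem_bset, h6]; decide)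
    have c := URel.theta b.mem
    have e : (thetaFun fun i => sgnOf (bset p.2) i * x (permOf p.1 i)) = orthStep p x := by
      refine congrArg thetaFun (funext fun i => ?_)
      simp only [sgnOf, mem_bset, hp]
    rw [e] at c
    exact (a.trans (b.trans c)).trans (URel.link l c.mem h7)

/-- The odd representative. -/
def orthE : GolayPt → ℤ := fun i => (if sepWord.testBit (idx i) then -1 else 1) * oddVec [pt 3] [] i

/-- The representative with two quadrupled entries. -/
def orthB : GolayPt → ℤ := fourVec [pt 1, pt 2] 4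

theorem orth_values : inC sepWord = true ∧ sepWord.testBit (idx none) = true ∧ sepWord.testBit (idx (pt 0)) = false ∧
    orthOK orthLinkE = true ∧ orthOK orthLinkB = true ∧ leechTest orthE = true ∧ leechTest orthB = true ∧
    (∀ i, orthLinkE.foldl (fun x p => orthStep p x) orthE i = uVec' i) ∧
    (∀ i, orthLinkB.foldl (fun x p => orthStep p x) orthB i = uVec' i) := by
  decide +kernel

theorem orth_reps : URel orthE uVec' ∧ URel orthB uVec' := by
  obtain ⟨-, -, -, hE, hB, mE, mB, vE, vB⟩ := orth_values
  have a := URel.link orthLinkE (leechTest_sound mE) hE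
  have b := URel.link orthLinkB (leechTest_sound mB) hB
  rw [funext vE] at a
  rw [funext vB] at b
  exact ⟨a, b⟩

theorem orth_odd {x : GolayPt → ℤ} (hx : x ∈ leechLattice) (hn : sqNorm x = 32) (hs : x none + x (pt 0) = 0)
    (hodd : ¬ ∀ i, (2 : ℤ) ∣ x i) : UPm x uVec' := by
  classical
  obtain ⟨hsep, hs1, hs0, -⟩ := orth_values
  have shape : ∀ {z : GolayPt → ℤ}, z ∈ leechLattice → sqNorm z = 32 → (¬ ∀ i, (2 : ℤ) ∣ z i) →
      ∃ c ∈ supports (golayCode : Set (GolayPt → ZMod 2)), ∃ p : GolayPt,
        ∀ i, z i = sgnOf c i * oddVec [p] [] i := by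
    intro z hz hzn hzo
    obtain ⟨c, hc, f, -, rfl⟩ := exists_odd_class hz hzo
    rw [odd_sqNorm] at hzn
    simp only [ite_self] at hzn
    have hU : ∑ i, zUnit 1 (f i) = 1 := by omega
    obtain ⟨p, hp⟩ : ∃ p, zUnit 1 (f p) ≠ 0 := by
      by_contra hne
      simp only [not_exists, not_not] at hne
      rw [Finset.sum_eq_zero fun i _ => hne i] at hU
      omega
    have hzero : ∀ i, i ≠ p → zUnit 1 (f i) = 0 := fun i hi => by
      have h2 : ∑ k ∈ ({p, i} : Finset GolayPt), zUnit 1 (f k) ≤ ∑ k, zUnit 1 (f k) :=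
        Finset.sum_le_univ_sum_of_nonneg fun k => Nat.zero_le _
      rw [Finset.sum_pair hi.symm, hU] at h2
      omega
    have val : ∀ i, (zUnit 1 (f i) = 0 → f i = 0) ∧ (zUnit 1 (f i) = 1 → f i = -1) := fun i => by
      have h2 := zUnit_cast 1 (f i)
      simp only [if_true] at h2
      constructor <;> intro h <;> rw [h] at h2 <;> push_cast at h2
      · rcases mul_eq_zero.1 (show f i * (2 * f i + 1) = 0 by linarith) with h | h <;> omega
      · rcases mul_eq_zero.1 (show (f i + 1) * (2 * f i - 1) = 0 by linarith) with h | h <;> omega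
    refine ⟨c, hc, p, fun i => ?_⟩
    have hp1 : zUnit 1 (f p) = 1 := by
      have := Finset.single_le_sum (f := fun i => zUnit 1 (f i)) (fun _ _ => Nat.zero_le _) (Finset.mem_univ p)
      omega
    by_cases hi : i = p
    · subst hi
      simp [oddVec, (val i).2 hp1]
    · simp [oddVec, hi, (val i).1 (hzero i hi)]
  obtain ⟨c, hc, p, hxp⟩ := shape hx hn hodd
  have hpn : p ≠ none ∧ p ≠ pt 0 := by
    have h0 : pt 0 ≠ none := by decide
    constructor <;> intro e <;> subst e <;> rw [hxp, hxp] at hs <;>
      simp [oddVec, sgnOf, h0, h0.symm] at hs <;> split_ifs at hs <;> omega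
  obtain ⟨σ, hσ, hmap⟩ := exists_mem_M24_list [none, pt 0, pt 3] [none, pt 0, p] (by decide +kernel)
    (by simp [hpn.1.symm, hpn.2.symm, (by decide : (none : GolayPt) ≠ pt 0)]) rfl (by simp)
  simp only [List.map_cons, List.map_nil, List.cons.injEq, and_true] at hmap
  obtain ⟨h1, h2, h3⟩ := hmap
  have a := URel.perm hx hσ h1 h2
  obtain ⟨d, hd, q, hzq⟩ := shape a.mem (a.norm.trans hn) (fun hall => hodd fun i => by
    have := hall (σ.symm i); simpa using this)
  have hq : q = pt 3 := by
    by_contra hne
    have := hzq (pt 3)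
    beta_reduce at this
    rw [h3, hxp] at this
    simp [oddVec, sgnOf, Ne.symm hne] at this
    split_ifs at this <;> omega
  subst hq
  have hdn : ¬ (none ∈ d ↔ pt 0 ∈ d) := by
    intro hiff
    have e1 := hzq none
    have e2 := hzq (pt 0)
    beta_reduce at e1 e2
    rw [h1] at e1
    rw [h2] at e2
    rw [e1, e2] at hs
    simp [oddVec, sgnOf, (by decide : (none : GolayPt) ≠ pt 3), (by decide : (pt 0 : GolayPt) ≠ pt 3)] at hs
    by_cases hh : none ∈ d <;> simp [hh, ← hiff] at hs
  have hcs := bset_mem_supports hsep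
  have hsn : none ∈ bset sepWord := mem_bset.2 hs1
  have hs00 : pt 0 ∉ bset sepWord := fun h => by rw [mem_bset, hs0] at h; exact absurd h (by decide)
  have finish : ∀ (e : Finset GolayPt), e ∈ supports (golayCode : Set (GolayPt → ZMod 2)) → none ∉ e → pt 0 ∉ e →
      ∀ t : ℤ, (∀ i, sgnOf e i * sgnOf d i = t * sgnOf (bset sepWord) i) →
      URel x (fun i => t * orthE i) := fun e he e1 e2 t ht => by
    have b := URel.sign a.mem he e1 e2
    have eq : (fun i => sgnOf e i * (fun j => x (σ j)) i) = fun i => t * orthE i := funext fun i => by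
      have := hzq i
      beta_reduce at this ⊢
      rw [this, ← mul_assoc, ht i, orthE]
      simp only [sgnOf, mem_bset]
      ring
    rw [eq] at b
    exact a.trans b
  by_cases hnd : none ∈ d
  · have h0d : pt 0 ∉ d := fun h => hdn ⟨fun _ => h, fun _ => hnd⟩
    have h := finish (symmDiff d (bset sepWord)) (symmDiff_mem_supports hd hcs)
      (by simp [Finset.mem_symmDiff, hnd, hsn]) (by simp [Finset.mem_symmDiff, h0d, hs00]) 1 (fun i => by
        by_cases g1 : i ∈ d <;> by_cases g2 : i ∈ bset sepWord <;> simp [sgnOf, Finset.mem_symmDiff, g1, g2])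
    simp only [one_mul] at h
    exact Or.inl (h.trans orth_reps.1)
  · have h0d : pt 0 ∈ d := by
      by_contra h
      exact hdn ⟨fun h' => absurd h' hnd, fun h' => absurd h' h⟩
    have h := finish (symmDiff d (bset sepWord)ᶜ) (symmDiff_mem_supports hd (compl_mem_supports hcs))
      (by simp [Finset.mem_symmDiff, hnd, hsn]) (by simp [Finset.mem_symmDiff, h0d, hs00]) (-1) (fun i => by
        by_cases g1 : i ∈ d <;> by_cases g2 : i ∈ bset sepWord <;> simp [sgnOf, Finset.mem_symmDiff, g1, g2])
    rw [show (fun i => -1 * orthE i) = -orthE from funext fun i => by simp] at h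
    exact Or.inr (h.trans orth_reps.1.neg)

theorem orth_trans {x : GolayPt → ℤ} (hx : x ∈ leechLattice) (hn : sqNorm x = 32) (hd : dotInt uVec x = 0) :
    UPm x uVec' := by
  classical
  have hs : x none + x (pt 0) = 0 := by rw [uVec_dot] at hd; omega
  by_cases h2 : ∀ i, (2 : ℤ) ∣ x i
  swap
  · exact orth_odd hx hn hs h2
  obtain ⟨c, hc, f, -, hxf⟩ := exists_even_class hx h2
  rcases Finset.eq_empty_or_nonempty c with rfl | hne
  · -- two quadrupled entries
    obtain ⟨S, hS⟩ : ∃ S : Finset GolayPt, ∀ i, i ∈ S ↔ f i ≠ 0 :=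
      ⟨Finset.univ.filter fun i => f i ≠ 0, fun i => by simp⟩
    have hxi : ∀ i, x i = 4 * f i := fun i => by rw [hxf]; simp
    have hk : ∑ i, f i ^ 2 = 2 := by
      have : sqNorm x = 16 * ∑ i, f i ^ 2 := by
        rw [sqNorm, Finset.mul_sum]
        exact Finset.sum_congr rfl fun i _ => by rw [hxi]; ring
      omega
    have hsmall : ∀ i, f i = 0 ∨ f i = 1 ∨ f i = -1 := fun i => by
      have : f i ^ 2 ≤ 2 := hk ▸ Finset.single_le_sum (fun j _ => sq_nonneg (f j)) (Finset.mem_univ i)
      have : -2 < f i := by by_contra; nlinarith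
      have : f i < 2 := by by_contra; nlinarith
      omega
    have hcard : (S.card : ℤ) = 2 := by
      rw [← hk, Finset.sum_congr rfl (g := fun i => if i ∈ S then (1 : ℤ) else 0) fun i _ => by
        rcases hsmall i with h | h | h <;> simp [h, hS]]
      simp
    by_cases hn0 : f none = 0
    · have h00 : f (pt 0) = 0 := by rw [hxi, hxi] at hs; omega
      obtain ⟨p, q, hpq, hSpq⟩ := Finset.card_eq_two.1 (by omega : S.card = 2)
      have hp : p ∈ S := hSpq ▸ by simp
      have hq : q ∈ S := hSpq ▸ by simp
      rw [hS] at hp hq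
      have n1 : p ≠ none := fun e => hp (e ▸ hn0)
      have n2 : p ≠ pt 0 := fun e => hp (e ▸ h00)
      have n3 : q ≠ none := fun e => hq (e ▸ hn0)
      have n4 : q ≠ pt 0 := fun e => hq (e ▸ h00)
      obtain ⟨σ, hσ, hmap⟩ := exists_mem_M24_list tet0 [none, pt 0, p, q] (by decide +kernel)
        (by simp [n1.symm, n2.symm, n3.symm, n4.symm, hpq, (by decide : (none : GolayPt) ≠ pt 0)]) rfl
        (by simp [tet0])
      simp only [tet0, List.map_cons, List.map_nil, List.cons.injEq, and_true] at hmap
      obtain ⟨h1, h2', h3, h4⟩ := hmap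
      obtain ⟨d, hdm, hdp⟩ := exists_code_pattern (fun i => decide (x (σ i) = -4))
      have hnd : none ∉ d := fun h => by
        have := of_decide_eq_true ((hdp none (by simp [tet0])).1 h)
        rw [h1, hxi, hn0] at this; omega
      have h0d : pt 0 ∉ d := fun h => by
        have := of_decide_eq_true ((hdp (pt 0) (by simp [tet0])).1 h)
        rw [h2', hxi, h00] at this; omega
      have a := URel.perm hx hσ h1 h2'
      have b := URel.sign a.mem hdm hnd h0d
      have e : (fun i => sgnOf d i * (fun j => x (σ j)) i) = orthB := funext fun i => by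
        beta_reduce
        simp only [orthB, fourVec, List.mem_cons, List.not_mem_nil, or_false]
        by_cases hi : i = pt 1 ∨ i = pt 2
        · rw [if_pos hi, sgnOf]
          have hit : i ∈ tet0 := by rcases hi with rfl | rfl <;> simp [tet0]
          have hfi : f (σ i) = 1 ∨ f (σ i) = -1 := by
            have : f (σ i) ≠ 0 := by rcases hi with rfl | rfl <;> simp only [h3, h4] <;> assumption
            exact (hsmall _).resolve_left this
          have := hdp i hit
          rw [decide_eq_true_eq, hxi] at this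
          rw [hxi]
          split_ifs with hid
          · have := this.1 hid; omega
          · rcases hfi with h | h
            · omega
            · exact absurd (this.2 (by omega)) hid
        · rw [if_neg hi]
          simp only [not_or] at hi
          have : f (σ i) = 0 := by
            by_contra hne
            have hm : σ i ∈ S := (hS _).2 hne
            rw [hSpq, Finset.mem_insert, Finset.mem_singleton, ← h3, ← h4, σ.injective.eq_iff,
              σ.injective.eq_iff] at hm
            rcases hm with h | h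
            · exact hi.1 h
            · exact hi.2 h
          rw [hxi, this]; ring
      rw [e] at b
      exact Or.inl ((a.trans b).trans orth_reps.2)
    · have h0n : f (pt 0) ≠ 0 := by rw [hxi, hxi] at hs; omega
      have hSeq : S = {none, pt 0} := by
        refine (Finset.eq_of_subset_of_card_le ?_ ?_).symm
        · intro i hi
          rw [Finset.mem_insert, Finset.mem_singleton] at hi
          rcases hi with rfl | rfl <;> exact (hS _).2 ‹_›
        · rw [Finset.card_pair (by decide)]
          omega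
      have hval : ∀ i, i ≠ none → i ≠ pt 0 → f i = 0 := fun i a b => by
        by_contra hne
        have := (hS i).2 hne
        rw [hSeq] at this
        simp [a, b] at this
      rcases (hsmall none).resolve_left hn0 with h | h
      · refine Or.inl ?_
        have e : x = uVec' := funext fun i => by
          simp only [uVec']
          split_ifs with a b
          · subst a; rw [hxi, h]; norm_num
          · subst b; rw [hxi] at hs ⊢; rw [hxi, h] at hs; omega
          · rw [hxi, hval i a b]; norm_num
        exact e ▸ URel.refl hx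
      · refine Or.inr ?_
        have e : x = -uVec' := funext fun i => by
          simp only [uVec', Pi.neg_apply]
          split_ifs with a b
          · subst a; rw [hxi, h]; norm_num
          · subst b; rw [hxi] at hs ⊢; rw [hxi, h] at hs; omega
          · rw [hxi, hval i a b]; norm_num
        exact e ▸ URel.refl hx
  · -- reduce to an odd vector
    have h8 : 8 ≤ c.card := by
      have := Finset.card_pos.2 hne
      rcases card_of_mem_supports hc with h | h | h | h | h <;> omega
    have h16 : c.card ≤ 16 := by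
      have hn' := hn
      rw [hxf, even_sqNorm] at hn'
      omega
    obtain ⟨q, hq⟩ := (Finset.card_pos (s := (c.erase none).erase (pt 0))).1 (by
      have := Finset.pred_card_le_card_erase (a := none) (s := c)
      have := Finset.pred_card_le_card_erase (a := pt 0) (s := c.erase none)
      omega)
    obtain ⟨r, hr⟩ := (Finset.card_pos (s := (cᶜ.erase none).erase (pt 0))).1 (by
      have := Finset.pred_card_le_card_erase (a := none) (s := cᶜ)
      have := Finset.pred_card_le_card_erase (a := pt 0) (s := cᶜ.erase none)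
      rw [Finset.card_compl, card_golayPt] at *
      omega)
    simp only [Finset.mem_erase, Finset.mem_compl] at hq hr
    obtain ⟨σ, hσ, hmap⟩ := exists_mem_M24_list tet0 [none, pt 0, q, r] (by decide +kernel)
      (by simp [hq.1.symm, hq.2.1.symm, hr.1.symm, hr.2.1.symm, (by decide : (none : GolayPt) ≠ pt 0)]
          intro e; exact hr.2.2 (e ▸ hq.2.2)) rfl (by simp [tet0])
    simp only [tet0, List.map_cons, List.map_nil, List.cons.injEq, and_true] at hmap
    obtain ⟨h1, h2', h3, h4⟩ := hmap
    have a := URel.perm hx hσ h1 h2'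
    have b := URel.theta a.mem
    have hodd : ¬ ∀ i, (2 : ℤ) ∣ thetaFun (fun i => x (σ i)) i := fun hall => by
      have hval := hall none
      have hblk : Finset.univ.filter (fun j => blkOf j = 0) = ({none, pt 0, pt 1, pt 2} : Finset GolayPt) := by
        decide +kernel
      have hb1 : blkOf (pt 1) = 0 := by decide +kernel
      rw [thetaFun, theta_ok.2.2.2, etaFun, hb1, if_pos rfl, blkSum, hblk, Finset.sum_insert (by decide +kernel),
        Finset.sum_insert (by decide +kernel), Finset.sum_insert (by decide +kernel), Finset.sum_singleton,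
        h1, h2', h3, h4] at hval
      have eq := congrFun hxf q
      have er := congrFun hxf r
      rw [if_pos hq.2.2] at eq
      rw [if_neg hr.2.2] at er
      split_ifs at hval <;> omega
    have c' := a.trans b
    exact UPm.trans_rel c' (orth_odd c'.mem (c'.norm.trans hn) (by
      have := c'.dot
      rw [uVec_dot, hd] at this
      omega) hodd)

theorem orth_pairs_transitive {v w w' : ↥leechLattice} (hv : sqNorm (v : GolayPt → ℤ) = 32)
    (hw : sqNorm (w : GolayPt → ℤ) = 32) (hw' : sqNorm (w' : GolayPt → ℤ) = 32)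
    (hd : dotInt (v : GolayPt → ℤ) (w : GolayPt → ℤ) = 0) (hd' : dotInt (v : GolayPt → ℤ) (w' : GolayPt → ℤ) = 0) :
    ∃ g : ↥Co0, g • v = v ∧ (g • w = w' ∨ g • w = -w') := by
  have hu : sqNorm uVec = 32 := by decide +kernel
  obtain ⟨h, hh⟩ := co0_transitive (Or.inl rfl) hv (w := (⟨uVec, uVec_mem⟩ : ↥leechLattice)) hu
  have key : ∀ z : ↥leechLattice, sqNorm (z : GolayPt → ℤ) = 32 → dotInt (v : GolayPt → ℤ) (z : GolayPt → ℤ) = 0 →
      ∃ g : ↥Co0, g • v = (⟨uVec, uVec_mem⟩ : ↥leechLattice) ∧
        ∃ s : GolayPt → ℤ, (s = uVec' ∨ s = -uVec') ∧ ((g • z : ↥leechLattice) : GolayPt → ℤ) = s := by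
    intro z hz hzd
    have hdot : dotInt uVec ((h • z : ↥leechLattice) : GolayPt → ℤ) = 0 := by
      have := co0_dot h v z
      rw [hh] at this
      exact this.trans hzd
    rcases orth_trans (h • z).2 ((co0_norm h z).trans hz) hdot with ⟨g, hg, a, ha, hga⟩ | ⟨g, hg, a, ha, hga⟩
    · exact ⟨g * h, by rw [mul_smul, hh]; exact Subtype.ext (hg _ rfl), uVec', Or.inl rfl,
        by rw [mul_smul, ← show a = h • z from Subtype.ext ha]; exact hga⟩
    · exact ⟨g * h, by rw [mul_smul, hh]; exact Subtype.ext (hg _ rfl), -uVec', Or.inr rfl,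
        by rw [mul_smul, ← show a = h • z from Subtype.ext ha]; exact hga⟩
  obtain ⟨g, hgv, s, hs, hgw⟩ := key w hw hd
  obtain ⟨g', hgv', s', hs', hgw'⟩ := key w' hw' hd'
  refine ⟨g'⁻¹ * g, by rw [mul_smul, hgv, ← hgv', inv_smul_smul], ?_⟩
  have : (g • w : ↥leechLattice) = g' • w' ∨ (g • w : ↥leechLattice) = -(g' • w') := by
    rcases hs with rfl | rfl <;> rcases hs' with rfl | rfl
    · exact Or.inl (Subtype.ext (hgw.trans hgw'.symm))
    · exact Or.inr (Subtype.ext (by rw [hgw, AddSubgroup.coe_neg, hgw', neg_neg]))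
    · exact Or.inr (Subtype.ext (by rw [hgw, AddSubgroup.coe_neg, hgw']))
    · exact Or.inl (Subtype.ext (hgw.trans hgw'.symm))
  rcases this with e | e
  · exact Or.inl (by rw [mul_smul, e, inv_smul_smul])
  · exact Or.inr (by rw [mul_smul, e, co0_neg', inv_smul_smul])

end Cfsg.Agent.Golay
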