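import Cfsg.Agent.Golay.LeechTrans

/-! Counting lattice vectors of small norm with two prescribed coordinates. -/

set_option autoImplicit false
set_option maxRecDepth 20000

namespace Cfsg.Agent.Golay

open scoped Pointwise

/-- The coefficient sum for given units and parity. -/
def gfTotal (B P U par : ℕ) : ℕ :=
  ((List.range 25).filter fun p => p % 2 == par).foldr (fun p a => gfCoeff B P (U * 25 + p) + a) 0

/-- Functions in a general box with prescribed units and parity. -/
theorem box_class_count (Z : GolayPt → Finset ℤ) (hZ : ∀ i, (Z i).card ≤ 6) (r : GolayPt → ℤ) (U par : ℕ)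
    (hpar : par < 2) :
    ((Fintype.piFinset Z).filter fun f => ∑ i, zUnit (r i) (f i) = U ∧ (∑ i, f i) % 2 = (par : ℤ)).card =
      gfTotal gfBase (∏ i, ∑ z ∈ Z i, gfBase ^ zExp (r i) z) U par := by
  have hB6 : 6 ^ 24 < gfBase := by decide +kernel
  unfold gfTotal
  generalize gfBase = B at hB6 ⊢
  have hB1 : 1 < B := lt_of_le_of_lt (Nat.one_le_pow 24 6 (by norm_num)) hB6
  have hbox : (Fintype.piFinset Z).card < B := by
    rw [Fintype.card_piFinset]
    refine lt_of_le_of_lt (Finset.prod_le_prod' fun i _ => hZ i) ?_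
    rw [Finset.prod_const, Finset.card_univ, card_golayPt]
    exact hB6
  have hbit : ∀ f : GolayPt → ℤ, ∑ i, (f i % 2).toNat ≤ 24 := fun f => by
    calc ∑ i, (f i % 2).toNat ≤ ∑ _i : GolayPt, 1 := Finset.sum_le_sum fun i _ => by omega
      _ = 24 := by simp
  have hpar' : ∀ f : GolayPt → ℤ, ((∑ i, (f i % 2).toNat : ℕ) : ℤ) % 2 = (∑ i, f i) % 2 := fun f => by
    rw [Nat.cast_sum, Finset.sum_int_mod (s := Finset.univ) (f := fun i => f i)]
    exact congrArg (· % 2) (Finset.sum_congr rfl fun i _ => Int.toNat_of_nonneg (Int.emod_nonneg _ (by norm_num)))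
  have hsum : ∀ f : GolayPt → ℤ, ∑ i, zExp (r i) (f i) =
      (∑ i, zUnit (r i) (f i)) * 25 + ∑ i, (f i % 2).toNat := fun f => by
    simp only [zExp, Finset.sum_add_distrib, Finset.sum_mul]
  obtain ⟨D, hDU, hD⟩ : ∃ D, U * 25 + 24 < D ∧ ∀ f ∈ Fintype.piFinset Z, ∑ i, zExp (r i) (f i) < D :=
    ⟨U * 25 + 25 + (Fintype.piFinset Z).sup (fun f => ∑ i, zExp (r i) (f i)), by omega, fun f hf => by
      have := Finset.le_sup (f := fun f => ∑ i, zExp (r i) (f i)) hf
      omega⟩
  rw [foldr_add_eq, ← List.sum_toFinset _ (List.nodup_range.filter _)]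
  have hco : ∀ p ∈ ((List.range 25).filter fun p => p % 2 == par).toFinset,
      gfCoeff B (∏ i, ∑ z ∈ Z i, B ^ zExp (r i) z) (U * 25 + p) =
        ((Fintype.piFinset Z).filter fun f => ∑ i, zExp (r i) (f i) = U * 25 + p).card := fun p hp => by
    simp only [List.mem_toFinset, List.mem_filter, List.mem_range] at hp
    exact (box_count Z (fun i => zExp (r i)) B hB1 hbox D hD _ (by omega)).symm
  rw [Finset.sum_congr rfl hco, ← Finset.card_biUnion]
  · refine congrArg Finset.card ?_
    ext f
    simp only [Finset.mem_filter, Finset.mem_biUnion, List.mem_toFinset, List.mem_filter, List.mem_range,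
      beq_iff_eq]
    constructor
    · rintro ⟨hf, hu, hp⟩
      refine ⟨∑ i, (f i % 2).toNat, ⟨by have := hbit f; omega, ?_⟩, hf, by rw [hsum, hu]⟩
      have := hpar' f
      omega
    · rintro ⟨p, ⟨hp, hpp⟩, hf, he'⟩
      rw [hsum] at he'
      have h1 := hbit f
      have hu : ∑ i, zUnit (r i) (f i) = U := by omega
      refine ⟨hf, hu, ?_⟩
      have := hpar' f
      omega
  · intro a _ b _ hab
    refine Finset.disjoint_left.2 fun f h1 h2 => hab ?_
    have e1 := (Finset.mem_filter.1 h1).2
    have e2 := (Finset.mem_filter.1 h2).2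
    omega

/-- The values of `z` giving the signed value `a`. -/
def fixVals (r s a : ℤ) : Finset ℤ := (zVals allAbs r).filter fun z => s * (r + 4 * z) = a

/-- The box with two prescribed coordinates. -/
def pairBox (r sg : GolayPt → ℤ) (a b : ℤ) : GolayPt → Finset ℤ := fun i =>
  if i = none then fixVals (r i) (sg i) a else if i = pt 0 then fixVals (r i) (sg i) b else zVals allAbs (r i)

theorem pairBox_card (r sg : GolayPt → ℤ) (a b : ℤ) (i : GolayPt) : (pairBox r sg a b i).card ≤ 6 := by
  unfold pairBox fixVals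
  split_ifs <;> first | exact zVals_card _ _ | exact (Finset.card_le_card (Finset.filter_subset _ _)).trans (zVals_card _ _)

/-- The product for two prescribed and two kinds of other coordinates. -/
def pairGF (r₁ r₀ rn rz sn sz : ℤ) (a b : ℤ) (k : ℕ) : ℕ :=
  (∑ z ∈ fixVals rn sn a, gfBase ^ zExp rn z) * (∑ z ∈ fixVals rz sz b, gfBase ^ zExp rz z) *
    (gfFactor allAbs r₁ ^ k * gfFactor allAbs r₀ ^ (22 - k))

/-- The points other than two. -/
def restPts : Finset GolayPt := (Finset.univ.erase none).erase (pt 0)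

theorem rest_facts : restPts.card = 22 := by decide +kernel

theorem pairBox_prod (r₁ r₀ : ℤ) (sg : GolayPt → ℤ) (c : Finset GolayPt) (a b : ℤ) :
    ∏ i, ∑ z ∈ pairBox (fun i => if i ∈ c then r₁ else r₀) sg a b i,
      gfBase ^ zExp (if i ∈ c then r₁ else r₀) z =
    pairGF r₁ r₀ (if none ∈ c then r₁ else r₀) (if pt 0 ∈ c then r₁ else r₀) (sg none) (sg (pt 0)) a b
      (restPts.filter (· ∈ c)).card := by
  have h0 : pt 0 ≠ none := by decide
  have e : (Finset.univ : Finset GolayPt) = insert none (insert (pt 0) restPts) := by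
    rw [restPts, Finset.insert_erase (by simp [h0]), Finset.insert_erase (Finset.mem_univ _)]
  rw [e, Finset.prod_insert (by simp [restPts, h0.symm]), Finset.prod_insert (by simp [restPts])]
  have hrest : ∀ i ∈ restPts, ∑ z ∈ pairBox (fun i => if i ∈ c then r₁ else r₀) sg a b i,
      gfBase ^ zExp (if i ∈ c then r₁ else r₀) z = if i ∈ c then gfFactor allAbs r₁ else gfFactor allAbs r₀ :=
    fun i hi => by
      simp only [restPts, Finset.mem_erase] at hi
      simp only [pairBox, if_neg hi.1, if_neg hi.2.1]
      by_cases hc : i ∈ c <;> simp [hc, gfFactor]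
  rw [Finset.prod_congr rfl hrest, Finset.prod_ite, Finset.prod_const, Finset.prod_const, pairGF]
  have hc2 : (restPts.filter fun i => ¬ i ∈ c).card = 22 - (restPts.filter (· ∈ c)).card := by
    have := Finset.card_filter_add_card_filter_not (s := restPts) (· ∈ c)
    rw [rest_facts] at this
    omega
  rw [hc2]
  simp only [pairBox, if_pos, if_neg h0]
  ring

/-- Number of code words by weight and membership of two points. -/
def keyTable : List (ℕ × Bool × Bool × ℕ) :=
  [(0, false, false, 1), (0, false, true, 0), (0, true, false, 0), (0, true, true, 0),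
   (8, false, false, 330), (8, false, true, 176), (8, true, false, 176), (8, true, true, 77),
   (12, false, false, 616), (12, false, true, 672), (12, true, false, 672), (12, true, true, 616),
   (16, false, false, 77), (16, false, true, 176), (16, true, false, 176), (16, true, true, 330),
   (24, false, false, 0), (24, false, true, 0), (24, true, false, 0), (24, true, true, 1)]

theorem keyTable_ok : ∀ p ∈ keyTable, countB (fun i => pc (encode i) == p.1 &&
    (encode i).testBit 23 == p.2.1 && (encode i).testBit 0 == p.2.2.1) 12 0 = p.2.2.2 := by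
  decide +kernel

/-- The contribution of a code word of given weight and pattern. -/
def pairTerm (n : ℕ) (a b : ℤ) (k : ℕ) (i j : Bool) : ℕ :=
  (if 24 ≤ n ∧ (n - 24) % 8 = 0 then
    gfTotal gfBase (pairGF 1 1 1 1 (bif i then -1 else 1) (bif j then -1 else 1) a b 0) ((n - 24) / 8) 1 else 0) +
  (if 4 * k ≤ n ∧ (n - 4 * k) % 16 = 0 then
    gfTotal gfBase (pairGF 2 0 (bif i then 2 else 0) (bif j then 2 else 0) 1 1 a b (k - i.toNat - j.toNat))
      (evenU n k) 0 else 0)

/-- The count with two prescribed coordinates. -/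
def pairFormula (n : ℕ) (a b : ℤ) : ℕ :=
  (keyTable.map fun p => p.2.2.2 * pairTerm n a b p.1 p.2.1 p.2.2.1).sum

/-- Vectors of norm `n` with two prescribed coordinates. -/
def pairSet (n : ℤ) (a b : ℤ) : Set (GolayPt → ℤ) :=
  {x | x ∈ leechLattice ∧ sqNorm x = n ∧ x none = a ∧ x (pt 0) = b}

theorem pair_census (n : ℕ) (hn : n ≤ 64) (a b : ℤ) : (pairSet n a b).ncard = pairFormula n a b := by
  classical
  obtain ⟨G, hG⟩ : ∃ G : ℕ → ℕ → ℕ → ℕ, ∀ P U p, gfTotal gfBase P U p = G P U p :=
    ⟨gfTotal gfBase, fun _ _ _ => rfl⟩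
  obtain ⟨PG, hPG⟩ : ∃ PG : ℤ → ℤ → ℤ → ℤ → ℤ → ℤ → ℕ → ℕ,
      ∀ r1 r0 rn rz sn sz k, pairGF r1 r0 rn rz sn sz a b k = PG r1 r0 rn rz sn sz k :=
    ⟨fun r1 r0 rn rz sn sz k => pairGF r1 r0 rn rz sn sz a b k, fun _ _ _ _ _ _ _ => rfl⟩
  obtain ⟨C, hC⟩ : ∃ C : Finset (Finset GolayPt), ∀ c, c ∈ C ↔ c ∈ supports (golayCode : Set (GolayPt → ZMod 2)) :=
    ⟨(Set.toFinite _).toFinset, fun c => Set.Finite.mem_toFinset _⟩
  let rE : Finset GolayPt → GolayPt → ℤ := fun c i => if i ∈ c then 2 else 0
  let E : Finset GolayPt → Finset (GolayPt → ℤ) := fun c =>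
    if 4 * c.card ≤ n ∧ (n - 4 * c.card) % 16 = 0 then
      ((Fintype.piFinset (pairBox (fun i => if i ∈ c then 2 else 0) (fun _ => 1) a b)).filter fun f =>
        ∑ i, zUnit (rE c i) (f i) = evenU n c.card ∧ (∑ i, f i) % 2 = ((0 : ℕ) : ℤ)).image
        fun f i => rE c i + 4 * f i
    else ∅
  let O : Finset GolayPt → Finset (GolayPt → ℤ) := fun c =>
    if 24 ≤ n ∧ (n - 24) % 8 = 0 then
      ((Fintype.piFinset (pairBox (fun i => if i ∈ c then 1 else 1) (sgnOf c) a b)).filter fun f =>
        ∑ i, zUnit (if i ∈ c then 1 else 1) (f i) = (n - 24) / 8 ∧ (∑ i, f i) % 2 = ((1 : ℕ) : ℤ)).image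
        fun f i => sgnOf c i * (1 + 4 * f i)
    else ∅
  have h0 : pt 0 ≠ none := by decide
  have habs : ∀ x : GolayPt → ℤ, sqNorm x = n → ∀ i, |x i| ∈ allAbs := fun x h i => by
    have h3 := abs_le_eight (x := x) (by omega) i
    have h4 := abs_nonneg (x i)
    simp only [allAbs, List.mem_cons, List.not_mem_nil, or_false]
    omega
  have hset : pairSet n a b = ↑(C.biUnion E ∪ C.biUnion O) := by
    ext x
    simp only [Finset.coe_union, Set.mem_union, Finset.mem_coe, Finset.mem_biUnion, hC]
    constructor
    · rintro ⟨hx, hxn, hxa, hxb⟩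
      by_cases hev : ∀ i, (2 : ℤ) ∣ x i
      · obtain ⟨c, hc, f, hf, rfl⟩ := exists_even_class hx hev
        refine Or.inl ⟨c, hc, ?_⟩
        have hval : ∀ i, f i ∈ zVals allAbs (if i ∈ c then 2 else 0) := fun i => by
          have h := habs _ hxn i
          beta_reduce at h
          refine ((mem_zVals allAbs_small ?_ ?_ ?_).1 h).1 <;> have hb := abs_le.1 (allAbs_small _ h) <;>
            split_ifs at hb ⊢ <;> omega
        rw [even_sqNorm] at hxn
        simp only [E]
        rw [if_pos (by omega)]
        refine Finset.mem_image.2 ⟨f, Finset.mem_filter.2 ⟨Fintype.mem_piFinset.2 fun i => ?_,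
          by simp only [rE]; rw [evenU]; omega, by simpa using hf⟩, rfl⟩
        simp only [pairBox]
        by_cases h1 : i = none
        · subst h1
          rw [if_pos rfl]
          exact Finset.mem_filter.2 ⟨hval none, by rw [one_mul]; exact hxa⟩
        rw [if_neg h1]
        by_cases h2 : i = pt 0
        · subst h2
          rw [if_pos rfl]
          exact Finset.mem_filter.2 ⟨hval _, by rw [one_mul]; exact hxb⟩
        rw [if_neg h2]
        exact hval i
      · obtain ⟨c, hc, f, hf, rfl⟩ := exists_odd_class hx hev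
        refine Or.inr ⟨c, hc, ?_⟩
        have hval : ∀ i, f i ∈ zVals allAbs 1 := fun i => by
          have h := habs _ hxn i
          beta_reduce at h
          rw [abs_mul, show |sgnOf c i| = 1 by unfold sgnOf; split_ifs <;> rfl, one_mul] at h
          exact ((mem_zVals allAbs_small (by norm_num) (by norm_num) (by norm_num)).1 h).1
        rw [odd_sqNorm] at hxn
        simp only [O]
        rw [if_pos (by omega)]
        refine Finset.mem_image.2 ⟨f, Finset.mem_filter.2 ⟨Fintype.mem_piFinset.2 fun i => ?_,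
          by omega, by simpa using hf⟩, rfl⟩
        simp only [pairBox, ite_self]
        by_cases h1 : i = none
        · subst h1
          rw [if_pos rfl]
          exact Finset.mem_filter.2 ⟨hval none, hxa⟩
        rw [if_neg h1]
        by_cases h2 : i = pt 0
        · subst h2
          rw [if_pos rfl]
          exact Finset.mem_filter.2 ⟨hval _, hxb⟩
        rw [if_neg h2]
        exact hval i
    · rintro (⟨c, hc, hx⟩ | ⟨c, hc, hx⟩)
      · simp only [E] at hx
        split_ifs at hx with hcond
        · obtain ⟨f, hf, rfl⟩ := Finset.mem_image.1 hx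
          obtain ⟨hf1, hf2, hf3⟩ := Finset.mem_filter.1 hf
          have g1 := Fintype.mem_piFinset.1 hf1 none
          have g2 := Fintype.mem_piFinset.1 hf1 (pt 0)
          simp only [pairBox, if_pos, if_neg h0, fixVals, Finset.mem_filter, one_mul] at g1 g2
          refine ⟨even_mem_leech hc (by simpa using hf3), ?_, g1.2, g2.2⟩
          simp only [rE] at hf2 ⊢
          rw [even_sqNorm, hf2, evenU]
          omega
        · simp at hx
      · simp only [O] at hx
        split_ifs at hx with hcond
        · obtain ⟨f, hf, rfl⟩ := Finset.mem_image.1 hx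
          obtain ⟨hf1, hf2, hf3⟩ := Finset.mem_filter.1 hf
          have g1 := Fintype.mem_piFinset.1 hf1 none
          have g2 := Fintype.mem_piFinset.1 hf1 (pt 0)
          simp only [pairBox, if_pos, if_neg h0, fixVals, Finset.mem_filter, ite_self] at g1 g2
          refine ⟨odd_mem_leech hc (by simpa using hf3), ?_, g1.2, g2.2⟩
          rw [odd_sqNorm, hf2]
          omega
        · simp at hx
  have hkey : ∀ c ∈ C, (E c).card + (O c).card =
      (if 24 ≤ n ∧ (n - 24) % 8 = 0 then
        G (PG 1 1 1 1 (bif decide (none ∈ c) then -1 else 1) (bif decide (pt 0 ∈ c) then -1 else 1) 0)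
          ((n - 24) / 8) 1 else 0) +
      (if 4 * c.card ≤ n ∧ (n - 4 * c.card) % 16 = 0 then
        G (PG 2 0 (bif decide (none ∈ c) then 2 else 0) (bif decide (pt 0 ∈ c) then 2 else 0) 1 1
          (c.card - (decide (none ∈ c)).toNat - (decide (pt 0 ∈ c)).toNat)) (evenU n c.card) 0 else 0) := by
    intro c _
    rw [add_comm]
    congr 1
    · simp only [O]
      split_ifs
      · rw [Finset.card_image_of_injective _ (fun f g e => funext fun i => by
          have h := congrArg (fun z => sgnOf c i * z) (congrFun e i)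
          simp only [← mul_assoc, sgnOf_sq, one_mul] at h
          omega), box_class_count _ (pairBox_card _ _ _ _) _ _ _ (by norm_num), pairBox_prod, hPG, hG]
        congr 1
        simp only [ite_self, sgnOf]
        by_cases g1 : none ∈ c <;> by_cases g2 : pt 0 ∈ c <;> simp only [g1, g2, decide_true, decide_false,
          cond_true, cond_false, if_true, if_false] <;> rw [← hPG, ← hPG, pairGF, pairGF] <;>
          simp only [← pow_add, Nat.add_sub_of_le (rest_facts ▸ Finset.card_filter_le restPts (· ∈ c)),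
            Nat.sub_zero, pow_zero, one_mul, Nat.zero_add]
      · simp
    · simp only [E]
      split_ifs
      · rw [Finset.card_image_of_injective _ (fun f g e => funext fun i => by
          have := congrFun e i
          (try simp only [rE] at this)
          omega)]
        simp only [rE]
        rw [box_class_count _ (pairBox_card _ _ _ _) _ _ _ (by norm_num), pairBox_prod, hPG, hG]
        congr 1
        have hk : (restPts.filter (· ∈ c)).card =
            c.card - (decide (none ∈ c)).toNat - (decide (pt 0 ∈ c)).toNat := by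
          have e : restPts.filter (· ∈ c) = (c.erase none).erase (pt 0) := by
            ext i; simp [restPts, and_assoc]
          rw [e, Finset.card_erase_eq_ite, Finset.card_erase_eq_ite]
          by_cases g1 : none ∈ c <;> by_cases g2 : pt 0 ∈ c <;> simp [g1, g2, h0]
        rw [hk]
        by_cases g1 : none ∈ c <;> by_cases g2 : pt 0 ∈ c <;> simp [g1, g2]
      · simp
  rw [hset, Set.ncard_coe_finset, Finset.card_union_of_disjoint, Finset.card_biUnion, Finset.card_biUnion,
    ← Finset.sum_add_distrib, Finset.sum_congr rfl hkey]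
  · let h : ℕ × Bool × Bool → ℕ := fun p =>
      (if 24 ≤ n ∧ (n - 24) % 8 = 0 then
        G (PG 1 1 1 1 (bif p.2.1 then -1 else 1) (bif p.2.2 then -1 else 1) 0) ((n - 24) / 8) 1 else 0) +
      (if 4 * p.1 ≤ n ∧ (n - 4 * p.1) % 16 = 0 then
        G (PG 2 0 (bif p.2.1 then 2 else 0) (bif p.2.2 then 2 else 0) 1 1 (p.1 - p.2.1.toNat - p.2.2.toNat))
          (evenU n p.1) 0 else 0)
    let key : Finset GolayPt → ℕ × Bool × Bool := fun c => (c.card, decide (none ∈ c), decide (pt 0 ∈ c))
    show ∑ c ∈ C, h (key c) = _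
    rw [← Finset.sum_fiberwise_of_maps_to (t := (keyTable.map fun p => (p.1, p.2.1, p.2.2.1)).toFinset) (g := key)
      (fun c hc => by
        simp only [key]
        rcases card_of_mem_supports ((hC c).1 hc) with h | h | h | h | h <;> rw [h] <;>
          cases decide (none ∈ c) <;> cases decide (pt 0 ∈ c) <;> decide)]
    rw [List.sum_toFinset _ (by decide : (keyTable.map fun p => (p.1, p.2.1, p.2.2.1)).Nodup), List.map_map,
      pairFormula]
    refine congrArg List.sum (List.map_congr_left fun p hp => ?_)
    simp only [Function.comp_apply]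
    rw [Finset.sum_congr rfl (g := fun _ => h (p.1, p.2.1, p.2.2.1)) (fun c hc => by rw [(Finset.mem_filter.1 hc).2]),
      Finset.sum_const, smul_eq_mul]
    refine congrArg₂ (· * ·) ?_ ?_
    · rw [← keyTable_ok p hp, ← Set.ncard_coe_finset, ncard_supports_filter
        (fun m => pc m == p.1 && m.testBit 23 == p.2.1 && m.testBit 0 == p.2.2.1) _ (fun s => by
          have e1 : (mask s).testBit 23 = decide (none ∈ s) := testBit_mask s none
          have e2 : (mask s).testBit 0 = decide (pt 0 ∈ s) := testBit_mask s (pt 0)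
          simp [hC, key, mem_supports_iff, card_eq_pc_mask, e1, e2, and_assoc, Prod.ext_iff, -Nat.testBit_zero])]
    · simp only [pairTerm, h, hG, hPG]
  · intro c _ d _ hcd
    refine Finset.disjoint_left.2 fun x h1 h2 => hcd ?_
    simp only [O] at h1 h2
    split_ifs at h1 with hc1
    · obtain ⟨f, -, rfl⟩ := Finset.mem_image.1 h1
      rw [if_pos hc1] at h2
      obtain ⟨f', -, e⟩ := Finset.mem_image.1 h2
      ext i
      have := congrFun e i
      simp only [sgnOf] at this
      by_cases ha : i ∈ c <;> by_cases hb : i ∈ d <;> simp [ha, hb] at this ⊢ <;> omega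
    · simp at h1
  · intro c _ d _ hcd
    refine Finset.disjoint_left.2 fun x h1 h2 => hcd ?_
    simp only [E] at h1 h2
    split_ifs at h1 with hc1
    · split_ifs at h2 with hc2
      · obtain ⟨f, -, rfl⟩ := Finset.mem_image.1 h1
        obtain ⟨f', -, e⟩ := Finset.mem_image.1 h2
        ext i
        have := congrFun e i
        simp only [rE] at this
        by_cases ha : i ∈ c <;> by_cases hb : i ∈ d <;> simp [ha, hb] at this ⊢ <;> omega
      · simp at h2
    · simp at h1
  · refine Finset.disjoint_left.2 fun x h1 h2 => ?_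
    obtain ⟨c, -, h1⟩ := Finset.mem_biUnion.1 h1
    obtain ⟨d, -, h2⟩ := Finset.mem_biUnion.1 h2
    simp only [E] at h1
    simp only [O] at h2
    split_ifs at h1
    · split_ifs at h2
      · obtain ⟨f, -, rfl⟩ := Finset.mem_image.1 h1
        obtain ⟨f', -, e⟩ := Finset.mem_image.1 h2
        have := congrFun e none
        simp only [rE, sgnOf] at this
        split_ifs at this <;> omega
      · simp at h2
    · simp at h1

/-- Sum of the two coordinates prescribed. -/
def sumFormula (n : ℕ) (s : ℤ) : ℕ :=
  ((List.range 17).map fun k : ℕ => pairFormula n ((k : ℤ) - 8) (s - ((k : ℤ) - 8))).sum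

theorem sum_census (n : ℕ) (hn : n ≤ 64) (s : ℤ) :
    {x : GolayPt → ℤ | x ∈ leechLattice ∧ sqNorm x = n ∧ x none + x (pt 0) = s}.ncard = sumFormula n s := by
  classical
  obtain ⟨F, hF⟩ : ∃ F : Finset (GolayPt → ℤ), ∀ x, x ∈ F ↔ x ∈ leechLattice ∧ sqNorm x = n := by
    have hfin : {x : GolayPt → ℤ | x ∈ leechLattice ∧ sqNorm x = n}.Finite := by
      refine (Set.Finite.pi (t := fun _ : GolayPt => Set.Icc (-8 : ℤ) 8) fun _ => Set.finite_Icc _ _).subset fun x hx => ?_
      refine Set.mem_pi.2 fun i _ => ?_
      have := abs_le.1 (abs_le_eight (x := x) (by have := hx.2; omega) i)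
      exact this
    exact ⟨hfin.toFinset, fun x => by simp⟩
  have e : {x : GolayPt → ℤ | x ∈ leechLattice ∧ sqNorm x = n ∧ x none + x (pt 0) = s} =
      ↑(F.filter fun x => x none + x (pt 0) = s) := by
    ext x; simp [hF, and_assoc]
  obtain ⟨L, hL, hnd⟩ : ∃ L : List ℕ, L = List.range 17 ∧ L.Nodup := ⟨_, rfl, List.nodup_range⟩
  rw [e, Set.ncard_coe_finset, Finset.card_eq_sum_card_fiberwise (f := fun x : GolayPt → ℤ => x none)
    (t := (L.map fun k : ℕ => ((k : ℤ) - 8)).toFinset) (fun x hx => by
      have h := (hF x).1 (Finset.mem_filter.1 hx).1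
      have := abs_le.1 (abs_le_eight (x := x) (by have := h.2; omega) none)
      refine List.mem_toFinset.2 (List.mem_map.2 ⟨(x none + 8).toNat, hL ▸ List.mem_range.2 (by omega), ?_⟩)
      show ((x none + 8).toNat : ℤ) - 8 = x none
      omega)]
  rw [List.sum_toFinset _ (hnd.map fun p q h => by simpa using h), List.map_map, sumFormula, ← hL]
  refine congrArg List.sum (List.map_congr_left fun k _ => ?_)
  simp only [Function.comp_apply]
  rw [← pair_census n hn, ← Set.ncard_coe_finset]
  refine congrArg Set.ncard (Set.ext fun x => ?_)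
  simp only [Finset.coe_filter, Finset.mem_filter, hF, pairSet, Set.mem_ofPred_eq]
  constructor
  · rintro ⟨⟨⟨h1, h2⟩, h3⟩, h4⟩; exact ⟨h1, h2, h4, by omega⟩
  · rintro ⟨h1, h2, h4, h5⟩; exact ⟨⟨⟨h1, h2⟩, by omega⟩, h4⟩

theorem sum_values : sumFormula 32 (-4) = 4600 ∧ sumFormula 32 (-2) = 47104 ∧ sumFormula 32 0 = 93150 ∧
    sumFormula 48 (-4) = 953856 := by decide +kernel

end Cfsg.Agent.Golay
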