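import Cfsg.Agent.Golay.LeechEta

/-! Transitivity on the shells of norm 32, 48, 64 and the order of the automorphism group. -/

set_option autoImplicit false
set_option maxRecDepth 20000

namespace Cfsg.Agent.Golay

open scoped Pointwise

/-- The odd vector with given triples and quintuples. -/
def oddVec (l3 l5 : List GolayPt) : GolayPt → ℤ := fun i => if i ∈ l3 then -3 else if i ∈ l5 then 5 else 1

/-- A vector with equal entries on a list. -/
def fourVec (l : List GolayPt) (s : ℤ) : GolayPt → ℤ := fun i => if i ∈ l then s else 0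

/-- The distinguished tetrad. -/
def tet0 : List GolayPt := [none, pt 0, pt 1, pt 2]

theorem odd_to_oddVec {x : GolayPt → ℤ} (hx : x ∈ leechLattice) (h : ¬ ∀ i, (2 : ℤ) ∣ x i) (hn : sqNorm x ≤ 64) :
    ∃ a b : ℕ, sqNorm x = 24 + 8 * (a + 3 * b : ℕ) ∧ a + b ≤ 5 ∧
      ∀ l3 l5 : List GolayPt, (l3 ++ l5).Nodup → l3.length = a → l5.length = b → LRel x (oddVec l3 l5) := by
  classical
  obtain ⟨c, hc, f, -, rfl⟩ := exists_odd_class hx h
  rw [odd_sqNorm] at hn ⊢
  simp only [ite_self] at hn ⊢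
  have hu : ∀ i, zUnit 1 (f i) ≤ 5 := fun i =>
    le_trans (Finset.single_le_sum (f := fun i => zUnit 1 (f i)) (fun _ _ => Nat.zero_le _) (Finset.mem_univ i))
      (by omega)
  have hz : ∀ i, f i = 0 ∨ f i = -1 ∨ f i = 1 := fun i => by
    have h1 := hu i
    have h2 := zUnit_cast 1 (f i)
    simp only [if_true] at h2
    have h3 : 2 * f i ^ 2 + f i ≤ 5 := by omega
    have h4 : -2 < f i := by by_contra; nlinarith
    have h5 : f i < 2 := by by_contra; nlinarith
    omega
  obtain ⟨S3, hS3⟩ : ∃ S : Finset GolayPt, ∀ i, i ∈ S ↔ f i = -1 :=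
    ⟨Finset.univ.filter fun i => f i = -1, fun i => by simp⟩
  obtain ⟨S5, hS5⟩ : ∃ S : Finset GolayPt, ∀ i, i ∈ S ↔ f i = 1 :=
    ⟨Finset.univ.filter fun i => f i = 1, fun i => by simp⟩
  have hsum : ∑ i, zUnit 1 (f i) = S3.card + 3 * S5.card := by
    have e : ∀ i, zUnit 1 (f i) = (if i ∈ S3 then 1 else 0) + 3 * (if i ∈ S5 then 1 else 0) := fun i => by
      rcases hz i with h | h | h <;> simp [h, hS3, hS5, zUnit]
    rw [Finset.sum_congr rfl fun i _ => e i, Finset.sum_add_distrib, ← Finset.mul_sum]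
    simp
  refine ⟨S3.card, S5.card, by rw [hsum], by omega, fun l3 l5 hnd h3 h5 => ?_⟩
  have hdis : (S3.toList ++ S5.toList).Nodup := List.nodup_append.2 ⟨S3.nodup_toList, S5.nodup_toList,
    fun a ha b hb e => by
      rw [Finset.mem_toList, hS3] at ha
      rw [Finset.mem_toList, hS5, ← e] at hb
      omega⟩
  obtain ⟨σ, hσ, hmap⟩ := exists_mem_M24_list (l3 ++ l5) (S3.toList ++ S5.toList) hnd hdis
    (by simp [h3, h5]) (by simp [h3, h5]; omega)
  rw [List.map_append] at hmap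
  obtain ⟨m3, m5⟩ := List.append_inj hmap (by simp [h3])
  have i3 : ∀ i, i ∈ l3 ↔ f (σ i) = -1 := fun i => by
    rw [← hS3, ← Finset.mem_toList, ← m3, List.mem_map_of_injective σ.injective]
  have i5 : ∀ i, i ∈ l5 ↔ f (σ i) = 1 := fun i => by
    rw [← hS5, ← Finset.mem_toList, ← m5, List.mem_map_of_injective σ.injective]
  have a := LRel.sign hx hc
  have b := LRel.perm a.mem hσ
  have e : (fun i => sgnOf c (σ i) * (sgnOf c (σ i) * (1 + 4 * f (σ i)))) = oddVec l3 l5 := funext fun i => by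
    rw [← mul_assoc, sgnOf_sq, one_mul, oddVec]
    rcases hz (σ i) with h | h | h <;> simp [i3, i5, h]
  have ab := a.trans b
  rwa [show (fun i => (fun j => sgnOf c j * (sgnOf c j * (1 + 4 * f j))) (σ i)) = oddVec l3 l5 from e] at ab

theorem tet_pattern : ((List.range 16).all fun P => (List.range 4096).any fun j =>
    (List.range 4).all fun k => (encode j).testBit (idx (tet0.getD k none)) == P.testBit k) = true := by
  decide +kernel

theorem exists_code_pattern (neg : GolayPt → Bool) :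
    ∃ c ∈ supports (golayCode : Set (GolayPt → ZMod 2)), ∀ p ∈ tet0, (p ∈ c ↔ neg p = true) := by
  obtain ⟨P, hP, hbits⟩ : ∃ P < 16, ∀ k < 4, P.testBit k = neg (tet0.getD k none) := by
    have key : ∀ b0 b1 b2 b3 : Bool, ∃ P < 16, ∀ k < 4, P.testBit k = [b0, b1, b2, b3].getD k false := by decide
    obtain ⟨P, hP, h⟩ := key (neg none) (neg (pt 0)) (neg (pt 1)) (neg (pt 2))
    refine ⟨P, hP, fun k hk => (h k hk).trans ?_⟩
    interval_cases k <;> rfl
  have h := List.all_eq_true.1 tet_pattern P (List.mem_range.2 hP)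
  obtain ⟨j, -, hj⟩ := List.any_eq_true.1 h
  refine ⟨bset (encode j), bset_mem_supports (inC_encode j), fun p hp => ?_⟩
  obtain ⟨k, hk, rfl⟩ := List.getElem_of_mem hp
  have hk4 : k < 4 := hk
  have := beq_iff_eq.1 (List.all_eq_true.1 hj k (List.mem_range.2 hk4))
  rw [hbits k hk4, List.getD_eq_getElem _ _ hk] at this
  rw [mem_bset, this]

/-- Vectors with entries `0, ±s` on at most four points. -/
theorem four_normal {x : GolayPt → ℤ} (hx : x ∈ leechLattice) {s : ℤ} (hs : 0 < s) (S : Finset GolayPt)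
    (h1 : ∀ i ∈ S, x i = s ∨ x i = -s) (h0 : ∀ i ∉ S, x i = 0) (l : List GolayPt) (hl : l.Nodup)
    (hlen : l.length = S.card) (hlt : ∀ p ∈ l, p ∈ tet0) : LRel x (fourVec l s) := by
  classical
  have h4 : l.length ≤ 4 := (hl.subperm hlt).length_le
  obtain ⟨σ, hσ, hmap⟩ := exists_mem_M24_list l S.toList hl S.nodup_toList (by simp [hlen]) (by omega)
  have hmem : ∀ i, i ∈ l ↔ σ i ∈ S := fun i => by
    rw [← Finset.mem_toList, ← hmap, List.mem_map_of_injective σ.injective]
  obtain ⟨c, hc, hcn⟩ := exists_code_pattern (fun p => decide (x (σ p) = -s))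
  have a := LRel.perm hx hσ
  have b := LRel.sign a.mem hc
  have e : (fun i => sgnOf c i * x (σ i)) = fourVec l s := funext fun i => by
    rw [fourVec, sgnOf]
    by_cases hi : i ∈ l
    · have := hcn i (hlt i hi)
      rw [decide_eq_true_eq] at this
      rw [if_pos hi]
      rcases h1 _ ((hmem i).1 hi) with h | h
      · rw [if_neg (fun hin => by have := this.1 hin; omega), h, one_mul]
      · rw [if_pos (this.2 h), h]; ring
    · rw [if_neg hi, h0 _ (fun h => hi ((hmem i).2 h)), mul_zero]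
  have ab := a.trans b
  rwa [show (fun i => sgnOf c i * (fun j => x (σ j)) i) = fourVec l s from e] at ab

/-- The base vectors. -/
def vec32 : GolayPt → ℤ := oddVec [none] []

/-- Base vector of norm 48. -/
def vec48 : GolayPt → ℤ := oddVec [] [none]

/-- Base vector of norm 64. -/
def vec64 : GolayPt → ℤ := fourVec [none] 8

theorem fourdiv {x : GolayPt → ℤ} (hx : x ∈ leechLattice) (h : ∀ i, (4 : ℤ) ∣ x i) :
    (sqNorm x = 32 → LRel x (fourVec [none, pt 0] 4)) ∧ sqNorm x ≠ 48 ∧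
      (sqNorm x = 64 → LRel x vec64 ∨ LRel x (fourVec tet0 4)) := by
  classical
  obtain ⟨f, hf⟩ : ∃ f : GolayPt → ℤ, ∀ i, x i = 4 * f i :=
    ⟨fun i => x i / 4, fun i => by have := h i; beta_reduce; omega⟩
  have hnorm : sqNorm x = 16 * ∑ i, f i ^ 2 := by
    rw [sqNorm, Finset.mul_sum]
    exact Finset.sum_congr rfl fun i _ => by rw [hf]; ring
  have hpar : (2 : ℤ) ∣ ∑ i, f i := by
    obtain ⟨m, y, hy, -, hs⟩ := mem_leech_iff.1 hx
    rw [Finset.sum_congr rfl fun i _ => hf i, ← Finset.mul_sum] at hs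
    have := hy none
    rw [hf] at this
    omega
  have hsq : (2 : ℤ) ∣ ∑ i, f i ^ 2 := by
    have : (2 : ℤ) ∣ ∑ i, (f i ^ 2 - f i) := Finset.dvd_sum fun i _ => by
      rcases Int.even_or_odd (f i) with ⟨k, hk⟩ | ⟨k, hk⟩
      · exact ⟨f i * k - k, by rw [hk]; ring⟩
      · exact ⟨2 * k * k + k, by rw [hk]; ring⟩
    rw [Finset.sum_sub_distrib] at this
    omega
  obtain ⟨S, hS⟩ : ∃ S : Finset GolayPt, ∀ i, i ∈ S ↔ f i ≠ 0 :=
    ⟨Finset.univ.filter fun i => f i ≠ 0, fun i => by simp⟩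
  have h1 : ∀ k : ℤ, ∑ i, f i ^ 2 = k → ∀ i, f i ^ 2 ≤ k := fun k hk i =>
    hk ▸ Finset.single_le_sum (fun j _ => sq_nonneg (f j)) (Finset.mem_univ i)
  have hcard : (∀ i, f i = 0 ∨ f i = 1 ∨ f i = -1) → ∑ i, f i ^ 2 = S.card := fun hsmall => by
    have e : ∀ i, f i ^ 2 = if i ∈ S then 1 else 0 := fun i => by
      rcases hsmall i with h | h | h <;> simp [h, hS]
    rw [Finset.sum_congr rfl fun i _ => e i]
    simp
  have hvals : (∀ i, f i = 0 ∨ f i = 1 ∨ f i = -1) →
      (∀ i ∈ S, x i = 4 ∨ x i = -4) ∧ ∀ i ∉ S, x i = 0 := fun hsmall => by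
    constructor <;> intro i hi <;> rw [hS] at hi <;> have := hsmall i <;> have := hf i <;> omega
  refine ⟨fun hn => ?_, fun hn => by omega, fun hn => ?_⟩
  · have hk : ∑ i, f i ^ 2 = 2 := by omega
    have hsmall : ∀ i, f i = 0 ∨ f i = 1 ∨ f i = -1 := fun i => by
      have := h1 2 hk i
      have : -2 < f i := by by_contra; nlinarith
      have : f i < 2 := by by_contra; nlinarith
      omega
    have hc := hcard hsmall
    exact four_normal hx (by norm_num) S (hvals hsmall).1 (hvals hsmall).2 _ (by decide +kernel)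
      (by simp; omega) (by simp [tet0])
  · have hk : ∑ i, f i ^ 2 = 4 := by omega
    by_cases hbig : ∃ i, f i = 2 ∨ f i = -2
    · obtain ⟨i, hi⟩ := hbig
      left
      have hz : ∀ j ≠ i, f j = 0 := fun j hj => by
        have h2 : ∑ k ∈ ({i, j} : Finset GolayPt), f k ^ 2 ≤ ∑ k, f k ^ 2 :=
          Finset.sum_le_univ_sum_of_nonneg fun k => sq_nonneg (f k)
        rw [Finset.sum_pair hj.symm, hk] at h2
        have : f i ^ 2 = 4 := by rcases hi with h | h <;> rw [h] <;> norm_num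
        exact pow_eq_zero_iff two_ne_zero |>.1 (le_antisymm (by omega) (sq_nonneg _))
      refine four_normal hx (by norm_num) {i} (fun j hj => ?_) (fun j hj => ?_) _ (by decide +kernel)
        (by simp) (by simp [tet0])
      · rw [Finset.mem_singleton] at hj
        subst hj
        have := hf j
        omega
      · rw [hf, hz j (by simpa using hj), mul_zero]
    · have hsmall : ∀ i, f i = 0 ∨ f i = 1 ∨ f i = -1 := fun i => by
        have := h1 4 hk i
        have : -3 < f i := by by_contra; nlinarith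
        have : f i < 3 := by by_contra; nlinarith
        have := not_exists.1 hbig i
        omega
      have hc := hcard hsmall
      right
      exact four_normal hx (by norm_num) S (hvals hsmall).1 (hvals hsmall).2 _ (by decide +kernel)
        (by simp [tet0]; omega) (fun p hp => hp)

theorem even_to_odd {x : GolayPt → ℤ} (hx : x ∈ leechLattice) (h : ∀ i, (2 : ℤ) ∣ x i)
    (h4 : ¬ ∀ i, (4 : ℤ) ∣ x i) (hn : sqNorm x ≤ 64) :
    ∃ z, LRel x z ∧ ¬ ∀ i, (2 : ℤ) ∣ z i := by
  classical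
  obtain ⟨p, hp⟩ := not_forall.1 h4
  obtain ⟨O, hO⟩ : ∃ O : Finset GolayPt, ∀ i, i ∈ O ↔ ¬ (4 : ℤ) ∣ x i :=
    ⟨Finset.univ.filter fun i => ¬ (4 : ℤ) ∣ x i, fun i => by simp⟩
  have hOc : O.card ≤ 16 := by
    have h1 : ∑ i ∈ O, (4 : ℤ) ≤ ∑ i, x i ^ 2 :=
      le_trans (Finset.sum_le_sum fun i hi => by
        rw [hO] at hi
        have := h i
        rcases le_or_gt (x i) 0 with hle | hle
        · have : x i ≤ -2 := by omega
          nlinarith
        · have : 2 ≤ x i := by omega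
          nlinarith) (Finset.sum_le_univ_sum_of_nonneg fun i => sq_nonneg (x i))
    rw [Finset.sum_const, nsmul_eq_mul] at h1
    simp only [sqNorm] at hn
    omega
  obtain ⟨T, hT, hTc⟩ := Finset.exists_subset_card_eq (s := Oᶜ) (n := 3) (by
    rw [Finset.card_compl, card_golayPt]; omega)
  have hnd : (p :: T.toList).Nodup := List.nodup_cons.2 ⟨fun hm =>
    Finset.mem_compl.1 (hT (Finset.mem_toList.1 hm)) ((hO p).2 hp), T.nodup_toList⟩
  obtain ⟨σ, hσ, hmap⟩ := exists_mem_M24_list tet0 (p :: T.toList) (by decide +kernel) hnd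
    (by simp [tet0, hTc]) (by simp [tet0])
  simp only [tet0, List.map_cons, List.map_nil, List.cons.injEq] at hmap
  obtain ⟨e0, hrest⟩ := hmap
  have hdiv : ∀ q ∈ [σ (pt 0), σ (pt 1), σ (pt 2)], (4 : ℤ) ∣ x q := fun q hq => by
    rw [hrest, Finset.mem_toList] at hq
    exact not_not.1 fun hne => Finset.mem_compl.1 (hT hq) ((hO q).2 hne)
  have a := LRel.perm hx hσ
  refine ⟨_, a.trans (LRel.eta a.mem), fun hall => ?_⟩
  have hblk : Finset.univ.filter (fun j => blkOf j = 0) = ({none, pt 0, pt 1, pt 2} : Finset GolayPt) := by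
    decide +kernel
  have hbn : blkOf none = 0 := by decide +kernel
  have hval := hall none
  rw [etaFun, hbn, if_pos rfl, blkSum, hblk, Finset.sum_insert (by decide +kernel),
    Finset.sum_insert (by decide +kernel), Finset.sum_insert (by decide +kernel), Finset.sum_singleton, e0] at hval
  have := hdiv (σ (pt 0)) (by simp)
  have := hdiv (σ (pt 1)) (by simp)
  have := hdiv (σ (pt 2)) (by simp)
  have := h p
  omega

theorem link_valid : linkOK linkA = true ∧ linkOK linkB = true ∧ linkOK linkP5 = true ∧ linkOK linkP53 = true ∧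
    linkOK linkQ = true := by decide +kernel

theorem link_values :
    ((∀ i, (4 : ℤ) ∣ linkA.foldl (fun x p => linkStep p x) (oddVec [none] []) i) ∧
      sqNorm (linkA.foldl (fun x p => linkStep p x) (oddVec [none] [])) = 32) ∧
    (∀ i, linkB.foldl (fun x p => linkStep p x) (oddVec [] [none]) i = oddVec [pt 0, pt 1, pt 2] [] i) ∧
    (∀ i, linkP5.foldl (fun x p => linkStep p x) (oddVec [none, pt 0, pt 1, pt 2, pt 3] []) i =
      fourVec [pt 14] 8 i) ∧
    (∀ i, linkP53.foldl (fun x p => linkStep p x) (oddVec [pt 0, pt 1] [none]) i = fourVec [pt 7] (-8) i) ∧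
    (∀ i, linkQ.foldl (fun x p => linkStep p x) (fourVec tet0 4) i = fourVec [pt 1] (-8) i) ∧
    (leechTest (oddVec [none] []) && leechTest (oddVec [] [none]) &&
      leechTest (oddVec [none, pt 0, pt 1, pt 2, pt 3] []) && leechTest (oddVec [pt 0, pt 1] [none]) &&
      leechTest (fourVec tet0 4) && leechTest (fourVec [none] 8)) = true := by
  decide +kernel

theorem single_to_vec64 {q : GolayPt} {s : ℤ} (hs : s = 8 ∨ s = -8) (hm : fourVec [q] s ∈ leechLattice) :
    LRel (fourVec [q] s) vec64 := by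
  refine four_normal hm (by norm_num) {q} (fun i hi => ?_) (fun i hi => ?_) _ (by decide +kernel) (by simp)
    (by simp [tet0])
  · rw [Finset.mem_singleton] at hi
    simpa [fourVec, hi] using hs
  · rw [Finset.mem_singleton] at hi
    simp [fourVec, hi]

theorem vecs_mem : vec32 ∈ leechLattice ∧ vec48 ∈ leechLattice ∧ vec64 ∈ leechLattice ∧
    oddVec [none, pt 0, pt 1, pt 2, pt 3] [] ∈ leechLattice ∧ oddVec [pt 0, pt 1] [none] ∈ leechLattice ∧
    fourVec tet0 4 ∈ leechLattice := by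
  have h := link_values.2.2.2.2.2
  simp only [Bool.and_eq_true] at h
  obtain ⟨⟨⟨⟨⟨h1, h2⟩, h3⟩, h4⟩, h5⟩, h6⟩ := h
  exact ⟨leechTest_sound h1, leechTest_sound h2, leechTest_sound h6, leechTest_sound h3, leechTest_sound h4,
    leechTest_sound h5⟩

theorem LRel.norm {u v : GolayPt → ℤ} (h : LRel u v) : sqNorm v = sqNorm u := by
  obtain ⟨g, -, a, rfl, rfl⟩ := h
  exact co0_norm g a

theorem rel_vec32 {x : GolayPt → ℤ} (hx : x ∈ leechLattice) (hn : sqNorm x = 32) : LRel x vec32 := by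
  have odd : ∀ z, z ∈ leechLattice → sqNorm z = 32 → (¬ ∀ i, (2 : ℤ) ∣ z i) → LRel z vec32 := by
    intro z hz hzn h
    obtain ⟨a, b, he, -, hl⟩ := odd_to_oddVec hz h (by omega)
    exact hl [none] [] (by simp) (by simp; omega) (by simp; omega)
  have a := LRel.link linkA vecs_mem.1 link_valid.1
  have hF : LRel vec32 (fourVec [none, pt 0] 4) :=
    a.trans ((fourdiv a.mem link_values.1.1).1 link_values.1.2)
  by_cases h2 : ∀ i, (2 : ℤ) ∣ x i
  · by_cases h4 : ∀ i, (4 : ℤ) ∣ x i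
    · exact ((fourdiv hx h4).1 hn).trans hF.symm
    · obtain ⟨z, hz, hodd⟩ := even_to_odd hx h2 h4 (by omega)
      exact hz.trans (odd z hz.mem (hz.norm.trans hn) hodd)
  · exact odd x hx hn h2

theorem rel_vec48 {x : GolayPt → ℤ} (hx : x ∈ leechLattice) (hn : sqNorm x = 48) : LRel x vec48 := by
  have hB : LRel vec48 (oddVec [pt 0, pt 1, pt 2] []) := by
    have h := LRel.link linkB vecs_mem.2.1 link_valid.2.1
    rwa [show linkB.foldl (fun x p => linkStep p x) vec48 = oddVec [pt 0, pt 1, pt 2] [] from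
      funext link_values.2.1] at h
  have odd : ∀ z, z ∈ leechLattice → sqNorm z = 48 → (¬ ∀ i, (2 : ℤ) ∣ z i) → LRel z vec48 := by
    intro z hz hzn h
    obtain ⟨a, b, he, -, hl⟩ := odd_to_oddVec hz h (by omega)
    rcases (by omega : (a = 0 ∧ b = 1) ∨ (a = 3 ∧ b = 0)) with ⟨rfl, rfl⟩ | ⟨rfl, rfl⟩
    · exact hl [] [none] (by simp) rfl rfl
    · exact (hl [pt 0, pt 1, pt 2] [] (by decide +kernel) rfl rfl).trans hB.symm
  by_cases h2 : ∀ i, (2 : ℤ) ∣ x i
  · by_cases h4 : ∀ i, (4 : ℤ) ∣ x i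
    · exact absurd hn (fourdiv hx h4).2.1
    · obtain ⟨z, hz, hodd⟩ := even_to_odd hx h2 h4 (by omega)
      exact hz.trans (odd z hz.mem (hz.norm.trans hn) hodd)
  · exact odd x hx hn h2

theorem rel_vec64 {x : GolayPt → ℤ} (hx : x ∈ leechLattice) (hn : sqNorm x = 64) : LRel x vec64 := by
  obtain ⟨-, -, hP, hP', hQ, -⟩ := link_values
  obtain ⟨-, -, -, hv5, hv53, hvq⟩ := vecs_mem
  obtain ⟨-, -, ok5, ok53, okq⟩ := link_valid
  have r5 : LRel (oddVec [none, pt 0, pt 1, pt 2, pt 3] []) vec64 := by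
    have h := LRel.link linkP5 hv5 ok5
    rw [funext hP] at h
    exact h.trans (single_to_vec64 (Or.inl rfl) h.mem)
  have r53 : LRel (oddVec [pt 0, pt 1] [none]) vec64 := by
    have h := LRel.link linkP53 hv53 ok53
    rw [funext hP'] at h
    exact h.trans (single_to_vec64 (Or.inr rfl) h.mem)
  have rq : LRel (fourVec tet0 4) vec64 := by
    have h := LRel.link linkQ hvq okq
    rw [funext hQ] at h
    exact h.trans (single_to_vec64 (Or.inr rfl) h.mem)
  have odd : ∀ z, z ∈ leechLattice → sqNorm z = 64 → (¬ ∀ i, (2 : ℤ) ∣ z i) → LRel z vec64 := by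
    intro z hz hzn h
    obtain ⟨a, b, he, hab, hl⟩ := odd_to_oddVec hz h (by omega)
    rcases (by omega : (a = 5 ∧ b = 0) ∨ (a = 2 ∧ b = 1)) with ⟨rfl, rfl⟩ | ⟨rfl, rfl⟩
    · exact (hl [none, pt 0, pt 1, pt 2, pt 3] [] (by decide +kernel) rfl rfl).trans r5
    · exact (hl [pt 0, pt 1] [none] (by decide +kernel) rfl rfl).trans r53
  by_cases h2 : ∀ i, (2 : ℤ) ∣ x i
  · by_cases h4 : ∀ i, (4 : ℤ) ∣ x i
    · rcases (fourdiv hx h4).2.2 hn with h | h
      · exact h
      · exact h.trans rq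
    · obtain ⟨z, hz, hodd⟩ := even_to_odd hx h2 h4 (by omega)
      exact hz.trans (odd z hz.mem (hz.norm.trans hn) hodd)
  · exact odd x hx hn h2

theorem genCo0_transitive {n : ℤ} (hn : n = 32 ∨ n = 48 ∨ n = 64) {v w : ↥leechLattice}
    (hv : sqNorm (v : GolayPt → ℤ) = n) (hw : sqNorm (w : GolayPt → ℤ) = n) : ∃ g ∈ genCo0, g • v = w := by
  obtain ⟨t, h1, h2⟩ : ∃ t, LRel v t ∧ LRel w t := by
    rcases hn with rfl | rfl | rfl
    · exact ⟨_, rel_vec32 v.2 hv, rel_vec32 w.2 hw⟩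
    · exact ⟨_, rel_vec48 v.2 hv, rel_vec48 w.2 hw⟩
    · exact ⟨_, rel_vec64 v.2 hv, rel_vec64 w.2 hw⟩
  obtain ⟨g, hgm, a, ha, hg⟩ := h1.trans h2.symm
  exact ⟨g, hgm, Subtype.ext (by rw [← hg, show a = v from Subtype.ext ha])⟩

theorem co0_transitive {n : ℤ} (hn : n = 32 ∨ n = 48 ∨ n = 64) {v w : ↥leechLattice}
    (hv : sqNorm (v : GolayPt → ℤ) = n) (hw : sqNorm (w : GolayPt → ℤ) = n) : ∃ g : ↥Co0, g • v = w :=
  let ⟨g, _, hg⟩ := genCo0_transitive hn hv hw
  ⟨g, hg⟩

end Cfsg.Agent.Golay
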