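import Cfsg.Agent.Golay.OrbitTools
import Cfsg.Agent.Golay.Dodecad

/-! Orbit classification of supports under stabilizers of given sets, by certificates. -/

set_option autoImplicit false

namespace Cfsg.Agent.Golay

open scoped Pointwise

/-- The elements of `M24` fixing each listed mask. -/
def fixSub : List ℕ → Subgroup (Equiv.Perm GolayPt)
  | [] => M24
  | m :: l => fixSub l ⊓ MulAction.stabilizer (Equiv.Perm GolayPt) (bset m)

theorem mem_fixSub {σ : Equiv.Perm GolayPt} : ∀ {l : List ℕ},
    σ ∈ fixSub l ↔ σ ∈ M24 ∧ ∀ m ∈ l, σ • bset m = bset m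
  | [] => by simp [fixSub]
  | m :: l => by
    rw [fixSub, Subgroup.mem_inf, mem_fixSub (l := l), MulAction.mem_stabilizer_iff]
    simp only [List.mem_cons, forall_eq_or_imp]
    tauto

/-- The incidence numbers of a mask against the fixed masks. -/
def invMask (fix : List ℕ) (n : ℕ) : List ℕ := fix.map fun f => pc (n &&& f)

/-- Generators fix the listed masks and preserve the code. -/
def maskGensOK (fix gens : List ℕ) : Bool :=
  gens.all fun c => isAut c && fix.all fun f => mapMask c f == f

/-- The step function on masks. -/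
def maskAct (gens : List ℕ) (g m : ℕ) : ℕ := mapMask (gens.getD g idCode) m

theorem maskAct_ok {fix gens : List ℕ} (h : maskGensOK fix gens = true) (g m : ℕ) (_hm : m < 2 ^ 24) :
    maskAct gens g m < 2 ^ 24 ∧ ∃ a ∈ fixSub fix, bset (maskAct gens g m) = a • bset m := by
  simp only [maskGensOK, List.all_eq_true, Bool.and_eq_true, beq_iff_eq] at h
  by_cases hg : g < gens.length
  · rw [maskAct, List.getD_eq_getElem _ _ hg]
    obtain ⟨ha, hf⟩ := h _ (List.getElem_mem hg)
    have hok := permOK_of_isAut ha
    exact ⟨mapMask_lt hok m, _, mem_fixSub.2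
      ⟨permOf_mem_M24 ha, fun f hf' => by rw [← bset_mapMask hok, hf f hf']⟩, bset_mapMask hok m⟩
  · rw [maskAct, List.getD_eq_default _ _ (not_lt.1 hg)]
    exact ⟨mapMask_lt idCode_ok m, 1, one_mem _, by rw [bset_mapMask idCode_ok, permOf_idCode]⟩

theorem invMask_smul {fix : List ℕ} {h : Equiv.Perm GolayPt} (hh : h ∈ fixSub fix)
    (x : Finset GolayPt) : invMask fix (mask (h • x)) = invMask fix (mask x) := by
  refine List.map_congr_left fun f hf => ?_
  rw [← pc_inter', ← pc_inter', ← (mem_fixSub.1 hh).2 f hf, ← Finset.smul_finset_inter,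
    Finset.card_smul_finset, (mem_fixSub.1 hh).2 f hf]
where
  pc_inter' {s : Finset GolayPt} {m : ℕ} : (s ∩ bset m).card = pc (mask s &&& m) := by
    rw [← card_bset, bset_and, bset_mask]

/-- The numerical checks behind a classification of supports. -/
def suppClassify (fix gens : List ℕ) (roots : List (ℕ × OrbTree)) (P : ℕ → Bool) (N : ℕ) : Bool :=
  maskGensOK fix gens && classCheck (maskAct gens) roots 24 N (fun m => inC m && P m) &&
    (countB (fun i => P (encode i)) 12 0 == N) &&
    (roots.all fun p => decide (p.1 < 16777216)) &&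
    decide ((roots.map fun p => invMask fix p.1).Nodup)

theorem exists_root_supp {fix gens : List ℕ} {roots : List (ℕ × OrbTree)} {P : ℕ → Bool} {N : ℕ}
    (hc : suppClassify fix gens roots P N = true) {x : Finset GolayPt}
    (hx : inC (mask x) = true ∧ P (mask x) = true) :
    ∃ r ∈ (roots.map fun p => bset p.1), ∃ h ∈ fixSub fix, h • r = x := by
  simp only [suppClassify, Bool.and_eq_true, beq_iff_eq, List.all_eq_true, decide_eq_true_eq] at hc
  obtain ⟨⟨⟨⟨hgens, hclass⟩, hcount⟩, hroots⟩, -⟩ := hc
  obtain ⟨r, hr, h⟩ := exists_root_of_classCheck (maskAct gens) bset (fun m => m < 2 ^ 24) (fixSub fix)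
    roots 24 N _ hclass (fun g m hm => maskAct_ok hgens g m hm) hroots
    (fun a b ha hb e => eq_of_bset_eq ha hb e)
    {s | inC (mask s) = true ∧ P (mask s) = true} (Set.toFinite _)
    (fun m hm h => by
      rw [Bool.and_eq_true] at h
      simpa [mask_bset hm] using h)
    (le_of_eq ((ncard_supports_filter P _ (fun s => Iff.rfl)).trans hcount)) hx
  obtain ⟨p, hp, rfl⟩ := List.mem_map.1 hr
  exact ⟨_, List.mem_map.2 ⟨p, hp, rfl⟩, h⟩

/-- Supports with equal incidence numbers are conjugate under the fixing subgroup. -/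
theorem exists_mem_fixSub {fix gens : List ℕ} {roots : List (ℕ × OrbTree)} {P : ℕ → Bool} {N : ℕ}
    (hc : suppClassify fix gens roots P N = true) {x y : Finset GolayPt}
    (hx : inC (mask x) = true ∧ P (mask x) = true) (hy : inC (mask y) = true ∧ P (mask y) = true)
    (he : invMask fix (mask x) = invMask fix (mask y)) : ∃ h ∈ fixSub fix, h • x = y := by
  obtain ⟨X, hXdef⟩ : ∃ X : Set (Finset GolayPt),
      X = {s | inC (mask s) = true ∧ P (mask s) = true} := ⟨_, rfl⟩
  have hroot : ∀ s ∈ X, ∃ r ∈ (roots.map fun p => bset p.1), ∃ h ∈ fixSub fix, h • r = s := by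
    intro s hs
    rw [hXdef, Set.mem_ofPred_eq] at hs
    exact @exists_root_supp fix gens roots P N hc s hs
  have hx' : x ∈ X := by rw [hXdef, Set.mem_ofPred_eq]; exact hx
  have hy' : y ∈ X := by rw [hXdef, Set.mem_ofPred_eq]; exact hy
  have hinv : ∀ h ∈ fixSub fix, ∀ s : Finset GolayPt, invMask fix (mask (h • s)) = invMask fix (mask s) :=
    fun h hh s => invMask_smul hh s
  have h1 := exists_mem_of_invariant (fixSub fix) (fun s => invMask fix (mask s)) hinv
  have h2 := h1 (roots.map fun p => bset p.1)
  have h3 := fun hR => h2 hR X hroot (x := x) (y := y) hx' hy'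
  refine h3 ?_ he
  simp only [suppClassify, Bool.and_eq_true, List.all_eq_true, decide_eq_true_eq] at hc
  have e : (roots.map fun p => bset p.1).map (fun s => invMask fix (mask s))
      = roots.map fun p => invMask fix p.1 := by
    rw [List.map_map]
    refine List.map_congr_left fun p hp => ?_
    rw [Function.comp_apply, mask_bset (a := p.1) (hc.1.2 p hp)]
  rw [e]
  exact hc.2

theorem pc_inter_mask (s : Finset GolayPt) (m : ℕ) : (s ∩ bset m).card = pc (mask s &&& m) := by
  rw [← card_bset, bset_and, bset_mask]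

theorem bset_mask_two_pow (i : ℕ) (hi : i < 24) : bset (2 ^ i) = {pt i} := by
  ext p
  rw [mem_bset, Finset.mem_singleton, Nat.testBit_two_pow, decide_eq_true_eq]
  exact ⟨fun e => by rw [e, pt_idx], fun e => by rw [e, idx_pt hi]⟩

theorem pc_and_two_pow (s : Finset GolayPt) (p : GolayPt) :
    pc (mask s &&& 2 ^ idx p) = if p ∈ s then 1 else 0 := by
  rw [← pc_inter_mask, bset_mask_two_pow _ (idx_lt p), pt_idx]
  split_ifs with h
  · rw [Finset.inter_singleton_of_mem h, Finset.card_singleton]
  · rw [Finset.inter_singleton_of_notMem h, Finset.card_empty]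

theorem smul_eq_of_fix_point {σ : Equiv.Perm GolayPt} {p : GolayPt} {l : List ℕ}
    (h : σ ∈ fixSub l) (hp : 2 ^ idx p ∈ l) : σ p = p := by
  have h1 := (mem_fixSub.1 h).2 _ hp
  rw [bset_mask_two_pow _ (idx_lt p), pt_idx, Finset.smul_finset_singleton, Finset.singleton_inj] at h1
  exact h1

end Cfsg.Agent.Golay
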