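import Cfsg.Agent.M24Orbits.Data2
import Cfsg.Agent.Golay.MaskOrbits
import Mathlib.GroupTheory.SpecificGroups.Alternating

/-! The octad stabiliser: its point fixer, the alternating action, and complements. -/

set_option autoImplicit false
set_option maxRecDepth 20000

namespace Cfsg.Agent.Golay

open scoped Pointwise

/-- The standard octad, point fixer and codes. -/
def fixCodes : List ℕ := M24Orbits.fix16

/-- Checks on the point fixer of the standard octad. -/
theorem fixCodes_ok :
    fixCodes.all (fun c => isAut c && ((List.range 24).all fun i => !(9347075 : ℕ).testBit i || app c i == i) &&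
      isComp idCode c c) = true ∧
    (fixCodes.map fun c => app c 2) = (fixCodes.map fun c => app c 2).dedup ∧
    (List.range 24).all (fun i => (9347075 : ℕ).testBit i || (fixCodes.map fun c => app c 2).contains i) = true ∧
    fixCodes.all (fun c => c == idCode || (List.range 24).all fun i => (9347075 : ℕ).testBit i || !(app c i == i))
      = true ∧ fixCodes.length = 16 ∧ fixCodes.Nodup := by
  decide +kernel

theorem octad_base' : bset 9347075 ∈ octads := octad_base

theorem mem_fixer_iff {o : Finset GolayPt} {g : Equiv.Perm GolayPt} :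
    g ∈ M24 ⊓ fixingSubgroup (Equiv.Perm GolayPt) (o : Set GolayPt) ↔ g ∈ M24 ∧ ∀ p ∈ o, g p = p := by
  rw [Subgroup.mem_inf, mem_fixingSubgroup_iff]
  rfl

theorem fixCode_spec {c : ℕ} (hc : c ∈ fixCodes) :
    permOK c = true ∧ permOf c ∈ M24 ⊓ fixingSubgroup (Equiv.Perm GolayPt) (↑(bset 9347075) : Set GolayPt) ∧
      permOf c * permOf c = 1 := by
  have h := List.all_eq_true.1 fixCodes_ok.1 c hc
  simp only [Bool.and_eq_true, List.all_eq_true, Bool.or_eq_true, Bool.not_eq_true', beq_iff_eq] at h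
  obtain ⟨⟨ha, hfix⟩, hcomp⟩ := h
  have hok := permOK_of_isAut ha
  refine ⟨hok, mem_fixer_iff.2 ⟨permOf_mem_M24 ha, fun p hp => ?_⟩, ?_⟩
  · apply idx_injective
    rw [idx_permOf hok]
    rcases hfix (idx p) (List.mem_range.2 (idx_lt p)) with e | e
    · rw [mem_bset.1 hp] at e; cases e
    · exact e
  · rw [← permOf_mul idCode_ok hok hok hcomp, permOf_idCode]

theorem fixer_std {g : Equiv.Perm GolayPt}
    (hg : g ∈ M24 ⊓ fixingSubgroup (Equiv.Perm GolayPt) (↑(bset 9347075) : Set GolayPt)) :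
    ∃ c ∈ fixCodes, permOf c = g := by
  obtain ⟨hgm, hfix⟩ := mem_fixer_iff.1 hg
  have hout : pt 2 ∉ bset 9347075 := by decide +kernel
  have himg : g (pt 2) ∉ bset 9347075 := fun h => hout (by
    have := hfix _ h
    rwa [g.injective this] at h)
  have h3 := fixCodes_ok.2.2.1
  simp only [List.all_eq_true, Bool.or_eq_true, List.contains_iff_mem, List.mem_map] at h3
  rcases h3 (idx (g (pt 2))) (List.mem_range.2 (idx_lt _)) with e | ⟨c, hc, e⟩
  · exact absurd (mem_bset.2 e) himg
  obtain ⟨hok, hcm, -⟩ := fixCode_spec hc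
  obtain ⟨hcm1, hcfix⟩ := mem_fixer_iff.1 hcm
  refine ⟨c, hc, ?_⟩
  have h1 : (permOf c)⁻¹ * g = 1 := by
    refine eq_one_of_fix_base (mul_mem (inv_mem hcm1) hgm) fun i hi => ?_
    rw [Equiv.Perm.mul_apply, Equiv.Perm.inv_def, Equiv.symm_apply_eq]
    by_cases h2 : i = 2
    · subst h2
      rw [permOf_pt hok (by norm_num), e, pt_idx]
    · have hin : pt i ∈ bset 9347075 := by
        have key : ∀ j ∈ basePts, j = 2 ∨ pt j ∈ bset 9347075 := by decide +kernel
        exact (key i hi).resolve_left h2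
      rw [hfix _ hin, hcfix _ hin]
  exact inv_mul_eq_one.1 h1

theorem fixer_std_card :
    Nat.card ↥(M24 ⊓ fixingSubgroup (Equiv.Perm GolayPt) (↑(bset 9347075) : Set GolayPt)) = 16 := by
  classical
  obtain ⟨-, hded, -, -, hlen, hnd⟩ := fixCodes_ok
  have hinj : ∀ a ∈ fixCodes, ∀ b ∈ fixCodes, permOf a = permOf b → a = b := by
    intro a ha b hb e
    refine List.inj_on_of_nodup_map (hded ▸ List.nodup_dedup _ : (fixCodes.map fun c => app c 2).Nodup) ha hb ?_
    have h := congrArg (fun σ : Equiv.Perm GolayPt => idx (σ (pt 2))) e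
    simpa [idx_permOf (fixCode_spec ha).1, idx_permOf (fixCode_spec hb).1, idx_pt] using h
  have hset : (↑(M24 ⊓ fixingSubgroup (Equiv.Perm GolayPt) (↑(bset 9347075) : Set GolayPt)) :
      Set (Equiv.Perm GolayPt)) = ↑((fixCodes.map permOf).toFinset) := by
    ext g
    simp only [SetLike.mem_coe, Finset.mem_coe, List.mem_toFinset, List.mem_map]
    exact ⟨fun hg => fixer_std hg, by rintro ⟨c, hc, rfl⟩; exact (fixCode_spec hc).2.1⟩
  rw [← SetLike.coe_sort_coe, hset, Nat.card_coe_set_eq, Set.ncard_coe_finset,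
    List.toFinset_card_of_nodup (List.Nodup.map_on hinj hnd), List.length_map, hlen]

theorem fixer_conj {g : Equiv.Perm GolayPt} (hg : g ∈ M24) (o : Finset GolayPt) (x : Equiv.Perm GolayPt) :
    g * x * g⁻¹ ∈ M24 ⊓ fixingSubgroup (Equiv.Perm GolayPt) (↑(g • o) : Set GolayPt) ↔
      x ∈ M24 ⊓ fixingSubgroup (Equiv.Perm GolayPt) (↑o : Set GolayPt) := by
  rw [mem_fixer_iff, mem_fixer_iff]
  constructor
  · rintro ⟨h1, h2⟩
    refine ⟨by simpa [mul_assoc] using mul_mem (mul_mem (inv_mem hg) h1) hg, fun p hp => ?_⟩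
    have := h2 (g p) (Finset.smul_mem_smul_finset hp)
    simpa using this
  · rintro ⟨h1, h2⟩
    refine ⟨mul_mem (mul_mem hg h1) (inv_mem hg), fun q hq => ?_⟩
    obtain ⟨p, hp, rfl⟩ := Finset.mem_smul_finset.1 hq
    simp [h2 p hp]

theorem fixer_card {o : Finset GolayPt} (ho : o ∈ octads) :
    Nat.card ↥(M24 ⊓ fixingSubgroup (Equiv.Perm GolayPt) (↑o : Set GolayPt)) = 16 := by
  obtain ⟨g, hg, rfl⟩ := M24_octad_transitive octad_base' ho
  rw [← fixer_std_card]
  exact Nat.card_congr (Equiv.symm ((MulAut.conj g).toEquiv.subtypeEquiv fun x =>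
    (fixer_conj hg (bset 9347075) x).symm))

theorem fixer_sq {o : Finset GolayPt} (ho : o ∈ octads) {x : Equiv.Perm GolayPt}
    (hx : x ∈ M24 ⊓ fixingSubgroup (Equiv.Perm GolayPt) (↑o : Set GolayPt)) : x * x = 1 := by
  obtain ⟨g, hg, rfl⟩ := M24_octad_transitive octad_base' ho
  obtain ⟨c, hc, e⟩ := fixer_std ((fixer_conj hg (bset 9347075) (g⁻¹ * x * g)).1 (by
    simpa [mul_assoc] using hx))
  have h := (fixCode_spec hc).2.2
  rw [e] at h
  have : g⁻¹ * (x * x) * g = 1 := by rw [← h]; group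
  have h2 := congrArg (fun y => g * y * g⁻¹) this
  simpa [mul_assoc] using h2

theorem fixer_free {o : Finset GolayPt} (ho : o ∈ octads) {x : Equiv.Perm GolayPt}
    (hx : x ∈ M24 ⊓ fixingSubgroup (Equiv.Perm GolayPt) (↑o : Set GolayPt)) {p : GolayPt} (hp : p ∉ o)
    (hxp : x p = p) : x = 1 := by
  obtain ⟨g, hg, rfl⟩ := M24_octad_transitive octad_base' ho
  obtain ⟨c, hc, e⟩ := fixer_std ((fixer_conj hg (bset 9347075) (g⁻¹ * x * g)).1 (by
    simpa [mul_assoc] using hx))
  have h4 := List.all_eq_true.1 fixCodes_ok.2.2.2.1 c hc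
  simp only [Bool.or_eq_true, beq_iff_eq, List.all_eq_true, Bool.not_eq_true', beq_eq_false_iff_ne] at h4
  rcases h4 with rfl | h4
  · rw [permOf_idCode] at e
    have h2 := congrArg (fun y => g * y * g⁻¹) e
    simpa [mul_assoc] using h2.symm
  · have hq : g⁻¹ p ∉ bset 9347075 := fun h => hp (by simpa using Finset.smul_mem_smul_finset (a := g) h)
    rcases h4 (idx (g⁻¹ p)) (List.mem_range.2 (idx_lt _)) with h | h
    · exact absurd (mem_bset.2 h) hq
    · refine absurd ?_ h
      rw [← idx_permOf (fixCode_spec hc).1, e]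
      simp [hxp]

/-- The permutations induced on an octad by its stabiliser. -/
noncomputable def octadRes (o : Finset GolayPt) :
    ↥(M24 ⊓ MulAction.stabilizer (Equiv.Perm GolayPt) o) →* Equiv.Perm ↥o where
  toFun g := g.1.subtypePerm fun x => by
    constructor
    · intro hx
      exact (Finset.smul_mem_smul_finset_iff g.1).1 (by rw [(g.2.2 : g.1 • o = o)]; exact hx)
    · intro hx
      have h2 := Finset.smul_mem_smul_finset (a := g.1) hx
      rwa [(g.2.2 : g.1 • o = o)] at h2
  map_one' := by ext; rfl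
  map_mul' a b := by ext; rfl

theorem octadRes_ker (o : Finset GolayPt) (g : ↥(M24 ⊓ MulAction.stabilizer (Equiv.Perm GolayPt) o)) :
    g ∈ (octadRes o).ker ↔ ∀ p ∈ o, g.1 p = p := by
  rw [MonoidHom.mem_ker]
  constructor
  · intro h p hp
    exact congrArg Subtype.val (Equiv.ext_iff.1 h ⟨p, hp⟩)
  · intro h
    exact Equiv.ext fun x => Subtype.ext (h x.1 x.2)

theorem octadRes_ker_card {o : Finset GolayPt} (ho : o ∈ octads) :
    Nat.card (octadRes o).ker = 16 := by
  rw [← fixer_card ho]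
  refine Nat.card_congr
    { toFun := fun g => ⟨g.1.1, mem_fixer_iff.2 ⟨g.1.2.1, (octadRes_ker o g.1).1 g.2⟩⟩
      invFun := fun g => ⟨⟨g.1, (mem_fixer_iff.1 g.2).1, ?_⟩, (octadRes_ker o _).2 (mem_fixer_iff.1 g.2).2⟩
      left_inv := fun _ => rfl
      right_inv := fun _ => rfl }
  refine Finset.eq_of_subset_of_card_le (fun x hx => ?_) (by rw [Finset.card_smul_finset])
  obtain ⟨y, hy, rfl⟩ := Finset.mem_smul_finset.1 hx
  rwa [Equiv.Perm.smul_def, (mem_fixer_iff.1 g.2).2 y hy]

theorem octadRes_range {o : Finset GolayPt} (ho : o ∈ octads) :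
    (octadRes o).range = alternatingGroup ↥o := by
  classical
  refine Equiv.Perm.eq_alternatingGroup_of_index_eq_two ?_
  have h1 := Subgroup.card_eq_card_quotient_mul_card_subgroup (octadRes o).ker
  rw [M24_octad_stab_card ho, octadRes_ker_card ho,
    Nat.card_congr (QuotientGroup.quotientKerEquivRange (octadRes o)).toEquiv] at h1
  have h2 := Subgroup.card_mul_index (octadRes o).range
  rw [Nat.card_perm, show Nat.card ↥o = 8 by rw [Nat.card_eq_fintype_card, Fintype.card_coe, card_octad ho]] at h2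
  have h3 : Nat.factorial 8 = 40320 := by decide +kernel
  rw [h3, show Nat.card (octadRes o).range = 20160 by omega] at h2
  omega

/-- The joint stabiliser of an octad and an outside point. -/
abbrev octPtStab (o : Finset GolayPt) (p : GolayPt) : Subgroup (Equiv.Perm GolayPt) :=
  M24 ⊓ MulAction.stabilizer (Equiv.Perm GolayPt) o ⊓ MulAction.stabilizer (Equiv.Perm GolayPt) p

theorem fixer_inf_ptStab {o : Finset GolayPt} (ho : o ∈ octads) {p : GolayPt} (hp : p ∉ o) :
    (M24 ⊓ fixingSubgroup (Equiv.Perm GolayPt) (↑o : Set GolayPt)) ⊓ octPtStab o p = ⊥ := by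
  rw [eq_bot_iff]
  rintro x ⟨hx, -, hxp⟩
  exact fixer_free ho hx hp hxp

theorem fixer_transitive {o : Finset GolayPt} (ho : o ∈ octads) {p : GolayPt} (hp : p ∉ o) {q : GolayPt}
    (hq : q ∉ o) : ∃ h ∈ M24 ⊓ fixingSubgroup (Equiv.Perm GolayPt) (↑o : Set GolayPt), h p = q := by
  classical
  obtain ⟨N, hN⟩ : ∃ N : Subgroup (Equiv.Perm GolayPt),
      N = M24 ⊓ fixingSubgroup (Equiv.Perm GolayPt) (↑o : Set GolayPt) := ⟨_, rfl⟩
  have h1 : (fun h : N => h.1 p) '' Set.univ = (↑(oᶜ) : Set GolayPt) := by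
    refine Set.eq_of_subset_of_ncard_le ?_ ?_ (Set.toFinite _)
    · rintro _ ⟨h, -, rfl⟩
      rw [Finset.mem_coe, Finset.mem_compl]
      intro hin
      have hm : h.1 ∈ M24 ⊓ fixingSubgroup (Equiv.Perm GolayPt) (↑o : Set GolayPt) := by
        rw [← hN]; exact h.2
      have hfix := (mem_fixer_iff.1 hm).2 _ hin
      have e := h.1.injective hfix
      exact hp (e ▸ hin)
    · rw [Set.ncard_coe_finset, Finset.card_compl, card_golayPt, card_octad ho,
        Set.ncard_image_of_injective, Set.ncard_univ]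
      · rw [hN, fixer_card ho]
      · intro a b e
        have hm : a.1⁻¹ * b.1 ∈ M24 ⊓ fixingSubgroup (Equiv.Perm GolayPt) (↑o : Set GolayPt) := by
          rw [← hN]; exact mul_mem (inv_mem a.2) b.2
        have : a.1⁻¹ * b.1 = 1 := fixer_free ho hm hp (by
            rw [Equiv.Perm.mul_apply, Equiv.Perm.inv_def, Equiv.symm_apply_eq]; exact e.symm)
        exact Subtype.ext (inv_mul_eq_one.1 this)
  obtain ⟨h, -, e⟩ : q ∈ (fun h : N => h.1 p) '' Set.univ := h1 ▸ by simpa using hq
  exact ⟨h.1, hN ▸ h.2, e⟩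

theorem fixer_sup_ptStab {o : Finset GolayPt} (ho : o ∈ octads) {p : GolayPt} (hp : p ∉ o) :
    (M24 ⊓ fixingSubgroup (Equiv.Perm GolayPt) (↑o : Set GolayPt)) ⊔ octPtStab o p =
      M24 ⊓ MulAction.stabilizer (Equiv.Perm GolayPt) o := by
  refine le_antisymm (sup_le (fun x hx => ?_) inf_le_left) (fun g hg => ?_)
  · refine ⟨(mem_fixer_iff.1 hx).1, Finset.eq_of_subset_of_card_le (fun y hy => ?_) (by
      rw [Finset.card_smul_finset])⟩
    obtain ⟨z, hz, rfl⟩ := Finset.mem_smul_finset.1 hy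
    rwa [Equiv.Perm.smul_def, (mem_fixer_iff.1 hx).2 z hz]
  · have hgo : g • o = o := hg.2
    have hgp : g p ∉ o := fun h => hp ((Finset.smul_mem_smul_finset_iff g).1 (by rwa [hgo]))
    obtain ⟨h, hh, e⟩ := fixer_transitive ho hp hgp
    have hk : h⁻¹ * g ∈ octPtStab o p := by
      have hm : h⁻¹ * g ∈ M24 := mul_mem (inv_mem (mem_fixer_iff.1 hh).1) hg.1
      refine ⟨⟨hm, ?_⟩, ?_⟩
      · show (h⁻¹ * g) • o = o
        rw [mul_smul, hgo, inv_smul_eq_iff]
        refine (Finset.eq_of_subset_of_card_le (fun y hy => ?_) (by rw [Finset.card_smul_finset])).symm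
        obtain ⟨z, hz, rfl⟩ := Finset.mem_smul_finset.1 hy
        rwa [Equiv.Perm.smul_def, (mem_fixer_iff.1 hh).2 z hz]
      · show (h⁻¹ * g) p = p
        rw [Equiv.Perm.mul_apply, Equiv.Perm.inv_def, Equiv.symm_apply_eq, e]
    have := Subgroup.mul_mem_sup hh hk
    rwa [mul_inv_cancel_left] at this

theorem ptStab_iso {o : Finset GolayPt} (ho : o ∈ octads) {p : GolayPt} (hp : p ∉ o) :
    Nonempty (↥(octPtStab o p) ≃* alternatingGroup (Fin 8)) := by
  classical
  let f : ↥(octPtStab o p) →* Equiv.Perm ↥o :=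
    (octadRes o).comp (Subgroup.inclusion inf_le_left)
  have hinj : Function.Injective f := by
    rw [← MonoidHom.ker_eq_bot_iff, eq_bot_iff]
    intro x hx
    have h := (octadRes_ker o _).1 (show (Subgroup.inclusion inf_le_left x) ∈ (octadRes o).ker from hx)
    exact Subtype.ext (fixer_free ho (mem_fixer_iff.2 ⟨x.2.1.1, h⟩) hp x.2.2)
  have hcard : Nat.card ↥(octPtStab o p) = 20160 := by
    have h := card_eq_ncard_mul_stab (M24 ⊓ MulAction.stabilizer (Equiv.Perm GolayPt) o) p
      (↑(oᶜ) : Set GolayPt)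
      (fun t ht => by
        obtain ⟨h, hh, e⟩ := fixer_transitive ho hp (by simpa using ht)
        refine ⟨h, ⟨(mem_fixer_iff.1 hh).1, ?_⟩, e⟩
        refine Finset.eq_of_subset_of_card_le (fun y hy => ?_) (by rw [Finset.card_smul_finset])
        obtain ⟨z, hz, rfl⟩ := Finset.mem_smul_finset.1 hy
        rwa [Equiv.Perm.smul_def, (mem_fixer_iff.1 hh).2 z hz])
      (fun g hg => by
        have hgo : g • o = o := hg.2
        rw [Finset.mem_coe, Finset.mem_compl]
        exact fun h => hp ((Finset.smul_mem_smul_finset_iff g).1 (by rwa [hgo])))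
    rw [M24_octad_stab_card ho, Set.ncard_coe_finset, Finset.card_compl, card_golayPt, card_octad ho] at h
    have e : Nat.card ↥(octPtStab o p) = Nat.card ↥(M24 ⊓ MulAction.stabilizer (Equiv.Perm GolayPt) o ⊓
        MulAction.stabilizer (Equiv.Perm GolayPt) p) := rfl
    omega
  have hrange : f.range = alternatingGroup ↥o := by
    refine Subgroup.eq_of_le_of_card_ge ?_ ?_
    · rw [← octadRes_range ho]
      rintro _ ⟨x, rfl⟩
      exact ⟨_, rfl⟩
    · haveI : Nontrivial ↥o := Fintype.one_lt_card_iff_nontrivial.1 (by rw [Fintype.card_coe, card_octad ho]; norm_num)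
      rw [Nat.card_congr (MonoidHom.ofInjective hinj).toEquiv.symm, hcard]
      have h2 := Subgroup.card_mul_index (alternatingGroup ↥o)
      rw [alternatingGroup.index_eq_two, Nat.card_perm,
        show Nat.card ↥o = 8 by rw [Nat.card_eq_fintype_card, Fintype.card_coe, card_octad ho]] at h2
      have h3 : Nat.factorial 8 = 40320 := by decide +kernel
      omega
  exact ⟨((MonoidHom.ofInjective hinj).trans (MulEquiv.subgroupCongr hrange)).trans
    (Equiv.altCongrHom (Fintype.equivFinOfCardEq (by rw [Fintype.card_coe, card_octad ho])))⟩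

end Cfsg.Agent.Golay
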