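import Cfsg.Agent.Golay.Orbits

/-! Orbit certificates for arbitrary objects, and maximality of stabilizers from orbit sizes. -/

set_option autoImplicit false

namespace Cfsg.Agent.Golay

open scoped Pointwise

/-! ### Distinctness of a list of numbers by a binary trie -/

/-- Binary trie of bit strings of fixed length. -/
inductive BTrie : Type
  | emp : BTrie
  | full : BTrie
  | node (l r : BTrie) : BTrie

/-- Membership test. -/
def BTrie.has : ℕ → ℕ → BTrie → Bool
  | 0, _, .full => true
  | 0, _, _ => false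
  | k + 1, n, .node l r => bif n % 2 == 1 then BTrie.has k (n / 2) r else BTrie.has k (n / 2) l
  | _ + 1, _, _ => false

/-- Insertion. -/
def BTrie.ins : ℕ → ℕ → BTrie → BTrie
  | 0, _, _ => .full
  | k + 1, n, .node l r =>
    bif n % 2 == 1 then .node l (BTrie.ins k (n / 2) r) else .node (BTrie.ins k (n / 2) l) r
  | k + 1, n, _ =>
    bif n % 2 == 1 then .node .emp (BTrie.ins k (n / 2) .emp)
    else .node (BTrie.ins k (n / 2) .emp) .emp

theorem BTrie.has_ins_self : ∀ (k n : ℕ) (t : BTrie), BTrie.has k n (BTrie.ins k n t) = true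
  | 0, _, t => by cases t <;> rfl
  | k + 1, n, t => by
    cases t <;> cases hb : (n % 2 == 1) <;> simp [BTrie.ins, BTrie.has, hb, BTrie.has_ins_self k]

theorem BTrie.has_ins_mono : ∀ (k n m : ℕ) (t : BTrie),
    BTrie.has k n t = true → BTrie.has k n (BTrie.ins k m t) = true
  | 0, _, _, t, _ => by cases t <;> rfl
  | k + 1, n, m, t, h => by
    cases t with
    | emp => simp [BTrie.has] at h
    | full => simp [BTrie.has] at h
    | node l r =>
      cases hn : (n % 2 == 1) <;> cases hm : (m % 2 == 1) <;>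
        simp [BTrie.ins, BTrie.has, hn, hm] at h ⊢ <;>
        first
        | exact h
        | exact BTrie.has_ins_mono k _ _ _ h

/-- All entries differ (among the lowest `K` bits), given those in the trie. -/
def distinctAux (K : ℕ) : List ℕ → BTrie → Bool
  | [], _ => true
  | m :: ms, t => !BTrie.has K m t && distinctAux K ms (BTrie.ins K m t)

theorem distinctAux_spec (K : ℕ) : ∀ (l : List ℕ) (t : BTrie), distinctAux K l t = true →
    l.Nodup ∧ ∀ x ∈ l, BTrie.has K x t = false
  | [], _, _ => ⟨List.nodup_nil, fun _ h => by simp at h⟩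
  | m :: ms, t, h => by
    simp only [distinctAux, Bool.and_eq_true, Bool.not_eq_true'] at h
    obtain ⟨ih1, ih2⟩ := distinctAux_spec K ms _ h.2
    refine ⟨List.nodup_cons.2 ⟨fun hm => ?_, ih1⟩, fun x hx => ?_⟩
    · have := ih2 m hm
      rw [BTrie.has_ins_self] at this
      cases this
    · rcases List.mem_cons.1 hx with rfl | hx
      · exact h.1
      · by_contra hb
        rw [Bool.not_eq_false] at hb
        have := ih2 x hx
        rw [BTrie.has_ins_mono K x m t hb] at this
        cases this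

theorem nodup_of_distinct {K : ℕ} {l : List ℕ} (h : distinctAux K l .emp = true) : l.Nodup :=
  (distinctAux_spec K l .emp h).1

/-! ### Generic forest walks -/

/-- Codes met by walking the forest from `m` with the step function `act`. -/
def OrbTree.collectBy (act : ℕ → ℕ → ℕ) : OrbTree → ℕ → List ℕ → List ℕ
  | .nil, _, acc => acc
  | .node g c s, m, acc =>
    OrbTree.collectBy act s m (OrbTree.collectBy act c (act g m) (act g m :: acc))

theorem collectBy_spec {K β : Type*} [Group K] [MulAction K β] (act : ℕ → ℕ → ℕ) (sem : ℕ → β)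
    (valid : ℕ → Prop) (H : Subgroup K)
    (hok : ∀ g m, valid m → valid (act g m) ∧ ∃ h ∈ H, sem (act g m) = h • sem m)
    (root : ℕ) : ∀ (T : OrbTree) (m : ℕ) (acc : List ℕ),
    (valid m ∧ ∃ h ∈ H, h • sem root = sem m) →
    (∀ x ∈ acc, valid x ∧ ∃ h ∈ H, h • sem root = sem x) →
    ∀ x ∈ T.collectBy act m acc, valid x ∧ ∃ h ∈ H, h • sem root = sem x
  | .nil, _, _, _, hacc => hacc
  | .node g c s, m, acc, hm, hacc => by
    have hstep : valid (act g m) ∧ ∃ h ∈ H, h • sem root = sem (act g m) := by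
      obtain ⟨hv, a, ha, e⟩ := hm
      obtain ⟨hv', b, hb, e'⟩ := hok g m hv
      exact ⟨hv', b * a, mul_mem hb ha, by rw [mul_smul, e, e']⟩
    refine collectBy_spec act sem valid H hok root s m _ hm ?_
    refine collectBy_spec act sem valid H hok root c _ _ hstep ?_
    rintro x (_ | ⟨_, hx⟩)
    · exact hstep
    · exact hacc x hx

/-- All codes met from a list of roots with their forests. -/
def classCodes (act : ℕ → ℕ → ℕ) : List (ℕ × OrbTree) → List ℕ
  | [] => []
  | (r, T) :: l => T.collectBy act r [r] ++ classCodes act l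

theorem classCodes_spec {K β : Type*} [Group K] [MulAction K β] (act : ℕ → ℕ → ℕ) (sem : ℕ → β)
    (valid : ℕ → Prop) (H : Subgroup K)
    (hok : ∀ g m, valid m → valid (act g m) ∧ ∃ h ∈ H, sem (act g m) = h • sem m) :
    ∀ (l : List (ℕ × OrbTree)), (∀ p ∈ l, valid p.1) → ∀ x ∈ classCodes act l,
      valid x ∧ ∃ r ∈ l.map Prod.fst, ∃ h ∈ H, h • sem r = sem x
  | [], _, x, hx => by simp [classCodes] at hx
  | (r, T) :: l, hv, x, hx => by
    rw [classCodes, List.mem_append] at hx
    rcases hx with hx | hx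
    · obtain ⟨h1, h2⟩ := collectBy_spec act sem valid H hok r T r [r]
        ⟨hv (r, T) (by simp), 1, one_mem _, one_smul _ _⟩
        (fun y hy => by
          rw [List.mem_singleton] at hy; subst hy
          exact ⟨hv _ (List.mem_cons_self ..), 1, one_mem _, one_smul _ _⟩) x hx
      exact ⟨h1, r, by simp, h2⟩
    · obtain ⟨h1, s, hs, h2⟩ :=
        classCodes_spec act sem valid H hok l (fun p hp => hv p (by simp [hp])) x hx
      exact ⟨h1, s, by simp [hs], h2⟩

/-- The numerical check behind an orbit classification. -/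
def classCheck (act : ℕ → ℕ → ℕ) (roots : List (ℕ × OrbTree)) (K N : ℕ) (inX : ℕ → Bool) : Bool :=
  let l := classCodes act roots
  (l.length == N) && distinctAux K l .emp && l.all inX

/-- If a list of forests reaches `N` distinct members of a set of size at most `N`, their roots
represent all orbits. -/
theorem exists_root_of_classCheck {K β : Type*} [Group K] [MulAction K β] (act : ℕ → ℕ → ℕ)
    (sem : ℕ → β) (valid : ℕ → Prop) (H : Subgroup K) (roots : List (ℕ × OrbTree)) (k N : ℕ)
    (inX : ℕ → Bool) (hc : classCheck act roots k N inX = true)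
    (hok : ∀ g m, valid m → valid (act g m) ∧ ∃ h ∈ H, sem (act g m) = h • sem m)
    (hroots : ∀ p ∈ roots, valid p.1)
    (hinj : ∀ a b, valid a → valid b → sem a = sem b → a = b)
    (X : Set β) (hXfin : X.Finite) (hXin : ∀ m, valid m → inX m = true → sem m ∈ X)
    (hX : X.ncard ≤ N) {x : β} (hx : x ∈ X) :
    ∃ r ∈ roots.map Prod.fst, ∃ h ∈ H, h • sem r = x := by
  classical
  simp only [classCheck, Bool.and_eq_true, beq_iff_eq, List.all_eq_true] at hc
  obtain ⟨⟨hlen, hdist⟩, hin⟩ := hc
  have hspec := classCodes_spec act sem valid H hok roots hroots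
  have hnd := nodup_of_distinct hdist
  have hinjOn : Set.InjOn sem ↑(classCodes act roots).toFinset := fun a ha b hb e =>
    hinj a b (hspec a (by simpa using ha)).1 (hspec b (by simpa using hb)).1 e
  have himg : sem '' ↑(classCodes act roots).toFinset = X := by
    refine Set.eq_of_subset_of_ncard_le ?_ ?_ hXfin
    · rintro _ ⟨m, hm, rfl⟩
      rw [List.coe_toFinset] at hm
      exact hXin m (hspec m hm).1 (hin m hm)
    · rw [hinjOn.ncard_image, Set.ncard_coe_finset, List.toFinset_card_of_nodup hnd, hlen]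
      exact hX
  rw [← himg] at hx
  obtain ⟨m, hm, rfl⟩ := hx
  rw [List.coe_toFinset] at hm
  exact (hspec m hm).2

/-- Orbits separated by an invariant. -/
theorem exists_mem_of_invariant {K β γ : Type*} [Group K] [MulAction K β] (H : Subgroup K)
    (f : β → γ) (hf : ∀ h ∈ H, ∀ y, f (h • y) = f y) (R : List β) (hR : (R.map f).Nodup) (X : Set β)
    (hX : ∀ x ∈ X, ∃ r ∈ R, ∃ h ∈ H, h • r = x) {x y : β} (hx : x ∈ X) (hy : y ∈ X)
    (hxy : f x = f y) : ∃ h ∈ H, h • x = y := by
  obtain ⟨r, hr, a, ha, rfl⟩ := hX x hx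
  obtain ⟨s, hs, b, hb, rfl⟩ := hX y hy
  rw [hf a ha, hf b hb] at hxy
  obtain rfl := List.inj_on_of_nodup_map hR hr hs hxy
  exact ⟨b * a⁻¹, mul_mem hb (inv_mem ha), by rw [mul_smul, inv_smul_smul]⟩

/-- An orbit is a whole class of the invariant. -/
theorem orbit_eq_class {K β γ : Type*} [Group K] [MulAction K β] (H : Subgroup K)
    (f : β → γ) (hf : ∀ h ∈ H, ∀ y, f (h • y) = f y) (X : Set β)
    (hXinv : ∀ h ∈ H, ∀ y ∈ X, h • y ∈ X)
    (hsep : ∀ x ∈ X, ∀ y ∈ X, f x = f y → ∃ h ∈ H, h • x = y) {x : β} (hx : x ∈ X) :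
    MulAction.orbit H x = {y | y ∈ X ∧ f y = f x} := by
  ext y
  constructor
  · rintro ⟨h, rfl⟩; exact ⟨hXinv h.1 h.2 x hx, hf h.1 h.2 x⟩
  · rintro ⟨hy, e⟩
    obtain ⟨h, hh, rfl⟩ := hsep x hx y hy e.symm
    exact ⟨⟨h, hh⟩, rfl⟩

/-- No proper union of classes containing that of the fixed point has size dividing `N`. -/
def noBlocks {γ : Type*} [DecidableEq γ] (v0 : γ) (classes : List (γ × ℕ)) (N : ℕ) : Bool :=
  classes.sublists.all fun s =>
    !(s.map Prod.fst).contains v0 || !(N % (s.map Prod.snd).sum == 0) ||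
      (s.map Prod.snd).sum == 1 || (s.map Prod.snd).sum == N

/-- Maximality of a stabilizer from the sizes of its orbits. -/
theorem isCoatom_stabilizer {G β γ : Type*} [Group G] [Finite G] [MulAction G β] [DecidableEq γ]
    {x : β} (X : Finset β) (hx : x ∈ X) (hXinv : ∀ (g : G), ∀ y ∈ X, g • y ∈ X)
    (htr : ∀ y ∈ X, ∃ g : G, g • x = y) (h1 : 1 < X.card)
    (f : β → γ) (hsep : ∀ y ∈ X, ∀ z ∈ X, f y = f z →
      ∃ h ∈ MulAction.stabilizer G x, h • y = z)
    (classes : List (γ × ℕ)) (hnd : (classes.map Prod.fst).Nodup)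
    (hcl : ∀ y ∈ X, f y ∈ classes.map Prod.fst)
    (hcount : ∀ p ∈ classes, (X.filter fun y => f y = p.1).card = p.2)
    (hblocks : noBlocks (f x) classes X.card = true) :
    IsCoatom (MulAction.stabilizer G x) := by
  classical
  have horbG : MulAction.orbit G x = ↑X := by
    ext y
    exact ⟨by rintro ⟨g, rfl⟩; exact hXinv g x hx, fun hy => htr y hy⟩
  have hindex : (MulAction.stabilizer G x).index = X.card := by
    rw [MulAction.index_stabilizer, horbG, Set.ncard_coe_finset]
  refine ⟨fun htop => ?_, fun K hK => ?_⟩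
  · rw [htop, Subgroup.index_top] at hindex
    omega
  set B : Finset β := X.filter fun y => y ∈ MulAction.orbit K x with hB
  have hBcl : ∀ y ∈ B, ∀ z ∈ X, f y = f z → z ∈ B := by
    intro y hy z hz e
    rw [hB, Finset.mem_filter] at hy ⊢
    obtain ⟨h, hh, rfl⟩ := hsep y hy.1 z hz e
    obtain ⟨k, rfl⟩ := hy.2
    exact ⟨hz, ⟨⟨h * k.1, mul_mem (hK.le hh) k.2⟩, mul_smul h k.1 x⟩⟩
  have hBorb : (↑B : Set β) = MulAction.orbit K x := by
    ext y
    simp only [hB, Finset.coe_filter, Set.mem_ofPred_eq]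
    exact ⟨fun h => h.2, fun h => ⟨by obtain ⟨k, rfl⟩ := h; exact hXinv k.1 x hx, h⟩⟩
  have hrel : (MulAction.stabilizer G x).relIndex K = B.card := by
    rw [← Set.ncard_coe_finset, hBorb, ← MulAction.index_stabilizer, Subgroup.relIndex]
    rfl
  have hdvd : B.card ∣ X.card := by
    rw [← hrel, ← hindex]
    exact Subgroup.relIndex_dvd_index_of_le hK.le
  set s := classes.filter fun p => decide (∃ y ∈ B, f y = p.1) with hs
  have hsum : (s.map Prod.snd).sum = B.card := by
    have hnd' : (s.map Prod.fst).Nodup :=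
      List.Nodup.sublist (List.Sublist.map _ List.filter_sublist) hnd
    have hmem : ∀ y ∈ B, f y ∈ (s.map Prod.fst).toFinset := by
      intro y hy
      obtain ⟨p, hp, e⟩ := List.mem_map.1 (hcl y (Finset.mem_filter.1 hy).1)
      rw [List.mem_toFinset, List.mem_map]
      exact ⟨p, List.mem_filter.2 ⟨hp, by simpa using ⟨y, hy, e.symm⟩⟩, e⟩
    rw [Finset.card_eq_sum_card_fiberwise (t := (s.map Prod.fst).toFinset) (f := f) hmem,
      List.sum_toFinset _ hnd', List.map_map]
    congr 1
    refine List.map_congr_left fun p hp => ?_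
    obtain ⟨hp1, hp2⟩ := List.mem_filter.1 hp
    rw [decide_eq_true_eq] at hp2
    obtain ⟨y, hy, e⟩ := hp2
    rw [Function.comp_apply, ← hcount p hp1]
    congr 1
    ext z
    rw [Finset.mem_filter, Finset.mem_filter]
    exact ⟨fun hz => ⟨hBcl y hy z hz.1 (e.trans hz.2.symm), hz.2⟩,
      fun hz => ⟨(Finset.mem_filter.1 hz.1).1, hz.2⟩⟩
  have hxB : x ∈ B := Finset.mem_filter.2 ⟨hx, MulAction.mem_orbit_self x⟩
  have hall := List.all_eq_true.1 hblocks s (List.mem_sublists.2 List.filter_sublist)
  have hv0 : (s.map Prod.fst).contains (f x) = true := by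
    rw [List.contains_iff_mem]
    obtain ⟨p, hp, e⟩ := List.mem_map.1 (hcl x hx)
    exact List.mem_map.2 ⟨p, List.mem_filter.2 ⟨hp, by simpa using ⟨x, hxB, e.symm⟩⟩, e⟩
  simp only [hv0, hsum, Bool.not_true, Bool.false_or, Bool.or_eq_true, Bool.not_eq_true',
    beq_eq_false_iff_ne, beq_iff_eq] at hall
  rcases hall with (h | h) | h
  · exact absurd (Nat.mod_eq_zero_of_dvd hdvd) h
  · exact absurd (Subgroup.relIndex_eq_one.1 (hrel.trans h)) hK.not_ge
  · rw [eq_top_iff]
    intro g _
    have hmem : g • x ∈ MulAction.orbit K x := by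
      rw [← hBorb, Finset.mem_coe,
        show B = X from Finset.eq_of_subset_of_card_le (Finset.filter_subset _ X) h.ge]
      exact hXinv g x hx
    obtain ⟨k, hk⟩ := hmem
    have hst : k.1⁻¹ * g ∈ MulAction.stabilizer G x := by
      rw [MulAction.mem_stabilizer_iff, mul_smul, inv_smul_eq_iff]
      exact hk.symm
    simpa using mul_mem k.2 (hK.le hst)

end Cfsg.Agent.Golay
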