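import Cfsg.Prelude.Def_Spor_Ru
import Cfsg.Agent.Golay.Bits
import Cfsg.Agent.Golay.RuData

/-! The lattice of rank 28 over the Gaussian integers is even and has minimum norm 16 as stored. -/

set_option autoImplicit false
set_option maxRecDepth 30000

namespace Cfsg.Agent.Golay.RuLattice

open Cfsg.Spor RuData

/-- A real coordinate. -/
def fl (x : RuVec) (j : Fin 56) : ℤ :=
  if j.val % 2 = 0 then
    (x (⟨j.val / 8, by omega⟩, ⟨j.val / 2 % 4, Nat.mod_lt _ (by norm_num)⟩)).re
  else (x (⟨j.val / 8, by omega⟩, ⟨j.val / 2 % 4, Nat.mod_lt _ (by norm_num)⟩)).im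

/-- The reduction modulo four. -/
def v4 (x : RuVec) (j : Fin 56) : ZMod 4 := (fl x j : ZMod 4)

/-- A spanning vector. -/
def rv (i : ℕ) (j : Fin 56) : ZMod 4 := (((basisR.getD i []).getD j.val 0 : ℕ) : ZMod 4)

/-- A combination of spanning vectors. -/
def combo (l : List ℕ) (j : Fin 56) : ZMod 4 := (l.map fun i => rv i j).sum

theorem combo_append (a b : List ℕ) : combo (a ++ b) = combo a + combo b := by
  funext j; simp [combo]

/-- Being a combination. -/
def InSpan (w : Fin 56 → ZMod 4) : Prop := ∃ l : List ℕ, (∀ i ∈ l, i < 56) ∧ w = combo l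

theorem inSpan_zero : InSpan 0 := ⟨[], by simp, by funext j; simp [combo]⟩

theorem InSpan.add {a b : Fin 56 → ZMod 4} (ha : InSpan a) (hb : InSpan b) : InSpan (a + b) := by
  obtain ⟨l, hl, rfl⟩ := ha
  obtain ⟨m, hm, rfl⟩ := hb
  exact ⟨l ++ m, fun i hi => (List.mem_append.1 hi).elim (hl i) (hm i), (combo_append l m).symm⟩

theorem InSpan.neg {a : Fin 56 → ZMod 4} (ha : InSpan a) : InSpan (-a) := by
  have h3 : -a = a + (a + a) := by
    funext j
    exact (by decide : ∀ z : ZMod 4, -z = z + (z + z)) (a j)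
  rw [h3]; exact ha.add (ha.add ha)

theorem v4_zero : v4 0 = 0 := by
  funext j; simp [v4, fl]

theorem v4_add (x y : RuVec) : v4 (x + y) = v4 x + v4 y := by
  funext j
  simp only [v4, fl, Pi.add_apply]
  split_ifs <;> simp

theorem v4_neg (x : RuVec) : v4 (-x) = -v4 x := by
  funext j
  simp only [v4, fl, Pi.neg_apply]
  split_ifs <;> simp

/-- The comparison group. -/
def bigGroup : AddSubgroup RuVec where
  carrier := {x | InSpan (v4 x)}
  zero_mem' := by show InSpan (v4 0); rw [v4_zero]; exact inSpan_zero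
  add_mem' := by
    intro x y hx hy
    show InSpan (v4 (x + y))
    rw [v4_add]; exact InSpan.add hx hy
  neg_mem' := by
    intro x hx
    show InSpan (v4 (-x))
    rw [v4_neg]; exact InSpan.neg hx

/-- A signed permutation of coordinates modulo four. -/
def spm (k : ℕ) (w : Fin 56 → ZMod 4) (j : Fin 56) : ZMod 4 :=
  let e := (maps4.getD k []).getD j.val (0, 0)
  (e.2 : ZMod 4) * w ⟨e.1 % 56, Nat.mod_lt _ (by norm_num)⟩

/-- The five maps. -/
def ruMap : ℕ → RuVec → RuVec
  | 0, v => gI • v
  | 1, v => ruRj v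
  | 2, v => ruRk v
  | 3, v => ruSign v
  | _, v => ruShift v

theorem gI_mul_re (z : GaussianInt) : (gI * z).re = -z.im := by
  simp [gI, Zsqrtd.re_mul]

theorem gI_mul_im (z : GaussianInt) : (gI * z).im = z.re := by
  simp [gI, Zsqrtd.im_mul]

theorem three_eq (z : ℤ) : (3 : ZMod 4) * (z : ZMod 4) = ((-z : ℤ) : ZMod 4) := by
  rw [show (3 : ZMod 4) = -1 by decide, Int.cast_neg]; ring

theorem v4_map0 (x : RuVec) : v4 (gI • x) = spm 0 (v4 x) := by
  funext j
  fin_cases j <;>
    simp [v4, spm, fl, maps4, gI, Zsqrtd.re_mul, Zsqrtd.im_mul, three_eq, smul_eq_mul]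

theorem v4_map1 (x : RuVec) : v4 (ruRj x) = spm 1 (v4 x) := by
  funext j
  fin_cases j <;>
    simp [v4, spm, fl, maps4, ruRj, gI, Zsqrtd.re_mul, Zsqrtd.im_mul, three_eq]

theorem v4_map2 (x : RuVec) : v4 (ruRk x) = spm 2 (v4 x) := by
  funext j
  fin_cases j <;>
    simp [v4, spm, fl, maps4, ruRk, gI, Zsqrtd.re_mul, Zsqrtd.im_mul, three_eq]

theorem v4_map3 (x : RuVec) : v4 (ruSign x) = spm 3 (v4 x) := by
  funext j
  fin_cases j <;>
    simp [v4, spm, fl, maps4, ruSign, three_eq]

theorem v4_map4 (x : RuVec) : v4 (ruShift x) = spm 4 (v4 x) := by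
  funext j
  fin_cases j <;>
    simp [v4, spm, fl, maps4, ruShift]

/-- Check of one image certificate. -/
def closeOK (k i : ℕ) : Bool :=
  let c := closeCert.getD (k * 56 + i) []
  c.all (fun t => decide (t < 56)) &&
    (List.finRange 56).all fun j =>
      let e := (maps4.getD k []).getD j.val (0, 0)
      (e.2 * (basisR.getD i []).getD (e.1 % 56) 0) % 4 ==
        ((c.map fun t => (basisR.getD t []).getD j.val 0).sum) % 4

theorem closeOK_all : (List.range 5).all (fun k => (List.range 56).all fun i => closeOK k i) = true := by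
  decide +kernel

theorem combo_nat (l : List ℕ) (j : Fin 56) :
    combo l j = (((l.map fun t => (basisR.getD t []).getD j.val 0).sum : ℕ) : ZMod 4) := by
  induction l with
  | nil => simp [combo]
  | cons a l ih =>
    simp only [combo, List.map_cons, List.sum_cons, Nat.cast_add] at ih ⊢
    rw [ih]; rfl

theorem spm_combo (k : ℕ) (hk : k < 5) : ∀ l : List ℕ, (∀ i ∈ l, i < 56) → InSpan (spm k (combo l))
  | [], _ => by
    have : spm k (combo []) = 0 := by funext j; simp [spm, combo]
    rw [this]; exact inSpan_zero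
  | a :: l, hl => by
    have e : spm k (combo (a :: l)) = spm k (rv a) + spm k (combo l) := by
      funext j; simp [spm, combo, mul_add]
    rw [e]
    refine InSpan.add ?_ (spm_combo k hk l fun i hi => hl i (List.mem_cons_of_mem _ hi))
    have ha := hl a List.mem_cons_self
    have h := List.all_eq_true.1 (List.all_eq_true.1 closeOK_all k (List.mem_range.2 hk)) a
      (List.mem_range.2 ha)
    simp only [closeOK, Bool.and_eq_true, List.all_eq_true, decide_eq_true_eq, beq_iff_eq] at h
    refine ⟨_, h.1, funext fun j => ?_⟩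
    rw [combo_nat]
    have h2 := h.2 j (List.mem_finRange j)
    show _ * rv a _ = _
    rw [rv, ← Nat.cast_mul, ← ZMod.natCast_mod, ← ZMod.natCast_mod (List.sum _)]
    rw [h2]

/-- Check of one table certificate. -/
def tableOK : Bool :=
  (List.finRange 20).all fun i =>
    let e := table4.getD i.val ([], [])
    e.2.all (fun t => decide (t < 56)) &&
      (List.finRange 56).all fun j =>
        decide (((fl (ruTable.getD i.val 0) j) % 4).toNat = e.1.getD j.val 0) &&
          (e.1.getD j.val 0 % 4 == ((e.2.map fun t => (basisR.getD t []).getD j.val 0).sum) % 4)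

theorem tableOK_true : tableOK = true := by decide +kernel

theorem ruTable_length : ruTable.length = 20 := rfl

theorem lattice_le : ruLattice ≤ bigGroup := by
  refine sInf_le ⟨fun v hv => ?_, fun v hv => ?_⟩
  · obtain ⟨i, hi, rfl⟩ := List.getElem_of_mem hv
    have h := List.all_eq_true.1 tableOK_true ⟨i, ruTable_length ▸ hi⟩ (List.mem_finRange _)
    simp only [Bool.and_eq_true, List.all_eq_true, decide_eq_true_eq, beq_iff_eq] at h
    rw [List.getD_eq_getElem _ _ hi] at h
    refine ⟨_, h.1, funext fun j => ?_⟩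
    obtain ⟨h1, h2⟩ := h.2 j (List.mem_finRange j)
    rw [combo_nat, ← ZMod.natCast_mod (List.sum _), ← h2, ZMod.natCast_mod, ← h1]
    show ((fl (ruTable[i]) j : ℤ) : ZMod 4) = _
    rw [← ZMod.intCast_mod _ 4, ← Int.cast_natCast (R := ZMod 4),
      Int.toNat_of_nonneg (Int.emod_nonneg _ (by norm_num))]
    rfl
  · obtain ⟨l, hl, e⟩ := hv
    refine ⟨?_, ?_, ?_, ?_, ?_⟩
    · show InSpan (v4 (gI • v)); rw [v4_map0, e]; exact spm_combo 0 (by norm_num) l hl
    · show InSpan (v4 (ruRj v)); rw [v4_map1, e]; exact spm_combo 1 (by norm_num) l hl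
    · show InSpan (v4 (ruRk v)); rw [v4_map2, e]; exact spm_combo 2 (by norm_num) l hl
    · show InSpan (v4 (ruSign v)); rw [v4_map3, e]; exact spm_combo 3 (by norm_num) l hl
    · show InSpan (v4 (ruShift v)); rw [v4_map4, e]; exact spm_combo 4 (by norm_num) l hl

/-- Squares modulo eight. -/
def q8 (z : ZMod 4) : ZMod 8 := (z.val : ZMod 8) * z.val

/-- The doubling map. -/
def psi : ZMod 4 →+ ZMod 8 where
  toFun z := 2 * (z.val : ZMod 8)
  map_zero' := by simp
  map_add' := by decide

theorem q8_add : ∀ a b : ZMod 4, q8 (a + b) = q8 a + q8 b + psi (a * b) := by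
  show ∀ a b : ZMod 4, _ = _ + _ + 2 * ((a * b).val : ZMod 8)
  decide

theorem q8_cast (z : ℤ) : q8 (z : ZMod 4) = ((z ^ 2 : ℤ) : ZMod 8) := by
  have key : ∀ a : ZMod 8, q8 ((a.val : ℕ) : ZMod 4) = a ^ 2 := by decide
  have h := key (z : ZMod 8)
  rw [Int.cast_pow, ← h]
  congr 1
  rw [← Int.cast_natCast (R := ZMod 4), ZMod.intCast_eq_intCast_iff_dvd_sub, ZMod.val_intCast]
  have := Int.emod_add_mul_ediv z 8
  exact ⟨-(2 * (z / 8)), by push_cast; omega⟩

/-- Gram matrix checks on the spanning vectors. -/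
theorem gram_ok : ((List.range 56).all fun a =>
    ((List.range 56).all fun b => ((List.range 56).map fun j =>
        (basisR.getD a []).getD j 0 * (basisR.getD b []).getD j 0).sum % 4 == 0) &&
      ((List.range 56).map fun j =>
        ((basisR.getD a []).getD j 0 % 4) * ((basisR.getD a []).getD j 0 % 4)).sum % 8 == 0) = true := by
  decide +kernel

theorem sum_fin_range {M : Type*} [AddCommMonoid M] (f : ℕ → M) :
    ∑ j : Fin 56, f j.val = ((List.range 56).map f).sum := by
  rw [Fin.sum_univ_eq_sum_range f 56]; rfl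

theorem rv_gram {a b : ℕ} (ha : a < 56) (hb : b < 56) : ∑ j, rv a j * rv b j = 0 := by
  have h := List.all_eq_true.1 gram_ok a (List.mem_range.2 ha)
  simp only [Bool.and_eq_true, List.all_eq_true, List.mem_range, beq_iff_eq] at h
  have h2 := h.1 b hb
  simp only [rv]
  rw [Finset.sum_congr rfl fun j _ => (Nat.cast_mul _ _).symm, ← Nat.cast_sum,
    sum_fin_range fun j => (basisR.getD a []).getD j 0 * (basisR.getD b []).getD j 0,
    ← ZMod.natCast_mod, h2, Nat.cast_zero]

theorem rv_q8 {a : ℕ} (ha : a < 56) : ∑ j, q8 (rv a j) = 0 := by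
  have h := List.all_eq_true.1 gram_ok a (List.mem_range.2 ha)
  simp only [Bool.and_eq_true, List.all_eq_true, List.mem_range, beq_iff_eq] at h
  simp only [q8, rv, ZMod.val_natCast]
  rw [Finset.sum_congr rfl fun j _ => (Nat.cast_mul _ _).symm, ← Nat.cast_sum,
    sum_fin_range fun j => ((basisR.getD a []).getD j 0 % 4) * ((basisR.getD a []).getD j 0 % 4),
    ← ZMod.natCast_mod, h.2, Nat.cast_zero]

theorem dot_span {b : ℕ} (hb : b < 56) : ∀ l : List ℕ, (∀ i ∈ l, i < 56) → ∑ j, combo l j * rv b j = 0
  | [], _ => by simp [combo]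
  | a :: l, hl => by
    have e : ∀ j, combo (a :: l) j = rv a j + combo l j := fun j => by simp [combo]
    simp only [e, add_mul, Finset.sum_add_distrib]
    rw [rv_gram (hl a List.mem_cons_self) hb, dot_span hb l fun i hi => hl i (List.mem_cons_of_mem _ hi),
      add_zero]

theorem q8_span : ∀ l : List ℕ, (∀ i ∈ l, i < 56) → ∑ j, q8 (combo l j) = 0
  | [], _ => by simp [combo, q8]
  | a :: l, hl => by
    have e : ∀ j, combo (a :: l) j = rv a j + combo l j := fun j => by simp [combo]
    have hl' : ∀ i ∈ l, i < 56 := fun i hi => hl i (List.mem_cons_of_mem _ hi)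
    simp only [e, q8_add, Finset.sum_add_distrib]
    rw [rv_q8 (hl a List.mem_cons_self), q8_span l hl', ← map_sum]
    have h : ∑ j, rv a j * combo l j = 0 := by
      rw [Finset.sum_congr rfl fun j _ => mul_comm (rv a j) (combo l j)]
      exact dot_span (hl a List.mem_cons_self) l hl'
    rw [h, map_zero]; simp

/-- The parity of a residue. -/
def odd4 (z : ZMod 4) : Bool := z.val % 2 == 1

theorem odd4_add : ∀ a b : ZMod 4, odd4 (a + b) = (odd4 a != odd4 b) := by decide

/-- Exclusive or of the masks at odd entries. -/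
def sel : List (Fin 56 × ℕ) → (Fin 56 → ZMod 4) → ℕ
  | [], _ => 0
  | (p, r) :: l, w => (bif odd4 (w p) then r else 0) ^^^ sel l w

theorem sel_add : ∀ (l : List (Fin 56 × ℕ)) (a b : Fin 56 → ZMod 4), sel l (a + b) = sel l a ^^^ sel l b
  | [], _, _ => by simp [sel]
  | (p, r) :: l, a, b => by
    simp only [sel, Pi.add_apply, sel_add l a b, odd4_add]
    cases odd4 (a p) <;> cases odd4 (b p) <;>
      simp [Nat.xor_assoc, Nat.xor_left_comm]

/-- Unit masks. -/
def unitPairs : List (Fin 56 × ℕ) := (List.finRange 56).map fun j => (j, 2 ^ j.val)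

/-- Pivot rows. -/
def rowPairs : List (Fin 56 × ℕ) :=
  (pivots.zip rows2).map fun e => (⟨e.1 % 56, Nat.mod_lt _ (by norm_num)⟩, e.2)

theorem parity_basis : ∀ i < 56, sel unitPairs (rv i) = sel rowPairs (rv i) := by decide +kernel

theorem parity_span : ∀ l : List ℕ, (∀ i ∈ l, i < 56) → sel unitPairs (combo l) = sel rowPairs (combo l)
  | [], _ => by
    have : combo [] = fun _ => 0 := by funext j; simp [combo]
    rw [this]; decide +kernel
  | a :: l, hl => by
    have e : combo (a :: l) = rv a + combo l := by funext j; simp [combo]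
    rw [e, sel_add, sel_add, parity_basis a (hl a List.mem_cons_self),
      parity_span l fun i hi => hl i (List.mem_cons_of_mem _ hi)]

theorem testBit_sel : ∀ (l : List (Fin 56)) (w : Fin 56 → ZMod 4) (j : Fin 56), l.Nodup →
    (sel (l.map fun p => (p, 2 ^ p.val)) w).testBit j.val = (decide (j ∈ l) && odd4 (w j))
  | [], _, _, _ => by simp [sel]
  | p :: l, w, j, hn => by
    rw [List.map_cons, sel, Nat.testBit_xor, testBit_sel l w j (List.nodup_cons.1 hn).2]
    by_cases hjp : j = p
    · subst hjp
      have := (List.nodup_cons.1 hn).1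
      cases odd4 (w j) <;> simp [this]
    · have hne : p.val ≠ j.val := fun e => hjp (Fin.ext e.symm)
      cases odd4 (w p) <;> simp [hjp, hne, Nat.testBit_two_pow]

/-- The set bits below 56. -/
def bits56 (m : ℕ) : Finset (Fin 56) := Finset.univ.filter fun j => m.testBit j.val

/-- Deleting the lowest set bit. -/
def strip (m : ℕ) : ℕ := m &&& (m - 1)

theorem strip_le (m : ℕ) : strip m ≤ m := Nat.and_le_left

theorem bits_strip {m : ℕ} (hm : m < 2 ^ 56) (h0 : m ≠ 0) :
    (bits56 (strip m)).card < (bits56 m).card := by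
  refine Finset.card_lt_card (Finset.ssubset_iff_of_subset ?_ |>.2 ?_)
  · intro j hj
    simp only [bits56, strip, Finset.mem_filter, Nat.testBit_and, Bool.and_eq_true] at hj ⊢
    exact ⟨hj.1, hj.2.1⟩
  · by_contra hc
    push Not at hc
    have hlt : strip m < m := lt_of_le_of_lt Nat.and_le_right (by omega)
    refine hlt.ne (Nat.eq_of_testBit_eq fun i => ?_)
    rcases Nat.lt_or_ge i 56 with hi | hi
    · cases hb : m.testBit i
      · simp [strip, hb]
      · have := hc ⟨i, hi⟩ (by simp [bits56, hb])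
        simpa [bits56] using this
    · have h2 : (2 : ℕ) ^ 56 ≤ 2 ^ i := Nat.pow_le_pow_right (by norm_num) hi
      rw [Nat.testBit_eq_false_of_lt (lt_of_lt_of_le (hlt.trans hm) h2), Nat.testBit_eq_false_of_lt (lt_of_lt_of_le hm h2)]

theorem strip_iter : ∀ (k : ℕ) (m : ℕ), m < 2 ^ 56 → strip^[k] m ≠ 0 → k < (bits56 m).card
  | 0, m, hm, h => by
    have h0 : m ≠ 0 := h
    exact Nat.pos_of_ne_zero fun e => by have := bits_strip hm h0; omega
  | k + 1, m, hm, h => by
    rw [Function.iterate_succ_apply] at h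
    have h0 : m ≠ 0 := fun e => by
      subst e
      have hs : strip 0 = 0 := by simp [strip]
      rw [hs, Function.iterate_fixed hs k] at h
      exact h rfl
    have := strip_iter k (strip m) (lt_of_le_of_lt (strip_le m) hm) h
    have := bits_strip hm h0
    omega

theorem sel_lt : ∀ (l : List (Fin 56 × ℕ)) (w : Fin 56 → ZMod 4), (∀ e ∈ l, e.2 < 2 ^ 56) → sel l w < 2 ^ 56
  | [], _, _ => by simp [sel]
  | (p, r) :: l, w, hl => by
    rw [sel]
    refine Nat.xor_lt_two_pow ?_ (sel_lt l w fun e he => hl e (List.mem_cons_of_mem _ he))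
    cases odd4 (w p)
    · simp
    · exact hl (p, r) List.mem_cons_self

/-- Masks of the seven supports. -/
def supMasks : List ℕ := sup8.map fun s => (s.map (2 ^ ·)).sum

/-- A code word is empty, heavy, or one of the seven. -/
def wordOK (m : ℕ) : Bool :=
  match strip (strip (strip (strip (strip (strip (strip (strip m))))))) with
  | 0 => m == 0 || supMasks.contains m
  | _ + 1 => true

theorem wordOK_cases {m : ℕ} (hm : m < 2 ^ 56) (h : wordOK m = true) :
    (m = 0 ∨ 8 < (bits56 m).card) ∨ m ∈ supMasks := by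
  unfold wordOK at h
  split at h
  · simp only [Bool.or_eq_true, beq_iff_eq, List.contains_iff_mem] at h
    tauto
  · rename_i n hn
    exact Or.inl (Or.inr (strip_iter 8 m hm (by
      simp only [Function.iterate_succ_apply, Function.iterate_zero_apply]
      omega)))

/-- Search over all combinations of at most `k` rows. -/
def dfs : List ℕ → ℕ → ℕ → Bool
  | [], _, acc => wordOK acc
  | r :: rs, k, acc => dfs rs k acc && (match k with
    | 0 => true
    | k' + 1 => dfs rs k' (acc ^^^ r))

theorem dfs_ok : dfs rows2 8 0 = true := by decide +kernel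

theorem dfs_spec : ∀ (l : List (Fin 56 × ℕ)) (k acc : ℕ) (w : Fin 56 → ZMod 4),
    dfs (l.map Prod.snd) k acc = true → (l.filter fun e => odd4 (w e.1)).length ≤ k →
    wordOK (acc ^^^ sel l w) = true
  | [], k, acc, w, h, _ => by simpa [sel, dfs] using h
  | (p, r) :: l, k, acc, w, h, hc => by
    simp only [List.map_cons, dfs, Bool.and_eq_true] at h
    cases hp : odd4 (w p)
    · rw [List.filter_cons_of_neg (by simp [hp])] at hc
      simpa [sel, hp] using dfs_spec l k acc w h.1 hc
    · simp only [List.filter_cons, hp, if_true, List.length_cons] at hc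
      obtain ⟨k', rfl⟩ : ∃ k', k = k' + 1 := ⟨k - 1, by omega⟩
      have := dfs_spec l k' (acc ^^^ r) w h.2 (by omega)
      simpa [sel, hp, Nat.xor_assoc] using this

theorem rowPairs_ok : rowPairs.map Prod.snd = rows2 ∧ (rowPairs.map Prod.fst).Nodup := by decide +kernel

/-- Squares of coordinates add up to the stored norm. -/
theorem ruNorm_eq (x : RuVec) : ruNorm x = ∑ j, fl x j ^ 2 := by
  rw [ruNorm, Fintype.sum_prod_type]
  simp only [Fin.sum_univ_succ, Fin.sum_univ_zero, Finset.sum_empty]
  simp [fl, Zsqrtd.norm_def]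
  ring

theorem eight_dvd {x : RuVec} (hx : x ∈ ruLattice) : (8 : ℤ) ∣ ruNorm x := by
  obtain ⟨l, hl, e⟩ := lattice_le hx
  have h := q8_span l hl
  rw [← e] at h
  simp only [v4, q8_cast, ← Int.cast_sum, ← ruNorm_eq] at h
  simpa using (ZMod.intCast_zmod_eq_zero_iff_dvd _ 8).1 h

/-- Two columns of the spanning list are different modulo two. -/
theorem columns_distinct : ((List.finRange 56).all fun a => (List.finRange 56).all fun b =>
    decide (a = b) || (List.range 56).any fun i => ((basisR.getD i []).getD a.val 0 + (basisR.getD i []).getD b.val 0) % 2 == 1) = true := by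
  decide +kernel

/-- The sign patterns on the seven supports are outside the lattice. -/
theorem signs_excluded : ((List.range 7).all fun k => (List.range 256).all fun s =>
    (List.range 56).any fun i =>
      !(((List.range 8).map fun t => (bif s.testBit t then 1 else 3) *
        (basisR.getD i []).getD ((sup8.getD k []).getD t 0) 0).sum % 4 == 0)) = true := by
  decide +kernel

theorem sup8_ok : sup8.length = 7 ∧ ∀ k < 7, (sup8.getD k []).length = 8 ∧ (sup8.getD k []).Nodup ∧
    (∀ t ∈ sup8.getD k [], t < 56) ∧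
    ∀ j : Fin 56, (supMasks.getD k 0).testBit j.val = (sup8.getD k []).contains j.val := by
  decide +kernel

set_option maxHeartbeats 2000000 in
theorem norm_ne_eight {x : RuVec} (hx : x ∈ ruLattice) : ruNorm x ≠ 8 := by
  intro h8
  rw [ruNorm_eq] at h8
  obtain ⟨l, hl, e⟩ := lattice_le hx
  set w := v4 x with hw
  have hodd : ∀ j, odd4 (w j) = true ↔ ¬ (2 : ℤ) ∣ fl x j := by
    intro j
    have key : ∀ a : ZMod 4, odd4 a = true ↔ (a.val : ℕ) % 2 = 1 := by decide
    rw [key, hw, v4]
    have h2 : (((fl x j : ZMod 4).val : ℕ) : ℤ) = fl x j % 4 := ZMod.val_intCast (n := 4) (fl x j)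
    omega
  have hbit : ∀ j : Fin 56, (sel unitPairs w).testBit j.val = odd4 (w j) := fun j => by
    rw [unitPairs, testBit_sel _ _ _ (List.nodup_finRange 56)]; simp
  set O := (Finset.univ : Finset (Fin 56)).filter fun j => odd4 (w j) = true
  have hO8 : O.card ≤ 8 := by
    have h1 : ∀ j ∈ O, (1 : ℤ) ≤ fl x j ^ 2 := fun j hj => by
      have : fl x j ≠ 0 := fun e0 => (hodd j).1 (Finset.mem_filter.1 hj).2 (e0 ▸ dvd_zero 2)
      have := mul_self_pos.2 this
      rw [sq]; omega
    have h2 := Finset.sum_le_sum h1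
    have h3 := Finset.sum_le_sum_of_subset_of_nonneg (f := fun j => fl x j ^ 2) O.subset_univ
      (fun j _ _ => sq_nonneg _)
    simp only [Finset.sum_const, nsmul_eq_mul, mul_one] at h2
    omega
  have hcnt : (rowPairs.filter fun e => odd4 (w e.1)).length ≤ 8 := by
    refine le_trans ?_ hO8
    have hnd := rowPairs_ok.2.sublist (List.Sublist.map Prod.fst (List.filter_sublist (p := fun e => odd4 (w e.1)) (l := rowPairs)))
    rw [← List.length_map (f := Prod.fst), ← List.toFinset_card_of_nodup hnd]
    refine Finset.card_le_card fun j hj => ?_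
    rw [List.mem_toFinset, List.mem_map] at hj
    obtain ⟨p, hp, rfl⟩ := hj
    exact Finset.mem_filter.2 ⟨Finset.mem_univ _, by simpa using (List.mem_filter.1 hp).2⟩
  have hword := dfs_spec rowPairs 8 0 w (by rw [rowPairs_ok.1]; exact dfs_ok) hcnt
  rw [Nat.zero_xor, e, ← parity_span l hl, ← e] at hword
  replace hword := wordOK_cases (sel_lt unitPairs w (by decide +kernel)) hword
  have hdot : ∀ i < 56, ∑ j, w j * rv i j = 0 := fun i hi => by rw [e]; exact dot_span hi l hl
  rcases hword with (h0 | hbig) | hsup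
  · -- all entries even
    have hev : ∀ j, (2 : ℤ) ∣ fl x j := fun j => by
      by_contra hc
      have := (hodd j).2 hc
      rw [← hbit j, h0] at this
      simp at this
    have hy : ∀ j, fl x j = 2 * (fl x j / 2) := fun j => by have := hev j; omega
    set y : Fin 56 → ℤ := fun j => fl x j / 2
    have hy' : ∀ j, fl x j = 2 * y j := hy
    have hsq : ∑ j, y j ^ 2 = 2 := by
      have : ∑ j, fl x j ^ 2 = 4 * ∑ j, y j ^ 2 := by
        rw [Finset.mul_sum]; exact Finset.sum_congr rfl fun j _ => by rw [hy' j]; ring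
      omega
    have hv : ∀ j, y j = 0 ∨ y j = 1 ∨ y j = -1 := fun j => by
      have h1 : y j ^ 2 ≤ 2 := hsq ▸ Finset.single_le_sum (fun i _ => sq_nonneg (y i)) (Finset.mem_univ j)
      have h2 : y j < 2 := by nlinarith
      have h3 : -2 < y j := by nlinarith
      omega
    have hsupp : ((Finset.univ : Finset (Fin 56)).filter fun j => y j ≠ 0).card = 2 := by
      have : ∀ j, y j ^ 2 = if y j ≠ 0 then 1 else 0 := fun j => by
        rcases hv j with e' | e' | e' <;> simp [e']
      rw [Finset.sum_congr rfl fun j _ => this j, Finset.sum_boole] at hsq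
      exact_mod_cast hsq
    obtain ⟨a, b, hab, hset⟩ := Finset.card_eq_two.1 hsupp
    have hcol := List.all_eq_true.1 (List.all_eq_true.1 columns_distinct a (List.mem_finRange a)) b
      (List.mem_finRange b)
    simp only [Bool.or_eq_true, decide_eq_true_eq, List.any_eq_true, List.mem_range, beq_iff_eq] at hcol
    obtain ⟨i, hi, hpar⟩ := hcol.resolve_left hab
    have h2y : ∀ j, w j = if j = a ∨ j = b then 2 else 0 := fun j => by
      have hm := congrArg (fun s : Finset (Fin 56) => j ∈ s) hset
      simp only [Finset.mem_filter, Finset.mem_univ, true_and, Finset.mem_insert, Finset.mem_singleton,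
        eq_iff_iff] at hm
      rw [hw, v4, hy' j]
      rcases hv j with e' | e' | e' <;> rw [e']
      · rw [if_neg (fun hc => hm.2 hc e')]; simp
      · rw [if_pos (hm.1 (by rw [e']; norm_num))]; rfl
      · rw [if_pos (hm.1 (by rw [e']; norm_num))]; rfl
    have hd := hdot i hi
    simp only [h2y, ite_mul, zero_mul] at hd
    rw [← Finset.sum_filter, show (Finset.univ.filter fun j : Fin 56 => j = a ∨ j = b) = {a, b} by
      ext j; simp, Finset.sum_pair hab, ← mul_add, rv, rv, ← Nat.cast_add] at hd
    have h4 : ((2 * ((basisR.getD i []).getD a.val 0 + (basisR.getD i []).getD b.val 0) : ℕ) : ZMod 4) = 0 := by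
      rw [Nat.cast_mul]; exact hd
    rw [ZMod.natCast_eq_zero_iff] at h4
    omega
  · rw [bits56] at hbig
    have : ((Finset.univ : Finset (Fin 56)).filter fun j => (sel unitPairs w).testBit j.val) = O := by
      ext j; simp [O, hbit j]
    rw [this] at hbig
    omega
  · obtain ⟨k, hk, hkm⟩ := List.getElem_of_mem hsup
    have hk7 : k < 7 := by simpa [supMasks, sup8_ok.1] using hk
    obtain ⟨hlen, hnd, hlt, hmask⟩ := sup8_ok.2 k hk7
    set s8 := sup8.getD k []
    have hOj : ∀ j : Fin 56, odd4 (w j) = s8.contains j.val := fun j => by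
      rw [← hbit j, ← hkm, ← hmask j, List.getD_eq_getElem _ _ hk]
    let f : Fin 8 → Fin 56 := fun t => ⟨s8[t.val]'(by omega), hlt _ (List.getElem_mem _)⟩
    have hf : Function.Injective f := fun t u h' => Fin.ext
      ((hnd.getElem_inj_iff).1 (congrArg Fin.val h'))
    have hfodd : ∀ t, ¬ (2 : ℤ) ∣ fl x (f t) := fun t => by
      rw [← hodd, hOj, List.contains_iff_mem]; exact List.getElem_mem _
    set I := (Finset.univ : Finset (Fin 8)).image f
    have hI : I.card = 8 := by rw [Finset.card_image_of_injective _ hf]; simp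
    have hge : ∀ j ∈ I, (1 : ℤ) ≤ fl x j ^ 2 := fun j hj => by
      obtain ⟨t, -, rfl⟩ := Finset.mem_image.1 hj
      have : fl x (f t) ≠ 0 := fun e0 => hfodd t (e0 ▸ dvd_zero 2)
      have := mul_self_pos.2 this
      rw [sq]; omega
    have hsum := Finset.sum_add_sum_compl I fun j => fl x j ^ 2
    have h1 := Finset.sum_le_sum hge
    simp only [Finset.sum_const, nsmul_eq_mul, mul_one, hI] at h1
    have h0c : ∀ j, j ∉ I → fl x j = 0 := fun j hj => by
      have h2 : ∑ j ∈ Iᶜ, fl x j ^ 2 = 0 :=
        le_antisymm (by push_cast at h1; omega) (Finset.sum_nonneg fun j _ => sq_nonneg _)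
      have := (Finset.sum_eq_zero_iff_of_nonneg fun j _ => sq_nonneg (fl x j)).1 h2 j
        (Finset.mem_compl.2 hj)
      exact pow_eq_zero_iff (n := 2) (by norm_num) |>.1 this
    have h1i : ∀ t, fl x (f t) = 1 ∨ fl x (f t) = -1 := fun t => by
      have h2 : ∑ j ∈ I, (fl x j ^ 2 - 1) = 0 := by
        have hc0 : ∑ j ∈ Iᶜ, fl x j ^ 2 = 0 :=
          Finset.sum_eq_zero fun j hj => by rw [h0c j (Finset.mem_compl.1 hj)]; norm_num
        rw [Finset.sum_sub_distrib, Finset.sum_const, hI]
        simp; omega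
      have := (Finset.sum_eq_zero_iff_of_nonneg fun j hj => by have := hge j hj; omega).1 h2 (f t)
        (Finset.mem_image_of_mem f (Finset.mem_univ t))
      exact sq_eq_one_iff.1 (by omega)
    let s : ℕ := ∑ t : Fin 8, if fl x (f t) = 1 then 2 ^ t.val else 0
    have key : ∀ g : Fin 8 → Bool, (∑ t : Fin 8, if g t then 2 ^ t.val else 0) < 256 ∧
        ∀ t : Fin 8, (∑ u : Fin 8, if g u then 2 ^ u.val else 0).testBit t.val = g t := by
      decide +kernel
    obtain ⟨hs256, hsbit⟩ : s < 256 ∧ ∀ t : Fin 8, s.testBit t.val = decide (fl x (f t) = 1) := by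
      have := key fun t => decide (fl x (f t) = 1)
      simpa [s] using this
    have hex := List.all_eq_true.1 (List.all_eq_true.1 signs_excluded k (List.mem_range.2 hk7)) s
      (List.mem_range.2 hs256)
    simp only [List.any_eq_true, List.mem_range, Bool.not_eq_true', beq_eq_false_iff_ne, ne_eq] at hex
    obtain ⟨i, hi, hne⟩ := hex
    apply hne
    have hd := hdot i hi
    rw [← Finset.sum_subset I.subset_univ (fun j _ hj => by rw [hw, v4, h0c j hj]; simp),
      Finset.sum_image (fun a _ b _ hab => hf hab)] at hd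
    have hterm : ∀ t : Fin 8, w (f t) * rv i (f t) =
        ((((bif s.testBit t.val then 1 else 3) * (basisR.getD i []).getD (s8.getD t.val 0) 0 : ℕ)) : ZMod 4) := by
      intro t
      rw [Nat.cast_mul, List.getD_eq_getElem s8 0 (by omega), hsbit t, hw, v4, rv]
      congr 1
      rcases h1i t with e' | e' <;> simp [e']
      rfl
    rw [Finset.sum_congr rfl fun t _ => hterm t, ← Nat.cast_sum,
      Fin.sum_univ_eq_sum_range (fun t => (bif s.testBit t then 1 else 3) *
        (basisR.getD i []).getD (s8.getD t 0) 0) 8, ZMod.natCast_eq_zero_iff] at hd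
    obtain ⟨m, hm⟩ := hd
    show ((List.range 8).map _).sum % 4 = 0
    have : ((List.range 8).map fun t => (bif s.testBit t then 1 else 3) *
        (basisR.getD i []).getD (s8.getD t 0) 0).sum = 4 * m := by
      rw [← hm]; rfl
    refine (congrArg (· % 4) ?_).trans (Nat.mul_mod_right 4 m)
    exact this

theorem norm_pos {x : RuVec} (h0 : x ≠ 0) : 0 < ruNorm x := by
  rw [ruNorm]
  obtain ⟨p, hp⟩ := Function.ne_iff.1 h0
  refine Finset.sum_pos' (fun q _ => GaussianInt.norm_nonneg _) ⟨p, Finset.mem_univ p, ?_⟩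
  exact GaussianInt.norm_pos.2 hp

theorem ru_lattice_facts : (∀ x ∈ ruLattice, (8 : ℤ) ∣ ruNorm x) ∧ (∀ x ∈ ruLattice, ruNorm x ≠ 8) ∧
    (∀ x ∈ ruLattice, x ≠ 0 → 16 ≤ ruNorm x) ∧ ∃ x ∈ ruLattice, ruNorm x = 16 := by
  refine ⟨fun x hx => eight_dvd hx, fun x hx => norm_ne_eight hx, fun x hx h0 => ?_, ?_⟩
  · have := eight_dvd hx
    have := norm_ne_eight hx
    have := norm_pos h0
    omega
  · refine ⟨ruTable.getD 0 0, ?_, by decide +kernel⟩
    rw [ruLattice, AddSubgroup.mem_sInf]
    intro L hL
    refine hL.1 _ ?_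
    rw [List.getD_eq_getElem _ _ (by rw [ruTable_length]; norm_num)]
    exact List.getElem_mem _

end Cfsg.Agent.Golay.RuLattice
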