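import Cfsg.Agent.Golay.MaskOrbits

/-! Orbits of small point sets: certificates. -/

set_option autoImplicit false

namespace Cfsg.Agent.Golay

/-- Fixed sets for `duad`. -/
def duadFix : List ℕ := [8388609]

/-- Generators for `duad`. -/
def duadGens : List ℕ := [23593040321817369512523307309735031, 23706909640397367047616158698461239]

/-- Octads containing the fixed points of `duad`. -/
def duadOcts : List ℕ := [13062145, 9347075, 11100169, 14716939, 8966165, 12656663, 10846245, 8536111, 15335473, 8663097, 9506893, 11575377, 13893731, 14254209, 9465987, 9830549, 11010247, 12599513, 8593633, 11731203, 9748745, 9969957, 12747077, 9240913, 10506593, 14950785, 9048457, 8421811, 12325377, 13771273, 9519665, 8675909, 8524371, 8946281, 10666625, 8716939, 12587685, 8499969, 13124355, 10486557, 10630149, 13370381, 10765331, 8619033, 12641313, 8983587, 10110017, 11535529, 8688833, 13636881, 8398155, 8471941,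 9471495, 14747201, 8922769, 8783649, 15747077, 9963547, 9607201, 13121601, 8505411, 10881097, 8431757, 10557585, 9193633, 8657159, 8546577, 12650793, 9112069, 12880401, 10496547, 9440193, 9776129, 8391797, 12717187, 11046145, 8412681]

set_option maxRecDepth 20000 in
/-- Forests for `duad`. -/
def duadRoots : List (ℕ × OrbTree) := [(3, (.node 0 (.node 0 (.node 1 (.node 0 (.node 1 (.node 0 .nil (.node 1 (.node 1 .nil .nil) .nil)) .nil) (.node 1 (.node 0 (.node 0 .nil (.node 1 (.node 0 (.node 0 .nil .nil) .nil) .nil)) (.node 1 (.node 0 (.node 0 .nil .nil) (.node 1 (.node 1 .nil .nil) .nil)) .nil)) .nil)) .nil) (.node 1 (.node 0 (.node 0 (.node 0 (.node 0 .nil .nil) (.node 1 (.node 0 (.node 0 .nil .nil) .nil) .nil)) (.node 1 (.node 0 (.node 0 .nil .nil) (.node 1 (.node 1 .nil .nil) .nil)) .nil)) (.node 1 (.node 0 (.node 1 .nil .nil) (.node 1 (.node 0 .nil .nil) .nil)) .nil)) .nil)) (.node 1 (.node 0 (.node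 0 (.node 1 (.node 0 .nil .nil) .nil) (.node 1 .nil .nil)) .nil) .nil))), (8388609, .nil), (6, (.node 0 (.node 0 (.node 0 (.node 0 (.node 0 (.node 1 (.node 0 (.node 0 (.node 1 .nil .nil) (.node 1 .nil .nil)) .nil) .nil) (.node 1 (.node 0 (.node 0 .nil (.node 1 (.node 0 (.node 0 .nil (.node 1 .nil .nil)) (.node 1 (.node 1 .nil .nil) .nil)) .nil)) (.node 1 (.node 0 .nil .nil) .nil)) .nil)) (.node 1 (.node 0 (.node 0 (.node 0 (.node 1 (.node 0 .nil (.node 1 (.node 0 .nil .nil) .nil)) .nil) .nil) (.node 1 (.node 1 (.node 0 (.node 0 (.node 1 .nil .nil) (.node 1 .nil .nil)) .nil) .nil) .nil)) .nil) .nil)) (.node 1 (.node 0 (.node 0 (.node 0 (.node 1 (.node 0 .nil (.node 1 (.node 1 .nil .nil) .nil)) .nil) (.node 1 (.node 0 (.node 1 .nil .nil) (.node 1 .nil .nil)) .nil)) (.node 1 (.node 0 (.node 0 (.node 1 .nil .nil) (.node 1 (.node 1 .nil .nil) .nil)) (.node 1 (.node 0 (.node 0 (.node 0 .nil .nil) (.node 1 (.node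 0 (.node 1 .nil .nil) .nil) .nil)) (.node 1 (.node 0 .nil (.node 1 (.node 0 .nil (.node 1 .nil .nil)) .nil)) .nil)) .nil)) .nil)) (.node 1 (.node 0 (.node 0 (.node 0 .nil (.node 1 (.node 1 .nil .nil) .nil)) .nil) (.node 1 (.node 0 .nil (.node 1 (.node 0 (.node 0 .nil .nil) (.node 1 .nil .nil)) .nil)) .nil)) .nil)) .nil)) (.node 1 (.node 0 (.node 0 (.node 1 (.node 0 (.node 0 (.node 0 (.node 0 .nil .nil) .nil) (.node 1 (.node 0 (.node 0 .nil .nil) (.node 1 (.node 1 .nil .nil) .nil)) .nil)) (.node 1 (.node 0 .nil (.node 1 .nil .nil)) .nil)) .nil) (.node 1 (.node 0 (.node 0 (.node 0 (.node 1 .nil .nil) (.node 1 (.node 0 .nil (.node 1 (.node 1 .nil .nil) .nil)) .nil)) .nil) .nil) .nil)) (.node 1 (.node 0 .nil (.node 1 (.node 0 (.node 0 (.node 1 (.node 0 .nil (.node 1 .nil .nil)) .nil) (.node 1 (.node 1 .nil .nil) .nil)) (.node 1 (.node 0 (.node 0 .nil (.node 1 .nil .nil)) (.node 1 (.node 1 .nil .nil) .nil))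 .nil)) .nil)) .nil)) .nil)) (.node 1 (.node 0 (.node 0 (.node 0 (.node 0 (.node 1 (.node 1 .nil .nil) .nil) (.node 1 (.node 0 (.node 0 .nil .nil) (.node 1 (.node 1 (.node 0 (.node 0 .nil .nil) (.node 1 .nil .nil)) .nil) .nil)) .nil)) (.node 1 (.node 0 (.node 0 (.node 0 (.node 0 .nil (.node 1 .nil .nil)) (.node 1 (.node 0 (.node 0 .nil .nil) .nil) .nil)) (.node 1 (.node 0 .nil .nil) .nil)) (.node 1 (.node 0 (.node 0 (.node 1 .nil .nil) (.node 1 (.node 0 .nil .nil) .nil)) (.node 1 (.node 1 (.node 0 (.node 1 .nil .nil) (.node 1 (.node 0 .nil (.node 1 .nil .nil)) .nil)) .nil) .nil)) .nil)) .nil)) (.node 1 (.node 0 (.node 0 (.node 0 (.node 0 (.node 0 .nil (.node 1 (.node 1 .nil .nil) .nil)) .nil) (.node 1 (.node 0 (.node 0 .nil .nil) .nil) .nil)) (.node 1 (.node 1 (.node 0 (.node 0 .nil .nil) (.node 1 (.node 1 .nil .nil) .nil)) .nil) .nil)) (.node 1 (.node 1 (.node 0 (.node 1 (.node 0 .nil .nil) .nil) (.node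 1 (.node 0 (.node 0 (.node 1 .nil .nil) .nil) .nil) .nil)) .nil) .nil)) .nil)) (.node 1 (.node 0 (.node 0 (.node 0 (.node 0 (.node 0 .nil (.node 1 (.node 0 .nil .nil) .nil)) (.node 1 (.node 1 (.node 0 .nil .nil) .nil) .nil)) (.node 1 (.node 0 (.node 1 (.node 1 (.node 0 .nil .nil) .nil) .nil) .nil) .nil)) (.node 1 (.node 1 (.node 0 (.node 1 (.node 0 .nil (.node 1 (.node 1 .nil .nil) .nil)) .nil) (.node 1 (.node 0 .nil (.node 1 .nil .nil)) .nil)) .nil) .nil)) (.node 1 (.node 0 (.node 0 (.node 1 (.node 0 (.node 1 (.node 0 .nil .nil) .nil) .nil) .nil) (.node 1 (.node 0 (.node 0 .nil (.node 1 (.node 1 .nil .nil) .nil)) (.node 1 (.node 1 (.node 0 .nil .nil) .nil) .nil)) .nil)) (.node 1 (.node 0 .nil (.node 1 (.node 0 (.node 0 .nil (.node 1 .nil .nil)) .nil) .nil)) .nil)) .nil)) .nil)) .nil)))]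

/-- Fixed sets for `triad`. -/
def triadFix : List ℕ := [8388611]

/-- Generators for `triad`. -/
def triadGens : List ℕ := [53766279124223602371410514986313751, 10610595308071338725353944054478561]

/-- Octads containing the fixed points of `triad`. -/
def triadOcts : List ℕ := [9347075, 14716939, 12656663, 8536111, 13893731, 9465987, 11010247, 11731203, 8421811, 8524371, 8716939, 13124355, 10765331, 8983587, 8398155, 9471495, 9963547, 8505411, 8657159, 10496547, 12717187]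

set_option maxRecDepth 20000 in
/-- Forests for `triad`. -/
def triadRoots : List (ℕ × OrbTree) := [(7, (.node 0 (.node 0 (.node 1 (.node 0 (.node 0 (.node 1 (.node 0 .nil .nil) .nil) .nil) (.node 1 (.node 0 (.node 0 (.node 1 (.node 1 .nil .nil) .nil) (.node 1 (.node 0 (.node 1 (.node 1 .nil .nil) .nil) (.node 1 .nil .nil)) .nil)) (.node 1 (.node 0 .nil (.node 1 (.node 0 (.node 1 .nil .nil) (.node 1 (.node 0 .nil .nil) .nil)) .nil)) .nil)) .nil)) .nil) (.node 1 (.node 0 (.node 0 (.node 1 (.node 1 .nil .nil) .nil) (.node 1 (.node 0 (.node 0 .nil .nil) (.node 1 (.node 1 (.node 0 .nil .nil) .nil) .nil)) .nil)) (.node 1 (.node 0 (.node 1 (.node 0 (.node 0 .nil .nil) (.node 1 .nil .nil)) .nil) (.node 1 (.node 0 (.node 0 .nil (.node 1 (.node 0 .nil (.node 1 .nil .nil)) .nil)) .nil) .nil)) .nil)) .nil)) (.node 1 (.node 0 (.node 0 (.node 1 (.node 0 .nil (.node 1 (.node 1 (.node 0 .nil (.node 1 .nil .nil)) .nil)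 .nil)) .nil) (.node 1 (.node 0 (.node 0 (.node 1 (.node 1 .nil .nil) .nil) .nil) (.node 1 .nil .nil)) .nil)) .nil) .nil))), (8388611, .nil), (13, (.node 0 (.node 0 (.node 1 (.node 0 (.node 0 (.node 1 (.node 0 (.node 0 (.node 1 .nil .nil) (.node 1 (.node 0 (.node 0 (.node 1 (.node 0 .nil .nil) .nil) (.node 1 (.node 0 .nil (.node 1 (.node 1 .nil .nil) .nil)) .nil)) (.node 1 (.node 0 (.node 0 .nil (.node 1 (.node 1 .nil .nil) .nil)) (.node 1 .nil .nil)) .nil)) .nil)) (.node 1 (.node 0 .nil (.node 1 (.node 0 (.node 0 (.node 1 (.node 0 .nil .nil) .nil) (.node 1 (.node 0 .nil (.node 1 (.node 1 .nil .nil) .nil)) .nil)) .nil) .nil)) .nil)) .nil) (.node 1 (.node 0 (.node 0 (.node 1 (.node 0 (.node 1 (.node 0 (.node 1 .nil .nil) .nil) .nil) .nil) .nil) .nil) (.node 1 (.node 0 (.node 0 (.node 1 (.node 0 .nil (.node 1 (.node 1 .nil .nil) .nil)) .nil) .nil) (.node 1 (.node 0 (.node 0 (.node 1 (.node 1 .nil .nil)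 .nil) (.node 1 (.node 0 (.node 0 .nil .nil) (.node 1 .nil .nil)) .nil)) (.node 1 (.node 0 (.node 1 (.node 1 .nil .nil) .nil) (.node 1 (.node 0 (.node 0 (.node 1 .nil .nil) (.node 1 .nil .nil)) .nil) .nil)) .nil)) .nil)) .nil)) .nil)) (.node 1 (.node 0 (.node 0 (.node 1 (.node 0 (.node 0 (.node 1 .nil .nil) (.node 1 .nil .nil)) (.node 1 (.node 1 (.node 0 .nil (.node 1 (.node 0 .nil (.node 1 (.node 0 .nil .nil) .nil)) .nil)) .nil) .nil)) .nil) (.node 1 (.node 0 (.node 1 (.node 1 .nil .nil) .nil) (.node 1 (.node 0 (.node 0 (.node 1 .nil .nil) (.node 1 .nil .nil)) (.node 1 (.node 0 (.node 0 (.node 1 .nil .nil) (.node 1 (.node 0 .nil .nil) .nil)) (.node 1 .nil .nil)) .nil)) .nil)) .nil)) (.node 1 (.node 0 (.node 0 (.node 1 (.node 0 (.node 0 .nil (.node 1 (.node 1 .nil .nil) .nil)) (.node 1 (.node 1 .nil .nil) .nil)) .nil) (.node 1 (.node 1 (.node 0 (.node 0 (.node 1 (.node 0 .nil .nil) .nil) .nil) (.node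 1 (.node 0 (.node 0 (.node 1 .nil .nil) .nil) (.node 1 (.node 0 .nil .nil) .nil)) .nil)) .nil) .nil)) (.node 1 (.node 1 (.node 0 (.node 0 (.node 1 (.node 0 (.node 0 .nil .nil) (.node 1 .nil .nil)) .nil) (.node 1 (.node 0 (.node 0 (.node 1 .nil .nil) .nil) .nil) .nil)) .nil) .nil) .nil)) .nil)) .nil)) .nil) (.node 1 (.node 0 (.node 0 (.node 1 (.node 0 (.node 0 (.node 1 (.node 0 .nil (.node 1 (.node 0 (.node 1 (.node 1 .nil .nil) .nil) .nil) .nil)) .nil) (.node 1 (.node 0 (.node 0 (.node 1 .nil .nil) (.node 1 (.node 0 .nil (.node 1 (.node 0 .nil .nil) .nil)) .nil)) .nil) .nil)) (.node 1 (.node 0 (.node 0 (.node 1 .nil .nil) (.node 1 (.node 1 (.node 0 .nil .nil) .nil) .nil)) (.node 1 (.node 0 (.node 0 (.node 1 (.node 0 .nil (.node 1 .nil .nil)) .nil) (.node 1 (.node 0 (.node 0 .nil .nil) (.node 1 (.node 1 (.node 0 (.node 1 .nil .nil) .nil) .nil) .nil)) .nil)) (.node 1 (.node 1 .nil .nil) .nil)) .nil)) .nil))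 .nil) (.node 1 (.node 0 (.node 0 (.node 1 (.node 0 (.node 1 (.node 0 .nil (.node 1 .nil .nil)) .nil) (.node 1 (.node 0 (.node 1 (.node 1 .nil .nil) .nil) (.node 1 (.node 0 .nil (.node 1 .nil .nil)) .nil)) .nil)) .nil) .nil) (.node 1 (.node 0 (.node 0 (.node 1 (.node 0 (.node 1 (.node 0 (.node 0 .nil .nil) (.node 1 .nil .nil)) .nil) (.node 1 (.node 0 .nil (.node 1 .nil .nil)) .nil)) .nil) (.node 1 (.node 0 (.node 0 .nil (.node 1 (.node 0 (.node 0 .nil .nil) (.node 1 (.node 1 (.node 1 .nil .nil) .nil) .nil)) .nil)) (.node 1 (.node 0 .nil (.node 1 (.node 0 (.node 1 (.node 1 .nil .nil) .nil) .nil) .nil)) .nil)) .nil)) (.node 1 (.node 0 (.node 0 (.node 1 (.node 0 (.node 1 (.node 1 .nil .nil) .nil) (.node 1 (.node 0 .nil (.node 1 (.node 1 .nil .nil) .nil)) .nil)) .nil) (.node 1 (.node 0 (.node 0 .nil .nil) .nil) .nil)) (.node 1 (.node 0 (.node 0 .nil .nil) (.node 1 (.node 0 (.node 0 (.node 1 .nil .nil) (.node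 1 (.node 0 (.node 1 .nil .nil) .nil) .nil)) .nil) .nil)) .nil)) .nil)) .nil)) .nil)) (.node 1 (.node 0 (.node 0 (.node 1 (.node 1 (.node 1 (.node 0 (.node 1 (.node 1 .nil .nil) .nil) (.node 1 (.node 0 .nil .nil) .nil)) .nil) .nil) .nil) (.node 1 (.node 0 (.node 0 (.node 1 (.node 1 (.node 0 .nil (.node 1 (.node 1 .nil .nil) .nil)) .nil) .nil) (.node 1 (.node 0 (.node 0 (.node 1 (.node 1 .nil .nil) .nil) .nil) (.node 1 (.node 0 (.node 0 .nil (.node 1 (.node 1 .nil .nil) .nil)) .nil) .nil)) .nil)) (.node 1 (.node 0 (.node 0 (.node 1 (.node 0 (.node 1 .nil .nil) .nil) .nil) .nil) (.node 1 (.node 0 (.node 1 (.node 0 (.node 1 .nil .nil) .nil) .nil) .nil) .nil)) .nil)) .nil)) (.node 1 (.node 0 (.node 0 (.node 1 (.node 0 (.node 0 .nil .nil) .nil) .nil) (.node 1 (.node 0 (.node 1 (.node 0 (.node 1 (.node 1 .nil .nil) .nil) (.node 1 (.node 0 (.node 1 .nil .nil) .nil) .nil)) .nil) (.node 1 (.node 0 (.node 1 (.node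 0 (.node 0 (.node 1 .nil .nil) (.node 1 .nil .nil)) (.node 1 (.node 0 .nil .nil) .nil)) .nil) (.node 1 (.node 0 (.node 0 .nil (.node 1 (.node 1 .nil .nil) .nil)) (.node 1 (.node 0 .nil .nil) .nil)) .nil)) .nil)) .nil)) (.node 1 (.node 0 (.node 0 (.node 1 (.node 0 (.node 0 .nil .nil) (.node 1 (.node 1 (.node 1 .nil .nil) .nil) .nil)) .nil) (.node 1 (.node 0 (.node 0 (.node 1 .nil .nil) (.node 1 .nil .nil)) (.node 1 (.node 1 (.node 1 (.node 1 .nil .nil) .nil) .nil) .nil)) .nil)) (.node 1 (.node 0 (.node 0 (.node 1 .nil .nil) (.node 1 (.node 0 (.node 0 .nil (.node 1 (.node 0 (.node 0 .nil .nil) (.node 1 (.node 0 .nil .nil) .nil)) .nil)) (.node 1 (.node 1 (.node 0 .nil (.node 1 .nil .nil)) .nil) .nil)) .nil)) .nil) .nil)) .nil)) .nil)) .nil)) .nil)) (.node 1 (.node 0 (.node 0 (.node 1 (.node 0 (.node 0 (.node 1 (.node 0 (.node 1 .nil .nil) (.node 1 (.node 0 (.node 0 .nil (.node 1 (.node 1 .nil .nil) .nil))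 (.node 1 (.node 0 (.node 0 (.node 1 .nil .nil) .nil) .nil) .nil)) .nil)) .nil) .nil) (.node 1 (.node 1 (.node 0 (.node 0 (.node 1 .nil .nil) (.node 1 (.node 0 (.node 1 (.node 0 (.node 0 .nil .nil) .nil) .nil) .nil) .nil)) (.node 1 (.node 0 (.node 0 (.node 1 (.node 1 .nil .nil) .nil) (.node 1 (.node 0 (.node 1 .nil .nil) .nil) .nil)) (.node 1 (.node 0 (.node 1 (.node 0 .nil .nil) .nil) .nil) .nil)) .nil)) .nil) .nil)) .nil) (.node 1 (.node 0 (.node 0 (.node 1 (.node 0 (.node 1 (.node 0 (.node 0 .nil (.node 1 (.node 0 (.node 1 (.node 0 .nil .nil) .nil) (.node 1 .nil .nil)) .nil)) (.node 1 (.node 1 (.node 0 (.node 0 .nil .nil) .nil) .nil) .nil)) .nil) (.node 1 (.node 0 (.node 0 (.node 1 .nil .nil) (.node 1 (.node 1 .nil .nil) .nil)) (.node 1 (.node 1 (.node 0 (.node 0 .nil .nil) (.node 1 (.node 0 (.node 1 .nil .nil) .nil) .nil)) .nil) .nil)) .nil)) .nil) (.node 1 (.node 0 (.node 0 (.node 1 (.node 1 (.node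 1 (.node 1 (.node 1 .nil .nil) .nil) .nil) .nil) .nil) (.node 1 (.node 0 (.node 0 (.node 1 .nil .nil) (.node 1 (.node 0 .nil .nil) .nil)) (.node 1 (.node 1 (.node 1 .nil .nil) .nil) .nil)) .nil)) (.node 1 (.node 0 (.node 0 (.node 1 (.node 0 .nil (.node 1 (.node 0 .nil .nil) .nil)) .nil) (.node 1 (.node 0 (.node 1 (.node 0 .nil .nil) .nil) (.node 1 .nil .nil)) .nil)) (.node 1 (.node 0 (.node 0 (.node 1 .nil .nil) (.node 1 (.node 1 (.node 0 (.node 1 .nil .nil) .nil) .nil) .nil)) (.node 1 (.node 1 (.node 0 (.node 0 .nil (.node 1 .nil .nil)) .nil) .nil) .nil)) .nil)) .nil)) .nil)) (.node 1 (.node 0 (.node 0 .nil (.node 1 (.node 0 (.node 0 (.node 1 (.node 0 .nil (.node 1 .nil .nil)) .nil) (.node 1 (.node 0 (.node 1 .nil .nil) .nil) .nil)) (.node 1 (.node 0 (.node 0 (.node 1 .nil .nil) (.node 1 (.node 0 .nil .nil) .nil)) .nil) .nil)) .nil)) .nil) .nil)) .nil)) (.node 1 (.node 0 (.node 0 (.node 1 (.node 0 (.node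 0 (.node 1 (.node 0 (.node 0 .nil .nil) (.node 1 (.node 1 .nil .nil) .nil)) .nil) (.node 1 (.node 0 (.node 0 (.node 1 .nil .nil) .nil) (.node 1 (.node 1 .nil .nil) .nil)) .nil)) (.node 1 (.node 0 (.node 1 (.node 1 (.node 0 .nil .nil) .nil) .nil) (.node 1 (.node 0 (.node 0 .nil .nil) (.node 1 (.node 0 (.node 1 (.node 1 .nil .nil) .nil) (.node 1 .nil .nil)) .nil)) .nil)) .nil)) .nil) (.node 1 (.node 0 (.node 0 (.node 1 (.node 0 (.node 0 .nil (.node 1 .nil .nil)) (.node 1 (.node 0 (.node 0 .nil .nil) .nil) .nil)) .nil) (.node 1 (.node 0 (.node 0 (.node 1 (.node 1 .nil .nil) .nil) .nil) (.node 1 (.node 0 (.node 0 (.node 1 (.node 0 .nil (.node 1 (.node 0 .nil .nil) .nil)) .nil) (.node 1 (.node 1 .nil .nil) .nil)) (.node 1 (.node 0 (.node 0 (.node 1 .nil .nil) .nil) .nil) .nil)) .nil)) .nil)) (.node 1 (.node 0 (.node 0 (.node 1 (.node 1 .nil .nil) .nil) (.node 1 (.node 0 (.node 0 (.node 1 .nil .nil) .nil)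 (.node 1 (.node 0 (.node 1 .nil .nil) (.node 1 (.node 0 (.node 1 .nil .nil) .nil) .nil)) .nil)) .nil)) .nil) .nil)) .nil)) (.node 1 (.node 0 (.node 0 (.node 1 (.node 0 (.node 0 (.node 1 .nil .nil) .nil) (.node 1 .nil .nil)) .nil) (.node 1 (.node 0 (.node 0 (.node 1 (.node 1 (.node 0 .nil (.node 1 (.node 1 .nil .nil) .nil)) .nil) .nil) (.node 1 (.node 1 (.node 1 (.node 1 (.node 1 .nil .nil) .nil) .nil) .nil) .nil)) (.node 1 (.node 0 (.node 1 (.node 0 (.node 1 (.node 1 .nil .nil) .nil) (.node 1 (.node 0 .nil .nil) .nil)) .nil) (.node 1 (.node 0 (.node 1 (.node 1 (.node 0 (.node 0 .nil .nil) .nil) .nil) .nil) .nil) .nil)) .nil)) .nil)) (.node 1 (.node 0 (.node 0 (.node 1 (.node 0 (.node 0 (.node 1 (.node 0 .nil .nil) .nil) (.node 1 (.node 0 (.node 1 .nil .nil) (.node 1 (.node 0 .nil (.node 1 .nil .nil)) .nil)) .nil)) (.node 1 (.node 0 (.node 1 (.node 0 .nil (.node 1 .nil .nil)) .nil) (.node 1 (.node 1 .nil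 .nil) .nil)) .nil)) .nil) (.node 1 (.node 0 (.node 0 (.node 1 (.node 1 .nil .nil) .nil) .nil) (.node 1 (.node 0 (.node 0 (.node 1 .nil .nil) .nil) .nil) .nil)) .nil)) (.node 1 (.node 0 (.node 0 (.node 1 (.node 0 (.node 0 .nil (.node 1 (.node 1 .nil .nil) .nil)) (.node 1 .nil .nil)) .nil) (.node 1 (.node 0 .nil (.node 1 (.node 0 (.node 0 .nil .nil) (.node 1 .nil .nil)) .nil)) .nil)) .nil) .nil)) .nil)) .nil)) .nil)) .nil))), (28, (.node 0 (.node 0 (.node 1 (.node 0 (.node 0 (.node 1 (.node 0 (.node 0 .nil (.node 1 (.node 0 (.node 0 .nil (.node 1 .nil .nil)) (.node 1 (.node 0 (.node 1 (.node 1 .nil .nil) .nil) (.node 1 .nil .nil)) .nil)) .nil)) (.node 1 (.node 0 (.node 0 (.node 1 (.node 1 (.node 0 (.node 0 (.node 1 .nil .nil) .nil) (.node 1 .nil .nil)) .nil) .nil) (.node 1 (.node 0 (.node 0 (.node 1 .nil .nil) (.node 1 (.node 0 (.node 1 (.node 0 .nil .nil) .nil) .nil) .nil)) (.node 1 (.node 0 (.node 0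 .nil (.node 1 (.node 0 .nil (.node 1 .nil .nil)) .nil)) (.node 1 (.node 1 (.node 0 .nil .nil) .nil) .nil)) .nil)) .nil)) (.node 1 (.node 0 .nil (.node 1 (.node 0 (.node 0 (.node 1 .nil .nil) .nil) (.node 1 (.node 0 .nil .nil) .nil)) .nil)) .nil)) .nil)) .nil) (.node 1 (.node 0 (.node 0 (.node 1 (.node 0 (.node 0 (.node 1 .nil .nil) (.node 1 (.node 0 (.node 0 .nil .nil) (.node 1 (.node 1 .nil .nil) .nil)) .nil)) .nil) .nil) (.node 1 (.node 0 (.node 0 (.node 1 (.node 0 .nil (.node 1 (.node 1 .nil .nil) .nil)) .nil) (.node 1 (.node 0 (.node 1 (.node 1 (.node 0 (.node 1 .nil .nil) .nil) .nil) .nil) (.node 1 (.node 0 (.node 0 (.node 1 (.node 0 .nil .nil) .nil) .nil) .nil) .nil)) .nil)) (.node 1 (.node 0 (.node 0 (.node 1 (.node 1 .nil .nil) .nil) (.node 1 (.node 0 (.node 0 .nil (.node 1 (.node 0 .nil .nil) .nil)) (.node 1 (.node 0 (.node 0 (.node 1 .nil .nil) .nil) (.node 1 (.node 1 .nil .nil) .nil)) .nil))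 .nil)) (.node 1 (.node 0 (.node 1 (.node 0 .nil .nil) .nil) (.node 1 (.node 0 (.node 1 .nil .nil) (.node 1 (.node 0 (.node 0 .nil .nil) .nil) .nil)) .nil)) .nil)) .nil)) .nil)) (.node 1 (.node 0 (.node 0 (.node 1 (.node 0 .nil (.node 1 (.node 1 (.node 0 .nil .nil) .nil) .nil)) .nil) (.node 1 (.node 0 (.node 0 .nil .nil) (.node 1 (.node 0 (.node 0 (.node 1 (.node 0 .nil .nil) .nil) .nil) (.node 1 (.node 0 (.node 0 .nil (.node 1 .nil .nil)) .nil) .nil)) .nil)) .nil)) (.node 1 (.node 0 (.node 0 (.node 1 (.node 0 .nil (.node 1 (.node 0 (.node 0 .nil .nil) (.node 1 (.node 0 .nil (.node 1 (.node 1 .nil .nil) .nil)) .nil)) .nil)) .nil) (.node 1 (.node 0 (.node 0 .nil (.node 1 (.node 0 (.node 0 .nil .nil) (.node 1 (.node 1 (.node 1 .nil .nil) .nil) .nil)) .nil)) (.node 1 (.node 1 .nil .nil) .nil)) .nil)) (.node 1 (.node 0 (.node 0 (.node 1 (.node 0 (.node 0 .nil .nil) .nil) .nil) .nil) (.node 1 (.node 0 (.node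 1 .nil .nil) .nil) .nil)) .nil)) .nil)) .nil)) .nil)) (.node 1 (.node 0 (.node 0 (.node 1 (.node 1 (.node 1 (.node 0 (.node 0 (.node 1 (.node 0 (.node 1 .nil .nil) .nil) .nil) .nil) (.node 1 (.node 1 (.node 0 .nil .nil) .nil) .nil)) .nil) .nil) .nil) (.node 1 (.node 0 (.node 0 (.node 1 (.node 0 (.node 0 (.node 1 .nil .nil) .nil) (.node 1 (.node 0 (.node 1 (.node 0 (.node 0 .nil .nil) .nil) .nil) (.node 1 (.node 0 .nil (.node 1 .nil .nil)) .nil)) .nil)) .nil) (.node 1 (.node 0 (.node 0 (.node 1 (.node 0 (.node 0 .nil .nil) .nil) .nil) .nil) (.node 1 (.node 0 (.node 0 .nil (.node 1 (.node 0 (.node 1 .nil .nil) .nil) .nil)) (.node 1 .nil .nil)) .nil)) .nil)) (.node 1 (.node 0 (.node 0 (.node 1 (.node 1 (.node 0 .nil .nil) .nil) .nil) (.node 1 (.node 0 (.node 0 (.node 1 .nil .nil) (.node 1 (.node 1 (.node 0 (.node 1 (.node 0 .nil .nil) .nil) (.node 1 .nil .nil)) .nil) .nil)) (.node 1 .nil .nil)) .nil)) (.node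 1 (.node 0 (.node 0 .nil (.node 1 (.node 0 (.node 0 .nil (.node 1 .nil .nil)) (.node 1 (.node 0 (.node 1 .nil .nil) .nil) .nil)) .nil)) (.node 1 (.node 0 (.node 0 (.node 1 .nil .nil) (.node 1 (.node 0 .nil (.node 1 .nil .nil)) .nil)) (.node 1 .nil .nil)) .nil)) .nil)) .nil)) .nil)) (.node 1 (.node 0 (.node 0 (.node 1 (.node 0 (.node 0 (.node 1 (.node 1 (.node 1 .nil .nil) .nil) .nil) (.node 1 (.node 0 (.node 1 .nil .nil) .nil) .nil)) .nil) .nil) (.node 1 (.node 0 (.node 0 (.node 1 (.node 0 .nil (.node 1 .nil .nil)) .nil) (.node 1 (.node 0 (.node 0 (.node 1 (.node 0 (.node 1 .nil .nil) .nil) .nil) .nil) .nil) .nil)) (.node 1 (.node 1 (.node 0 (.node 1 (.node 0 .nil (.node 1 .nil .nil)) .nil) (.node 1 (.node 0 (.node 0 .nil .nil) .nil) .nil)) .nil) .nil)) .nil)) (.node 1 (.node 0 (.node 0 (.node 1 (.node 0 (.node 0 .nil (.node 1 .nil .nil)) .nil) .nil) (.node 1 .nil .nil)) (.node 1 (.node 0 (.node 0 (.node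 1 (.node 0 (.node 0 (.node 1 .nil .nil) (.node 1 (.node 1 .nil .nil) .nil)) (.node 1 .nil .nil)) .nil) (.node 1 (.node 0 (.node 0 (.node 1 (.node 1 .nil .nil) .nil) (.node 1 (.node 1 (.node 0 .nil .nil) .nil) .nil)) (.node 1 (.node 0 (.node 1 (.node 0 (.node 1 .nil .nil) .nil) .nil) (.node 1 (.node 1 (.node 0 .nil (.node 1 .nil .nil)) .nil) .nil)) .nil)) .nil)) .nil) .nil)) .nil)) .nil)) .nil)) .nil) (.node 1 (.node 0 (.node 0 (.node 1 (.node 0 (.node 0 (.node 1 (.node 0 (.node 0 (.node 1 .nil .nil) (.node 1 (.node 0 (.node 0 .nil (.node 1 .nil .nil)) (.node 1 (.node 0 .nil .nil) .nil)) .nil)) .nil) .nil) (.node 1 (.node 0 (.node 0 (.node 1 (.node 0 (.node 0 .nil .nil) .nil) .nil) (.node 1 (.node 0 (.node 0 (.node 1 (.node 1 .nil .nil) .nil) .nil) (.node 1 (.node 1 (.node 0 (.node 1 .nil .nil) (.node 1 .nil .nil)) .nil) .nil)) .nil)) (.node 1 (.node 0 (.node 0 .nil (.node 1 .nil .nil)) (.node 1 (.node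 0 (.node 0 .nil (.node 1 (.node 1 (.node 0 (.node 0 .nil .nil) .nil) .nil) .nil)) (.node 1 (.node 0 (.node 0 (.node 1 (.node 1 .nil .nil) .nil) (.node 1 .nil .nil)) (.node 1 .nil .nil)) .nil)) .nil)) .nil)) .nil)) (.node 1 (.node 0 (.node 1 (.node 1 (.node 0 (.node 0 (.node 1 .nil .nil) (.node 1 (.node 0 .nil .nil) .nil)) .nil) .nil) .nil) (.node 1 (.node 0 (.node 0 (.node 1 (.node 0 .nil .nil) .nil) (.node 1 (.node 0 (.node 0 (.node 1 .nil .nil) (.node 1 (.node 0 (.node 0 .nil .nil) .nil) .nil)) (.node 1 (.node 0 (.node 1 .nil .nil) (.node 1 (.node 1 .nil .nil) .nil)) .nil)) .nil)) (.node 1 (.node 0 (.node 0 (.node 1 (.node 0 (.node 0 .nil .nil) .nil) .nil) (.node 1 (.node 1 (.node 1 .nil .nil) .nil) .nil)) .nil) .nil)) .nil)) .nil)) .nil) (.node 1 (.node 0 (.node 0 (.node 1 (.node 0 (.node 0 (.node 1 (.node 0 .nil (.node 1 (.node 0 .nil .nil) .nil)) .nil) (.node 1 (.node 0 (.node 0 (.node 1 (.node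 1 .nil .nil) .nil) (.node 1 .nil .nil)) .nil) .nil)) (.node 1 (.node 1 (.node 1 (.node 1 (.node 0 .nil .nil) .nil) .nil) .nil) .nil)) .nil) (.node 1 (.node 0 (.node 0 (.node 1 (.node 0 (.node 0 .nil (.node 1 (.node 0 (.node 0 .nil .nil) (.node 1 .nil .nil)) .nil)) .nil) .nil) (.node 1 (.node 0 (.node 0 (.node 1 (.node 0 (.node 1 .nil .nil) (.node 1 .nil .nil)) .nil) (.node 1 (.node 0 (.node 0 .nil .nil) .nil) .nil)) .nil) .nil)) (.node 1 (.node 0 (.node 0 (.node 1 (.node 0 .nil (.node 1 (.node 0 .nil .nil) .nil)) .nil) .nil) (.node 1 (.node 0 (.node 0 (.node 1 .nil .nil) (.node 1 (.node 0 (.node 0 (.node 1 .nil .nil) (.node 1 (.node 1 (.node 0 .nil .nil) .nil) .nil)) .nil) .nil)) (.node 1 (.node 0 (.node 0 .nil .nil) .nil) .nil)) .nil)) .nil)) .nil)) (.node 1 (.node 0 (.node 0 (.node 1 (.node 0 (.node 0 (.node 1 (.node 1 .nil .nil) .nil) (.node 1 (.node 0 (.node 0 .nil .nil) .nil) .nil)) (.node 1 (.node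 0 (.node 0 .nil .nil) (.node 1 (.node 0 (.node 1 (.node 1 .nil .nil) .nil) (.node 1 .nil .nil)) .nil)) .nil)) .nil) .nil) (.node 1 (.node 0 (.node 0 (.node 1 (.node 0 (.node 0 (.node 1 .nil .nil) (.node 1 (.node 1 .nil .nil) .nil)) (.node 1 (.node 1 (.node 1 .nil .nil) .nil) .nil)) .nil) (.node 1 (.node 0 (.node 0 .nil (.node 1 (.node 0 (.node 1 (.node 1 .nil .nil) .nil) .nil) .nil)) (.node 1 (.node 0 (.node 1 .nil .nil) .nil) .nil)) .nil)) (.node 1 (.node 0 (.node 0 (.node 1 (.node 0 (.node 1 .nil .nil) (.node 1 .nil .nil)) .nil) (.node 1 (.node 0 (.node 0 .nil .nil) (.node 1 (.node 1 .nil .nil) .nil)) .nil)) .nil) .nil)) .nil)) .nil)) .nil)) (.node 1 (.node 0 (.node 0 (.node 1 (.node 0 (.node 0 (.node 1 (.node 0 (.node 0 .nil .nil) (.node 1 (.node 1 .nil .nil) .nil)) .nil) (.node 1 (.node 0 (.node 0 .nil .nil) (.node 1 (.node 1 (.node 0 .nil .nil) .nil) .nil)) .nil)) (.node 1 (.node 0 (.node 1 (.node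 1 (.node 0 (.node 1 .nil .nil) (.node 1 (.node 1 (.node 1 .nil .nil) .nil) .nil)) .nil) .nil) (.node 1 (.node 0 (.node 1 (.node 1 (.node 0 .nil (.node 1 .nil .nil)) .nil) .nil) (.node 1 (.node 0 (.node 1 .nil .nil) .nil) .nil)) .nil)) .nil)) .nil) (.node 1 (.node 0 (.node 0 (.node 1 (.node 0 (.node 0 (.node 1 .nil .nil) (.node 1 (.node 1 .nil .nil) .nil)) .nil) .nil) (.node 1 (.node 0 (.node 0 .nil (.node 1 (.node 0 (.node 0 .nil .nil) (.node 1 (.node 1 .nil .nil) .nil)) .nil)) (.node 1 (.node 0 (.node 1 (.node 0 (.node 0 .nil .nil) (.node 1 .nil .nil)) .nil) (.node 1 (.node 1 (.node 0 .nil .nil) .nil) .nil)) .nil)) .nil)) (.node 1 (.node 0 (.node 0 .nil (.node 1 (.node 0 (.node 0 (.node 1 (.node 1 .nil .nil) .nil) .nil) (.node 1 (.node 0 .nil (.node 1 .nil .nil)) .nil)) .nil)) (.node 1 (.node 0 (.node 0 .nil (.node 1 (.node 0 (.node 0 .nil .nil) (.node 1 (.node 0 (.node 0 .nil .nil) (.node 1 (.node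 0 .nil (.node 1 .nil .nil)) .nil)) .nil)) .nil)) (.node 1 (.node 0 (.node 0 .nil (.node 1 .nil .nil)) (.node 1 (.node 0 (.node 0 .nil .nil) .nil) .nil)) .nil)) .nil)) .nil)) .nil)) (.node 1 (.node 0 (.node 0 (.node 1 (.node 0 (.node 0 (.node 1 .nil .nil) (.node 1 (.node 1 .nil .nil) .nil)) (.node 1 (.node 0 (.node 0 (.node 1 .nil .nil) (.node 1 (.node 0 .nil .nil) .nil)) .nil) .nil)) .nil) (.node 1 (.node 0 (.node 0 (.node 1 (.node 0 (.node 1 .nil .nil) .nil) .nil) (.node 1 (.node 0 (.node 0 .nil (.node 1 (.node 0 .nil (.node 1 .nil .nil)) .nil)) (.node 1 (.node 0 .nil (.node 1 (.node 1 (.node 0 (.node 0 .nil .nil) (.node 1 (.node 0 .nil .nil) .nil)) .nil) .nil)) .nil)) .nil)) (.node 1 (.node 0 (.node 0 (.node 1 .nil .nil) .nil) (.node 1 (.node 0 (.node 0 (.node 1 .nil .nil) (.node 1 (.node 0 (.node 1 .nil .nil) (.node 1 (.node 0 .nil (.node 1 (.node 1 .nil .nil) .nil)) .nil)) .nil)) (.node 1 (.node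 0 (.node 0 .nil (.node 1 .nil .nil)) .nil) .nil)) .nil)) .nil)) .nil)) (.node 1 (.node 0 (.node 0 (.node 1 (.node 0 (.node 0 .nil (.node 1 (.node 0 (.node 1 .nil .nil) .nil) .nil)) (.node 1 (.node 1 (.node 0 .nil (.node 1 .nil .nil)) .nil) .nil)) .nil) (.node 1 (.node 0 (.node 1 (.node 0 (.node 1 .nil .nil) (.node 1 (.node 0 (.node 0 .nil .nil) .nil) .nil)) .nil) (.node 1 .nil .nil)) .nil)) (.node 1 .nil .nil)) .nil)) .nil)) .nil)) .nil)) (.node 1 (.node 0 (.node 0 (.node 1 (.node 0 (.node 0 (.node 1 (.node 0 (.node 0 (.node 1 .nil .nil) .nil) (.node 1 (.node 0 .nil (.node 1 (.node 0 .nil .nil) .nil)) .nil)) .nil) (.node 1 (.node 0 (.node 0 (.node 1 (.node 0 (.node 0 (.node 1 .nil .nil) (.node 1 (.node 0 .nil .nil) .nil)) (.node 1 (.node 0 .nil (.node 1 .nil .nil)) .nil)) .nil) (.node 1 (.node 0 (.node 1 .nil .nil) .nil) .nil)) (.node 1 (.node 0 (.node 0 (.node 1 (.node 1 (.node 1 (.node 0 .nil .nil)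 .nil) .nil) .nil) (.node 1 (.node 0 (.node 0 .nil .nil) (.node 1 .nil .nil)) .nil)) (.node 1 (.node 0 (.node 0 .nil (.node 1 (.node 1 .nil .nil) .nil)) (.node 1 (.node 0 (.node 0 (.node 1 .nil .nil) (.node 1 (.node 1 .nil .nil) .nil)) .nil) .nil)) .nil)) .nil)) .nil)) (.node 1 (.node 0 (.node 0 (.node 1 (.node 1 (.node 0 (.node 1 .nil .nil) (.node 1 (.node 1 (.node 0 .nil .nil) .nil) .nil)) .nil) .nil) (.node 1 (.node 0 (.node 0 (.node 1 (.node 0 (.node 0 .nil .nil) .nil) .nil) (.node 1 (.node 0 (.node 0 .nil (.node 1 .nil .nil)) (.node 1 (.node 0 (.node 1 .nil .nil) .nil) .nil)) .nil)) (.node 1 (.node 0 (.node 0 (.node 1 (.node 1 (.node 1 .nil .nil) .nil) .nil) (.node 1 .nil .nil)) (.node 1 (.node 0 (.node 0 .nil .nil) .nil) .nil)) .nil)) .nil)) (.node 1 (.node 0 (.node 0 (.node 1 (.node 0 (.node 0 (.node 1 .nil .nil) (.node 1 (.node 0 .nil (.node 1 .nil .nil)) .nil)) (.node 1 (.node 0 (.node 0 .nil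 .nil) (.node 1 .nil .nil)) .nil)) .nil) (.node 1 (.node 0 (.node 0 .nil (.node 1 (.node 0 (.node 1 .nil .nil) (.node 1 (.node 0 (.node 1 .nil .nil) (.node 1 .nil .nil)) .nil)) .nil)) (.node 1 (.node 1 (.node 0 (.node 0 .nil .nil) .nil) .nil) .nil)) .nil)) (.node 1 (.node 0 (.node 0 (.node 1 (.node 1 (.node 0 .nil .nil) .nil) .nil) (.node 1 (.node 0 (.node 0 .nil (.node 1 .nil .nil)) .nil) .nil)) (.node 1 (.node 0 (.node 0 (.node 1 (.node 1 .nil .nil) .nil) (.node 1 (.node 0 .nil (.node 1 (.node 0 .nil (.node 1 .nil .nil)) .nil)) .nil)) .nil) .nil)) .nil)) .nil)) .nil)) .nil) .nil) (.node 1 (.node 0 (.node 0 (.node 1 (.node 0 (.node 1 (.node 0 (.node 0 .nil (.node 1 (.node 0 (.node 1 (.node 0 (.node 1 .nil .nil) .nil) .nil) (.node 1 (.node 1 .nil .nil) .nil)) .nil)) (.node 1 (.node 1 (.node 1 (.node 0 .nil (.node 1 .nil .nil)) .nil) .nil) .nil)) .nil) (.node 1 (.node 0 (.node 0 (.node 1 (.node 0 (.node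 1 (.node 1 .nil .nil) .nil) (.node 1 (.node 0 .nil .nil) .nil)) .nil) (.node 1 (.node 0 (.node 0 (.node 1 (.node 1 .nil .nil) .nil) .nil) (.node 1 (.node 0 (.node 1 (.node 0 (.node 0 .nil .nil) (.node 1 .nil .nil)) .nil) (.node 1 .nil .nil)) .nil)) .nil)) (.node 1 (.node 0 (.node 0 .nil (.node 1 (.node 0 (.node 0 .nil (.node 1 (.node 0 .nil .nil) .nil)) .nil) .nil)) (.node 1 (.node 0 (.node 0 (.node 1 (.node 0 (.node 0 .nil .nil) .nil) .nil) (.node 1 (.node 0 .nil .nil) .nil)) (.node 1 (.node 0 (.node 0 (.node 1 .nil .nil) (.node 1 (.node 0 .nil .nil) .nil)) .nil) .nil)) .nil)) .nil)) .nil)) .nil) (.node 1 (.node 0 (.node 0 (.node 1 (.node 0 (.node 0 .nil (.node 1 (.node 0 (.node 0 .nil .nil) (.node 1 .nil .nil)) .nil)) .nil) .nil) (.node 1 (.node 0 (.node 0 (.node 1 (.node 1 (.node 0 (.node 0 (.node 1 .nil .nil) .nil) (.node 1 .nil .nil)) .nil) .nil) (.node 1 (.node 0 (.node 1 (.node 0 (.node 0 .nil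 .nil) .nil) .nil) (.node 1 (.node 0 (.node 0 (.node 1 .nil .nil) .nil) (.node 1 (.node 1 .nil .nil) .nil)) .nil)) .nil)) (.node 1 (.node 0 (.node 0 .nil (.node 1 (.node 1 (.node 0 (.node 1 (.node 0 .nil .nil) .nil) (.node 1 (.node 0 .nil .nil) .nil)) .nil) .nil)) (.node 1 (.node 0 (.node 1 (.node 1 .nil .nil) .nil) (.node 1 (.node 0 (.node 1 (.node 1 .nil .nil) .nil) (.node 1 (.node 0 .nil .nil) .nil)) .nil)) .nil)) .nil)) .nil)) (.node 1 (.node 0 (.node 0 (.node 1 (.node 0 .nil .nil) .nil) (.node 1 (.node 0 (.node 0 (.node 1 (.node 0 (.node 1 .nil .nil) .nil) .nil) (.node 1 (.node 0 .nil .nil) .nil)) (.node 1 (.node 0 (.node 0 (.node 1 .nil .nil) (.node 1 (.node 0 (.node 0 .nil .nil) (.node 1 (.node 0 (.node 0 .nil .nil) (.node 1 .nil .nil)) .nil)) .nil)) (.node 1 (.node 0 (.node 0 .nil (.node 1 (.node 1 .nil .nil) .nil)) .nil) .nil)) .nil)) .nil)) (.node 1 (.node 0 (.node 1 (.node 0 (.node 0 (.node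 1 .nil .nil) .nil) .nil) .nil) (.node 1 (.node 0 (.node 0 .nil (.node 1 .nil .nil)) (.node 1 .nil .nil)) .nil)) .nil)) .nil)) .nil)) (.node 1 (.node 0 (.node 0 (.node 1 (.node 1 (.node 0 (.node 0 .nil (.node 1 (.node 0 (.node 0 (.node 1 (.node 0 .nil .nil) .nil) (.node 1 (.node 0 .nil (.node 1 .nil .nil)) .nil)) (.node 1 (.node 0 (.node 0 .nil .nil) (.node 1 .nil .nil)) .nil)) .nil)) (.node 1 (.node 0 (.node 0 .nil .nil) (.node 1 (.node 0 (.node 0 .nil (.node 1 (.node 1 .nil .nil) .nil)) .nil) .nil)) .nil)) .nil) .nil) (.node 1 (.node 0 (.node 0 (.node 1 (.node 0 (.node 0 .nil (.node 1 (.node 1 (.node 0 .nil .nil) .nil) .nil)) (.node 1 (.node 0 (.node 0 .nil (.node 1 (.node 0 (.node 1 .nil .nil) .nil) .nil)) (.node 1 (.node 0 (.node 0 .nil (.node 1 .nil .nil)) .nil) .nil)) .nil)) .nil) (.node 1 (.node 0 (.node 0 (.node 1 (.node 0 .nil .nil) .nil) (.node 1 (.node 1 .nil .nil) .nil)) (.node 1 (.node 0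 (.node 0 (.node 1 (.node 0 .nil (.node 1 .nil .nil)) .nil) .nil) (.node 1 (.node 0 (.node 0 (.node 1 .nil .nil) (.node 1 .nil .nil)) (.node 1 (.node 0 .nil (.node 1 .nil .nil)) .nil)) .nil)) .nil)) .nil)) (.node 1 (.node 0 (.node 0 (.node 1 (.node 0 .nil (.node 1 .nil .nil)) .nil) (.node 1 (.node 0 (.node 1 (.node 0 (.node 0 .nil .nil) (.node 1 .nil .nil)) .nil) (.node 1 .nil .nil)) .nil)) (.node 1 (.node 0 (.node 1 (.node 1 (.node 0 (.node 0 .nil .nil) .nil) .nil) .nil) (.node 1 (.node 0 (.node 0 (.node 1 .nil .nil) .nil) .nil) .nil)) .nil)) .nil)) .nil)) (.node 1 (.node 0 (.node 0 (.node 1 (.node 0 (.node 0 (.node 1 (.node 0 (.node 1 (.node 0 .nil .nil) .nil) (.node 1 (.node 0 .nil (.node 1 .nil .nil)) .nil)) .nil) (.node 1 (.node 0 (.node 1 .nil .nil) (.node 1 .nil .nil)) .nil)) (.node 1 (.node 1 (.node 0 (.node 1 .nil .nil) .nil) .nil) .nil)) .nil) (.node 1 (.node 0 (.node 0 (.node 1 (.node 0 .nil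 (.node 1 (.node 0 .nil .nil) .nil)) .nil) (.node 1 (.node 0 (.node 0 .nil (.node 1 (.node 0 .nil .nil) .nil)) (.node 1 (.node 0 .nil (.node 1 .nil .nil)) .nil)) .nil)) (.node 1 (.node 0 (.node 0 (.node 1 (.node 1 .nil .nil) .nil) (.node 1 .nil .nil)) (.node 1 .nil .nil)) .nil)) .nil)) (.node 1 (.node 0 (.node 0 (.node 1 (.node 0 (.node 0 (.node 1 (.node 0 .nil .nil) .nil) .nil) (.node 1 (.node 0 (.node 0 .nil .nil) (.node 1 (.node 0 (.node 1 .nil .nil) (.node 1 .nil .nil)) .nil)) .nil)) .nil) (.node 1 (.node 0 (.node 0 .nil (.node 1 .nil .nil)) (.node 1 (.node 0 (.node 1 .nil .nil) (.node 1 (.node 0 (.node 0 (.node 1 .nil .nil) (.node 1 .nil .nil)) (.node 1 (.node 1 .nil .nil) .nil)) .nil)) .nil)) .nil)) .nil) .nil)) .nil)) .nil)) .nil)) .nil))), (44, (.node 0 (.node 0 (.node 1 (.node 0 (.node 0 (.node 1 (.node 0 .nil .nil) .nil) (.node 1 (.node 0 (.node 0 (.node 1 .nil .nil) (.node 1 (.node 0 (.node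 1 .nil .nil) .nil) .nil)) (.node 1 (.node 0 .nil .nil) .nil)) .nil)) (.node 1 (.node 0 (.node 0 (.node 1 (.node 0 (.node 1 (.node 1 (.node 1 .nil .nil) .nil) .nil) (.node 1 (.node 0 .nil .nil) .nil)) .nil) (.node 1 (.node 0 (.node 1 .nil .nil) (.node 1 (.node 0 (.node 0 (.node 1 .nil .nil) .nil) (.node 1 (.node 0 (.node 1 .nil .nil) .nil) .nil)) .nil)) .nil)) (.node 1 (.node 0 (.node 0 (.node 1 (.node 0 (.node 0 .nil .nil) .nil) .nil) (.node 1 (.node 0 (.node 1 (.node 0 .nil .nil) .nil) (.node 1 (.node 1 .nil .nil) .nil)) .nil)) .nil) .nil)) .nil)) .nil) (.node 1 (.node 0 (.node 0 (.node 1 (.node 0 (.node 0 .nil (.node 1 (.node 0 (.node 0 .nil .nil) (.node 1 (.node 0 .nil .nil) .nil)) .nil)) (.node 1 (.node 1 .nil .nil) .nil)) .nil) (.node 1 (.node 0 (.node 0 (.node 1 (.node 0 .nil .nil) .nil) (.node 1 .nil .nil)) .nil) .nil)) (.node 1 (.node 0 (.node 0 (.node 1 (.node 0 (.node 1 (.node 0 (.node 0 .nil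 .nil) (.node 1 (.node 0 .nil .nil) .nil)) .nil) (.node 1 (.node 0 (.node 0 .nil (.node 1 .nil .nil)) .nil) .nil)) .nil) (.node 1 (.node 1 (.node 1 (.node 0 (.node 1 (.node 0 .nil .nil) .nil) .nil) .nil) .nil) .nil)) (.node 1 (.node 0 (.node 0 (.node 1 (.node 0 .nil .nil) .nil) (.node 1 (.node 1 (.node 0 (.node 0 .nil (.node 1 .nil .nil)) (.node 1 (.node 0 (.node 0 .nil .nil) (.node 1 .nil .nil)) .nil)) .nil) .nil)) (.node 1 (.node 0 (.node 0 (.node 1 (.node 1 .nil .nil) .nil) (.node 1 (.node 1 .nil .nil) .nil)) (.node 1 (.node 0 (.node 0 .nil .nil) .nil) .nil)) .nil)) .nil)) .nil)) .nil)) (.node 1 (.node 0 (.node 0 (.node 1 (.node 0 (.node 0 (.node 1 (.node 0 .nil .nil) .nil) .nil) (.node 1 (.node 0 (.node 0 (.node 1 (.node 1 .nil .nil) .nil) (.node 1 (.node 0 (.node 0 .nil .nil) (.node 1 .nil .nil)) .nil)) (.node 1 (.node 1 (.node 0 .nil (.node 1 .nil .nil)) .nil) .nil)) .nil)) .nil) (.node 1 (.node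 0 (.node 0 .nil (.node 1 (.node 0 (.node 0 (.node 1 .nil .nil) (.node 1 (.node 0 .nil .nil) .nil)) (.node 1 (.node 0 (.node 0 (.node 1 .nil .nil) .nil) .nil) .nil)) .nil)) (.node 1 (.node 0 .nil .nil) .nil)) .nil)) (.node 1 (.node 0 (.node 0 (.node 1 (.node 0 (.node 0 .nil .nil) (.node 1 (.node 0 (.node 1 (.node 1 (.node 0 .nil .nil) .nil) .nil) (.node 1 (.node 0 (.node 0 .nil .nil) .nil) .nil)) .nil)) .nil) (.node 1 (.node 0 (.node 0 (.node 1 (.node 0 (.node 0 .nil .nil) (.node 1 .nil .nil)) .nil) (.node 1 (.node 0 .nil (.node 1 (.node 0 (.node 1 .nil .nil) (.node 1 (.node 0 .nil .nil) .nil)) .nil)) .nil)) (.node 1 (.node 0 (.node 1 (.node 0 .nil (.node 1 .nil .nil)) .nil) .nil) .nil)) .nil)) (.node 1 (.node 0 (.node 0 (.node 1 (.node 0 (.node 0 .nil .nil) (.node 1 (.node 1 (.node 0 .nil .nil) .nil) .nil)) .nil) (.node 1 (.node 0 (.node 0 (.node 1 (.node 1 .nil .nil) .nil) (.node 1 (.node 1 .nil .nil)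 .nil)) .nil) .nil)) (.node 1 (.node 0 (.node 0 (.node 1 (.node 1 (.node 1 .nil .nil) .nil) .nil) (.node 1 .nil .nil)) (.node 1 (.node 0 (.node 0 (.node 1 (.node 0 .nil .nil) .nil) (.node 1 .nil .nil)) .nil) .nil)) .nil)) .nil)) .nil)) .nil)))]

/-- Fixed sets for `pqs`. -/
def pqsFix : List ℕ := [8388608, 1, 6]

/-- Generators for `pqs`. -/
def pqsGens : List ℕ := [983053497630537148433407450595853376, 967816236302434324576947302631146560]

/-- Octads containing the fixed points of `pqs`. -/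
def pqsOcts : List ℕ := [12656663, 8536111, 11010247, 9471495, 8657159]

set_option maxRecDepth 20000 in
/-- Forests for `pqs`. -/
def pqsRoots : List (ℕ × OrbTree) := [(6, .nil), (10, (.node 0 (.node 0 (.node 0 .nil (.node 1 (.node 0 (.node 1 (.node 0 (.node 0 (.node 0 .nil .nil) .nil) .nil) .nil) (.node 1 (.node 1 .nil .nil) .nil)) .nil)) (.node 1 (.node 0 .nil (.node 1 (.node 0 .nil (.node 1 (.node 0 .nil .nil) .nil)) .nil)) .nil)) (.node 1 (.node 0 (.node 0 (.node 0 (.node 0 (.node 0 .nil (.node 1 .nil .nil)) .nil) (.node 1 (.node 0 .nil .nil) .nil)) (.node 1 (.node 0 (.node 0 (.node 1 (.node 0 .nil .nil) .nil) .nil) .nil) .nil)) (.node 1 (.node 0 (.node 1 (.node 0 .nil (.node 1 (.node 0 .nil .nil) .nil)) .nil) (.node 1 (.node 0 .nil .nil) .nil)) .nil)) .nil))), (24, (.node 0 (.node 0 (.node 0 (.node 1 (.node 0 (.node 1 (.node 0 .nil (.node 1 .nil .nil)) .nil) (.node 1 (.node 0 (.node 0 (.node 1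 .nil .nil) .nil) (.node 1 (.node 0 (.node 0 .nil (.node 1 .nil .nil)) .nil) .nil)) .nil)) .nil) (.node 1 (.node 0 (.node 1 (.node 0 (.node 0 (.node 0 .nil .nil) .nil) .nil) .nil) (.node 1 (.node 0 (.node 0 (.node 0 .nil (.node 1 .nil .nil)) (.node 1 (.node 1 (.node 0 .nil (.node 1 .nil .nil)) .nil) .nil)) (.node 1 (.node 0 (.node 0 (.node 1 .nil .nil) (.node 1 (.node 0 (.node 0 .nil .nil) .nil) .nil)) (.node 1 (.node 0 (.node 0 .nil (.node 1 .nil .nil)) .nil) .nil)) .nil)) .nil)) .nil)) (.node 1 (.node 0 (.node 0 (.node 1 (.node 0 .nil (.node 1 .nil .nil)) .nil) (.node 1 (.node 0 (.node 0 .nil .nil) (.node 1 .nil .nil)) .nil)) (.node 1 (.node 0 (.node 1 (.node 1 (.node 0 .nil (.node 1 (.node 0 (.node 0 (.node 1 .nil .nil) (.node 1 .nil .nil)) .nil) .nil)) .nil) .nil) (.node 1 (.node 0 .nil (.node 1 .nil .nil)) .nil)) .nil)) .nil)) (.node 1 (.node 0 (.node 0 (.node 0 (.node 0 (.node 0 .nil (.node 1 (.node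 0 .nil .nil) .nil)) .nil) (.node 1 (.node 0 (.node 1 .nil .nil) (.node 1 (.node 0 (.node 0 .nil (.node 1 (.node 0 (.node 0 (.node 1 .nil .nil) .nil) .nil) .nil)) .nil) .nil)) .nil)) (.node 1 (.node 0 (.node 0 (.node 1 (.node 0 .nil .nil) .nil) .nil) (.node 1 (.node 0 (.node 1 (.node 1 (.node 0 .nil (.node 1 (.node 0 .nil .nil) .nil)) .nil) .nil) (.node 1 .nil .nil)) .nil)) .nil)) (.node 1 (.node 0 (.node 0 (.node 0 (.node 0 (.node 0 .nil (.node 1 .nil .nil)) .nil) (.node 1 (.node 0 (.node 1 (.node 1 (.node 0 .nil .nil) .nil) .nil) (.node 1 (.node 0 (.node 0 .nil (.node 1 (.node 0 (.node 0 .nil .nil) (.node 1 .nil .nil)) .nil)) .nil) .nil)) .nil)) (.node 1 (.node 0 (.node 0 (.node 0 .nil (.node 1 (.node 0 .nil (.node 1 .nil .nil)) .nil)) .nil) (.node 1 (.node 0 (.node 1 (.node 0 .nil .nil) .nil) (.node 1 (.node 0 (.node 0 (.node 1 .nil .nil) (.node 1 .nil .nil)) .nil) .nil)) .nil)) .nil)) (.node 1 (.node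 0 (.node 0 (.node 1 (.node 0 (.node 1 .nil .nil) (.node 1 .nil .nil)) .nil) (.node 1 (.node 0 (.node 0 (.node 0 .nil (.node 1 .nil .nil)) .nil) (.node 1 (.node 0 (.node 1 .nil .nil) (.node 1 (.node 0 (.node 0 .nil .nil) .nil) .nil)) .nil)) .nil)) (.node 1 (.node 0 (.node 0 .nil (.node 1 (.node 0 (.node 0 .nil .nil) (.node 1 (.node 0 (.node 1 (.node 0 .nil .nil) .nil) .nil) .nil)) .nil)) .nil) .nil)) .nil)) .nil)) .nil))), (40, (.node 0 (.node 0 (.node 0 .nil (.node 1 (.node 0 (.node 1 .nil .nil) (.node 1 (.node 0 (.node 1 .nil .nil) .nil) .nil)) .nil)) (.node 1 (.node 0 .nil (.node 1 (.node 0 .nil .nil) .nil)) .nil)) (.node 1 (.node 0 (.node 0 (.node 0 (.node 0 (.node 0 .nil .nil) .nil) .nil) (.node 1 (.node 0 (.node 0 .nil .nil) (.node 1 (.node 0 .nil (.node 1 .nil .nil)) .nil)) .nil)) (.node 1 (.node 0 (.node 0 .nil .nil) (.node 1 .nil .nil)) .nil)) .nil)))]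

end Cfsg.Agent.Golay
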