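import Cfsg.Agent.Golay.Mathieu
import Cfsg.Prelude.Def_Sporadic
import Mathlib.GroupTheory.GroupAction.MultipleTransitivity

/-! Sharply four-transitive groups of degree 11 and sharply five-transitive groups of degree 12. -/

set_option autoImplicit false

namespace Cfsg.Agent.Golay

theorem simple7920 {G α : Type*} [Group G] [Finite G] [MulAction G α] (hcard : Nat.card G = 7920)
    (S : Set α) (hSf : S.Finite) (h11 : S.ncard = 11) (hS : ∀ (g : G), ∀ x ∈ S, g • x ∈ S)
    (hfaith : ∀ g : G, (∀ x ∈ S, g • x = x) → g = 1)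
    (h2 : ∀ a ∈ S, ∀ b ∈ S, ∀ a' ∈ S, ∀ b' ∈ S, a ≠ b → a' ≠ b' → ∃ g : G, g • a = a' ∧ g • b = b') :
    IsSimpleGroup G := by
  have hcard' : Nat.card G = 11 * 720 := by rw [hcard]
  haveI := Fact.mk (by norm_num : Nat.Prime 11)
  let P : Sylow 11 G := default
  have hP1 : Nat.card P = 11 := by
    simpa using (SmallOrder.sylow_arith P (a := 1) (m := 720) (by simpa using hcard') (by norm_num)).1
  obtain ⟨hP, hN⟩ := card_normalizer_of_centralizer (n := 55) (by norm_num) hcard' (by norm_num) P
    (card_centralizer_le (by norm_num) _ hP1 S hSf h11 hfaith hS)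
    (by decide +kernel)
  refine isSimpleGroup_of_normalizer (p := 11) (r := 5) (by norm_num) (by norm_num)
    (by rw [hcard]; norm_num) P hP hN fun N hNn hNb => ?_
  haveI := hNn
  obtain ⟨a, ha⟩ : S.Nonempty := by rw [← Set.ncard_pos hSf, h11]; norm_num
  rw [← h11]
  exact ncard_dvd_card_normal S hfaith hS h2 N hNb ha

variable {α : Type*} [Fintype α] [DecidableEq α] (G : Subgroup (Equiv.Perm α))

theorem sharp_card {k n : ℕ} [MulAction.IsMultiplyPretransitive G α k] (hα : Fintype.card α = n) (hk : k ≤ n)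
    (hsharp : ∀ x : Fin k ↪ α, MulAction.stabilizer G x = ⊥) : Nat.card G = n.descFactorial k := by
  obtain ⟨x⟩ : Nonempty (Fin k ↪ α) :=
    Function.Embedding.nonempty_of_card_le (by rw [Fintype.card_fin, hα]; exact hk)
  have hbij : Function.Bijective fun g : G => g • x := by
    refine ⟨fun g h e => ?_, fun y => MulAction.exists_smul_eq G x y⟩
    have : h⁻¹ * g ∈ MulAction.stabilizer G x := by
      rw [MulAction.mem_stabilizer_iff, mul_smul, inv_smul_eq_iff]; exact e
    rw [hsharp, Subgroup.mem_bot, inv_mul_eq_one] at this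
    exact this.symm
  rw [Nat.card_eq_of_bijective _ hbij, Nat.card_eq_fintype_card, Fintype.card_embedding_eq, Fintype.card_fin, hα]

theorem trans_three [MulAction.IsMultiplyPretransitive G α 3] {a b c a' b' c' : α} (h1 : a ≠ b) (h2 : a ≠ c)
    (h3 : b ≠ c) (h1' : a' ≠ b') (h2' : a' ≠ c') (h3' : b' ≠ c') :
    ∃ g : G, g • a = a' ∧ g • b = b' ∧ g • c = c' := by
  obtain ⟨g, hg⟩ := MulAction.exists_smul_eq G
    (⟨![a, b, c], by intro i j; fin_cases i <;> fin_cases j <;> simp [h1, h2, h3, h1.symm, h2.symm, h3.symm]⟩ :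
      Fin 3 ↪ α)
    ⟨![a', b', c'], by intro i j; fin_cases i <;> fin_cases j <;> simp [h1', h2', h3', h1'.symm, h2'.symm, h3'.symm]⟩
  refine ⟨g, ?_, ?_, ?_⟩
  · exact congrArg (fun f : Fin 3 ↪ α => f 0) hg
  · exact congrArg (fun f : Fin 3 ↪ α => f 1) hg
  · exact congrArg (fun f : Fin 3 ↪ α => f 2) hg

theorem sharp11 (hα : Fintype.card α = 11) [MulAction.IsMultiplyPretransitive G α 4]
    (hsharp : ∀ x : Fin 4 ↪ α, MulAction.stabilizer G x = ⊥) : IsM11 G := by
  have hcard : Nat.card G = 7920 := by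
    rw [sharp_card G hα (by norm_num) hsharp]; decide
  haveI := MulAction.isMultiplyPretransitive_of_le (G := G) (α := α) (m := 2) (n := 4) (by norm_num)
    (by rw [Nat.card_eq_fintype_card, hα]; norm_num)
  refine ⟨simple7920 hcard Set.univ Set.finite_univ (by rw [Set.ncard_univ, Nat.card_eq_fintype_card, hα])
    (fun _ _ _ => trivial) (fun g hg => Subtype.ext (Equiv.ext fun x => hg x trivial)) ?_, hcard⟩
  intro a _ b _ a' _ b' _ hab hab'
  exact (MulAction.is_two_pretransitive_iff.1 inferInstance) hab hab'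

theorem sharp12 (hα : Fintype.card α = 12) [MulAction.IsMultiplyPretransitive G α 5]
    (hsharp : ∀ x : Fin 5 ↪ α, MulAction.stabilizer G x = ⊥) : IsM12 G := by
  have hcard : Nat.card G = 95040 := by
    rw [sharp_card G hα (by norm_num) hsharp]; decide
  haveI := MulAction.isMultiplyPretransitive_of_le (G := G) (α := α) (m := 2) (n := 5) (by norm_num)
    (by rw [Nat.card_eq_fintype_card, hα]; norm_num)
  haveI := MulAction.isMultiplyPretransitive_of_le (G := G) (α := α) (m := 3) (n := 5) (by norm_num)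
    (by rw [Nat.card_eq_fintype_card, hα]; norm_num)
  have h2 : ∀ a ∈ (Set.univ : Set α), ∀ b ∈ (Set.univ : Set α), ∀ a' ∈ (Set.univ : Set α),
      ∀ b' ∈ (Set.univ : Set α), a ≠ b → a' ≠ b' → ∃ g : G, g • a = a' ∧ g • b = b' :=
    fun a _ b _ a' _ b' _ hab hab' => (MulAction.is_two_pretransitive_iff.1 inferInstance) hab hab'
  obtain ⟨a⟩ : Nonempty α := Fintype.card_pos_iff.1 (by omega)
  obtain ⟨b, hb⟩ := Fintype.exists_ne_of_one_lt_card (by omega) a
  have hst : Nat.card (MulAction.stabilizer G a) = 7920 := by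
    have h := Subgroup.card_eq_card_quotient_mul_card_subgroup (MulAction.stabilizer G a)
    have horb : MulAction.orbit G a = Set.univ := Set.eq_univ_of_forall fun c => by
      by_cases hc : c = a
      · subst hc; exact MulAction.mem_orbit_self c
      · obtain ⟨g, hg, -⟩ := h2 a trivial b trivial c trivial a trivial (Ne.symm hb) hc
        exact ⟨g, hg⟩
    rw [← Nat.card_congr (MulAction.orbitEquivQuotientStabilizer G a), Nat.card_coe_set_eq, horb,
      Set.ncard_univ, Nat.card_eq_fintype_card (α := α), hα, hcard] at h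
    omega
  haveI : IsSimpleGroup (MulAction.stabilizer G a) := by
    refine simple7920 hst ({a}ᶜ : Set α) (Set.toFinite _)
      (by rw [Set.ncard_compl, Set.ncard_singleton, Nat.card_eq_fintype_card, hα]) ?_ ?_ ?_
    · intro g x hx e
      apply hx
      have := (MulAction.injective g.1) ((Set.mem_singleton_iff.1 e).trans g.2.symm)
      exact this
    · intro g hg
      refine Subtype.ext (Subtype.ext (Equiv.ext fun x => ?_))
      by_cases hx : x = a
      · subst hx; exact g.2
      · exact hg x hx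
    · intro x hx y hy x' hx' y' hy' hxy hxy'
      obtain ⟨g, g1, g2, g3⟩ := trans_three G (Ne.symm hx) (Ne.symm hy) hxy (Ne.symm hx') (Ne.symm hy') hxy'
      exact ⟨⟨g, g1⟩, g2, g3⟩
  refine ⟨isSimpleGroup_of_stabilizer Set.univ (fun g hg => Subtype.ext (Equiv.ext fun x => hg x trivial))
    (fun _ _ _ => trivial) h2 (a := a) trivial (p := 2) (q := 3) Nat.prime_two Nat.prime_three (by norm_num)
    ?_ ?_, hcard⟩ <;> rw [Set.ncard_univ, Nat.card_eq_fintype_card, hα] <;> norm_num

end Cfsg.Agent.Golay
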