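import Cfsg.Prelude.Def_Sporadic_a

/-! Counting in abstract Steiner systems: block numbers and intersection moments. -/

set_option autoImplicit false

namespace Cfsg.Agent.Golay

variable {α : Type*} [Fintype α] [DecidableEq α] {t k : ℕ} {B : Set (Finset α)}

/-- The blocks as a finite set. -/
noncomputable def blocksF (B : Set (Finset α)) : Finset (Finset α) := (Set.toFinite B).toFinset

theorem mem_blocksF {b : Finset α} : b ∈ blocksF B ↔ b ∈ B := by simp [blocksF]

theorem block_eq_of_card_inter (hB : IsSteinerSystem t k B) {b c : Finset α} (hb : b ∈ B)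
    (hc : c ∈ B) (h : t ≤ (b ∩ c).card) : b = c := by
  obtain ⟨s, hs, hst⟩ := Finset.exists_subset_card_eq h
  exact (hB.2 s hst).unique ⟨hb, hs.trans Finset.inter_subset_left⟩
    ⟨hc, hs.trans Finset.inter_subset_right⟩

/-- The number of blocks through a set of at most `t` points. -/
theorem card_blocks_through (hB : IsSteinerSystem t k B) (T : Finset α) (hT : T.card ≤ t) :
    ((blocksF B).filter fun g => T ⊆ g).card * Nat.choose (k - T.card) (t - T.card)
      = Nat.choose (Fintype.card α - T.card) (t - T.card) := by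
  have hU : ((blocksF B).filter fun g => T ⊆ g).biUnion (fun g => (g \ T).powersetCard (t - T.card))
      = Tᶜ.powersetCard (t - T.card) := by
    ext s
    simp only [Finset.mem_biUnion, Finset.mem_filter, Finset.mem_powersetCard, mem_blocksF]
    constructor
    · rintro ⟨g, -, hs, hc⟩
      exact ⟨fun x hx => Finset.mem_compl.2 (Finset.mem_sdiff.1 (hs hx)).2, hc⟩
    · rintro ⟨hs, hc⟩
      have hd : Disjoint T s := Finset.disjoint_left.2 fun x hx hxs => Finset.mem_compl.1 (hs hxs) hx
      obtain ⟨g, ⟨hg, hsub⟩, -⟩ := hB.2 (T ∪ s) (by rw [Finset.card_union_of_disjoint hd, hc]; omega)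
      exact ⟨g, ⟨hg, Finset.union_subset_iff.1 hsub |>.1⟩,
        fun x hx => Finset.mem_sdiff.2 ⟨(Finset.union_subset_iff.1 hsub).2 hx,
          fun h => Finset.disjoint_left.1 hd h hx⟩, hc⟩
  have h := congrArg Finset.card hU
  rw [Finset.card_powersetCard, Finset.card_compl, Finset.card_biUnion] at h
  · rw [← h]
    refine (Finset.sum_const_nat fun g hg => ?_).symm
    rw [Finset.mem_filter, mem_blocksF] at hg
    rw [Finset.card_powersetCard, Finset.card_sdiff_of_subset hg.2, hB.1 g hg.1]
  · intro g hg g' hg' hne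
    rw [Finset.coe_filter] at hg hg'
    simp only [Set.mem_ofPred_eq, mem_blocksF] at hg hg'
    rw [Function.onFun, Finset.disjoint_left]
    intro s hs hs'
    rw [Finset.mem_powersetCard] at hs hs'
    refine hne ((hB.2 (T ∪ s) ?_).unique
      ⟨hg.1, Finset.union_subset hg.2 (hs.1.trans Finset.sdiff_subset)⟩
      ⟨hg'.1, Finset.union_subset hg'.2 (hs'.1.trans Finset.sdiff_subset)⟩)
    rw [Finset.card_union_of_disjoint (Finset.disjoint_left.2 fun x hx hxs =>
      (Finset.mem_sdiff.1 (hs.1 hxs)).2 hx), hs.2]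
    omega

/-- Number of blocks meeting `X` in exactly `j` points. -/
noncomputable def interCount (B : Set (Finset α)) (X : Finset α) (j : ℕ) : ℕ :=
  ((blocksF B).filter fun g => (g ∩ X).card = j).card

/-- The `i`-th binomial moment of the intersection numbers with any set. -/
theorem inter_moment (hB : IsSteinerSystem t k B) (X : Finset α) {i L : ℕ} (hi : i ≤ t)
    (hL : L * Nat.choose (k - i) (t - i) = Nat.choose (Fintype.card α - i) (t - i))
    (hkt : t ≤ k) (n : ℕ) (hn : X.card < n) :
    ∑ j ∈ Finset.range n, interCount B X j * Nat.choose j i = Nat.choose X.card i * L := by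
  have hpos : 0 < Nat.choose (k - i) (t - i) := Nat.choose_pos (by omega)
  have hsum : ∑ g ∈ blocksF B, Nat.choose (g ∩ X).card i = Nat.choose X.card i * L := by
    have h1 : ∀ g ∈ blocksF B, Nat.choose (g ∩ X).card i
        = ((X.powersetCard i).filter fun T => T ⊆ g).card := by
      intro g _
      rw [← Finset.card_powersetCard]
      congr 1
      ext T
      simp only [Finset.mem_powersetCard, Finset.mem_filter, Finset.subset_inter_iff]
      tauto
    rw [Finset.sum_congr rfl h1]
    simp only [Finset.card_filter]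
    rw [Finset.sum_comm, ← Finset.card_powersetCard]
    refine (Finset.sum_congr rfl (fun T hT => ?_)).trans
      ((Finset.sum_const L).trans (smul_eq_mul _ _))
    rw [Finset.mem_powersetCard] at hT
    have h := card_blocks_through hB T (hT.2 ▸ hi)
    rw [hT.2, Finset.card_filter] at h
    exact Nat.eq_of_mul_eq_mul_right hpos (h.trans hL.symm)
  rw [← hsum, ← Finset.sum_fiberwise_of_maps_to (g := fun g => (g ∩ X).card) (t := Finset.range n)]
  · refine Finset.sum_congr rfl fun j _ => ?_
    rw [interCount]
    exact (Finset.sum_const_nat fun g hg => by rw [(Finset.mem_filter.1 hg).2]).symm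
  · intro g _
    exact Finset.mem_range.2 (lt_of_le_of_lt (Finset.card_le_card Finset.inter_subset_right) hn)

theorem ncard_blocks (hB : IsSteinerSystem t k B) :
    B.ncard * Nat.choose k t = Nat.choose (Fintype.card α) t := by
  have h := card_blocks_through hB ∅ (by simp)
  simpa [blocksF, ← Set.ncard_eq_toFinset_card _ (Set.toFinite B)] using h

theorem interCount_pos_iff {X : Finset α} {j : ℕ} :
    0 < interCount B X j ↔ ∃ g ∈ B, (g ∩ X).card = j := by
  simp [interCount, Finset.card_pos, Finset.Nonempty, mem_blocksF]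

theorem interCount_eq_zero {X : Finset α} {j : ℕ} (h : ∀ g ∈ B, (g ∩ X).card ≠ j) :
    interCount B X j = 0 := by
  by_contra hne
  obtain ⟨g, hg, e⟩ := interCount_pos_iff.1 (Nat.pos_of_ne_zero hne)
  exact h g hg e

theorem interCount_ncard (X : Finset α) (j : ℕ) :
    interCount B X j = {g : Finset α | g ∈ B ∧ (g ∩ X).card = j}.ncard := by
  rw [interCount, ← Set.ncard_coe_finset]
  congr 1
  ext g; simp [mem_blocksF]

/-- Blocks meet a given block only in fewer than `t` points, apart from itself. -/
theorem interCount_self (hB : IsSteinerSystem t k B) {b : Finset α} (hb : b ∈ B) (hkt : t ≤ k)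
    {j : ℕ} (hj : t ≤ j) : interCount B b j = if j = k then 1 else 0 := by
  split_ifs with h
  · subst h
    rw [interCount, Finset.card_eq_one]
    refine ⟨b, ?_⟩
    ext g
    simp only [Finset.mem_filter, mem_blocksF, Finset.mem_singleton]
    constructor
    · rintro ⟨hg, e⟩; exact block_eq_of_card_inter hB hg hb (e ▸ hj)
    · rintro rfl; exact ⟨hb, by rw [Finset.inter_self, hB.1 _ hb]⟩
  · refine interCount_eq_zero fun g hg e => h ?_
    obtain rfl := block_eq_of_card_inter hB hg hb (e ▸ hj)
    rw [← e, Finset.inter_self, hB.1 _ hg]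

end Cfsg.Agent.Golay

namespace Cfsg.Agent.Golay

variable {α : Type*} [Fintype α] [DecidableEq α] {B : Set (Finset α)}

theorem block_dist_24 (hα : Fintype.card α = 24) (hB : IsSteinerSystem 5 8 B) {b : Finset α}
    (hb : b ∈ B) : interCount B b 0 = 30 ∧ interCount B b 1 = 0 ∧ interCount B b 2 = 448 ∧
      interCount B b 3 = 0 ∧ interCount B b 4 = 280 := by
  have hL : ∀ i L, i ≤ 5 → L * Nat.choose (8 - i) (5 - i) = Nat.choose (24 - i) (5 - i) →
      ∑ j ∈ Finset.range 9, interCount B b j * Nat.choose j i = Nat.choose 8 i * L := by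
    intro i L hi hL
    rw [← hB.1 b hb]
    exact inter_moment hB b hi (by rw [hα]; exact hL) (by norm_num) 9 (by rw [hB.1 b hb]; norm_num)
  have m0 := hL 0 759 (by norm_num) (by decide +kernel)
  have m1 := hL 1 253 (by norm_num) (by decide +kernel)
  have m2 := hL 2 77 (by norm_num) (by decide +kernel)
  have m3 := hL 3 21 (by norm_num) (by decide +kernel)
  have m4 := hL 4 5 (by norm_num) (by decide +kernel)
  have s5 := interCount_self hB hb (by norm_num) (j := 5) le_rfl
  have s6 := interCount_self hB hb (by norm_num) (j := 6) (by norm_num)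
  have s7 := interCount_self hB hb (by norm_num) (j := 7) (by norm_num)
  have s8 := interCount_self hB hb (by norm_num) (j := 8) (by norm_num)
  simp [Finset.sum_range_succ, Nat.choose_succ_succ, s5, s6, s7, s8] at m0 m1 m2 m3 m4
  omega

theorem block_inter_24 (hα : Fintype.card α = 24) (hB : IsSteinerSystem 5 8 B) {b c : Finset α}
    (hb : b ∈ B) (hc : c ∈ B) (hbc : b ≠ c) :
    (b ∩ c).card = 0 ∨ (b ∩ c).card = 2 ∨ (b ∩ c).card = 4 := by
  obtain ⟨-, h1, -, h3, -⟩ := block_dist_24 hα hB hb
  have hlt : (b ∩ c).card < 5 := by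
    by_contra h
    exact hbc (block_eq_of_card_inter hB hb hc (not_lt.1 h))
  have hpos : 0 < interCount B b (b ∩ c).card :=
    interCount_pos_iff.2 ⟨c, hc, by rw [Finset.inter_comm]⟩
  rcases (show (b ∩ c).card = 0 ∨ (b ∩ c).card = 1 ∨ (b ∩ c).card = 2 ∨ (b ∩ c).card = 3 ∨
      (b ∩ c).card = 4 by omega) with h | h | h | h | h <;> rw [h] at hpos <;> omega

theorem symmDiff_block_24 (hα : Fintype.card α = 24) (hB : IsSteinerSystem 5 8 B) {b c : Finset α}
    (hb : b ∈ B) (hc : c ∈ B) (h4 : (b ∩ c).card = 4) : symmDiff b c ∈ B := by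
  set X := symmDiff b c with hX
  have hbc : b ≠ c := by rintro rfl; rw [Finset.inter_self, hB.1 b hb] at h4; omega
  have hsplit : ∀ g : Finset α, (g ∩ X).card + 2 * (g ∩ (b ∩ c)).card = (g ∩ b).card + (g ∩ c).card := by
    intro g
    have h1 : g ∩ X = symmDiff (g ∩ b) (g ∩ c) := inf_symmDiff_distrib_left g b c
    have h2 : g ∩ (b ∩ c) = (g ∩ b) ∩ (g ∩ c) := inf_inf_distrib_left g b c
    have h3 := Finset.card_union_add_card_inter (g ∩ b) (g ∩ c)
    have h5 : symmDiff (g ∩ b) (g ∩ c) = (g ∩ b ∪ g ∩ c) \ ((g ∩ b) ∩ (g ∩ c)) :=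
      symmDiff_eq_sup_sdiff_inf _ _
    rw [h1, h2, h5, Finset.card_sdiff_of_subset
      (Finset.inter_subset_left.trans Finset.subset_union_left)]
    have : ((g ∩ b) ∩ (g ∩ c)).card ≤ (g ∩ b ∪ g ∩ c).card :=
      Finset.card_le_card (Finset.inter_subset_left.trans Finset.subset_union_left)
    omega
  have hX8 : X.card = 8 := by
    have h := hsplit Finset.univ
    simp only [Finset.univ_inter, h4, hB.1 b hb, hB.1 c hc] at h
    omega
  have hev : ∀ g ∈ B, (g ∩ X).card % 2 = 0 := by
    intro g hg
    have h := hsplit g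
    have key : ∀ x ∈ B, (g ∩ x).card % 2 = 0 := by
      intro x hx
      rcases eq_or_ne g x with rfl | hne
      · rw [Finset.inter_self, hB.1 g hg]
      · rcases block_inter_24 hα hB hg hx hne with e | e | e <;> rw [e]
    have := key b hb
    have := key c hc
    omega
  have hodd : ∀ j, j % 2 = 1 → interCount B X j = 0 := fun j hj =>
    interCount_eq_zero fun g hg e => by
      have h := hev g hg
      rw [e] at h
      omega
  have hL : ∀ i L, i ≤ 5 → L * Nat.choose (8 - i) (5 - i) = Nat.choose (24 - i) (5 - i) →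
      ∑ j ∈ Finset.range 9, interCount B X j * Nat.choose j i = Nat.choose 8 i * L := by
    intro i L hi hL
    rw [← hX8]
    exact inter_moment hB X hi (by rw [hα]; exact hL) (by norm_num) 9 (by rw [hX8]; norm_num)
  have m3 := hL 3 21 (by norm_num) (by decide +kernel)
  have m4 := hL 4 5 (by norm_num) (by decide +kernel)
  have m5 := hL 5 1 (by norm_num) (by decide +kernel)
  have o1 := hodd 1 rfl
  have o3 := hodd 3 rfl
  have o5 := hodd 5 rfl
  have o7 := hodd 7 rfl
  simp [Finset.sum_range_succ, Nat.choose_succ_succ, o1, o3, o5, o7] at m3 m4 m5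
  obtain ⟨g, hg, e⟩ := interCount_pos_iff.1 (show 0 < interCount B X 8 by omega)
  have h1 : g ∩ X = g := Finset.eq_of_subset_of_card_le Finset.inter_subset_left (by rw [e, hB.1 g hg])
  have h2 : g ∩ X = X := Finset.eq_of_subset_of_card_le Finset.inter_subset_right (by rw [e, hX8])
  rw [← h2, h1]
  exact hg

theorem block_dist_12 (hα : Fintype.card α = 12) (hB : IsSteinerSystem 5 6 B) {b : Finset α}
    (hb : b ∈ B) : interCount B b 0 = 1 ∧ interCount B b 1 = 0 ∧ interCount B b 2 = 45 ∧
      interCount B b 3 = 40 ∧ interCount B b 4 = 45 := by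
  have hL : ∀ i L, i ≤ 5 → L * Nat.choose (6 - i) (5 - i) = Nat.choose (12 - i) (5 - i) →
      ∑ j ∈ Finset.range 7, interCount B b j * Nat.choose j i = Nat.choose 6 i * L := by
    intro i L hi hL
    rw [← hB.1 b hb]
    exact inter_moment hB b hi (by rw [hα]; exact hL) (by norm_num) 7 (by rw [hB.1 b hb]; norm_num)
  have m0 := hL 0 132 (by norm_num) (by decide +kernel)
  have m1 := hL 1 66 (by norm_num) (by decide +kernel)
  have m2 := hL 2 30 (by norm_num) (by decide +kernel)
  have m3 := hL 3 12 (by norm_num) (by decide +kernel)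
  have m4 := hL 4 4 (by norm_num) (by decide +kernel)
  have s5 := interCount_self hB hb (by norm_num) (j := 5) le_rfl
  have s6 := interCount_self hB hb (by norm_num) (j := 6) (by norm_num)
  simp [Finset.sum_range_succ, Nat.choose_succ_succ, s5, s6] at m0 m1 m2 m3 m4
  omega

theorem compl_block_12 (hα : Fintype.card α = 12) (hB : IsSteinerSystem 5 6 B) {b : Finset α}
    (hb : b ∈ B) : bᶜ ∈ B := by
  obtain ⟨h0, -, -, -, -⟩ := block_dist_12 hα hB hb
  obtain ⟨g, hg, e⟩ := interCount_pos_iff.1 (show 0 < interCount B b 0 by omega)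
  have : g = bᶜ := by
    refine Finset.eq_of_subset_of_card_le (fun x hx => Finset.mem_compl.2 fun hxb => ?_) ?_
    · exact absurd (Finset.mem_inter.2 ⟨hx, hxb⟩) (by rw [Finset.card_eq_zero.1 e]; simp)
    · rw [Finset.card_compl, hα, hB.1 b hb, hB.1 g hg]
  rwa [← this]

theorem block_dist_22 (hα : Fintype.card α = 22) (hB : IsSteinerSystem 3 6 B) {b : Finset α}
    (hb : b ∈ B) : interCount B b 0 = 16 ∧ interCount B b 1 = 0 ∧ interCount B b 2 = 60 := by
  have hL : ∀ i L, i ≤ 3 → L * Nat.choose (6 - i) (3 - i) = Nat.choose (22 - i) (3 - i) →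
      ∑ j ∈ Finset.range 7, interCount B b j * Nat.choose j i = Nat.choose 6 i * L := by
    intro i L hi hL
    rw [← hB.1 b hb]
    exact inter_moment hB b hi (by rw [hα]; exact hL) (by norm_num) 7 (by rw [hB.1 b hb]; norm_num)
  have m0 := hL 0 77 (by norm_num) (by decide +kernel)
  have m1 := hL 1 21 (by norm_num) (by decide +kernel)
  have m2 := hL 2 5 (by norm_num) (by decide +kernel)
  have s3 := interCount_self hB hb (by norm_num) (j := 3) le_rfl
  have s4 := interCount_self hB hb (by norm_num) (j := 4) (by norm_num)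
  have s5 := interCount_self hB hb (by norm_num) (j := 5) (by norm_num)
  have s6 := interCount_self hB hb (by norm_num) (j := 6) (by norm_num)
  simp [Finset.sum_range_succ, Nat.choose_succ_succ, s3, s4, s5, s6] at m0 m1 m2
  omega

theorem block_inter_22 (hα : Fintype.card α = 22) (hB : IsSteinerSystem 3 6 B) {b c : Finset α}
    (hb : b ∈ B) (hc : c ∈ B) (hbc : b ≠ c) : (b ∩ c).card = 0 ∨ (b ∩ c).card = 2 := by
  obtain ⟨-, h1, -⟩ := block_dist_22 hα hB hb
  have hlt : (b ∩ c).card < 3 := by
    by_contra h
    exact hbc (block_eq_of_card_inter hB hb hc (not_lt.1 h))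
  have hpos : 0 < interCount B b (b ∩ c).card :=
    interCount_pos_iff.2 ⟨c, hc, by rw [Finset.inter_comm]⟩
  rcases (show (b ∩ c).card = 0 ∨ (b ∩ c).card = 1 ∨ (b ∩ c).card = 2 by omega) with h | h | h <;>
    rw [h] at hpos <;> omega

theorem block_inter_23 (hα : Fintype.card α = 23) (hB : IsSteinerSystem 4 7 B) {b c : Finset α}
    (hb : b ∈ B) (hc : c ∈ B) (hbc : b ≠ c) : (b ∩ c).card = 1 ∨ (b ∩ c).card = 3 := by
  have hL : ∀ i L, i ≤ 4 → L * Nat.choose (7 - i) (4 - i) = Nat.choose (23 - i) (4 - i) →
      ∑ j ∈ Finset.range 8, interCount B b j * Nat.choose j i = Nat.choose 7 i * L := by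
    intro i L hi hL
    rw [← hB.1 b hb]
    exact inter_moment hB b hi (by rw [hα]; exact hL) (by norm_num) 8 (by rw [hB.1 b hb]; norm_num)
  have m0 := hL 0 253 (by norm_num) (by decide +kernel)
  have m1 := hL 1 77 (by norm_num) (by decide +kernel)
  have m2 := hL 2 21 (by norm_num) (by decide +kernel)
  have m3 := hL 3 5 (by norm_num) (by decide +kernel)
  have s4 := interCount_self hB hb (by norm_num) (j := 4) le_rfl
  have s5 := interCount_self hB hb (by norm_num) (j := 5) (by norm_num)
  have s6 := interCount_self hB hb (by norm_num) (j := 6) (by norm_num)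
  have s7 := interCount_self hB hb (by norm_num) (j := 7) (by norm_num)
  simp [Finset.sum_range_succ, Nat.choose_succ_succ, s4, s5, s6, s7] at m0 m1 m2 m3
  have hlt : (b ∩ c).card < 4 := by
    by_contra h
    exact hbc (block_eq_of_card_inter hB hb hc (not_lt.1 h))
  have hpos : 0 < interCount B b (b ∩ c).card :=
    interCount_pos_iff.2 ⟨c, hc, by rw [Finset.inter_comm]⟩
  rcases (show (b ∩ c).card = 0 ∨ (b ∩ c).card = 1 ∨ (b ∩ c).card = 2 ∨ (b ∩ c).card = 3 by omega)
    with h | h | h | h <;> rw [h] at hpos <;> omega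

end Cfsg.Agent.Golay

namespace Cfsg.Agent.Golay

variable {α : Type*} [Fintype α] [DecidableEq α] {B : Set (Finset α)} {t k : ℕ}

/-- Number of blocks meeting `b` exactly in `s`. -/
noncomputable def exactCount (B : Set (Finset α)) (b s : Finset α) : ℕ :=
  ((blocksF B).filter fun g => g ∩ b = s).card

theorem exactCount_ncard (b s : Finset α) :
    exactCount B b s = {g : Finset α | g ∈ B ∧ b ∩ g = s}.ncard := by
  rw [exactCount, ← Set.ncard_coe_finset]
  congr 1
  ext g; simp [mem_blocksF, Finset.inter_comm]

/-- Blocks through `s ⊆ b`, sorted by their intersection with `b`, when the counts for larger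
intersections depend only on their size. -/
theorem exactCount_add (hB : IsSteinerSystem t k B) {b s : Finset α} (hb : b ∈ B) (hs : s ⊆ b)
    (f : ℕ → ℕ) (hf : ∀ s', s ⊂ s' → s' ⊆ b → exactCount B b s' = f s'.card)
    {L : ℕ} (hL : L * Nat.choose (k - s.card) (t - s.card)
      = Nat.choose (Fintype.card α - s.card) (t - s.card)) (hst : s.card ≤ t) (hkt : t ≤ k) :
    exactCount B b s + ∑ j ∈ Finset.range (k - s.card),
      Nat.choose (k - s.card) (j + 1) * f (s.card + (j + 1)) = L := by
  have hpos : 0 < Nat.choose (k - s.card) (t - s.card) := Nat.choose_pos (by omega)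
  have hcard : (b \ s).card = k - s.card := by rw [Finset.card_sdiff_of_subset hs, hB.1 b hb]
  have h1 : ((blocksF B).filter fun g => s ⊆ g).card = L :=
    Nat.eq_of_mul_eq_mul_right hpos ((card_blocks_through hB s hst).trans hL.symm)
  have h2 : ((blocksF B).filter fun g => s ⊆ g).card
      = ∑ r ∈ (b \ s).powerset, exactCount B b (s ∪ r) := by
    rw [Finset.card_eq_sum_card_fiberwise (f := fun g => (g ∩ b) \ s) (t := (b \ s).powerset)]
    · refine Finset.sum_congr rfl fun r hr => ?_
      rw [Finset.mem_powerset] at hr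
      rw [exactCount, Finset.filter_filter]
      congr 1
      refine Finset.filter_congr fun g _ => ?_
      constructor
      · rintro ⟨hsg, e⟩
        rw [← e, Finset.union_sdiff_of_subset (Finset.subset_inter hsg hs)]
      · intro e
        refine ⟨(Finset.subset_union_left (s₂ := r)).trans (e ▸ Finset.inter_subset_left), ?_⟩
        rw [e, Finset.union_sdiff_cancel_left]
        exact Finset.disjoint_left.2 fun x hx hxr => (Finset.mem_sdiff.1 (hr hxr)).2 hx
    · intro g _
      exact Finset.mem_powerset.2 (Finset.sdiff_subset_sdiff Finset.inter_subset_right le_rfl)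
  rw [← h1, h2, Finset.sum_powerset, hcard, Finset.sum_range_succ', add_comm]
  simp only [Finset.powersetCard_zero, Finset.sum_singleton, Finset.union_empty]
  congr 1
  refine Finset.sum_congr rfl fun j _ => ?_
  rw [Finset.sum_congr rfl (g := fun _ => f (s.card + (j + 1))), Finset.sum_const,
    Finset.card_powersetCard, hcard, smul_eq_mul]
  intro r hr
  rw [Finset.mem_powersetCard] at hr
  have hd : Disjoint s r := Finset.disjoint_left.2 fun x hx hxr => (Finset.mem_sdiff.1 (hr.1 hxr)).2 hx
  rw [hf, Finset.card_union_of_disjoint hd, hr.2]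
  · refine Finset.ssubset_iff_subset_ne.2 ⟨Finset.subset_union_left, fun e => ?_⟩
    have := congrArg Finset.card e
    rw [Finset.card_union_of_disjoint hd, hr.2] at this
    omega
  · exact Finset.union_subset hs (hr.1.trans Finset.sdiff_subset)

theorem exactCount_large (hB : IsSteinerSystem t k B) {b : Finset α} (hb : b ∈ B) {s : Finset α}
    (hs : s ⊆ b) (hst : t ≤ s.card) : exactCount B b s = if s.card = k then 1 else 0 := by
  have key : ∀ g ∈ B, g ∩ b = s → g = b := fun g hg e =>
    block_eq_of_card_inter hB hg hb (by rw [e]; exact hst)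
  split_ifs with h
  · rw [exactCount, Finset.card_eq_one]
    refine ⟨b, ?_⟩
    ext g
    simp only [Finset.mem_filter, mem_blocksF, Finset.mem_singleton]
    refine ⟨fun hg => key g hg.1 hg.2, ?_⟩
    rintro rfl
    refine ⟨hb, ?_⟩
    rw [Finset.inter_self]
    exact (Finset.eq_of_subset_of_card_le hs (by rw [h, hB.1 _ hb])).symm
  · rw [exactCount, Finset.card_eq_zero, Finset.filter_eq_empty_iff]
    intro g hg e
    obtain rfl := key g (mem_blocksF.1 hg) e
    rw [Finset.inter_self] at e
    exact h (e ▸ hB.1 _ hb)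

end Cfsg.Agent.Golay

namespace Cfsg.Agent.Golay

variable {α : Type*} [Fintype α] [DecidableEq α] {B : Set (Finset α)}

theorem card_inter_union (g b c : Finset α) :
    (g ∩ (b ∪ c)).card + (g ∩ (b ∩ c)).card = (g ∩ b).card + (g ∩ c).card := by
  rw [Finset.inter_union_distrib_left, Finset.inter_inter_distrib_left,
    Finset.card_union_add_card_inter]

theorem no_three_disjoint (hα : Fintype.card α = 22) (hB : IsSteinerSystem 3 6 B)
    {b c g : Finset α} (hb : b ∈ B) (hc : c ∈ B) (hg : g ∈ B) (hbc : Disjoint b c)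
    (hbg : Disjoint b g) (hcg : Disjoint c g) : False := by
  classical
  have hb6 := hB.1 b hb
  have hc6 := hB.1 c hc
  have hne : b ≠ c := by
    rintro rfl
    rw [disjoint_self.1 hbc] at hb6
    simp at hb6
  have hX : (b ∪ c).card = 12 := by rw [Finset.card_union_of_disjoint hbc, hb6, hc6]
  have hL : ∀ i L, i ≤ 3 → L * Nat.choose (6 - i) (3 - i) = Nat.choose (22 - i) (3 - i) →
      ∑ j ∈ Finset.range 13, interCount B (b ∪ c) j * Nat.choose j i = Nat.choose 12 i * L := by
    intro i L hi hL
    rw [← hX]
    exact inter_moment hB _ hi (by rw [hα]; exact hL) (by norm_num) 13 (by rw [hX]; norm_num)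
  have m0 := hL 0 77 (by norm_num) (by decide +kernel)
  have m1 := hL 1 21 (by norm_num) (by decide +kernel)
  have m2 := hL 2 5 (by norm_num) (by decide +kernel)
  have m3 := hL 3 1 (by norm_num) (by decide +kernel)
  have hval : ∀ x ∈ B, x ≠ b → x ≠ c → (x ∩ (b ∪ c)).card % 2 = 0 ∧ (x ∩ (b ∪ c)).card ≤ 4 := by
    intro x hx hxb hxc
    have h := card_inter_union x b c
    rw [Finset.disjoint_iff_inter_eq_empty.1 hbc, Finset.inter_empty, Finset.card_empty] at h
    have h1 := block_inter_22 hα hB hx hb hxb
    have h2 := block_inter_22 hα hB hx hc hxc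
    omega
  have hself : (b ∩ (b ∪ c)).card = 6 ∧ (c ∩ (b ∪ c)).card = 6 := by
    rw [Finset.inter_eq_left.2 Finset.subset_union_left,
      Finset.inter_eq_left.2 Finset.subset_union_right]
    exact ⟨hb6, hc6⟩
  have hz : ∀ j, (j % 2 = 1 ∨ 4 < j) → j ≠ 6 → interCount B (b ∪ c) j = 0 := by
    intro j hj hj6
    refine interCount_eq_zero fun x hx e => ?_
    by_cases hxb : x = b
    · exact hj6 (by rw [← e, hxb]; exact hself.1)
    by_cases hxc : x = c
    · exact hj6 (by rw [← e, hxc]; exact hself.2)
    have := hval x hx hxb hxc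
    omega
  have h6 : interCount B (b ∪ c) 6 = 2 := by
    rw [interCount, ← Finset.card_pair hne]
    congr 1
    ext x
    simp only [Finset.mem_filter, mem_blocksF, Finset.mem_insert, Finset.mem_singleton]
    constructor
    · rintro ⟨hx, e⟩
      by_contra h
      rw [not_or] at h
      have := hval x hx h.1 h.2
      omega
    · rintro (rfl | rfl)
      · exact ⟨hb, hself.1⟩
      · exact ⟨hc, hself.2⟩
  have z1 := hz 1 (by norm_num) (by norm_num)
  have z3 := hz 3 (by norm_num) (by norm_num)
  have z5 := hz 5 (by norm_num) (by norm_num)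
  have z7 := hz 7 (by norm_num) (by norm_num)
  have z8 := hz 8 (by norm_num) (by norm_num)
  have z9 := hz 9 (by norm_num) (by norm_num)
  have z10 := hz 10 (by norm_num) (by norm_num)
  have z11 := hz 11 (by norm_num) (by norm_num)
  have z12 := hz 12 (by norm_num) (by norm_num)
  simp [Finset.sum_range_succ, Nat.choose_succ_succ, z1, z3, z5, z7, z8, z9, z10, z11, z12, h6]
    at m0 m1 m2 m3
  have hpos : 0 < interCount B (b ∪ c) 0 := by
    refine interCount_pos_iff.2 ⟨g, hg, ?_⟩
    rw [Finset.card_eq_zero, ← Finset.disjoint_iff_inter_eq_empty, Finset.disjoint_union_right]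
    exact ⟨hbg.symm, hcg.symm⟩
  omega

theorem common_disjoint (hα : Fintype.card α = 22) (hB : IsSteinerSystem 3 6 B) {b c : Finset α}
    (hb : b ∈ B) (hc : c ∈ B) (hne : b ≠ c) (hnd : ¬ Disjoint b c) :
    {g : Finset α | g ∈ B ∧ Disjoint b g ∧ Disjoint c g}.ncard = 4 := by
  classical
  have hb6 := hB.1 b hb
  have hc6 := hB.1 c hc
  have h2 : (b ∩ c).card = 2 := (block_inter_22 hα hB hb hc hne).resolve_left fun h =>
    hnd (Finset.disjoint_iff_inter_eq_empty.2 (Finset.card_eq_zero.1 h))
  have hX : (b ∪ c).card = 10 := by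
    have := Finset.card_union_add_card_inter b c
    omega
  have hL : ∀ i L, i ≤ 3 → L * Nat.choose (6 - i) (3 - i) = Nat.choose (22 - i) (3 - i) →
      ∑ j ∈ Finset.range 11, interCount B (b ∪ c) j * Nat.choose j i = Nat.choose 10 i * L := by
    intro i L hi hL
    rw [← hX]
    exact inter_moment hB _ hi (by rw [hα]; exact hL) (by norm_num) 11 (by rw [hX]; norm_num)
  have m0 := hL 0 77 (by norm_num) (by decide +kernel)
  have m1 := hL 1 21 (by norm_num) (by decide +kernel)
  have m2 := hL 2 5 (by norm_num) (by decide +kernel)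
  have m3 := hL 3 1 (by norm_num) (by decide +kernel)
  have hval : ∀ x ∈ B, x ≠ b → x ≠ c → (x ∩ (b ∪ c)).card ≠ 1 ∧ (x ∩ (b ∪ c)).card ≤ 4 := by
    intro x hx hxb hxc
    have h := card_inter_union x b c
    have h1 := block_inter_22 hα hB hx hb hxb
    have h3 := block_inter_22 hα hB hx hc hxc
    have h4 : (x ∩ (b ∩ c)).card ≤ (x ∩ b).card :=
      Finset.card_le_card (Finset.inter_subset_inter_left Finset.inter_subset_left)
    have h5 : (x ∩ (b ∩ c)).card ≤ (x ∩ c).card :=
      Finset.card_le_card (Finset.inter_subset_inter_left Finset.inter_subset_right)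
    omega
  have hself : (b ∩ (b ∪ c)).card = 6 ∧ (c ∩ (b ∪ c)).card = 6 := by
    rw [Finset.inter_eq_left.2 Finset.subset_union_left,
      Finset.inter_eq_left.2 Finset.subset_union_right]
    exact ⟨hb6, hc6⟩
  have hz : ∀ j, (j = 1 ∨ 4 < j) → j ≠ 6 → interCount B (b ∪ c) j = 0 := by
    intro j hj hj6
    refine interCount_eq_zero fun x hx e => ?_
    by_cases hxb : x = b
    · exact hj6 (by rw [← e, hxb]; exact hself.1)
    by_cases hxc : x = c
    · exact hj6 (by rw [← e, hxc]; exact hself.2)
    have := hval x hx hxb hxc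
    omega
  have h6 : interCount B (b ∪ c) 6 = 2 := by
    rw [interCount, ← Finset.card_pair hne]
    congr 1
    ext x
    simp only [Finset.mem_filter, mem_blocksF, Finset.mem_insert, Finset.mem_singleton]
    constructor
    · rintro ⟨hx, e⟩
      by_contra h
      rw [not_or] at h
      have := hval x hx h.1 h.2
      omega
    · rintro (rfl | rfl)
      · exact ⟨hb, hself.1⟩
      · exact ⟨hc, hself.2⟩
  have z1 := hz 1 (by norm_num) (by norm_num)
  have z5 := hz 5 (by norm_num) (by norm_num)
  have z7 := hz 7 (by norm_num) (by norm_num)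
  have z8 := hz 8 (by norm_num) (by norm_num)
  have z9 := hz 9 (by norm_num) (by norm_num)
  have z10 := hz 10 (by norm_num) (by norm_num)
  simp [Finset.sum_range_succ, Nat.choose_succ_succ, z1, z5, z7, z8, z9, z10, h6] at m0 m1 m2 m3
  rw [show 4 = interCount B (b ∪ c) 0 by omega, interCount_ncard]
  congr 1
  ext x
  simp only [Set.mem_ofPred_eq, Finset.card_eq_zero, ← Finset.disjoint_iff_inter_eq_empty,
    Finset.disjoint_union_right, disjoint_comm (a := x)]

end Cfsg.Agent.Golay

namespace Cfsg.Agent.Golay

variable {α : Type*} [Fintype α] [DecidableEq α] {B : Set (Finset α)}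

theorem card_through_22 (hα : Fintype.card α = 22) (hB : IsSteinerSystem 3 6 B) (T : Finset α) :
    (T.card = 1 → ((blocksF B).filter fun g => T ⊆ g).card = 21) ∧
    (T.card = 2 → ((blocksF B).filter fun g => T ⊆ g).card = 5) := by
  constructor <;> intro h
  · have := card_blocks_through hB T (by omega)
    simp [h, hα, Nat.choose_two_right] at this
    omega
  · have := card_blocks_through hB T (by omega)
    simp [h, hα] at this
    omega

theorem card_through_disjoint (hα : Fintype.card α = 22) (hB : IsSteinerSystem 3 6 B) {b : Finset α}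
    (hb : b ∈ B) {a : α} (ha : a ∉ b) :
    ((blocksF B).filter fun g => a ∈ g ∧ Disjoint b g).card = 6 := by
  classical
  have h21 : ((blocksF B).filter fun g => a ∈ g).card = 21 := by
    have h := (card_through_22 hα hB {a}).1 (Finset.card_singleton a)
    simpa [Finset.singleton_subset_iff] using h
  have hsum : ∑ g ∈ (blocksF B).filter (fun g => a ∈ g), (g ∩ b).card = 30 := by
    have e : ∀ g : Finset α, (g ∩ b).card = ∑ x ∈ b, if x ∈ g then 1 else 0 := fun g => by
      rw [← Finset.card_filter, Finset.filter_mem_eq_inter, Finset.inter_comm]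
    rw [Finset.sum_congr rfl fun g _ => e g, Finset.sum_comm,
      Finset.sum_const_nat (m := 5) (fun x hx => ?_), hB.1 b hb]
    rw [← Finset.card_filter, Finset.filter_filter]
    have h := (card_through_22 hα hB {a, x}).2 (Finset.card_pair (fun e => ha (e ▸ hx)))
    simpa [Finset.insert_subset_iff, Finset.singleton_subset_iff] using h
  have hsplit := Finset.card_filter_add_card_filter_not
    (s := (blocksF B).filter fun g => a ∈ g) (fun g => Disjoint b g)
  rw [Finset.filter_filter] at hsplit
  have hval : ∑ g ∈ (blocksF B).filter (fun g => a ∈ g), (g ∩ b).card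
      = 2 * (((blocksF B).filter fun g => a ∈ g).filter fun g => ¬ Disjoint b g).card := by
    rw [← Finset.sum_filter_add_sum_filter_not _ (fun g => Disjoint b g), Finset.sum_eq_zero
      (fun g hg => by
        rw [Finset.card_eq_zero, ← Finset.disjoint_iff_inter_eq_empty]
        exact (Finset.mem_filter.1 hg).2.symm), zero_add, Finset.sum_const_nat (m := 2)
      (fun g hg => ?_), mul_comm]
    simp only [Finset.mem_filter, mem_blocksF] at hg
    refine (block_inter_22 hα hB hg.1.1 hb ?_).resolve_left fun h => hg.2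
      (Finset.disjoint_iff_inter_eq_empty.2 (by rw [Finset.inter_comm]; exact Finset.card_eq_zero.1 h))
    rintro rfl
    exact ha hg.1.2
  omega

/-- Counting in a set on `Option (α ⊕ B)`. -/
theorem ncard_option_sum {β γ : Type*} [Finite β] [Finite γ] (S : Set (Option (β ⊕ γ)))
    [Decidable (none ∈ S)] :
    S.ncard = (if none ∈ S then 1 else 0) + {a : β | some (Sum.inl a) ∈ S}.ncard
      + {c : γ | some (Sum.inr c) ∈ S}.ncard := by
  classical
  haveI := Fintype.ofFinite β
  haveI := Fintype.ofFinite γ
  simp only [Set.ncard_eq_toFinset_card', Set.toFinset_ofPred]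
  rw [← Finset.filter_univ_mem S.toFinset, Finset.card_filter, Fintype.sum_option,
    Fintype.sum_sum_type, ← Finset.card_filter, ← Finset.card_filter, add_assoc]
  simp only [Set.mem_toFinset]

end Cfsg.Agent.Golay
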