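import Cfsg.Agent.Golay.SteinerDFS
import Cfsg.Agent.Golay.Steiner
import Cfsg.Agent.Golay.Orbits
import Cfsg.Agent.PlaneModel.Unique

/-! Uniqueness of the large Witt systems. -/

set_option autoImplicit false
set_option maxRecDepth 20000
set_option linter.unusedSectionVars false
open Cfsg
open scoped Pointwise

namespace Cfsg.Agent.Golay

/-- First special point. -/
def ptA : GolayPt := pt 23

/-- Second special point. -/
def ptB : GolayPt := pt 22

/-- Third special point. -/
def ptC : GolayPt := pt 21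

theorem ptA_ne_ptB : ptA ≠ ptB := by decide +kernel

theorem ptC_ne : ptC ≠ ptA ∧ ptC ≠ ptB := by decide +kernel

theorem bset_two_pow {i : ℕ} (hi : i < 24) : bset (2 ^ i) = {pt i} := by
  ext p
  rw [mem_bset, Nat.testBit_two_pow, decide_eq_true_eq, Finset.mem_singleton]
  exact ⟨fun e => by rw [e, pt_idx], fun e => by rw [e, idx_pt hi]⟩

theorem bset_AB : bset 12582912 = {ptA, ptB} := by decide +kernel

theorem bset_A : bset 8388608 = {ptA} := by decide +kernel

theorem bset_B : bset 4194304 = {ptB} := by decide +kernel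

theorem inC_union {s : Finset GolayPt} {m : ℕ} (h : inC (mask s ||| m) = true) :
    s ∪ bset m ∈ supports (golayCode : Set (GolayPt → ZMod 2)) := by
  rw [← bset_mask s, ← bset_or]
  exact bset_mem_supports h

/-- Sets completing `X` to an octad. -/
def stModel (X : Finset GolayPt) : Set (Finset GolayPt) := {s | Disjoint s X ∧ X ∪ s ∈ octads}

theorem mem_stModel {X s : Finset GolayPt} (hd : Disjoint s X)
    (hu : s ∪ X ∈ supports (golayCode : Set (GolayPt → ZMod 2))) (hc : s.card + X.card = 8) : s ∈ stModel X :=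
  ⟨hd, by rw [Finset.union_comm]; exact hu, by rw [Finset.card_union_of_disjoint hd.symm]; omega⟩

variable {α : Type*} [Fintype α] [DecidableEq α]

/-- The system is carried to the model by a labelling of its points. -/
def IsModel (B : Set (Finset α)) (X : Finset GolayPt) : Prop :=
  ∃ f : α → GolayPt, Function.Injective f ∧ (∀ q, q ∈ X ↔ q ∉ Set.range f) ∧
    (fun b => b.image f) '' B = stModel X

theorem model_surj {t k : ℕ} {B : Set (Finset α)} (hB : IsSteinerSystem t k B) {X : Finset GolayPt}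
    (ht : t + X.card = 5) {f : α → GolayPt} (hf : Function.Injective f)
    (hX : ∀ q, q ∈ X ↔ q ∉ Set.range f) (hsub : ∀ c ∈ B, c.image f ∈ stModel X) :
    (fun b => b.image f) '' B = stModel X := by
  refine Set.Subset.antisymm (Set.image_subset_iff.2 hsub) fun s ⟨hd, ho⟩ => ?_
  have hs : t ≤ s.card := by
    have := card_octad ho
    rw [Finset.card_union_of_disjoint hd.symm] at this
    omega
  obtain ⟨T, hT, hTc⟩ := Finset.exists_subset_card_eq hs
  have himg : (T.preimage f hf.injOn).image f = T := by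
    ext q
    simp only [Finset.mem_image, Finset.mem_preimage]
    refine ⟨fun ⟨a, ha, e⟩ => e ▸ ha, fun hq => ?_⟩
    obtain ⟨a, rfl⟩ : q ∈ Set.range f := by
      by_contra h
      exact Finset.disjoint_left.1 hd (hT hq) ((hX q).2 h)
    exact ⟨a, hq, rfl⟩
  obtain ⟨c, ⟨hc, hTsub⟩, -⟩ := hB.2 (T.preimage f hf.injOn) (by
    rw [← Finset.card_image_of_injective _ hf, himg, hTc])
  refine ⟨c, hc, ?_⟩
  obtain ⟨hcd, hco⟩ := hsub c hc
  have hTc' : T ⊆ c.image f := himg ▸ Finset.image_subset_image hTsub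
  have h5 : 5 ≤ ((X ∪ c.image f) ∩ (X ∪ s)).card := by
    refine le_trans ?_ (Finset.card_le_card (Finset.subset_inter
      (Finset.union_subset_union_right hTc') (Finset.union_subset_union_right hT)))
    rw [Finset.card_union_of_disjoint (hd.symm.mono_right hT)]
    omega
  have e := octad_eq_of_five_le hco ho h5
  show c.image f = s
  rw [← Finset.union_sdiff_cancel_left hcd.symm, e, Finset.union_sdiff_cancel_left hd.symm]

theorem IsModel.iso {β : Type*} [Fintype β] [DecidableEq β] {B : Set (Finset α)} {B' : Set (Finset β)}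
    {X : Finset GolayPt} (h : IsModel B X) (h' : IsModel B' X) : SetSystemIso B B' := by
  obtain ⟨f, hf, hfX, hfB⟩ := h
  obtain ⟨g, hg, hgX, hgB⟩ := h'
  have hr : Set.range f = Set.range g := Set.ext fun q => not_iff_not.1 ((hfX q).symm.trans (hgX q))
  let e : α ≃ β := (Equiv.ofInjective f hf).trans ((Equiv.setCongr hr).trans (Equiv.ofInjective g hg).symm)
  have he : ∀ a, g (e a) = f a := fun a => by
    simp [e, Equiv.apply_ofInjective_symm hg]
  refine ⟨e, ?_⟩
  apply Set.image_injective.2 (Finset.image_injective hg)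
  rw [hgB, ← hfB, Set.image_image]
  refine Set.image_congr fun b _ => ?_
  rw [Finset.image_image]
  exact Finset.image_congr fun a _ => he a

theorem derived_steiner {t k : ℕ} {B : Set (Finset α)} (hB : IsSteinerSystem (t + 1) (k + 1) B) (x : α) :
    IsSteinerSystem t k {s : Finset {y // y ≠ x} | ∃ b ∈ B, x ∈ b ∧ s = b.subtype (· ≠ x)} := by
  refine ⟨?_, fun s hs => ?_⟩
  · rintro _ ⟨b, hb, hx, rfl⟩
    rw [Finset.card_subtype, Finset.filter_ne', Finset.card_erase_of_mem hx, hB.1 b hb, Nat.add_sub_cancel]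
  have hx : x ∉ s.map (Function.Embedding.subtype _) := by simp
  have hmem : ∀ b : Finset α, insert x (s.map (Function.Embedding.subtype _)) ⊆ b ↔
      x ∈ b ∧ s ⊆ b.subtype (· ≠ x) := fun b => by
    simp [Finset.insert_subset_iff, Finset.subset_iff]
  obtain ⟨b, ⟨hb, hsub⟩, hu⟩ := hB.2 (insert x (s.map (Function.Embedding.subtype _)))
    (by rw [Finset.card_insert_of_notMem hx, Finset.card_map, hs])
  refine ⟨b.subtype (· ≠ x), ⟨⟨b, hb, ((hmem b).1 hsub).1, rfl⟩, ((hmem b).1 hsub).2⟩, ?_⟩
  rintro _ ⟨⟨c, hc, hxc, rfl⟩, hsc⟩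
  rw [hu c ⟨hc, (hmem c).2 ⟨hxc, hsc⟩⟩]

/-- A labelling of all points but `x` extended by sending `x` to `z`. -/
noncomputable def extPt (x : α) (z : GolayPt) (f : {y // y ≠ x} → GolayPt) (a : α) : GolayPt :=
  if h : a = x then z else f ⟨a, h⟩

theorem extPt_injective (x : α) (z : GolayPt) (f : {y // y ≠ x} → GolayPt) (hf : Function.Injective f)
    (hz : z ∉ Set.range f) : Function.Injective (extPt x z f) := by
  intro a b e
  unfold extPt at e
  split_ifs at e with ha hb hb
  · exact ha.trans hb.symm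
  · exact absurd ⟨_, e.symm⟩ hz
  · exact absurd ⟨_, e⟩ hz
  · exact congrArg Subtype.val (hf e)

theorem extPt_range (x : α) (z : GolayPt) (f : {y // y ≠ x} → GolayPt) :
    Set.range (extPt x z f) = insert z (Set.range f) := by
  ext q
  constructor
  · rintro ⟨a, rfl⟩
    unfold extPt
    split_ifs
    · exact Or.inl rfl
    · exact Or.inr ⟨_, rfl⟩
  · rintro (rfl | ⟨y, rfl⟩)
    · exact ⟨x, by simp [extPt]⟩
    · exact ⟨y.1, by simp [extPt, y.2]⟩

theorem extPt_image_mem (x : α) (z : GolayPt) (f : {y // y ≠ x} → GolayPt) {b : Finset α} (hx : x ∈ b) :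
    b.image (extPt x z f) = insert z ((b.subtype (· ≠ x)).image f) := by
  ext q
  simp only [Finset.mem_image, Finset.mem_insert, Finset.mem_subtype]
  constructor
  · rintro ⟨a, ha, rfl⟩
    by_cases h : a = x
    · left; simp [extPt, h]
    · exact Or.inr ⟨⟨a, h⟩, ha, by simp [extPt, h]⟩
  · rintro (rfl | ⟨y, hy, rfl⟩)
    · exact ⟨x, hx, by simp [extPt]⟩
    · exact ⟨y.1, hy, by simp [extPt, y.2]⟩

theorem extPt_image_notMem (x : α) (z : GolayPt) (f : {y // y ≠ x} → GolayPt) {b : Finset α} (hx : x ∉ b) :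
    b.image (extPt x z f) = (b.subtype (· ≠ x)).image f := by
  ext q
  simp only [Finset.mem_image, Finset.mem_subtype]
  constructor
  · rintro ⟨a, ha, rfl⟩
    have h : a ≠ x := fun e => hx (e ▸ ha)
    exact ⟨⟨a, h⟩, ha, by simp [extPt, h]⟩
  · rintro ⟨y, hy, rfl⟩
    exact ⟨y.1, hy, by simp [extPt, y.2]⟩

/-- The images of blocks through the extended point are all the model sets through the new point. -/
theorem model_point {t k : ℕ} {B : Set (Finset α)} (hB : IsSteinerSystem (t + 1) (k + 1) B) (x : α)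
    (z : GolayPt) {X : Finset GolayPt} (hzX : z ∉ X) {f : {y // y ≠ x} → GolayPt}
    (hfX : ∀ q, q ∈ insert z X ↔ q ∉ Set.range f)
    (hfB : (fun b => b.image f) '' {s | ∃ b ∈ B, x ∈ b ∧ s = b.subtype (· ≠ x)} = stModel (insert z X)) :
    (∀ b ∈ B, x ∈ b → b.image (extPt x z f) ∈ stModel X) ∧
      ∀ s ∈ stModel X, z ∈ s → ∃ b ∈ B, x ∈ b ∧ b.image (extPt x z f) = s := by
  constructor
  · intro b hb hx
    obtain ⟨hd, ho⟩ : (b.subtype (· ≠ x)).image f ∈ stModel (insert z X) :=
      hfB.subset ⟨_, ⟨b, hb, hx, rfl⟩, rfl⟩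
    rw [extPt_image_mem x z f hx]
    refine ⟨Finset.disjoint_insert_left.2 ⟨hzX, hd.mono_right (Finset.subset_insert _ _)⟩, ?_⟩
    rwa [Finset.union_insert, ← Finset.insert_union]
  · intro s ⟨hd, ho⟩ hz
    obtain ⟨_, ⟨b, hb, hx, rfl⟩, e⟩ : s.erase z ∈ (fun b => b.image f) '' {s | ∃ b ∈ B, x ∈ b ∧ s = b.subtype (· ≠ x)} := by
      rw [hfB]
      refine ⟨Finset.disjoint_insert_right.2 ⟨Finset.notMem_erase _ _, hd.mono_left (Finset.erase_subset _ _)⟩, ?_⟩
      rwa [Finset.insert_union, ← Finset.union_insert, Finset.insert_erase hz]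
    refine ⟨b, hb, hx, ?_⟩
    rw [extPt_image_mem x z f hx, show (b.subtype (· ≠ x)).image f = s.erase z from e, Finset.insert_erase hz]

theorem image_disjoint {f : α → GolayPt} {X : Finset GolayPt} (hX : ∀ q, q ∈ X ↔ q ∉ Set.range f)
    (c : Finset α) : Disjoint (c.image f) X :=
  Finset.disjoint_left.2 fun q hq hqX => (hX q).1 hqX (by
    obtain ⟨a, -, rfl⟩ := Finset.mem_image.1 hq; exact ⟨a, rfl⟩)

theorem extPt_off {x : α} {z : GolayPt} {f : {y // y ≠ x} → GolayPt} {X : Finset GolayPt} (hzX : z ∉ X)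
    (hfX : ∀ q, q ∈ insert z X ↔ q ∉ Set.range f) : ∀ q, q ∈ X ↔ q ∉ Set.range (extPt x z f) := fun q => by
  rw [extPt_range, Set.mem_insert_iff, not_or, ← hfX q, Finset.mem_insert]
  exact ⟨fun h => ⟨fun e => hzX (e ▸ h), Or.inr h⟩, fun h => h.2.resolve_left h.1⟩

/-! ### The system on 22 points -/

/-- Position of a label. -/
def stIota : Fin 6 ⊕ Fin 15 → ℕ := Sum.elim stInl stInr

/-- Mask of a set of labels. -/
def labMask (S : Finset (Fin 6 ⊕ Fin 15)) : ℕ := ∑ k ∈ S, 2 ^ stIota k

theorem stIota_facts : (∀ k, stIota k < 21) ∧ ∀ k k', stIota k = stIota k' → k = k' := by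
  decide +kernel

theorem iota_injective : Function.Injective fun k => pt (stIota k) := fun a b e => by
  have h := congrArg idx e
  simp only at h
  rw [idx_pt (by have := stIota_facts.1 a; omega), idx_pt (by have := stIota_facts.1 b; omega)] at h
  exact stIota_facts.2 a b h

theorem mask_labels (S : Finset (Fin 6 ⊕ Fin 15)) : mask (S.image fun k => pt (stIota k)) = labMask S := by
  rw [mask, Finset.image_image, labMask, Finset.sum_image]
  · refine Finset.sum_congr rfl fun k _ => ?_
    rw [Function.comp_apply, idx_pt (by have := stIota_facts.1 k; omega)]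
  · intro a _ b _ e
    exact iota_injective (idx_injective e)

/-- The masks of the secants. -/
def secMasks : List ℕ := [0, 36875, 2386, 82082, 393734, 1582082, 36875, 0, 1376280, 8300, 526984, 148744, 2386, 1376280, 0, 655409, 29200, 33940, 82082, 8300, 655409, 0, 1082144, 269344, 393734, 526984, 29200, 1082144, 0, 67137, 1582082, 148744, 33940, 269344, 67137, 0]

/-- The masks of the cliques. -/
def clMasks : List ℕ := [1067013, 270721, 1183936, 594180, 835648, 239616]

/-- Lookup of a secant mask. -/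
def secMask (i j : Fin 6) : ℕ := secMasks.getD (6 * i.val + j.val) 0

theorem secant_mask : ∀ i j : Fin 6, i ≠ j → labMask (PlaneModel.secant i j) = secMask i j := by
  decide +kernel

theorem clique_mask : stCliques.map (fun S => labMask (S.image Sum.inr)) = clMasks := by
  decide +kernel

theorem secMask_ok : ∀ i j : Fin 6, i ≠ j →
    inC (secMask i j ||| 14680064) = true ∧ pc (secMask i j ||| 14680064) = 8 := by
  decide +kernel

theorem clMask_ok : ∀ m ∈ clMasks, inC (m ||| 14680064) = true ∧ pc (m ||| 14680064) = 8 := by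
  decide +kernel

theorem clique_cover_check : ∀ a b : Fin 15, PlaneModel.Apart a b → (stCliques.any fun T => decide (a ∈ T ∧ b ∈ T)) = true := by
  decide +kernel

theorem clique_cover (a b : Fin 15) (h : PlaneModel.Apart a b) : ∃ T ∈ stCliques, a ∈ T ∧ b ∈ T := by
  obtain ⟨T, hT, h'⟩ := List.any_eq_true.1 (clique_cover_check a b h)
  exact ⟨T, hT, decide_eq_true_eq.mp h'⟩

theorem inl_mask : labMask ((Finset.univ : Finset (Fin 6)).image Sum.inl) = 1594 := by decide +kernel

theorem stGen22_ok : ∀ x ∈ stGen22, x.2 = false ∧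
    (x.1 = 8388608 ∨ x.1 = 4194304 ∨ x.1 = 2097152 ∨ x.1 = 1594 ∨
      (∃ i j : Fin 6, i ≠ j ∧ x.1 = secMask i j ||| 2097152) ∨ ∃ m ∈ clMasks, x.1 = m ||| 2097152) := by
  decide +kernel

theorem stCliques_check : (stCliques.all fun S => decide (S.card = 5 ∧ ∀ a ∈ S, ∀ b ∈ S, a ≠ b → PlaneModel.Apart a b)) = true := by
  decide +kernel

theorem stCliques_ok : ∀ S ∈ stCliques, S.card = 5 ∧ ∀ a ∈ S, ∀ b ∈ S, a ≠ b → PlaneModel.Apart a b := fun S hS =>
  decide_eq_true_eq.mp (List.all_eq_true.1 stCliques_check S hS)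

theorem bset_ABC : bset 14680064 = insert ptC {ptA, ptB} := by decide +kernel

theorem bset_C : bset 2097152 = {ptC} := by decide +kernel

theorem octad_bset {m : ℕ} (h : inC m = true) (h8 : pc m = 8) : bset m ∈ octads :=
  ⟨bset_mem_supports h, by rw [card_bset, h8]⟩

theorem parB_eq_false {s : Finset GolayPt} {g : ℕ} (h : Even (s ∩ bset g).card) : parB (mask s &&& g) = false := by
  rw [parB_inter, decide_eq_false_iff_not, Nat.not_odd_iff_even]; exact h

theorem parB_eq_true {s : Finset GolayPt} {g : ℕ} (h : Odd (s ∩ bset g).card) : parB (mask s &&& g) = true := by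
  rw [parB_inter, decide_eq_true_eq]; exact h

theorem even_of_notMem {s : Finset GolayPt} {p : GolayPt} (h : p ∉ s) : Even (s ∩ {p}).card := by
  rw [Finset.inter_singleton_of_notMem h]; simp

theorem model22 {B : Set (Finset α)} (hα : Fintype.card α = 22) (hB : IsSteinerSystem 3 6 B) :
    IsModel B {ptA, ptB} := by
  classical
  obtain ⟨T, -, hT⟩ := Finset.exists_subset_card_eq (s := (Finset.univ : Finset α)) (n := 3)
    (by rw [Finset.card_univ, hα]; norm_num)
  obtain ⟨b₀, ⟨hb₀, -⟩, -⟩ := hB.2 T hT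
  obtain ⟨p, hp⟩ : ∃ p, p ∉ b₀ := by
    by_contra! h
    have := hB.1 b₀ hb₀
    rw [Finset.eq_univ_iff_forall.2 h, Finset.card_univ, hα] at this
    omega
  set L : Set (Finset {y // y ≠ p}) := {s | ∃ b ∈ B, p ∈ b ∧ s = b.subtype (· ≠ p)} with hLdef
  have hL : IsSteinerSystem 2 5 L := derived_steiner hB p
  obtain ⟨Lf, hLf, hP⟩ := PlaneModel.exists_plane (by rw [Fintype.card_subtype_compl, hα]; simp) hL
  have hmap : ∀ b : Finset α, p ∉ b → (b.subtype (· ≠ p)).card = b.card := fun b hb => by
    rw [Finset.card_subtype, Finset.filter_ne', Finset.erase_eq_of_notMem hb]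
  have h6 : (b₀.subtype (· ≠ p)).card = 6 := by rw [hmap _ hp, hB.1 b₀ hb₀]
  have hind : OddChar.PIndep Lf (b₀.subtype (· ≠ p)) := by
    intro l hl
    obtain ⟨b, hb, hpb, rfl⟩ : l ∈ L := hLf ▸ hl
    have e : b.subtype (· ≠ p) ∩ b₀.subtype (· ≠ p) = (b ∩ b₀).subtype (· ≠ p) := by ext; simp
    rw [e, Finset.card_subtype]
    refine (Finset.card_filter_le _ _).trans ?_
    rcases block_inter_22 hα hB hb hb₀ (fun e => hp (e ▸ hpb)) with h | h <;> omega
  obtain ⟨Φ, hΦH, hΦ⟩ := PlaneModel.exists_label hP h6 hind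
    ((b₀.subtype (· ≠ p)).equivFinOfCardEq h6).symm
  let f' : {y // y ≠ p} → GolayPt := fun y => pt (stIota (Φ.symm y))
  have hf' : Function.Injective f' := fun a b e => Φ.symm.injective (iota_injective e)
  have himg : ∀ S, (Finset.image Φ S).image f' = S.image fun k => pt (stIota k) := fun S => by
    rw [Finset.image_image]; exact Finset.image_congr fun k _ => by simp [f']
  have hcov : ∀ q : GolayPt, q ∈ insert ptC ({ptA, ptB} : Finset GolayPt) ↔ q ∉ Set.range f' := by
    have key : ∀ q : GolayPt, q ∈ insert ptC ({ptA, ptB} : Finset GolayPt) ↔ ∀ k, pt (stIota k) ≠ q := by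
      decide +kernel
    intro q
    rw [key, Set.mem_range, not_exists]
    exact ⟨fun h y => h _, fun h k => by simpa [f'] using h (Φ k)⟩
  have hdisj : ∀ S : Finset (Fin 6 ⊕ Fin 15), Disjoint (S.image fun k => pt (stIota k))
      (insert ptC ({ptA, ptB} : Finset GolayPt)) := fun S => by
    rw [← himg]; exact image_disjoint hcov _
  have hline : ∀ M ∈ PlaneModel.modelLines,
      M.image (fun k => pt (stIota k)) ∈ stModel (insert ptC {ptA, ptB}) := by
    intro M hM
    have hok : inC (labMask M ||| 14680064) = true ∧ pc (labMask M ||| 14680064) = 8 := by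
      rcases hM with ⟨i, j, hij, rfl⟩ | ⟨S, hS, hS', rfl⟩
      · rw [secant_mask i j hij]; exact secMask_ok i j hij
      · obtain ⟨a, ha, b, hb, hab⟩ := Finset.one_lt_card.1 (by omega : 1 < S.card)
        obtain ⟨T, hT, haT, hbT⟩ := clique_cover a b (hS' a ha b hb hab)
        rw [PlaneModel.clique_eq hS (stCliques_ok T hT).1 hS' (stCliques_ok T hT).2 hab ha hb haT hbT]
        exact clMask_ok _ (clique_mask ▸ List.mem_map.2 ⟨T, hT, rfl⟩)
    have e : bset (labMask M ||| 14680064) = insert ptC {ptA, ptB} ∪ M.image fun k => pt (stIota k) := by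
      rw [bset_or, ← mask_labels, bset_mask, bset_ABC, Finset.union_comm]
    exact ⟨hdisj M, e ▸ octad_bset hok.1 hok.2⟩
  have hzX : ptC ∉ ({ptA, ptB} : Finset GolayPt) := by decide +kernel
  have hderived : (fun b => b.image f') '' L = stModel (insert ptC {ptA, ptB}) := by
    refine model_surj hL (by decide +kernel) hf' hcov fun l hl => ?_
    obtain ⟨M, hM, rfl⟩ : l ∈ (fun l => l.image Φ) '' PlaneModel.modelLines := by rw [hΦ, ← hLf]; exact hl
    show (Finset.image Φ M).image f' ∈ _
    rw [himg]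
    exact hline M hM
  have hmid := model_point hB p ptC hzX hcov hderived
  set f := extPt p ptC f' with hfdef
  have hf : Function.Injective f := extPt_injective _ _ _ hf' ((hcov ptC).1 (Finset.mem_insert_self _ _))
  have hfX := extPt_off (x := p) hzX hcov
  refine ⟨f, hf, hfX, model_surj hB (by decide +kernel) hf hfX fun c hc => ?_⟩
  by_cases hpc : p ∈ c
  · exact hmid.1 c hc hpc
  have hd : Disjoint (c.image f) {ptA, ptB} := image_disjoint hfX c
  have h6c : (c.image f).card = 6 := by rw [Finset.card_image_of_injective _ hf, hB.1 c hc]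
  have hC : ptC ∉ c.image f := by
    intro h
    obtain ⟨a, ha, e⟩ := Finset.mem_image.1 h
    exact hpc (hf (e.trans (show ptC = f p by simp [f, extPt])) ▸ ha : p ∈ c)
  have heven : ∀ b ∈ B, Even (c.image f ∩ b.image f).card := fun b hb => by
    rw [← Finset.image_inter _ _ hf, Finset.card_image_of_injective _ hf]
    by_cases e : c = b
    · rw [e, Finset.inter_self, hB.1 b hb]; decide
    · rcases block_inter_22 hα hB hc hb e with h | h <;> rw [h] <;> decide
  have hH : b₀.image f = ((Finset.univ : Finset (Fin 6)).image Sum.inl).image fun k => pt (stIota k) := by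
    rw [extPt_image_notMem p ptC f' hp, ← himg]
    congr 1
    ext y
    simp only [Finset.mem_image, Finset.mem_univ, true_and]
    constructor
    · intro hy
      exact ⟨_, ⟨(b₀.subtype (· ≠ p)).equivFinOfCardEq h6 ⟨y, hy⟩, rfl⟩, Subtype.ext (by simp [hΦH])⟩
    · rintro ⟨_, ⟨i, rfl⟩, rfl⟩
      rw [show Φ (Sum.inl i) = _ from hΦH i]
      exact Subtype.coe_prop _
  refine mem_stModel hd ?_ (by rw [h6c]; decide +kernel)
  rw [← bset_AB]
  refine inC_union (search22 (fun x hx => ?_) h6c)
  obtain ⟨ht, hcase⟩ := stGen22_ok x hx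
  rw [ht]
  refine parB_eq_false ?_
  have hlineEven : ∀ M ∈ PlaneModel.modelLines, Even (c.image f ∩ bset (labMask M ||| 2097152)).card := by
    intro M hM
    obtain ⟨hd', ho'⟩ := hline M hM
    obtain ⟨b, hb, -, e⟩ := hmid.2 (insert ptC (M.image fun k => pt (stIota k)))
      ⟨Finset.disjoint_insert_left.2 ⟨hzX, hd'.mono_right (Finset.subset_insert _ _)⟩,
        by rwa [Finset.union_insert, ← Finset.insert_union]⟩ (Finset.mem_insert_self _ _)
    rw [bset_or, ← mask_labels, bset_mask, bset_C, Finset.union_comm, ← Finset.insert_eq, ← e]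
    exact heven b hb
  rcases hcase with h | h | h | h | ⟨i, j, hij, h⟩ | ⟨m, hm, h⟩
  · rw [h, bset_A]; exact even_of_notMem fun h => Finset.disjoint_left.1 hd h (by simp)
  · rw [h, bset_B]; exact even_of_notMem fun h => Finset.disjoint_left.1 hd h (by simp)
  · rw [h, bset_C]; exact even_of_notMem hC
  · rw [h, ← inl_mask, ← mask_labels, bset_mask, ← hH]; exact heven b₀ hb₀
  · rw [h, ← secant_mask i j hij]; exact hlineEven _ (Or.inl ⟨i, j, hij, rfl⟩)
  · rw [← clique_mask] at hm
    obtain ⟨S, hS, rfl⟩ := List.mem_map.1 hm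
    rw [h]; exact hlineEven _ (Or.inr ⟨S, (stCliques_ok S hS).1, (stCliques_ok S hS).2, rfl⟩)

/-! ### The systems on 23 and 24 points -/

theorem stGen23_ok : ∀ x ∈ stGen23, (x.2 = false ∧ (x.1 = 8388608 ∨ x.1 = 4194304)) ∨
    (x.2 = true ∧ inC (x.1 ||| 8388608) = true ∧ pc (x.1 ||| 8388608) = 8 ∧ x.1.testBit 22 = true ∧
      x.1 < 8388608) := by
  decide +kernel

theorem stGen24_ok : ∀ x ∈ stGen24, x.2 = false ∧
    (x.1 = 8388608 ∨ (inC x.1 = true ∧ pc x.1 = 8 ∧ x.1.testBit 23 = true)) := by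
  decide +kernel

theorem gen23_mem {g : ℕ} (hC : inC (g ||| 8388608) = true) (h8 : pc (g ||| 8388608) = 8) (hlt : g < 8388608) :
    bset g ∈ stModel {ptA} := by
  have hA : ptA ∉ bset g := by
    rw [mem_bset, show idx ptA = 23 from rfl, Nat.testBit_lt_two_pow (by simpa using hlt)]; simp
  refine ⟨Finset.disjoint_singleton_right.2 hA, ?_⟩
  rw [Finset.union_comm, ← bset_A, ← bset_or]
  exact octad_bset hC h8

/-- A set completed to an octad by the first point or by the second. -/
theorem split23 {s : Finset GolayPt} (hd : Disjoint s {ptA, ptB}) (h7 : s.card = 7)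
    (hodd : ∀ o ∈ octads, ptA ∈ o → ptB ∈ o → Odd (s ∩ o).card) : s ∈ stModel {ptA} ∨ s ∈ stModel {ptB} := by
  have hA : ptA ∉ s := fun h => Finset.disjoint_left.1 hd h (by simp)
  have hB' : ptB ∉ s := fun h => Finset.disjoint_left.1 hd h (by simp)
  refine (search23 (s := s) (fun x hx => ?_) h7).imp ?_ ?_
  · rcases stGen23_ok x hx with ⟨ht, h | h⟩ | ⟨ht, h1, h2, h3, h4⟩
    · rw [ht, h]; exact parB_eq_false (bset_A ▸ even_of_notMem hA)
    · rw [ht, h]; exact parB_eq_false (bset_B ▸ even_of_notMem hB')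
    · rw [ht]
      refine parB_eq_true ?_
      have ho := (gen23_mem h1 h2 h4).2
      have e : s ∩ bset x.1 = s ∩ ({ptA} ∪ bset x.1) := by
        rw [Finset.inter_union_distrib_left, Finset.inter_singleton_of_notMem hA, Finset.empty_union]
      rw [e]
      exact hodd _ ho (by simp) (Finset.mem_union_right _ (mem_bset.2 h3))
  · exact fun h => mem_stModel (Finset.disjoint_singleton_right.2 hA) (bset_A ▸ inC_union h) (by simp [h7])
  · exact fun h => mem_stModel (Finset.disjoint_singleton_right.2 hB') (bset_B ▸ inC_union h) (by simp [h7])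

theorem split_even {s t : Finset GolayPt} (hs : s ∈ stModel {ptA}) (ht : t ∈ stModel {ptB})
    (hsd : Disjoint s {ptA, ptB}) (htd : Disjoint t {ptA, ptB}) : Even (s ∩ t).card := by
  have h := even_card_inter (octad_subset_supports hs.2) (octad_subset_supports ht.2)
  have e : ({ptA} ∪ s) ∩ ({ptB} ∪ t) = s ∩ t := by
    have h1 := Finset.disjoint_left.1 hsd
    have h2 := Finset.disjoint_left.1 htd
    ext q
    simp only [Finset.mem_inter, Finset.mem_union, Finset.mem_singleton]
    constructor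
    · rintro ⟨hq1, hq2⟩
      rcases hq1 with rfl | hq1 <;> rcases hq2 with e | hq2
      · exact absurd e ptA_ne_ptB
      · exact absurd (by simp) (h2 hq2)
      · exact absurd (by simp [e]) (h1 hq1)
      · exact ⟨hq1, hq2⟩
    · exact fun ⟨a, b⟩ => ⟨Or.inr a, Or.inr b⟩
  rwa [e] at h

/-- A set meeting every octad through the first point evenly. -/
theorem split24 {s : Finset GolayPt} (hA : ptA ∉ s) (h8 : s.card = 8)
    (heven : ∀ o ∈ octads, ptA ∈ o → Even (s ∩ o).card) : s ∈ octads := by
  refine mem_octads_iff.2 ⟨search24 (fun x hx => ?_) h8, (card_eq_pc_mask s).symm.trans h8⟩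
  obtain ⟨ht, h | ⟨h1, h2, h3⟩⟩ := stGen24_ok x hx
  · rw [ht, h]; exact parB_eq_false (bset_A ▸ even_of_notMem hA)
  · rw [ht]; exact parB_eq_false (heven _ (octad_bset h1 h2) (mem_bset.2 h3))

theorem exists_swapAB : ∃ g ∈ M24, g ptA = ptB ∧ g ptB = ptA :=
  exists_mem_M24_two ptA_ne_ptB ptA_ne_ptB.symm

theorem model23 {B : Set (Finset α)} (hα : Fintype.card α = 23) (hB : IsSteinerSystem 4 7 B) :
    IsModel B {ptA} := by
  classical
  obtain ⟨q⟩ : Nonempty α := Fintype.card_pos_iff.1 (by omega)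
  obtain ⟨f', hf', hcov, hfB⟩ := model22 (by rw [Fintype.card_subtype_compl, hα]; simp) (derived_steiner hB q)
  have hpair : ({ptA, ptB} : Finset GolayPt) = insert ptB {ptA} := Finset.pair_comm _ _
  have hzX : ptB ∉ ({ptA} : Finset GolayPt) := by simp [ptA_ne_ptB.symm]
  -- the two classes
  have step : ∀ f' : {y // y ≠ q} → GolayPt, Function.Injective f' →
      (∀ r, r ∈ insert ptB ({ptA} : Finset GolayPt) ↔ r ∉ Set.range f') →
      (fun b => b.image f') '' {s | ∃ b ∈ B, q ∈ b ∧ s = b.subtype (· ≠ q)} = stModel (insert ptB {ptA}) →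
      ∀ c ∈ B, q ∉ c → (c.subtype (· ≠ q)).image f' ∈ stModel {ptA} ∨
        (c.subtype (· ≠ q)).image f' ∈ stModel {ptB} := by
    intro f' hf' hcov hfB c hc hqc
    have hd : Disjoint ((c.subtype (· ≠ q)).image f') {ptA, ptB} := hpair ▸ image_disjoint hcov _
    have hmid := model_point hB q ptB hzX hcov hfB
    have hf : Function.Injective (extPt q ptB f') :=
      extPt_injective _ _ _ hf' ((hcov ptB).1 (Finset.mem_insert_self _ _))
    rw [← extPt_image_notMem q ptB f' hqc] at hd ⊢
    refine split23 hd (by rw [Finset.card_image_of_injective _ hf, hB.1 c hc]) fun o ho hAo hBo => ?_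
    obtain ⟨b, hb, hqb, e⟩ := hmid.2 (o.erase ptA)
      ⟨Finset.disjoint_singleton_right.2 (Finset.notMem_erase _ _), by
        rwa [← Finset.insert_eq, Finset.insert_erase hAo]⟩
      (Finset.mem_erase.2 ⟨ptA_ne_ptB.symm, hBo⟩)
    have e2 : c.image (extPt q ptB f') ∩ o = c.image (extPt q ptB f') ∩ o.erase ptA := by
      rw [Finset.inter_erase, Finset.erase_eq_of_notMem fun h => Finset.disjoint_left.1 hd
        (Finset.mem_inter.1 h).1 (by simp)]
    rw [e2, ← e, ← Finset.image_inter _ _ hf, Finset.card_image_of_injective _ hf]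
    rcases block_inter_23 hα hB hc hb (fun h => hqc (h ▸ hqb)) with h | h <;> rw [h] <;> decide
  -- a labelling landing in the first class
  suffices h : ∃ g : {y // y ≠ q} → GolayPt, Function.Injective g ∧ (∀ r, r ∈ insert ptB ({ptA} : Finset GolayPt) ↔ r ∉ Set.range g) ∧
      (fun b => b.image g) '' {s | ∃ b ∈ B, q ∈ b ∧ s = b.subtype (· ≠ q)} = stModel (insert ptB {ptA}) ∧
      ∀ c ∈ B, q ∉ c → (c.subtype (· ≠ q)).image g ∈ stModel {ptA} by
    obtain ⟨g, hg, hgX, hgB, hcl⟩ := h
    have hf : Function.Injective (extPt q ptB g) :=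
      extPt_injective _ _ _ hg ((hgX ptB).1 (Finset.mem_insert_self _ _))
    have hX := extPt_off (x := q) hzX hgX
    refine ⟨_, hf, hX, model_surj hB (by simp) hf hX fun c hc => ?_⟩
    by_cases hqc : q ∈ c
    · exact (model_point hB q ptB hzX hgX hgB).1 c hc hqc
    · rw [extPt_image_notMem q ptB g hqc]; exact hcl c hc hqc
  rw [hpair] at hcov hfB
  by_cases hall : ∀ c ∈ B, q ∉ c → (c.subtype (· ≠ q)).image f' ∈ stModel {ptA}
  · exact ⟨f', hf', hcov, hfB, hall⟩
  push Not at hall
  obtain ⟨c₁, hc₁, hq₁, hn₁⟩ := hall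
  have h₁ := (step f' hf' hcov hfB c₁ hc₁ hq₁).resolve_left hn₁
  have hallB : ∀ c ∈ B, q ∉ c → (c.subtype (· ≠ q)).image f' ∈ stModel {ptB} := by
    intro c hc hqc
    refine (step f' hf' hcov hfB c hc hqc).resolve_left fun h => ?_
    have hev := split_even h h₁ (hpair ▸ image_disjoint hcov _) (hpair ▸ image_disjoint hcov _)
    rw [← Finset.image_inter _ _ hf', Finset.card_image_of_injective _ hf',
      show c.subtype (· ≠ q) ∩ c₁.subtype (· ≠ q) = (c ∩ c₁).subtype (· ≠ q) by ext; simp,
      Finset.card_subtype, Finset.filter_ne', Finset.erase_eq_of_notMem fun ha => hqc (Finset.mem_inter.1 ha).1,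
      Nat.even_iff] at hev
    by_cases e : c = c₁
    · subst e; rw [Finset.inter_self, hB.1 c hc] at hev; omega
    · rcases block_inter_23 hα hB hc hc₁ e with h | h <;> omega
  obtain ⟨g, hg, hgA, hgB⟩ := exists_swapAB
  have hgAB : g • ({ptA, ptB} : Finset GolayPt) = {ptA, ptB} := by
    rw [Finset.smul_finset_insert, Finset.smul_finset_singleton, Equiv.Perm.smul_def, Equiv.Perm.smul_def,
      hgA, hgB, Finset.pair_comm]
  have himg : ∀ s : Finset {y // y ≠ q}, s.image (fun y => g (f' y)) = g • s.image f' := fun s => by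
    rw [Finset.smul_finset_def, Finset.image_image]; rfl
  have hcov' : ∀ r, r ∈ insert ptB ({ptA} : Finset GolayPt) ↔ r ∉ Set.range (fun y => g (f' y)) := by
    intro r
    have e : r ∈ insert ptB ({ptA} : Finset GolayPt) ↔ g⁻¹ • r ∈ insert ptB ({ptA} : Finset GolayPt) := by
      rw [Finset.inv_smul_mem_iff, ← hpair, hgAB]
    rw [e, hcov, not_iff_not]
    constructor
    · rintro ⟨y, hy⟩; exact ⟨y, show g (f' y) = r by rw [hy, Equiv.Perm.smul_def]; simp⟩
    · rintro ⟨y, rfl⟩; exact ⟨y, by rw [Equiv.Perm.smul_def]; simp⟩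
  refine ⟨fun y => g (f' y), g.injective.comp hf', hcov', ?_, fun c hc hqc => ?_⟩
  · refine model_surj (derived_steiner hB q) (by simp [ptA_ne_ptB.symm]) (g.injective.comp hf') hcov' ?_
    intro s hs
    obtain ⟨hd, ho⟩ : s.image f' ∈ stModel (insert ptB {ptA}) := hfB ▸ ⟨s, hs, rfl⟩
    rw [himg, ← hpair, ← hgAB]
    rw [← hpair] at hd ho
    exact ⟨(Finset.disjoint_image g.injective).2 hd, by rw [← Finset.smul_finset_union]; exact smul_mem_octads hg ho⟩
  · obtain ⟨hd, ho⟩ := hallB c hc hqc
    rw [himg, ← hgB, ← Equiv.Perm.smul_def, ← Finset.smul_finset_singleton]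
    exact ⟨(Finset.disjoint_image g.injective).2 hd, by rw [← Finset.smul_finset_union]; exact smul_mem_octads hg ho⟩

theorem stModel_empty : stModel ∅ = octads := by
  ext s; simp [stModel]

theorem model24 {B : Set (Finset α)} (hα : Fintype.card α = 24) (hB : IsSteinerSystem 5 8 B) :
    IsModel B ∅ := by
  classical
  obtain ⟨r⟩ : Nonempty α := Fintype.card_pos_iff.1 (by omega)
  obtain ⟨f', hf', hcov, hfB⟩ := model23 (by rw [Fintype.card_subtype_compl, hα]; simp) (derived_steiner hB r)
  have hzX : ptA ∉ (∅ : Finset GolayPt) := Finset.notMem_empty _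
  rw [show ({ptA} : Finset GolayPt) = insert ptA ∅ from rfl] at hcov hfB
  have hmid := model_point hB r ptA hzX hcov hfB
  set f := extPt r ptA f' with hfdef
  have hf : Function.Injective f := extPt_injective _ _ _ hf' ((hcov ptA).1 (Finset.mem_insert_self _ _))
  have hX := extPt_off (x := r) hzX hcov
  refine ⟨f, hf, hX, model_surj hB rfl hf hX fun c hc => ?_⟩
  by_cases hrc : r ∈ c
  · exact hmid.1 c hc hrc
  rw [stModel_empty]
  refine split24 ?_ (by rw [Finset.card_image_of_injective _ hf, hB.1 c hc]) fun o ho hAo => ?_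
  · intro h
    obtain ⟨a, ha, e⟩ := Finset.mem_image.1 h
    exact hrc (hf (e.trans (show ptA = f r by simp [f, extPt])) ▸ ha : r ∈ c)
  · obtain ⟨b, hb, hrb, e⟩ := hmid.2 o (by rwa [stModel_empty]) hAo
    rw [← e, ← Finset.image_inter _ _ hf, Finset.card_image_of_injective _ hf]
    rcases block_inter_24 hα hB hc hb (fun h => hrc (h ▸ hrb)) with h | h | h <;> rw [h] <;> decide

end Cfsg.Agent.Golay
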