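import Cfsg.Agent.Golay.SmallSteinerData
import Cfsg.Agent.Golay.SteinerUnique

/-! Uniqueness of the small Witt systems. -/

set_option autoImplicit false
set_option maxRecDepth 20000
set_option linter.unusedSectionVars false
open Cfsg
open scoped Pointwise

namespace Cfsg.Agent.Golay

universe u

/-- The system is carried to a list of masks on the labels below `N`. -/
def SmallModel {α : Type*} [DecidableEq α] (N : ℕ) (B : Set (Finset α)) (L : List ℕ) : Prop :=
  ∃ f : α → GolayPt, Function.Injective f ∧ (∀ q, q ∈ Set.range f ↔ idx q < N) ∧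
    (fun b => mask (b.image f)) '' B = {m | m ∈ L}

/-- One more label. -/
def ext1 (T N : ℕ) : List ℕ := ((List.range N).filter fun i => !T.testBit i).map fun i => T ||| 2 ^ i

/-- Search for all completions. -/
def sdfs (N t : ℕ) (leaf : List ℕ → Bool) : List ℕ → List ℕ → Bool
  | [], K => leaf K
  | T :: Ts, K => bif K.any (fun m => T &&& m == T) then sdfs N t leaf Ts K else
      (ext1 T N).all fun c => K.any (fun m => decide (t ≤ pc (c &&& m))) || sdfs N t leaf Ts (c :: K)

theorem sdfs_spec (N t : ℕ) (leaf : List ℕ → Bool) (S : Set ℕ) :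
    ∀ (Ts : List ℕ), (∀ T ∈ Ts, ∃ c ∈ S, c ∈ ext1 T N ∧ T &&& c = T) →
    (∀ m ∈ S, ∀ m' ∈ S, t ≤ pc (m &&& m') → m = m') →
    ∀ K : List ℕ, (∀ m ∈ K, m ∈ S) → sdfs N t leaf Ts K = true →
    ∃ K' : List ℕ, (∀ m ∈ K', m ∈ S) ∧ (∀ m ∈ K, m ∈ K') ∧ leaf K' = true ∧
      ∀ T ∈ Ts, ∃ m ∈ K', T &&& m = T
  | [], _, _, K, hK, h => ⟨K, hK, fun _ hm => hm, h, by simp⟩
  | T :: Ts, hcov, hpair, K, hK, h => by
    have hcov' := fun T' hT' => hcov T' (List.mem_cons_of_mem _ hT')
    rw [sdfs] at h
    by_cases hin : K.any (fun m => T &&& m == T) = true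
    · rw [hin, cond_true] at h
      obtain ⟨K', h1, h2, h3, h4⟩ := sdfs_spec N t leaf S Ts hcov' hpair K hK h
      refine ⟨K', h1, h2, h3, fun T' hT' => ?_⟩
      rcases List.mem_cons.1 hT' with rfl | hT'
      · obtain ⟨m, hm, e⟩ := List.any_eq_true.1 hin
        exact ⟨m, h2 m hm, beq_iff_eq.1 e⟩
      · exact h4 T' hT'
    · rw [Bool.not_eq_true] at hin
      rw [hin, cond_false, List.all_eq_true] at h
      obtain ⟨c, hcS, hc, hTc⟩ := hcov T (List.mem_cons_self ..)
      have hno : K.any (fun m => decide (t ≤ pc (c &&& m))) = false := by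
        rw [← Bool.not_eq_true, List.any_eq_true]
        rintro ⟨m, hm, e⟩
        have := hpair c hcS m (hK m hm) (decide_eq_true_eq.mp e)
        subst this
        have hf := List.any_eq_false.1 hin c hm
        exact hf (beq_iff_eq.2 hTc)
      have h' := h c hc
      rw [hno, Bool.false_or] at h'
      obtain ⟨K', h1, h2, h3, h4⟩ := sdfs_spec N t leaf S Ts hcov' hpair (c :: K)
        (fun m hm => by rcases List.mem_cons.1 hm with rfl | hm; exacts [hcS, hK m hm]) h'
      refine ⟨K', h1, fun m hm => h2 m (List.mem_cons_of_mem _ hm), h3, fun T' hT' => ?_⟩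
      rcases List.mem_cons.1 hT' with rfl | hT'
      · exact ⟨c, h2 c (List.mem_cons_self ..), hTc⟩
      · exact h4 T' hT'

/-- A leaf is the model after one of the relabellings. -/
def smLeaf (N : ℕ) (L perms K : List ℕ) : Bool :=
  perms.any fun c => permOK c && ((List.range 24).all fun i => decide (i < N) || app c i == i) &&
    ((K.map (mapMask c)).all fun m => L.contains m) && L.all fun m => (K.map (mapMask c)).contains m

theorem idx_permOf_lt {c N : ℕ} (hc : permOK c = true)
    (hfix : ∀ i < 24, ¬ i < N → app c i = i) {q : GolayPt} (hq : idx q < N) : idx (permOf c q) < N := by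
  by_contra h
  have h1 : permOf c (permOf c q) = permOf c q := by
    rw [permOf_apply hc, permFun, hfix _ (idx_lt _) h, pt_idx]
  have := (permOf c).injective h1
  rw [this] at h
  exact h hq

theorem small_card {α : Type*} [Fintype α] {N : ℕ} {f : α → GolayPt} (hf : Function.Injective f)
    (hα : Fintype.card α = N) (hN : N ≤ 24) (hlt : ∀ a, idx (f a) < N) (q : GolayPt) :
    q ∈ Set.range f ↔ idx q < N := by
  refine ⟨fun ⟨a, ha⟩ => ha ▸ hlt a, fun hq => ?_⟩
  let g : α → Fin N := fun a => ⟨idx (f a), hlt a⟩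
  have hg : Function.Injective g := fun a b e => hf (idx_injective (congrArg Fin.val e))
  obtain ⟨a, ha⟩ := ((Fintype.bijective_iff_injective_and_card g).2 ⟨hg, by rw [hα, Fintype.card_fin]⟩).2 ⟨idx q, hq⟩
  exact ⟨a, idx_injective (congrArg Fin.val ha)⟩

/-- Every system with these parameters has the labelled model. -/
def SmallUnique (N t : ℕ) (L : List ℕ) : Prop :=
  ∀ (α : Type u) [Fintype α] [DecidableEq α], Fintype.card α = N →
    ∀ B : Set (Finset α), IsSteinerSystem t (t + 1) B → SmallModel N B L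

theorem mask_and (a b : Finset GolayPt) : mask a &&& mask b = mask (a ∩ b) := by
  apply eq_of_bset_eq (lt_of_le_of_lt Nat.and_le_left (mask_lt a)) (mask_lt _)
  rw [bset_and, bset_mask, bset_mask, bset_mask]

theorem small_step {N t : ℕ} {L' L Ts perms : List ℕ} (hN : N < 24)
    (hTs : allB (fun T => pc T != t + 1 || Ts.contains T) (N + 1) 0 = true)
    (hTs' : (Ts.all fun T => pc T == t + 1 && decide (T < 2 ^ (N + 1))) = true)
    (hdfs : sdfs (N + 1) (t + 1) (smLeaf (N + 1) L perms) Ts (L'.map fun m => m ||| 2 ^ N) = true)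
    (prev : SmallUnique.{u} N t L') : SmallUnique.{u} (N + 1) (t + 1) L := by
  intro α _ _ hα B hB
  classical
  obtain ⟨x⟩ : Nonempty α := Fintype.card_pos_iff.1 (by omega)
  obtain ⟨f', hf', hrange, hfB⟩ := prev {y // y ≠ x} (by rw [Fintype.card_subtype_compl, hα]; simp) _ (derived_steiner hB x)
  have hlt' : ∀ y, idx (f' y) < N := fun y => (hrange _).1 ⟨y, rfl⟩
  have hz : pt N ∉ Set.range f' := fun h => by
    have := (hrange _).1 h
    rw [idx_pt hN] at this
    omega
  set f := extPt x (pt N) f' with hfdef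
  have hf : Function.Injective f := extPt_injective _ _ _ hf' hz
  have hlt : ∀ a, idx (f a) < N + 1 := fun a => by
    have : f a ∈ insert (pt N) (Set.range f') := extPt_range x (pt N) f' ▸ ⟨a, rfl⟩
    rcases this with h | ⟨y, hy⟩
    · rw [h, idx_pt hN]; omega
    · rw [← hy]; have := hlt' y; omega
  have hrf := small_card hf hα hN hlt
  have hsmall : ∀ s : Finset α, mask (s.image f) < 2 ^ (N + 1) := fun s => by
    refine Nat.geomSum_lt (le_refl 2) fun i hi => ?_
    obtain ⟨q, hq, rfl⟩ := Finset.mem_image.1 hi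
    obtain ⟨a, -, rfl⟩ := Finset.mem_image.1 hq
    exact hlt a
  set S : Set ℕ := (fun b => mask (b.image f)) '' B with hS
  have hpre : ∀ T ∈ Ts, ∃ s : Finset α, s.card = t + 1 ∧ mask (s.image f) = T := by
    intro T hT
    have h := List.all_eq_true.1 hTs' T hT
    simp only [Bool.and_eq_true, beq_iff_eq, decide_eq_true_eq] at h
    have hT24 : T < 2 ^ 24 := lt_of_lt_of_le h.2 (Nat.pow_le_pow_right (by norm_num) (by omega))
    refine ⟨(bset T).preimage f hf.injOn, ?_, ?_⟩
    all_goals
      have e : ((bset T).preimage f hf.injOn).image f = bset T := by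
        ext q
        simp only [Finset.mem_image, Finset.mem_preimage]
        refine ⟨fun ⟨a, ha, e⟩ => e ▸ ha, fun hq => ?_⟩
        have hq' := mem_bset.1 hq
        obtain ⟨a, rfl⟩ := (hrf q).2 (by
          by_contra hge
          rw [Nat.testBit_lt_two_pow (lt_of_lt_of_le h.2 (Nat.pow_le_pow_right (by norm_num) (not_lt.1 hge)))] at hq'
          exact Bool.false_ne_true hq')
        exact ⟨a, hq, rfl⟩
    · rw [← Finset.card_image_of_injective _ hf, e, card_bset, h.1]
    · rw [e, mask_bset hT24]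
  have hsub : ∀ {s b : Finset α}, s ⊆ b → mask (s.image f) &&& mask (b.image f) = mask (s.image f) := fun {s b} h => by
    rw [mask_and, Finset.inter_eq_left.2 (Finset.image_subset_image h)]
  have hcov : ∀ T ∈ Ts, ∃ c ∈ S, c ∈ ext1 T (N + 1) ∧ T &&& c = T := by
    intro T hT
    obtain ⟨s, hs, rfl⟩ := hpre T hT
    obtain ⟨b, ⟨hb, hsb⟩, -⟩ := hB.2 s hs
    refine ⟨_, ⟨b, hb, rfl⟩, ?_, hsub hsb⟩
    obtain ⟨a, ha⟩ := Finset.card_eq_one.1 (show (b \ s).card = 1 by
      rw [Finset.card_sdiff_of_subset hsb, hB.1 b hb, hs]; omega)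
    have has : a ∉ s := (Finset.mem_sdiff.1 (ha.symm ▸ Finset.mem_singleton_self a : a ∈ b \ s)).2
    refine List.mem_map.2 ⟨idx (f a), List.mem_filter.2 ⟨List.mem_range.2 (hlt a), ?_⟩, ?_⟩
    · rw [testBit_mask, Bool.not_eq_true', decide_eq_false_iff_not, hf.mem_finset_image]; exact has
    · refine eq_of_bset_eq (Nat.or_lt_two_pow (mask_lt _) (Nat.pow_lt_pow_right (by norm_num) (idx_lt _))) (mask_lt _) ?_
      rw [bset_or, bset_mask, bset_two_pow (idx_lt _), bset_mask, pt_idx, ← Finset.image_singleton,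
        ← Finset.image_union, ← ha, Finset.union_sdiff_of_subset hsb]
  have hpair : ∀ m ∈ S, ∀ m' ∈ S, t + 1 ≤ pc (m &&& m') → m = m' := by
    rintro _ ⟨b, hb, rfl⟩ _ ⟨b', hb', rfl⟩ h
    rw [mask_and, ← card_eq_pc_mask, ← Finset.image_inter _ _ hf, Finset.card_image_of_injective _ hf] at h
    rw [block_eq_of_card_inter hB hb hb' h]
  have hK : ∀ m ∈ L'.map (fun m => m ||| 2 ^ N), m ∈ S := by
    intro m hm
    obtain ⟨m', hm', rfl⟩ := List.mem_map.1 hm
    obtain ⟨_, ⟨b, hb, hx, rfl⟩, e⟩ : m' ∈ (fun b => mask (b.image f')) '' {s | ∃ b ∈ B, x ∈ b ∧ s = b.subtype (· ≠ x)} := by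
      rw [hfB]; exact hm'
    refine ⟨b, hb, ?_⟩
    show mask (b.image f) = _
    refine eq_of_bset_eq (mask_lt _) (Nat.or_lt_two_pow (e ▸ mask_lt _) (Nat.pow_lt_pow_right (by norm_num) hN)) ?_
    rw [bset_mask, extPt_image_mem x (pt N) f' hx, bset_or, bset_two_pow hN, ← e, bset_mask,
      Finset.union_comm, ← Finset.insert_eq]
  obtain ⟨K, hKS, -, hleaf, hcovK⟩ := sdfs_spec (N + 1) (t + 1) _ S Ts hcov hpair _ hK hdfs
  -- the completion is the whole image
  have hall : ∀ m ∈ S, m ∈ K := by
    rintro _ ⟨b, hb, rfl⟩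
    obtain ⟨s, hsb, hs⟩ := Finset.exists_subset_card_eq (s := b) (n := t + 1) (by rw [hB.1 b hb]; omega)
    have hT : mask (s.image f) ∈ Ts := by
      have h := allB_spec _ (N + 1) 0 hTs (mask (s.image f)) (Nat.zero_le _) (by simpa using hsmall s)
      rw [← card_eq_pc_mask, Finset.card_image_of_injective _ hf, hs] at h
      simpa using h
    obtain ⟨m, hm, e⟩ := hcovK _ hT
    obtain ⟨b', hb', rfl⟩ := hKS m hm
    rw [mask_and] at e
    have hsb' : s ⊆ b' := by
      have := Finset.inter_eq_left.1 (mask_injective e)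
      exact (Finset.image_subset_image_iff hf).1 this
    have := (hB.2 s hs).unique ⟨hb, hsb⟩ ⟨hb', hsb'⟩
    subst this
    exact hm
  simp only [smLeaf, List.any_eq_true, Bool.and_eq_true, List.all_eq_true, List.contains_iff_mem, Bool.or_eq_true,
    decide_eq_true_eq, beq_iff_eq, List.mem_range, List.mem_map] at hleaf
  obtain ⟨c, -, ⟨⟨hc, hfix⟩, h1⟩, h2⟩ := hleaf
  have hfix' : ∀ i < 24, ¬ i < N + 1 → app c i = i := fun i hi h => (hfix i hi).resolve_left h
  refine ⟨fun a => permOf c (f a), (permOf c).injective.comp hf, ?_, ?_⟩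
  · exact small_card ((permOf c).injective.comp hf) hα hN fun a => idx_permOf_lt hc hfix' (hlt a)
  · have e : ∀ b : Finset α, mask (b.image fun a => permOf c (f a)) = mapMask c (mask (b.image f)) := fun b => by
      rw [← mask_smul hc, Finset.smul_finset_def, Finset.image_image]; rfl
    ext m
    constructor
    · rintro ⟨b, hb, rfl⟩
      show mask (b.image fun a => permOf c (f a)) ∈ L
      rw [e]
      exact h1 _ ⟨_, hall _ ⟨b, hb, rfl⟩, rfl⟩
    · intro hm
      obtain ⟨m', hm', rfl⟩ := h2 m hm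
      obtain ⟨b, hb, rfl⟩ := hKS m' hm'
      exact ⟨b, hb, e b⟩

theorem small_base : SmallUnique.{u} 7 0 smModel0 := by
  intro α _ _ hα B hB
  classical
  obtain ⟨b, ⟨hb, -⟩, hu⟩ := hB.2 ∅ Finset.card_empty
  obtain ⟨a₀, rfl⟩ := Finset.card_eq_one.1 (hB.1 b hb)
  let e : α ≃ Fin 7 := (Fintype.equivFinOfCardEq hα).trans (Equiv.swap (Fintype.equivFinOfCardEq hα a₀) 0)
  have hlt : ∀ a, idx (pt (e a).val) < 7 := fun a => by rw [idx_pt (by omega)]; exact (e a).isLt
  have hf : Function.Injective fun a => pt (e a).val := fun a b h => e.injective (Fin.ext (by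
    have h' := congrArg idx h
    simp only at h'
    rwa [idx_pt (by omega), idx_pt (by omega)] at h'))
  refine ⟨_, hf, small_card hf hα (by norm_num) hlt, ?_⟩
  have e0 : mask (({a₀} : Finset α).image fun a => pt (e a).val) = 1 := by
    rw [Finset.image_singleton, show e a₀ = 0 by simp [e]]
    decide +kernel
  ext m
  constructor
  · rintro ⟨c, hc, rfl⟩
    rw [hu c ⟨hc, Finset.empty_subset _⟩]
    show mask _ ∈ smModel0
    rw [e0]; exact List.mem_singleton_self 1
  · intro hm
    rw [Set.mem_ofPred_eq, smModel0, List.mem_singleton] at hm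
    exact ⟨_, hb, e0.trans hm.symm⟩

theorem search1_ok : sdfs 8 1 (smLeaf 8 smModel1 smPerms1) smSets1 (smModel0.map fun m => m ||| 2 ^ 7) = true := by
  decide +kernel

theorem search2_ok : sdfs 9 2 (smLeaf 9 smModel2 smPerms2) smSets2 (smModel1.map fun m => m ||| 2 ^ 8) = true := by
  decide +kernel

theorem search3_ok : sdfs 10 3 (smLeaf 10 smModel3 smPerms3) smSets3 (smModel2.map fun m => m ||| 2 ^ 9) = true := by
  decide +kernel

theorem search4_ok : sdfs 11 4 (smLeaf 11 smModel4 smPerms4) smSets4 (smModel3.map fun m => m ||| 2 ^ 10) = true := by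
  decide +kernel

theorem search5_ok : sdfs 12 5 (smLeaf 12 smModel5 smPerms5) smSets5 (smModel4.map fun m => m ||| 2 ^ 11) = true := by
  decide +kernel

theorem small11 : SmallUnique.{u} 11 4 smModel4 :=
  small_step (by norm_num) (by decide +kernel) (by decide +kernel) search4_ok <|
  small_step (by norm_num) (by decide +kernel) (by decide +kernel) search3_ok <|
  small_step (by norm_num) (by decide +kernel) (by decide +kernel) search2_ok <|
  small_step (by norm_num) (by decide +kernel) (by decide +kernel) search1_ok small_base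

theorem small12 : SmallUnique.{u} 12 5 smModel5 :=
  small_step (by norm_num) (by decide +kernel) (by decide +kernel) search5_ok small11

theorem SmallModel.iso {α β : Type*} [Fintype α] [DecidableEq α] [Fintype β] [DecidableEq β] {N : ℕ}
    {B : Set (Finset α)} {B' : Set (Finset β)} {L : List ℕ} (h : SmallModel N B L) (h' : SmallModel N B' L) :
    SetSystemIso B B' := by
  obtain ⟨f, hf, hfr, hfB⟩ := h
  obtain ⟨g, hg, hgr, hgB⟩ := h'
  have hr : Set.range f = Set.range g := Set.ext fun q => (hfr q).trans (hgr q).symm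
  let e : α ≃ β := (Equiv.ofInjective f hf).trans ((Equiv.setCongr hr).trans (Equiv.ofInjective g hg).symm)
  have he : ∀ a, g (e a) = f a := fun a => by
    simp [e, Equiv.apply_ofInjective_symm hg]
  refine ⟨e, ?_⟩
  apply Set.image_injective.2 (mask_injective.comp (Finset.image_injective hg))
  show (fun b : Finset β => mask (b.image g)) '' _ = (fun b : Finset β => mask (b.image g)) '' B'
  rw [hgB, ← hfB, Set.image_image]
  refine Set.image_congr fun b _ => congrArg mask ?_
  rw [Finset.image_image]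
  exact Finset.image_congr fun a _ => he a

end Cfsg.Agent.Golay
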