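import Cfsg.Prelude.Def_SporadicCombinatorics

/-! The ternary code of length twelve: an explicit basis, weights, hexads. -/

set_option autoImplicit false

namespace Cfsg.Agent.Golay

/-- Index of a position of the 4 × 3 array. -/
def tIdx (p : ArrayPt) : ℕ := 3 * p.1.val + p.2.val

/-- Position with a given index. -/
def tPt (i : ℕ) : ArrayPt := (Fin.ofNat 4 (i / 3), ((i % 3 : ℕ) : ZMod 3))

/-- The basis table. -/
def tRows : List (List ℕ) := [[1, 0, 0, 0, 0, 1, 0, 0, 1, 1, 1, 2], [0, 1, 0, 0, 0, 1, 0, 2, 2, 2, 0, 2], [0, 0, 1, 0, 0, 1, 0, 1, 0, 2, 1, 1], [0, 0, 0, 1, 0, 2, 0, 2, 1, 2, 1, 0], [0, 0, 0, 0, 1, 2, 0, 1, 2, 0, 1, 2], [0, 0, 0, 0, 0, 0, 1, 1, 1, 2, 2, 2]]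

/-- Coordinates forming an information set. -/
def tInfo : List ℕ := [0, 1, 2, 3, 4, 6]

/-- The remaining coordinates. -/
def tRest : List ℕ := [5, 7, 8, 9, 10, 11]

/-- Linear combination of the basis rows. -/
def tComb (f : Fin 6 → ZMod 3) (p : ArrayPt) : ZMod 3 :=
  ∑ i : Fin 6, f i * (((tRows.getD i.val []).getD (tIdx p) 0 : ℕ) : ZMod 3)

/-- Explicit form of the defining conditions. -/
def tWordB (x : ArrayPt → ZMod 3) : Prop :=
  ∃ s : ZMod 3, (∀ i : Fin 4, ∑ r : ZMod 3, x (i, r) = -s) ∧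
    ∀ a b : ZMod 3, ∑ i : Fin 4, x (i, (a • ![0, 1, 1, 1] + b • ![1, 0, 1, 2] : Fin 4 → ZMod 3) i) = s

instance tWordB_decidable (x : ArrayPt → ZMod 3) : Decidable (tWordB x) := by
  unfold tWordB; infer_instance

theorem mem_ternary_iff {x : ArrayPt → ZMod 3} : x ∈ ternaryGolayCode ↔ tWordB x := by
  show IsTernaryGolayWord x ↔ _
  constructor
  · rintro ⟨s, h1, h2⟩
    exact ⟨s, h1, fun a b => h2 _ (Submodule.mem_span_pair.2 ⟨a, b, rfl⟩)⟩
  · rintro ⟨s, h1, h2⟩
    refine ⟨s, h1, fun t ht => ?_⟩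
    obtain ⟨a, b, rfl⟩ := Submodule.mem_span_pair.1 ht
    exact h2 a b

theorem tComb_mem_code (f : Fin 6 → ZMod 3) : tComb f ∈ ternaryGolayCode := by
  rw [mem_ternary_iff]; revert f; decide +kernel

theorem tPt_idx : ∀ p : ArrayPt, tPt (tIdx p) = p := by decide +kernel

theorem tComb_info : ∀ (f : Fin 6 → ZMod 3) (i : Fin 6), tComb f (tPt (tInfo.getD i.val 0)) = f i := by
  decide +kernel

/-- A word supported outside the information set. -/
def tExt (g : Fin 6 → ZMod 3) (p : ArrayPt) : ZMod 3 :=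
  ∑ i : Fin 6, if tIdx p = tRest.getD i.val 0 then g i else 0

theorem tExt_eq_zero : ∀ g : Fin 6 → ZMod 3, tWordB (tExt g) → ∀ i, g i = 0 := by decide +kernel

theorem tIdx_cases : ∀ p : ArrayPt,
    (∃ i : Fin 6, p = tPt (tInfo.getD i.val 0)) ∨ (∃ i : Fin 6, p = tPt (tRest.getD i.val 0)) := by
  decide +kernel

theorem tExt_restrict : ∀ (p : ArrayPt) (i : Fin 6), (p = tPt (tRest.getD i.val 0)) ↔
    (tIdx p = tRest.getD i.val 0) := by decide +kernel

theorem tExt_info : ∀ (i j : Fin 6), ¬ tIdx (tPt (tInfo.getD i.val 0)) = tRest.getD j.val 0 := by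
  decide +kernel

theorem tRest_inj : ∀ (i j : Fin 6), tIdx (tPt (tRest.getD i.val 0)) = tRest.getD j.val 0 ↔ i = j := by
  decide +kernel

/-- Every code word is a combination of the basis rows. -/
theorem ternary_eq_tComb {x : ArrayPt → ZMod 3} (hx : x ∈ ternaryGolayCode) :
    x = tComb fun i => x (tPt (tInfo.getD i.val 0)) := by
  set f : Fin 6 → ZMod 3 := fun i => x (tPt (tInfo.getD i.val 0)) with hf
  set g : Fin 6 → ZMod 3 := fun i => (x - tComb f) (tPt (tRest.getD i.val 0)) with hg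
  have hd : x - tComb f = tExt g := by
    funext p
    rcases tIdx_cases p with ⟨i, rfl⟩ | ⟨i, rfl⟩
    · rw [Pi.sub_apply, tComb_info, sub_eq_zero.2 (rfl : x _ = f i), tExt]
      exact (Finset.sum_eq_zero fun j _ => if_neg (tExt_info i j)).symm
    · rw [tExt, Finset.sum_eq_single i]
      · rw [if_pos ((tRest_inj i i).2 rfl), hg]
      · intro j _ hji; rw [if_neg fun e => hji ((tRest_inj i j).1 e).symm]
      · simp
  have h0 := tExt_eq_zero g (mem_ternary_iff.1 (hd ▸ sub_mem hx (tComb_mem_code f)))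
  rw [← sub_eq_zero, hd]
  funext p
  simp [tExt, h0]

theorem tComb_injective : Function.Injective tComb := fun f g h =>
  funext fun i => by rw [← tComb_info f i, h, tComb_info]

theorem ternary_card : Nat.card ↥ternaryGolayCode = 729 := by
  rw [← Nat.card_congr (Equiv.ofBijective (fun f => (⟨tComb f, tComb_mem_code f⟩ : ternaryGolayCode))
    ⟨fun f g h => tComb_injective (congrArg Subtype.val h),
     fun x => ⟨fun i => x.1 (tPt (tInfo.getD i.val 0)), Subtype.ext (ternary_eq_tComb x.2).symm⟩⟩)]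
  rw [Nat.card_eq_fintype_card, Fintype.card_fun, Fintype.card_fin, ZMod.card]; rfl

/-- Counting code words by a property. -/
theorem ternary_ncard (P : (ArrayPt → ZMod 3) → Prop) [DecidablePred P] :
    {x : ArrayPt → ZMod 3 | x ∈ ternaryGolayCode ∧ P x}.ncard
      = (Finset.univ.filter fun f : Fin 6 → ZMod 3 => P (tComb f)).card := by
  rw [← Set.ncard_coe_finset, ← Set.ncard_image_of_injective _ tComb_injective]
  congr 1
  ext x
  simp only [Set.mem_ofPred_eq, Finset.coe_filter, Finset.mem_univ, true_and, Set.mem_image]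
  constructor
  · rintro ⟨hx, hP⟩
    exact ⟨_, by rwa [← ternary_eq_tComb hx], (ternary_eq_tComb hx).symm⟩
  · rintro ⟨f, hf, rfl⟩; exact ⟨tComb_mem_code f, hf⟩

/-- Weight, computed on the twelve indices. -/
def tWt (x : ArrayPt → ZMod 3) : ℕ := (ternarySupport x).card

theorem tComb_weights : ∀ f : Fin 6 → ZMod 3,
    tWt (tComb f) = 0 ∧ f = 0 ∨ tWt (tComb f) = 6 ∨ tWt (tComb f) = 9 ∨ tWt (tComb f) = 12 := by
  decide +kernel

theorem tWt6_count : (Finset.univ.filter fun f : Fin 6 → ZMod 3 => tWt (tComb f) = 6).card = 264 := by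
  decide +kernel

theorem tWt9_count : (Finset.univ.filter fun f : Fin 6 → ZMod 3 => tWt (tComb f) = 9).card = 440 := by
  decide +kernel

theorem tWt12_count : (Finset.univ.filter fun f : Fin 6 → ZMod 3 => tWt (tComb f) = 12).card = 24 := by
  decide +kernel

theorem tRows_orth : ∀ i j : Fin 6,
    ∑ p, tComb (Pi.single i 1) p * tComb (Pi.single j 1) p = 0 := by decide +kernel

/-- Bitmask of a set of positions. -/
def tMask (s : Finset ArrayPt) : ℕ := ∑ p ∈ s, 2 ^ tIdx p

/-- The 132 hexad masks. -/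
def tHexads : List ℕ := [63, 222, 237, 243, 347, 366, 373, 413, 427, 438, 455, 504, 591, 630, 633, 667, 679, 700, 725, 746, 791, 813, 826, 860, 867, 910, 945, 969, 978, 996, 1117, 1127, 1146, 1175, 1198, 1209, 1227, 1268, 1295, 1331, 1340, 1366, 1385, 1434, 1445, 1484, 1489, 1506, 1566, 1579, 1589, 1619, 1644, 1677, 1714, 1734, 1752, 1761, 1817, 1830, 1861, 1866, 1904, 1923, 1940, 1960, 2135, 2155, 2172, 2191, 2229, 2234, 2265, 2278, 2334, 2343, 2361, 2381, 2418, 2451, 2476, 2506, 2516, 2529, 2589, 2606, 2611, 2650, 2661, 2710, 2729, 2755, 2764, 2800, 2827, 2868, 2886, 2897, 2920, 2949, 2968, 2978, 3099, 3117, 3126, 3150, 3185, 3228, 3235, 3269, 3282, 3304, 3349, 3370, 3395, 3416, 3428, 3462, 3465, 3504, 3591, 3640, 3657, 3668, 3682, 3722, 3729, 3748, 3852, 3858, 3873, 4032]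

end Cfsg.Agent.Golay
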