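import Cfsg.Agent.Golay.Ternary
import Cfsg.Agent.SmallOrder.M12Gen
import Cfsg.Agent.S1592
import Cfsg.Agent.S1593

/-! The monomial group of the ternary code and the automorphisms of its hexads. -/

set_option autoImplicit false
set_option maxRecDepth 10000
open Cfsg
open scoped Pointwise

namespace Cfsg.Agent.Golay

open Cfsg.Agent.SmallOrder

/-- The relabelling of the twelve points. -/
def tLabel : Fin 12 → ℕ := ![0, 1, 2, 3, 4, 5, 10, 11, 9, 8, 6, 7]

/-- The twelve points as positions. -/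
noncomputable def tEquiv : Fin 12 ≃ ArrayPt :=
  Equiv.ofBijective (fun i => tPt (tLabel i)) (by decide +kernel)

theorem tEquiv_apply (i : Fin 12) : tEquiv i = tPt (tLabel i) := rfl

/-- The sign masks of the lifts of the generators. -/
def tSign : Fin 8 → ℕ := ![0, 0, 3, 5, 6, 630, 0, 0]

/-- The inverse of a tabulated generator. -/
def tabInv (i : Fin 8) (x : Fin 12) : Fin 12 :=
  ((List.finRange 12).find? fun y => M12Gen.tab i y == x).getD 0

theorem tab_inv : ∀ (i : Fin 8) (x : Fin 12),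
    M12Gen.tab i (tabInv i x) = x ∧ tabInv i (M12Gen.tab i x) = x := by decide +kernel

/-- A generator. -/
def tGen (i : Fin 8) : Equiv.Perm (Fin 12) :=
  ⟨M12Gen.tab i, tabInv i, fun x => (tab_inv i x).2, fun x => (tab_inv i x).1⟩

theorem tGen_apply (i : Fin 8) (x : Fin 12) : tGen i x = M12Gen.tab i x := rfl

/-- Label of a position. -/
def tLabelInv (p : ArrayPt) : Fin 12 :=
  ((List.finRange 12).find? fun y => tLabel y == tIdx p).getD 0

theorem tLabelInv_eq : ∀ p : ArrayPt, tPt (tLabel (tLabelInv p)) = p := by decide +kernel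

theorem tEquiv_symm (p : ArrayPt) : tEquiv.symm p = tLabelInv p := by
  rw [Equiv.symm_apply_eq, tEquiv_apply, tLabelInv_eq]

theorem tGen_lift : ∀ (i : Fin 8) (j : Fin 6), tWordB (fun p =>
    Cfsg.Agent.S1593.sgn (tSign i) p * tComb (Pi.single j 1) (tPt (tLabel (tabInv i (tLabelInv p))))) := by
  decide +kernel

/-- The hexads. -/
def tHexSet : Set (Finset ArrayPt) :=
  {h : Finset ArrayPt | ∃ x ∈ ternaryGolayCode, ternarySupport x = h ∧ h.card = 6}

theorem tHexSet_mask (h : Finset ArrayPt) : h ∈ tHexSet ↔ tMask h ∈ tHexads := by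
  constructor
  · rintro ⟨x, hx, rfl, h6⟩
    rw [ternary_eq_tComb hx] at h6 ⊢
    exact Cfsg.Agent.S1592.hex_of_word _ h6
  · intro hh
    obtain ⟨f, hf6, hf⟩ := Cfsg.Agent.S1592.word_of_hex _ hh
    obtain rfl : h = ternarySupport (tComb f) := Cfsg.Agent.S1592.mask_inj hf.symm
    exact ⟨_, tComb_mem_code f, rfl, hf6⟩

/-- The property of carrying a lift. -/
def TLift (σ : Equiv.Perm ArrayPt) : Prop :=
  ∃ c : ArrayPt → (ZMod 3)ˣ, ∀ x ∈ ternaryGolayCode, monomialMap σ c x ∈ ternaryGolayCode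

theorem monomialMap_comp (σ τ : Equiv.Perm ArrayPt) (c d : ArrayPt → (ZMod 3)ˣ) (x : ArrayPt → ZMod 3) :
    monomialMap (σ * τ) (fun i => c i * d (σ.symm i)) x = monomialMap σ c (monomialMap τ d x) := by
  funext i
  simp [monomialMap, mul_assoc, Equiv.Perm.mul_def]

theorem TLift.mul {σ τ : Equiv.Perm ArrayPt} (hσ : TLift σ) (hτ : TLift τ) : TLift (σ * τ) := by
  obtain ⟨c, hc⟩ := hσ
  obtain ⟨d, hd⟩ := hτ
  exact ⟨fun i => c i * d (σ.symm i), fun x hx => by rw [monomialMap_comp]; exact hc _ (hd x hx)⟩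

theorem TLift.one : TLift 1 :=
  ⟨1, fun x hx => by
    have e : monomialMap 1 (1 : ArrayPt → (ZMod 3)ˣ) x = x := by
      funext i; simp [monomialMap, Equiv.Perm.one_def]
    rwa [e]⟩

theorem tLift_of_gens (σ : Equiv.Perm ArrayPt) (m : ℕ)
    (h : ∀ j : Fin 6, tWordB fun p => Cfsg.Agent.S1593.sgn m p * tComb (Pi.single j 1) (σ.symm p)) :
    TLift σ := by
  let c : ArrayPt → (ZMod 3)ˣ := fun p => bif m.testBit (tIdx p) then -1 else 1
  have hc : ∀ p, (c p : ZMod 3) = Cfsg.Agent.S1593.sgn m p := fun p => by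
    simp only [c, Cfsg.Agent.S1593.sgn]
    cases m.testBit (tIdx p) <;> rfl
  refine ⟨c, fun x hx => ?_⟩
  rw [ternary_eq_tComb hx]
  generalize (fun i : Fin 6 => x (tPt (tInfo.getD i.val 0))) = f
  have e : monomialMap σ c (tComb f) =
      ∑ j : Fin 6, f j • fun p => Cfsg.Agent.S1593.sgn m p * tComb (Pi.single j 1) (σ.symm p) := by
    funext p
    have hs : ∀ q, tComb f q = ∑ j, f j * tComb (Pi.single j 1) q := fun q => by
      simp [tComb, Pi.single_apply]
    rw [monomialMap, hc, hs, Finset.mul_sum, Finset.sum_apply]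
    exact Finset.sum_congr rfl fun j _ => by simp [mul_left_comm]
  rw [e]
  exact sum_mem fun j _ => Submodule.smul_mem _ _ (mem_ternary_iff.2 (h j))

/-- Transport of a permutation of the labels. -/
noncomputable def tConj : Equiv.Perm (Fin 12) ≃* Equiv.Perm ArrayPt := tEquiv.permCongrHom

theorem tConj_apply (g : Equiv.Perm (Fin 12)) (p : ArrayPt) : tConj g p = tEquiv (g (tEquiv.symm p)) := rfl

theorem tLift_gen (i : Fin 8) : TLift (tConj (tGen i)) := by
  refine tLift_of_gens _ (tSign i) fun j => ?_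
  have e : ∀ p, (tConj (tGen i)).symm p = tPt (tLabel (tabInv i (tLabelInv p))) := fun p => by
    rw [Equiv.symm_apply_eq, tConj_apply]
    rw [← tEquiv_apply, Equiv.symm_apply_apply, tGen_apply, (tab_inv i _).1, tEquiv_apply, tLabelInv_eq]
  simp only [e]
  exact tGen_lift i j

theorem tLift_closure {g : Equiv.Perm (Fin 12)} (hg : g ∈ Subgroup.closure (Set.range tGen)) :
    TLift (tConj g) := by
  rw [← Subgroup.mem_toSubmonoid, Subgroup.closure_toSubmonoid_of_finite] at hg
  induction hg using Submonoid.closure_induction with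
  | mem g hg => obtain ⟨i, rfl⟩ := hg; exact tLift_gen i
  | one => rw [map_one]; exact TLift.one
  | mul a b _ _ ha hb => rw [map_mul]; exact ha.mul hb

theorem tLift_preserves {σ : Equiv.Perm ArrayPt} (h : TLift σ) : σ ∈ setSystemAut tHexSet := by
  obtain ⟨c, hc⟩ := h
  rw [MulAction.mem_stabilizer_iff]
  refine Set.eq_of_subset_of_ncard_le ?_ (le_of_eq (Set.ncard_image_of_injective _
    (MulAction.injective σ)).symm) (Set.toFinite _)
  rintro _ ⟨h, ⟨x, hx, rfl, h6⟩, rfl⟩
  refine ⟨_, hc x hx, ?_, by simpa using h6⟩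
  ext p
  show p ∈ ternarySupport (monomialMap σ c x) ↔ p ∈ σ • ternarySupport x
  rw [← Finset.inv_smul_mem_iff]
  simp [ternarySupport, monomialMap, Equiv.Perm.smul_def]

theorem tMask_bit : ∀ n : Fin 132, tMask (Finset.univ.filter fun p => M12Gen.hasPt (M12Gen.masks.getD n 0)
    (tLabelInv p)) ∈ tHexads := by decide +kernel

theorem tMask_cover : ∀ h ∈ tHexads, ∃ n : Fin 132, ∀ x : Fin 12,
    M12Gen.hasPt (M12Gen.masks.getD n 0) x = h.testBit (tLabel x) := by decide +kernel

theorem tIdx_label : ∀ x : Fin 12, tIdx (tPt (tLabel x)) = tLabel x := by decide +kernel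

theorem hexAut_blocks {σ : Equiv.Perm ArrayPt} (hσ : σ ∈ setSystemAut tHexSet) (n : Fin 132) :
    ∃ n' : Fin 132, ∀ x, M12Gen.hasPt (M12Gen.masks.getD n 0) x =
      M12Gen.hasPt (M12Gen.masks.getD n' 0) (tConj.symm σ x) := by
  set b : Finset ArrayPt :=
    Finset.univ.filter fun p => M12Gen.hasPt (M12Gen.masks.getD n 0) (tLabelInv p) with hb
  have hσb : σ • b ∈ tHexSet := by
    rw [← MulAction.mem_stabilizer_iff.1 hσ]
    exact Set.smul_mem_smul_set ((tHexSet_mask b).2 (tMask_bit n))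
  obtain ⟨n', hn'⟩ := tMask_cover _ ((tHexSet_mask _).1 hσb)
  refine ⟨n', fun x => ?_⟩
  rw [hn', Bool.eq_iff_iff, ← tIdx_label (tConj.symm σ x), ← tEquiv_apply, Cfsg.Agent.S1592.testBit_tMask]
  have e : tEquiv (tConj.symm σ x) = σ • tEquiv x := by
    simp [tConj, Equiv.permCongrHom, Equiv.Perm.smul_def]
  rw [e, Finset.smul_mem_smul_finset_iff, hb, Finset.mem_filter, ← tEquiv_symm, Equiv.symm_apply_apply]
  simp

open M12Gen in
/-- A permutation of the labels preserving the blocks and fixing the base is trivial. -/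
theorem blocks_eq_one {g : Equiv.Perm (Fin 12)}
    (hpres : ∀ n : Fin 132, ∃ n' : Fin 132, ∀ x, hasPt (masks.getD n 0) x = hasPt (masks.getD n' 0) (g x))
    (hfix : ∀ j, g (base j) = base j) : g = 1 := by
  have hsix : ∀ x, inSix x = true → g x = x := by
    have hs : g sixth = sixth := by
      obtain ⟨n, hn, hn'⟩ := six_block
      obtain ⟨n', hn''⟩ := hpres n
      have h1 := six_unique n' (fun j => by rw [← hfix j, ← hn'' (base j)]; exact hn j)
        (g sixth) (by rw [← hn'']; exact hn')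
      rcases inSix_cases _ h1 with h1 | ⟨j, hj⟩
      · exact h1
      · exact absurd (g.injective ((hfix j).trans hj)) (six_distinct.2 j)
    intro x hx
    rcases inSix_cases _ hx with rfl | ⟨j, rfl⟩
    · exact hs
    · exact hfix j
  have hout : ∀ x, inSix x = false → inSix (g x) = false := by
    intro x hx
    rw [Bool.eq_false_iff]
    intro h
    have h1 := g.injective (hsix (g x) h)
    rw [h1, hx] at h
    exact Bool.false_ne_true h
  have hcomm : ∀ (i : Fin 15) (x : Fin 12), inSix x = false → g (pair i x) = pair i (g x) := by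
    intro i x hx
    obtain ⟨hp, hne, n, hs, hnx, hnp⟩ := pair_block i x hx
    obtain ⟨n', hn'⟩ := hpres n
    rcases pair_unique i (g x) (hout x hx) n'
      (fun k => by rw [← hsix _ (sub_six i k), ← hn']; exact hs k) (by rw [← hn']; exact hnx)
      (g (pair i x)) (by rw [← hn']; exact hnp) (hout _ hp) with e | e
    · exact absurd (g.injective e) hne
    · exact e
  have hx0 : g x0 = x0 := by
    by_contra hne
    obtain ⟨i, j, k, e1, e2⟩ := rigid (g x0) (hout _ x0_out) hne
    apply e2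
    obtain ⟨hp, -⟩ := pair_block j x0 x0_out
    rw [← hcomm j _ x0_out, ← hcomm i _ hp, e1, hcomm k _ x0_out]
  refine Equiv.ext fun x => ?_
  rw [Equiv.Perm.one_apply]
  cases hx : inSix x with
  | true => exact hsix x hx
  | false =>
    rcases reach x hx with rfl | ⟨i, rfl⟩
    · exact hx0
    · rw [hcomm i _ x0_out, hx0]

theorem base_injective : Function.Injective M12Gen.base := by decide +kernel

/-- The base as an embedding. -/
def baseEmb : Fin 5 ↪ Fin 12 := ⟨M12Gen.base, base_injective⟩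

theorem hexAut_rigid {σ τ : Equiv.Perm ArrayPt} (hσ : σ ∈ setSystemAut tHexSet) (hτ : τ ∈ setSystemAut tHexSet)
    (h : ∀ k, σ (tEquiv (M12Gen.base k)) = τ (tEquiv (M12Gen.base k))) : σ = τ := by
  have h1 : tConj.symm (τ⁻¹ * σ) = 1 :=
    blocks_eq_one (hexAut_blocks (mul_mem (inv_mem hτ) hσ)) fun k => by
      apply tEquiv.injective
      simp [tConj, Equiv.permCongrHom, h k]
  have : τ⁻¹ * σ = 1 := by rw [← tConj.apply_symm_apply (τ⁻¹ * σ), h1, map_one]
  exact (inv_mul_eq_one.1 this).symm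

theorem tLift_tuple (y : Fin 5 ↪ Fin 12) :
    ∃ σ, TLift σ ∧ ∀ k, σ (tEquiv (M12Gen.base k)) = tEquiv (y k) := by
  obtain ⟨g, hg, h⟩ := M12Gen.to_base tGen tGen_apply y
  refine ⟨tConj g⁻¹, tLift_closure (inv_mem hg), fun k => ?_⟩
  rw [tConj_apply, Equiv.symm_apply_apply, ← h k]
  simp

theorem hexAut_eq_lift (σ : Equiv.Perm ArrayPt) : σ ∈ setSystemAut tHexSet ↔ TLift σ := by
  refine ⟨fun hσ => ?_, tLift_preserves⟩
  obtain ⟨τ, hτ, h⟩ := tLift_tuple ((baseEmb.trans tEquiv.toEmbedding).trans (σ.trans tEquiv.symm).toEmbedding)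
  rwa [hexAut_rigid hσ (tLift_preserves hτ) fun k => by rw [h k]; simp [baseEmb]]

theorem hexAut_card : Nat.card (setSystemAut tHexSet) = 95040 := by
  classical
  rw [Nat.card_eq_of_bijective (fun σ : setSystemAut tHexSet =>
    (baseEmb.trans tEquiv.toEmbedding).trans (σ.1.trans tEquiv.symm).toEmbedding) ⟨?_, ?_⟩,
    Nat.card_eq_fintype_card, Fintype.card_embedding_eq, Fintype.card_fin, Fintype.card_fin]
  · decide +kernel
  · intro σ τ e
    refine Subtype.ext (hexAut_rigid σ.2 τ.2 fun k => tEquiv.symm.injective ?_)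
    exact DFunLike.congr_fun e k
  · intro y
    obtain ⟨σ, hσ, h⟩ := tLift_tuple y
    refine ⟨⟨σ, tLift_preserves hσ⟩, ?_⟩
    ext k
    simp [baseEmb, h k]

theorem tLift_fiber {σ : Equiv.Perm ArrayPt} (hσ : TLift σ) :
    Nat.card {c : ArrayPt → (ZMod 3)ˣ // ∀ x ∈ ternaryGolayCode, monomialMap σ c x ∈ ternaryGolayCode} = 2 := by
  obtain ⟨c₀, hc₀⟩ := hσ
  have hbij : Function.Injective (monomialMap σ c₀) := fun x y e => funext fun i => by
    have h := congrFun e (σ i)
    simp only [monomialMap, Equiv.symm_apply_apply] at h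
    exact mul_left_cancel₀ (Units.ne_zero _) h
  have himg : monomialMap σ c₀ '' (ternaryGolayCode : Set (ArrayPt → ZMod 3)) = ternaryGolayCode :=
    Set.eq_of_subset_of_ncard_le (by rintro _ ⟨x, hx, rfl⟩; exact hc₀ x hx)
      (le_of_eq (Set.ncard_image_of_injective _ hbij).symm) (Set.toFinite _)
  have h2 : ∀ c : ArrayPt → (ZMod 3)ˣ, (∀ x ∈ ternaryGolayCode, monomialMap σ c x ∈ ternaryGolayCode) ↔
      ((∀ p, c p = c₀ p) ∨ ∀ p, c p = -c₀ p) := by
    intro c
    constructor
    · intro hc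
      refine (Cfsg.Agent.S1593.result (fun p => c p * (c₀ p)⁻¹) fun x hx => ?_).imp
        (fun h p => mul_inv_eq_one.1 (h p)) (fun h p => ?_)
      · obtain ⟨y, hy, rfl⟩ : x ∈ monomialMap σ c₀ '' (ternaryGolayCode : Set (ArrayPt → ZMod 3)) :=
          himg.symm ▸ hx
        convert hc y hy using 1
        rw [← monomialMap_comp, one_mul]
        congr 1
        funext i
        simp [Equiv.Perm.one_def]
      · have := h p
        rw [mul_inv_eq_iff_eq_mul] at this
        rw [this, neg_one_mul]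
    · rintro (h | h) <;> intro x hx
      · rw [funext h]; exact hc₀ x hx
      · rw [funext h]
        have e : monomialMap σ (fun p => -c₀ p) x = -monomialMap σ c₀ x := by
          funext i; simp [monomialMap]
        rw [e]; exact neg_mem (hc₀ x hx)
  have hne : c₀ ≠ -c₀ := fun e => by
    have hu : ∀ u : (ZMod 3)ˣ, u ≠ -u := by decide
    exact hu _ (congrFun e (0, 0))
  rw [← Set.ncard_pair hne]
  exact Nat.card_congr (Equiv.subtypeEquivRight fun c => by
    rw [h2, Set.mem_insert_iff, Set.mem_singleton_iff, funext_iff, funext_iff]; rfl)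

theorem ternary_monomial_facts :
    Nat.card {f : Equiv.Perm ArrayPt × (ArrayPt → (ZMod 3)ˣ) //
        (∀ x ∈ ternaryGolayCode, monomialMap f.1 f.2 x ∈ ternaryGolayCode)} = 190080 ∧
      {σ : Equiv.Perm ArrayPt | ∃ c : ArrayPt → (ZMod 3)ˣ,
        (∀ x ∈ ternaryGolayCode, monomialMap σ c x ∈ ternaryGolayCode)} =
        (setSystemAut tHexSet : Set (Equiv.Perm ArrayPt)) := by
  classical
  refine ⟨?_, Set.ext fun σ => (hexAut_eq_lift σ).symm⟩
  let e : {f : Equiv.Perm ArrayPt × (ArrayPt → (ZMod 3)ˣ) //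
      (∀ x ∈ ternaryGolayCode, monomialMap f.1 f.2 x ∈ ternaryGolayCode)} ≃
      Σ σ : setSystemAut tHexSet,
        {c : ArrayPt → (ZMod 3)ˣ // ∀ x ∈ ternaryGolayCode, monomialMap σ.1 c x ∈ ternaryGolayCode} :=
    { toFun := fun f => ⟨⟨f.1.1, tLift_preserves ⟨f.1.2, f.2⟩⟩, ⟨f.1.2, f.2⟩⟩
      invFun := fun s => ⟨(s.1.1, s.2.1), s.2.2⟩
      left_inv := fun _ => rfl
      right_inv := fun _ => rfl }
  rw [Nat.card_congr e, Nat.card_sigma,
    Finset.sum_congr rfl fun σ _ => tLift_fiber ((hexAut_eq_lift σ.1).1 σ.2), Finset.sum_const,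
    Finset.card_univ, ← Nat.card_eq_fintype_card, hexAut_card]
  rfl

end Cfsg.Agent.Golay
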