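import Cfsg.Agent.Golay.SmallSteiner
import Cfsg.Agent.Golay.SteinerAut
import Cfsg.Agent.Golay.TernaryAut
import Cfsg.Agent.Golay.SharpSimple

/-! Automorphism groups of the small Witt systems. -/

set_option autoImplicit false
set_option linter.unusedSectionVars false
open Cfsg
open scoped Pointwise

namespace Cfsg.Agent.Golay

theorem tHexSet_steiner : IsSteinerSystem 5 6 tHexSet := Cfsg.Agent.S1592.result.1

theorem hex_trans (x y : Fin 5 ↪ ArrayPt) : ∃ g ∈ setSystemAut tHexSet, ∀ i, g (x i) = y i := by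
  obtain ⟨a, ha, ha'⟩ := tLift_tuple (x.trans tEquiv.symm.toEmbedding)
  obtain ⟨b, hb, hb'⟩ := tLift_tuple (y.trans tEquiv.symm.toEmbedding)
  refine ⟨b * a⁻¹, mul_mem (tLift_preserves hb) (inv_mem (tLift_preserves ha)), fun i => ?_⟩
  have e : a⁻¹ (x i) = tEquiv (Cfsg.Agent.SmallOrder.M12Gen.base i) := by
    have h := ha' i
    simp only [Function.Embedding.trans_apply, Equiv.coe_toEmbedding, Equiv.apply_symm_apply] at h
    rw [← h]; simp
  rw [Equiv.Perm.mul_apply, e, hb' i]
  simp

theorem hex_rigid {g : Equiv.Perm ArrayPt} (hg : g ∈ setSystemAut tHexSet) (x : Fin 5 ↪ ArrayPt)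
    (hfix : ∀ i, g (x i) = x i) : g = 1 := by
  obtain ⟨a, ha, ha'⟩ := tLift_tuple (x.trans tEquiv.symm.toEmbedding)
  have h : g * a = a := hexAut_rigid (mul_mem hg (tLift_preserves ha)) (tLift_preserves ha) fun k => by
    rw [Equiv.Perm.mul_apply, ha' k]
    simpa using hfix k
  exact mul_eq_right.1 h

variable {α : Type*} [Fintype α] [DecidableEq α] {B : Set (Finset α)}

theorem aut12 (hα : Fintype.card α = 12) (hB : IsSteinerSystem 5 6 B) :
    IsM12 (setSystemAut B) ∧ MulAction.IsMultiplyPretransitive (setSystemAut B) α 5 ∧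
      ∀ x : Fin 5 ↪ α, MulAction.stabilizer (setSystemAut B) x = ⊥ := by
  obtain ⟨e, he⟩ := (small12 α hα B hB).iso (small12 ArrayPt (by decide) _ tHexSet_steiner)
  have himg : ∀ (σ : Equiv.Perm α) (b : Finset α), e.permCongr σ • b.image e = (σ • b).image e := fun σ b => by
    rw [Finset.smul_finset_def, Finset.smul_finset_def, Finset.image_image, Finset.image_image]
    exact Finset.image_congr fun a _ => by simp
  have hiff : ∀ σ, σ ∈ setSystemAut B ↔ e.permCongr σ ∈ setSystemAut tHexSet := fun σ => by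
    constructor
    · refine fun h => mem_setSystemAut fun s hs => ?_
      rw [← he] at hs ⊢
      obtain ⟨b, hb, rfl⟩ := hs
      exact ⟨σ • b, setSystemAut_maps h hb, (himg σ b).symm⟩
    · refine fun h => mem_setSystemAut fun b hb => ?_
      obtain ⟨c, hc, e'⟩ : e.permCongr σ • b.image e ∈ (fun b => b.image e) '' B :=
        he.symm ▸ setSystemAut_maps h (he ▸ ⟨b, hb, rfl⟩)
      rw [himg] at e'
      rwa [← Finset.image_injective e.injective e']
  haveI htr : MulAction.IsMultiplyPretransitive (setSystemAut B) α 5 := by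
    refine MulAction.isMultiplyPretransitive_iff.2 fun {x y} => ?_
    obtain ⟨g, hg, h⟩ := hex_trans (x.trans e.toEmbedding) (y.trans e.toEmbedding)
    refine ⟨⟨e.symm.permCongr g, (hiff _).2 ?_⟩, DFunLike.ext _ _ fun i => ?_⟩
    · convert hg
      refine Equiv.ext fun q => ?_
      simp
    · show e.symm.permCongr g (x i) = y i
      rw [Equiv.permCongr_apply, Equiv.symm_symm]
      exact e.symm_apply_eq.2 (h i)
  have hsharp : ∀ x : Fin 5 ↪ α, MulAction.stabilizer (setSystemAut B) x = ⊥ := fun x => by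
    refine (Subgroup.eq_bot_iff_forall _).2 fun σ hσ => Subtype.ext ?_
    have hfix : ∀ i, σ.1 (x i) = x i := fun i => congrArg (fun f : Fin 5 ↪ α => f i) hσ
    have := hex_rigid ((hiff σ.1).1 σ.2) (x.trans e.toEmbedding) fun i => by simp [hfix i]
    refine Equiv.ext fun a => e.injective ?_
    simpa using congrArg (fun g : Equiv.Perm ArrayPt => g (e a)) this
  exact ⟨sharp12 _ hα hsharp, htr, hsharp⟩

theorem aut11 (hα : Fintype.card α = 11) (hB : IsSteinerSystem 4 5 B) :
    IsM11 (setSystemAut B) ∧ MulAction.IsMultiplyPretransitive (setSystemAut B) α 4 ∧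
      ∀ x : Fin 4 ↪ α, MulAction.stabilizer (setSystemAut B) x = ⊥ := by
  classical
  set p : ArrayPt := (0, 0)
  obtain ⟨e, he⟩ := (small11 α hα B hB).iso (small11 {q // q ≠ p}
    (by rw [Fintype.card_subtype_compl]; simp) _ (derived_steiner tHexSet_steiner p))
  let ext : Equiv.Perm α →* Equiv.Perm ArrayPt := Equiv.Perm.extendDomainHom e
  have happ : ∀ σ a, ext σ (e a).1 = (e (σ a)).1 := fun σ a => Equiv.Perm.extendDomain_apply_image σ e a
  have hp : ∀ σ, ext σ p = p := fun σ => Equiv.Perm.extendDomain_apply_not_subtype σ e (by simp)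
  have himg : ∀ (σ : Equiv.Perm α) (b : Finset α),
      ext σ • insert p ((b.image e).image Subtype.val) = insert p (((σ • b).image e).image Subtype.val) := fun σ b => by
    rw [Finset.smul_finset_insert, Equiv.Perm.smul_def, hp, Finset.smul_finset_def, Finset.smul_finset_def,
      Finset.image_image, Finset.image_image, Finset.image_image, Finset.image_image]
    congr 1
    exact Finset.image_congr fun a _ => happ σ a
  have hback : ∀ (s : Finset ArrayPt), p ∈ s → s ∈ tHexSet → ∃ b ∈ B, insert p ((b.image e).image Subtype.val) = s := by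
    intro s hps hs
    obtain ⟨b, hb, e'⟩ : s.subtype (· ≠ p) ∈ (fun b => b.image e) '' B := by rw [he]; exact ⟨s, hs, hps, rfl⟩
    refine ⟨b, hb, ?_⟩
    rw [show b.image e = s.subtype (· ≠ p) from e']
    ext q
    by_cases hq : q = p
    · simp [hq, hps]
    · simp [hq]
  have hfwd : ∀ b ∈ B, insert p ((b.image e).image Subtype.val) ∈ tHexSet := by
    intro b hb
    obtain ⟨s, hs, hps, e'⟩ : b.image e ∈ {t : Finset {q // q ≠ p} | ∃ s ∈ tHexSet, p ∈ s ∧ t = s.subtype (· ≠ p)} :=
      he ▸ ⟨b, hb, rfl⟩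
    convert hs using 1
    rw [e']
    ext q
    by_cases hq : q = p
    · simp [hq, hps]
    · simp [hq]
  have hiff : ∀ σ, σ ∈ setSystemAut B ↔ ext σ ∈ setSystemAut tHexSet := fun σ => by
    constructor
    · refine fun h => mem_setSystemAut fun s hs => ?_
      have thru : ∀ s ∈ tHexSet, p ∈ s → ext σ • s ∈ tHexSet := fun s hs hps => by
        obtain ⟨b, hb, rfl⟩ := hback s hps hs
        rw [himg]; exact hfwd _ (setSystemAut_maps h hb)
      by_cases hps : p ∈ s
      · exact thru s hs hps
      · have hc := thru sᶜ (compl_block_12 (by decide) tHexSet_steiner hs) (Finset.mem_compl.2 hps)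
        have e' : (ext σ • sᶜ)ᶜ = ext σ • s := by
          ext q
          simp [← Finset.inv_smul_mem_iff]
        exact e' ▸ compl_block_12 (by decide) tHexSet_steiner hc
    · refine fun h => mem_setSystemAut fun b hb => ?_
      have h' := setSystemAut_maps h (hfwd b hb)
      rw [himg] at h'
      obtain ⟨c, hc, e'⟩ := hback _ (Finset.mem_insert_self _ _) h'
      have e'' := congrArg (fun s => s.erase p) e'
      have hnp : ∀ t : Finset {q // q ≠ p}, p ∉ t.image Subtype.val := fun t h => by
        obtain ⟨q, -, hq⟩ := Finset.mem_image.1 h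
        exact q.2 hq
      rw [Finset.erase_insert (hnp _), Finset.erase_insert (hnp _)] at e''
      rwa [← Finset.image_injective e.injective (Finset.image_injective Subtype.val_injective e'')]
  have cons : ∀ x : Fin 4 ↪ α, ∃ x' : Fin 5 ↪ ArrayPt, x' 0 = p ∧ ∀ i : Fin 4, x' i.succ = (e (x i)).1 := fun x =>
    ⟨⟨Fin.cons p fun i => (e (x i)).1, Fin.cons_injective_iff.2
      ⟨fun ⟨i, hi⟩ => (e (x i)).2 hi, fun a b h => x.injective (e.injective (Subtype.ext h))⟩⟩, rfl, fun i => rfl⟩
  haveI htr : MulAction.IsMultiplyPretransitive (setSystemAut B) α 4 := by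
    refine MulAction.isMultiplyPretransitive_iff.2 fun {x y} => ?_
    obtain ⟨x', hx0, hx'⟩ := cons x
    obtain ⟨y', hy0, hy'⟩ := cons y
    obtain ⟨g, hg, h⟩ := hex_trans x' y'
    have hgp : g p = p := by rw [← hx0, h, hy0]; exact hx0.symm
    have hgne : ∀ q, q ≠ p ↔ g q ≠ p := fun q => not_congr ⟨fun h => by rw [h, hgp], fun h => g.injective (h.trans hgp.symm)⟩
    let σ : Equiv.Perm α := e.symm.permCongr (g.subtypePerm fun q => (hgne q).symm)
    have eσ : ext σ = g := by
      refine Equiv.ext fun q => ?_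
      by_cases hq : q = p
      · rw [hq, hp, hgp]
      · obtain ⟨a, ha⟩ := e.surjective ⟨q, hq⟩
        rw [show q = (e a).1 by rw [ha], happ]
        simp [σ]
    refine ⟨⟨σ, (hiff σ).2 (eσ ▸ hg)⟩, DFunLike.ext _ _ fun i => e.injective (Subtype.ext ?_)⟩
    show (e (σ (x i))).1 = _
    rw [← happ, eσ, ← hx', ← hy', h]
  have hsharp : ∀ x : Fin 4 ↪ α, MulAction.stabilizer (setSystemAut B) x = ⊥ := fun x => by
    refine (Subgroup.eq_bot_iff_forall _).2 fun σ hσ => Subtype.ext ?_
    have hfix : ∀ i, σ.1 (x i) = x i := fun i => congrArg (fun f : Fin 4 ↪ α => f i) hσ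
    obtain ⟨x', hx0, hx'⟩ := cons x
    have h1 : ext σ.1 = 1 := hex_rigid ((hiff σ.1).1 σ.2) x' (Fin.cases (by rw [hx0, hp]) fun i => by
      rw [hx', happ, hfix i])
    exact Equiv.Perm.extendDomainHom_injective e (h1.trans (map_one ext).symm)
  exact ⟨sharp11 _ hα hsharp, htr, hsharp⟩

end Cfsg.Agent.Golay
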