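import Cfsg.Agent.Golay.SteinerDFSData

/-! Soundness of the searches. -/

set_option autoImplicit false
set_option maxRecDepth 20000
open scoped symmDiff
open Cfsg

namespace Cfsg.Agent.Golay

/-- Parity of the weight. -/
def parB (n : ℕ) : Bool := pc n % 2 == 1

/-- Combination of tests. -/
def encT : List (ℕ × Bool) → ℕ → ℕ × Bool
  | [], _ => (0, false)
  | r :: rs, i => ((bif i % 2 == 1 then r.1 else 0) ^^^ (encT rs (i / 2)).1,
      Bool.xor (i % 2 == 1 && r.2) (encT rs (i / 2)).2)

theorem parB_inter (s : Finset GolayPt) (g : ℕ) : parB (mask s &&& g) = decide (Odd (s ∩ bset g).card) := by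
  rw [parB, pc_inter, Bool.eq_iff_iff, beq_iff_eq, decide_eq_true_eq, Nat.odd_iff]

theorem parB_xor (s : Finset GolayPt) (a b : ℕ) :
    parB (mask s &&& (a ^^^ b)) = Bool.xor (parB (mask s &&& a)) (parB (mask s &&& b)) := by
  rw [parB_inter, parB_inter, parB_inter, bset_xor]
  have h : (s ∩ symmDiff (bset a) (bset b)) = symmDiff (s ∩ bset a) (s ∩ bset b) :=
    inf_symmDiff_distrib_left s (bset a) (bset b)
  have hc := card_symmDiff_add (s := s ∩ bset a) (t := s ∩ bset b)
  rw [h, Bool.eq_iff_iff]
  simp only [decide_eq_true_eq, Nat.odd_iff, Bool.bne_eq_xor, ne_eq, bne_iff_ne, decide_eq_decide]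
  omega

theorem encT_spec (s : Finset GolayPt) : ∀ (G : List (ℕ × Bool)),
    (∀ x ∈ G, parB (mask s &&& x.1) = x.2) → ∀ i, parB (mask s &&& (encT G i).1) = (encT G i).2
  | [], _, i => by simp [encT, parB, pc, pc8]
  | r :: rs, h, i => by
    simp only [encT]
    rw [parB_xor, encT_spec s rs (fun x hx => h x (List.mem_cons_of_mem _ hx))]
    cases (i % 2 == 1)
    · simp [parB, pc, pc8]
    · simp [h r (List.mem_cons_self ..)]

/-- Depth-first search over the bits with tests at their top bit. -/
def dfs (leaf : ℕ → Bool) : List (List (ℕ × Bool)) → ℕ → ℕ → Bool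
  | [], _, m => leaf m
  | L :: Ls, i, m => (L.all fun e => decide (e.1 < 2 ^ (i + 1))) &&
      ((!(L.all fun e => parB (m &&& e.1) == e.2) || dfs leaf Ls (i + 1) m) &&
      (!(L.all fun e => parB ((m + 2 ^ i) &&& e.1) == e.2) || dfs leaf Ls (i + 1) (m + 2 ^ i)))

theorem dfs_spec (leaf : ℕ → Bool) (M : ℕ) : ∀ (Ls : List (List (ℕ × Bool))) (i : ℕ),
    M < 2 ^ (i + Ls.length) → (∀ L ∈ Ls, ∀ e ∈ L, parB (M &&& e.1) = e.2) →
      dfs leaf Ls i (M % 2 ^ i) = true → leaf M = true
  | [], i, hM, _, hd => by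
    rwa [dfs, Nat.mod_eq_of_lt (by simpa using hM)] at hd
  | L :: Ls, i, hM, hT, hd => by
    simp only [dfs, Bool.and_eq_true, List.all_eq_true, decide_eq_true_eq] at hd
    obtain ⟨hsmall, h0, h1⟩ := hd
    refine dfs_spec leaf M Ls (i + 1) (by simpa [Nat.add_assoc, Nat.add_comm 1] using hM)
      (fun L' hL' => hT L' (List.mem_cons_of_mem _ hL')) ?_
    have hall : (L.all fun e => parB (M % 2 ^ (i + 1) &&& e.1) == e.2) = true := by
      rw [List.all_eq_true]
      intro e he
      have hlow : M % 2 ^ (i + 1) &&& e.1 = M &&& e.1 := by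
        apply Nat.eq_of_testBit_eq
        intro j
        rw [Nat.testBit_and, Nat.testBit_and, Nat.testBit_mod_two_pow]
        by_cases hj : j < i + 1
        · simp [hj]
        · rw [Nat.testBit_lt_two_pow (lt_of_lt_of_le (hsmall e he) (Nat.pow_le_pow_right (by norm_num) (not_lt.1 hj)))]
          simp
      rw [hlow, beq_iff_eq]
      exact hT L (List.mem_cons_self ..) e he
    rw [Nat.mod_pow_succ] at hall ⊢
    rcases Nat.mod_two_eq_zero_or_one (M / 2 ^ i) with hb | hb
    · rw [hb, mul_zero, Nat.add_zero] at hall ⊢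
      simpa [hall] using h0
    · rw [hb, mul_one] at hall ⊢
      simpa [hall] using h1

/-- Levels from combinations. -/
def levels (G : List (ℕ × Bool)) (T : List (List ℕ)) : List (List (ℕ × Bool)) := T.map fun l => l.map (encT G)

theorem search_spec (G : List (ℕ × Bool)) (T : List (List ℕ)) (leaf : ℕ → Bool) (hlen : T.length = 24)
    (hd : dfs leaf (levels G T) 0 0 = true) (s : Finset GolayPt)
    (hG : ∀ x ∈ G, parB (mask s &&& x.1) = x.2) : leaf (mask s) = true := by
  refine dfs_spec leaf (mask s) (levels G T) 0 (by simpa [levels, hlen] using mask_lt s) ?_ (by simpa [Nat.mod_one] using hd)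
  intro L hL e he
  obtain ⟨l, -, rfl⟩ := List.mem_map.1 hL
  obtain ⟨c, -, rfl⟩ := List.mem_map.1 he
  exact encT_spec s G hG c

/-- The leaf test at 22. -/
def leaf22 (m : ℕ) : Bool := pc m != 6 || inC (m ||| 12582912)

/-- The leaf test at 23. -/
def leaf23 (m : ℕ) : Bool := pc m != 7 || inC (m ||| 8388608) || inC (m ||| 4194304)

/-- The leaf test at 24. -/
def leaf24 (m : ℕ) : Bool := pc m != 8 || inC m

theorem search22_ok : dfs leaf22 (levels stGen22 stLev22) 0 0 = true := by decide +kernel

theorem search23_ok : dfs leaf23 (levels stGen23 stLev23) 0 0 = true := by decide +kernel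

theorem search24_ok : dfs leaf24 (levels stGen24 stLev24) 0 0 = true := by decide +kernel

theorem search22 {s : Finset GolayPt} (hG : ∀ x ∈ stGen22, parB (mask s &&& x.1) = x.2) (h : s.card = 6) :
    inC (mask s ||| 12582912) = true := by
  have := search_spec stGen22 stLev22 leaf22 rfl search22_ok s hG
  rw [leaf22, ← card_eq_pc_mask, h] at this
  simpa using this

theorem search23 {s : Finset GolayPt} (hG : ∀ x ∈ stGen23, parB (mask s &&& x.1) = x.2) (h : s.card = 7) :
    inC (mask s ||| 8388608) = true ∨ inC (mask s ||| 4194304) = true := by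
  have := search_spec stGen23 stLev23 leaf23 rfl search23_ok s hG
  rw [leaf23, ← card_eq_pc_mask, h] at this
  simpa using this

theorem search24 {s : Finset GolayPt} (hG : ∀ x ∈ stGen24, parB (mask s &&& x.1) = x.2) (h : s.card = 8) :
    inC (mask s) = true := by
  have := search_spec stGen24 stLev24 leaf24 rfl search24_ok s hG
  rw [leaf24, ← card_eq_pc_mask, h] at this
  simpa using this

end Cfsg.Agent.Golay
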