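import Cfsg.Agent.Golay.CodeFacts

/-! Parity-pruned searches recognising the completions of derived Steiner systems. -/

set_option autoImplicit false
set_option maxRecDepth 20000
open scoped symmDiff

namespace Cfsg.Agent.Golay

/-- Positions of the six distinguished labels. -/
def stInl : Fin 6 → ℕ := ![1, 3, 4, 5, 9, 10]

/-- Positions of the other fifteen labels. -/
def stInr : Fin 15 → ℕ := ![0, 12, 15, 6, 11, 8, 16, 7, 14, 18, 2, 17, 20, 13, 19]

/-- The six cliques of splittings. -/
def stCliques : List (Finset (Fin 15)) := [{0, 4, 8, 10, 12}, {0, 5, 7, 9, 13}, {1, 3, 7, 11, 12}, {1, 5, 6, 10, 14}, {2, 3, 8, 9, 14}, {2, 4, 6, 11, 13}]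

/-- Test sets for the step at 22. -/
def stGen22 : List (ℕ × Bool) := [(2134027, false), (2099538, false), (2179234, false), (2490886, false), (3679234, false), (3473432, false), (2105452, false), (2624136, false), (2245896, false), (2752561, false), (2126352, false), (2131092, false), (3179296, false), (2366496, false), (2164289, false), (3164165, false), (2367873, false), (3281088, false), (2691332, false), (2932800, false), (2336768, false), (1594, false), (2097152, false), (4194304, false), (8388608, false)]

/-- The tests by their top bit. -/
def stLev22 : List (List ℕ) := [[], [], [], [], [], [], [], [], [], [], [2097152], [4194306], [1596], [66], [574], [3], [5], [184], [9], [48], [17], [1], [8388608], [16777216]]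

/-- Test sets for the step at 23. -/
def stGen23 : List (ℕ × Bool) := [(4195898, true), (4199077, true), (4206340, true), (4210905, true), (4235970, true), (4262185, true), (4328579, true), (4461384, true), (4720096, true), (5243278, true), (6293842, true), (4194304, false), (8388608, false)]

/-- The tests by their top bit. -/
def stLev23 : List (List ℕ) := [[], [], [], [], [], [], [], [], [], [], [2049], [], [3], [5], [9], [17], [33], [65], [129], [257], [513], [1025], [1], [4096]]

/-- Test sets for the step at 24. -/
def stGen24 : List (ℕ × Bool) := [(8391797, false), (8394986, false), (8398155, false), (8407702, false), (8421811, false), (8455014, false), (8521420, false), (8654232, false), (8919856, false), (9440193, false), (10486557, false), (12584506, false), (8388608, false)]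

/-- The tests by their top bit. -/
def stLev24 : List (List ℕ) := [[], [], [], [], [], [], [], [], [], [], [], [4097], [3], [5], [9], [17], [33], [65], [129], [257], [513], [1025], [2049], [1]]

end Cfsg.Agent.Golay
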